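import Cfsg.Agent.Lib.GW.Base

/-!
# Counting lemmas for case I
-/

set_option autoImplicit false
set_option linter.unusedSectionVars false

namespace GW

open Cfsg GT FT Subgroup
open scoped Pointwise commutatorElement

theorem ncard_mul_le {α β : Type*} [Finite α] [Finite β] {S : Set α} {R : Set β} (F : α → Set β)
    {n : ℕ} (h1 : ∀ a ∈ S, n ≤ (F a).ncard) (h2 : ∀ a ∈ S, F a ⊆ R)
    (h3 : ∀ a ∈ S, ∀ b ∈ S, a ≠ b → Disjoint (F a) (F b)) : S.ncard * n ≤ R.ncard := by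
  classical
  rw [Set.ncard_eq_toFinset_card S, Set.ncard_eq_toFinset_card R, ← smul_eq_mul]
  refine (Finset.card_nsmul_le_sum _ (fun a => (F a).toFinite.toFinset.card) n fun a ha => ?_).trans
    ((Finset.card_biUnion fun a ha b hb hab => ?_).ge.trans (Finset.card_le_card fun x hx => ?_))
  · exact (h1 a (by simpa using ha)).trans (Set.ncard_eq_toFinset_card _).le
  · simpa [Function.onFun] using h3 a (by simpa using ha) b (by simpa using hb) hab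
  · obtain ⟨a, ha, hx⟩ := Finset.mem_biUnion.1 hx
    simpa using h2 a (by simpa using ha) (by simpa using hx)

variable {G : Type*} [Group G] [Finite G]

/-- the conjugates of `Y` under `H` -/
def Cj (H Y : Subgroup G) : Set (Subgroup G) := {X | ∃ g ∈ H, MulAut.conj g • Y = X}

theorem ncard_Cj (H Y : Subgroup G) : (Cj H Y).ncard = (𝐍(Y)).relIndex H := by
  let _ : MulAction H (Subgroup G) :=
    MulAction.compHom (Subgroup G) ((MulAut.conj (G := G)).comp H.subtype)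
  have h2 : MulAction.stabilizer H Y = (𝐍(Y)).subgroupOf H := by
    ext t
    rw [MulAction.mem_stabilizer_iff, mem_subgroupOf, ← conj_smul_eq_iff_mem_normalizer]
    rfl
  rw [relIndex, ← h2, MulAction.index_stabilizer]
  congr 1
  ext v
  exact ⟨fun ⟨t, ht, h⟩ => ⟨⟨t, ht⟩, h⟩, fun ⟨t, h⟩ => ⟨t, t.2, h⟩⟩

theorem ncard_conj (H : Subgroup G) (t : G) :
    {v | ∃ g ∈ H, g * t * g⁻¹ = v}.ncard = (𝐂[t]).relIndex H := by
  let _ : MulAction H G := MulAction.compHom G ((MulAut.conj (G := G)).comp H.subtype)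
  have h2 : MulAction.stabilizer H t = (𝐂[t]).subgroupOf H := by
    ext g
    rw [MulAction.mem_stabilizer_iff, mem_subgroupOf, mem_cent1, ← mul_inv_eq_iff_eq_mul]
    rfl
  rw [relIndex, ← h2, MulAction.index_stabilizer]
  congr 1
  ext v
  exact ⟨fun ⟨t, ht, h⟩ => ⟨⟨t, ht⟩, h⟩, fun ⟨t, h⟩ => ⟨t, t.2, h⟩⟩

theorem ncard_sdiff_sub {X Z : Subgroup G} (h : Z ≤ X) :
    ((X : Set G) \ Z).ncard = Nat.card X - Nat.card Z := by
  rw [Set.ncard_sdiff h]; rfl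

/-- subgroups of order `n` of `A` through `Z`, pairwise meeting in `Z` -/
theorem lines {T : Set (Subgroup G)} {A Z : Subgroup G} {n : ℕ} (hZ : Z ≤ A)
    (h1 : ∀ X ∈ T, Z ≤ X ∧ X ≤ A ∧ Nat.card X = n)
    (h2 : ∀ X ∈ T, ∀ X' ∈ T, X ≠ X' → X ⊓ X' ≤ Z) :
    T.ncard * (n - Nat.card Z) + Nat.card Z ≤ Nat.card A := by
  have := ncard_mul_le (S := T) (R := (A : Set G) \ Z) (n := n - Nat.card Z) (fun X => (X : Set G) \ Z)
    (fun X hX => by rw [ncard_sdiff_sub (h1 X hX).1, (h1 X hX).2.2])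
    (fun X hX => Set.sdiff_subset_sdiff_left (h1 X hX).2.1)
    fun X hX X' hX' hne => Set.disjoint_left.2 fun x a b => a.2 (h2 X hX X' hX' hne ⟨a.1, b.1⟩)
  rw [ncard_sdiff_sub hZ] at this
  exact Nat.add_le_of_le_sub (card_le_of_le hZ) this

theorem le_or_disjoint_of_prime {p : ℕ} (hp : p.Prime) {X : Subgroup G} (h : Nat.card X = p)
    (H : Subgroup G) : X ≤ H ∨ Disjoint X H := by
  rcases (Nat.dvd_prime hp).1 (h ▸ card_dvd_of_le (inf_le_left : X ⊓ H ≤ X)) with e | e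
  · exact Or.inr (disjoint_iff.2 (card_eq_one.1 e))
  · exact Or.inl (inf_eq_left.1 (eq_of_le_of_card_ge inf_le_left (by rw [h, e])))

theorem disjoint_of_prime {p : ℕ} (hp : p.Prime) {X Y : Subgroup G} (h : Nat.card X = p)
    (h' : Nat.card Y = p) (hne : X ≠ Y) : Disjoint X Y :=
  (le_or_disjoint_of_prime hp h Y).resolve_left fun e =>
    hne (eq_of_le_of_card_ge e (by rw [h, h']))

theorem lines_prime {p : ℕ} (hp : p.Prime) {T : Set (Subgroup G)} {A : Subgroup G}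
    (h1 : ∀ X ∈ T, X ≤ A ∧ Nat.card X = p) : T.ncard * (p - 1) + 1 ≤ Nat.card A := by
  have := lines (T := T) (Z := ⊥) bot_le (fun X hX => ⟨bot_le, h1 X hX⟩) fun X hX X' hX' hne =>
    (disjoint_of_prime hp (h1 X hX).2 (h1 X' hX').2 hne).le_bot
  rwa [card_bot] at this

/-- translating a set `T` of subgroups fixed by `t` only -/
theorem translate {E : Subgroup G} {t : G} (hc : ∀ v ∈ E, Inv v → ConjIn E t v)
    {T R : Set (Subgroup G)} (h1 : ∀ X ∈ T, t ∈ 𝐂(X) ∧ ∀ v ∈ E, Inv v → v ∈ 𝐂(X) → v = t)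
    (h2 : ∀ X ∈ T, ∀ e ∈ E, MulAut.conj e • X ∈ R) :
    {v | v ∈ E ∧ Inv v}.ncard * T.ncard ≤ R.ncard := by
  choose! e he he' using hc
  refine ncard_mul_le (fun v => (fun X => MulAut.conj (e v) • X) '' T)
    (fun v _ => (Set.ncard_image_of_injective _ (MulAction.injective _)).ge) ?_
    fun v hv w hw hne => Set.disjoint_left.2 ?_
  · rintro v hv _ ⟨X, hX, rfl⟩
    exact h2 X hX _ (he v hv.1 hv.2)
  · rintro _ ⟨X, hX, rfl⟩ ⟨X', hX', e'⟩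
    have h3 : v ∈ MulAut.conj (e v) • 𝐂(X) := mem_conj_smul'.2 ⟨t, (h1 X hX).1, he' v hv.1 hv.2⟩
    dsimp only at e'
    rw [conj_smul_centralizer, ← e', ← conj_smul_centralizer, mem_conj_smul] at h3
    have h4 := he w hw.1 hw.2
    have h5 := (h1 X' hX').2 _ (mul_mem (mul_mem (inv_mem h4) hv.1) h4)
      (by simpa using hv.2.conj (e w)⁻¹) h3
    exact hne (by rw [← he' w hw.1 hw.2, ← h5]; group)

/-- the neighbours of `Y` in the commuting graph of its conjugates -/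
def Nb (Y : Subgroup G) : Set (Subgroup G) := {X | X ∈ Cj ⊤ Y ∧ X ≠ Y ∧ X ≤ 𝐂(Y)}

theorem conj_mem_Nb {X Y : Subgroup G} (h : X ∈ Nb Y) (g : G) :
    MulAut.conj g • X ∈ Nb (MulAut.conj g • Y) := by
  obtain ⟨⟨k, -, rfl⟩, h2, h3⟩ := h
  refine ⟨⟨g * k * g⁻¹, mem_top _, ?_⟩, fun e => h2 (MulAction.injective _ e),
    conj_le_cent_conj h3 g⟩
  rw [conj_smul_conj_smul, conj_smul_conj_smul, inv_mul_cancel_right]

theorem ncard_Nb_le (g : G) (Y : Subgroup G) : (Nb Y).ncard ≤ (Nb (MulAut.conj g • Y)).ncard :=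
  Set.ncard_le_ncard_of_injOn _ (fun _ h => conj_mem_Nb h g) (MulAction.injective _).injOn

theorem Nb_symm {X Y : Subgroup G} (h : X ∈ Nb Y) : Y ∈ Nb X := by
  obtain ⟨⟨k, -, rfl⟩, h2, h3⟩ := h
  exact ⟨⟨k⁻¹, mem_top _, conj_inv_smul_conj_smul _ _⟩, h2.symm, le_cent_comm.1 h3⟩

theorem card_of_Nb {X Y : Subgroup G} (h : X ∈ Nb Y) : Nat.card X = Nat.card Y := by
  obtain ⟨⟨k, -, rfl⟩, -, -⟩ := h
  exact card_conj_smul _ _

/-- points at distance two -/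
theorem dist_two {p : ℕ} [hp : Fact p.Prime] {Y : Subgroup G} (hY : Nat.card Y = p)
    (h2 : ∀ R, R ≤ 𝐂(Y) → IsPGroup p R → Nat.card R ≤ p ^ 2) {β : ℕ}
    (hβ : ∀ X ∈ Nb Y, (𝐍(X)).relIndex 𝐂(Y) ≤ β) :
    (Nb Y).ncard * ((Nb Y).ncard - β - (p + 1)) ≤ (𝐍(Y)).index := by
  have k0 : ∀ X : Subgroup G, Nat.card X = p → IsPGroup p X ∧ X ≤ 𝐂(X) := fun X h =>
    ⟨IsPGroup.of_card (n := 1) (by rw [h, pow_one]), comm_iff_le_cent.1
      (have := isCyclic_of_prime_card h; inferInstance)⟩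
  have k1 : ∀ X ∈ Nb Y, ∀ R, R ≤ 𝐂(X) → IsPGroup p R → Nat.card R ≤ p ^ 2 := by
    rintro _ ⟨⟨g, -, rfl⟩, -⟩ R h1 h3
    rw [← card_conj_smul g⁻¹]
    refine h2 _ ?_ (h3.map _)
    rwa [conj_smul_le_iff_le_inv, inv_inv, conj_smul_centralizer]
  have k2 : ∀ X ∈ Nb Y, (Cj 𝐂(X) Y).ncard ≤ β := fun X hX => by
    have h1 := conj_mem_Nb (Nb_symm hX)
    obtain ⟨⟨g, -, rfl⟩, -⟩ := hX
    have h3 := h1 g⁻¹
    rw [conj_inv_smul_conj_smul] at h3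
    have h4 := hβ _ h3
    rwa [← conj_smul_normalizer, ← relIndex_pointwise_smul (MulAut.conj g),
      conj_smul_conj_inv_smul, conj_smul_centralizer, ← ncard_Cj] at h4
  have k3 : ∀ X X' : Subgroup G, Nat.card X = p → Nat.card X' = p → X ≠ X' → X ≤ 𝐂(X') →
      Nat.card ↥(X ⊔ X') = p ^ 2 := fun X X' a b c d => by
    rw [card_sup_of_disjoint_of_le_normalizer (d.trans (cent_le_norm _))
      (disjoint_of_prime hp.out a b c), a, b, pow_two]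
  have k4 : ∀ X ∈ Nb Y, ∀ R, R ≤ 𝐂(X ⊔ Y) → IsPGroup p R → R ≤ X ⊔ Y := fun X hX R a b => by
    have c := (card_of_Nb hX).trans hY
    refine le_sup_left.trans (eq_of_le_of_card_ge le_sup_right ?_).ge
    rw [k3 X Y c hY hX.2.1 hX.2.2]
    exact h2 _ (sup_le (a.trans (centralizer_anti le_sup_right)) (sup_le hX.2.2 (k0 Y hY).2))
      (isPGroup_sup b (isPGroup_sup (k0 X c).1 (k0 Y hY).1 (hX.2.2.trans (cent_le_norm _)))
        (a.trans (cent_le_norm _)))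
  rw [← relIndex_top_right, ← ncard_Cj]
  refine ncard_mul_le (fun X => (Nb X \ Cj 𝐂(X) Y) \ {W | W ≤ X ⊔ Y ∧ Nat.card W = p})
    (fun X hX => ?_) ?_ fun X hX X' hX' hne => Set.disjoint_left.2 fun W a b => ?_
  · have h3 := lines_prime hp.out (T := {W | W ≤ X ⊔ Y ∧ Nat.card W = p}) fun _ h => h
    rw [k3 X Y ((card_of_Nb hX).trans hY) hY hX.2.1 hX.2.2] at h3
    have h4 : {W | W ≤ X ⊔ Y ∧ Nat.card W = p}.ncard ≤ p + 1 := by
      obtain ⟨r, rfl⟩ : ∃ r, p = r + 2 := ⟨p - 2, by have := hp.out.two_le; omega⟩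
      by_contra! h5
      rw [show r + 2 - 1 = r + 1 from rfl] at h3
      nlinarith
    have h5 : (Nb Y).ncard ≤ (Nb X).ncard := by
      obtain ⟨⟨g, -, rfl⟩, -⟩ := hX
      exact ncard_Nb_le g Y
    have h6 := Set.le_ncard_sdiff (Cj 𝐂(X) Y) (Nb X)
    have h7 := Set.le_ncard_sdiff {W | W ≤ X ⊔ Y ∧ Nat.card W = p} (Nb X \ Cj 𝐂(X) Y)
    have h8 := k2 X hX
    omega
  · rintro _ ⟨⟨g, -, rfl⟩, -⟩ _ ⟨⟨⟨⟨k, -, rfl⟩, -⟩, -⟩, -⟩
    exact ⟨k * g, mem_top _, (conj_smul_conj_smul _ _ _).symm⟩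
  · have c := (card_of_Nb hX).trans hY
    have c' := (card_of_Nb hX').trans hY
    have cW := (card_of_Nb a.1.1).trans c
    rcases le_or_disjoint_of_prime hp.out c 𝐂(X') with e | e
    · have h3 : X ⊔ X' = X ⊔ Y := eq_of_le_of_card_ge (sup_le le_sup_left (k4 X hX X'
        ((le_inf (le_cent_comm.1 e) hX'.2.2).trans (centralizer_sup _ _).ge) (k0 X' c').1))
        (by rw [k3 X X' c c' hne e, k3 X Y c hY hX.2.1 hX.2.2])
      exact a.2 ⟨k4 X hX W (h3 ▸ (le_inf a.1.1.2.2 b.1.1.2.2).trans (centralizer_sup _ _).ge)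
        (k0 W cW).1, cW⟩
    · have h3 : ∀ V : Subgroup G, Nat.card V = p → V ≤ 𝐂(X) ⊓ 𝐂(X') →
          IsSylowIn p V (𝐂(X) ⊓ 𝐂(X')) := fun V h4 h5 =>
        isSylowIn_of_maximal (k0 V h4).1 h5 fun R r1 r2 r3 => by
          refine (eq_of_le_of_card_ge r3 ?_).symm
          have h6 := k1 X hX (R ⊔ X) (sup_le (r2.trans inf_le_left) (k0 X c).2)
            (isPGroup_sup r1 (k0 X c).1 (r2.trans (inf_le_left.trans (cent_le_norm _))))
          rw [card_sup_of_disjoint_of_le_normalizer (r2.trans (inf_le_left.trans (cent_le_norm _)))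
            (e.mono_right (r2.trans inf_le_right)).symm, c, pow_two] at h6
          exact h4 ▸ Nat.le_of_mul_le_mul_right h6 hp.out.pos
      obtain ⟨g, hg, e'⟩ := (h3 Y hY (le_inf (le_cent_comm.1 hX.2.2)
        (le_cent_comm.1 hX'.2.2))).exists_conj_eq (h3 W cW (le_inf a.1.1.2.2 b.1.1.2.2))
      exact a.1.2 ⟨g, hg.1, e'⟩

theorem num_qm {q d m : ℕ} (hn : (q = d + 1 ∧ 2 * m = q + 1) ∨ (d = q + 1 ∧ 2 * m + 1 = q)) :
    d ^ 2 + 2 ≤ 2 * (q * m) + 3 * d := by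
  rcases hn with ⟨rfl, h⟩ | ⟨rfl, rfl⟩ <;> nlinarith

theorem num_count {q d k m ρ N : ℕ}
    (hn : (q = d + 1 ∧ 2 * m = q + 1) ∨ (d = q + 1 ∧ 2 * m + 1 = q)) (hd : 4 * k ≤ d)
    (hk : 3 ≤ k) (h1 : 2 ≤ ρ) (h2 : 3 * ρ ≤ 4 * k ∨ (9 ≤ k ∧ 9 * ρ ≤ 13 * k))
    (h3 : q * m * (ρ - 1) + 1 ≤ N) (h4 : 64 * N * (q * m) ≤ 45 * ρ ^ 3 * d ^ 2) : False := by
  have h5 := num_qm hn
  generalize q * m = Q at *
  obtain ⟨r, rfl⟩ : ∃ r, ρ = r + 1 := ⟨ρ - 1, by omega⟩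
  rw [Nat.add_sub_cancel] at h3
  have h6 : 64 * r * Q ^ 2 ≤ 45 * (r + 1) ^ 3 * d ^ 2 := by nlinarith
  have key : ∀ a b : ℕ, a * d ^ 2 ≤ b * Q → 64 * r * a ^ 2 * d ^ 2 ≤ 45 * b ^ 2 * (r + 1) ^ 3 :=
    fun a b h => by
      refine Nat.le_of_mul_le_mul_right ?_ (pow_pos (by omega : 0 < d) 2)
      have := Nat.pow_le_pow_left h 2
      calc _ = 64 * r * (a * d ^ 2) ^ 2 := by ring
        _ ≤ 64 * r * (b * Q) ^ 2 := Nat.mul_le_mul_left _ this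
        _ = b ^ 2 * (64 * r * Q ^ 2) := by ring
        _ ≤ b ^ 2 * (45 * (r + 1) ^ 3 * d ^ 2) := Nat.mul_le_mul_left _ h6
        _ = _ := by ring
  rcases h2 with h2 | ⟨h2, h7⟩
  · have h8 := key 55 144 (by nlinarith)
    rcases (show r = 1 ∨ 2 ≤ r by omega) with rfl | h9
    · nlinarith
    · have : (3 * (r + 1)) ^ 2 ≤ d ^ 2 := Nat.pow_le_pow_left (by omega) 2
      have : 64 * r * 55 ^ 2 * (3 * (r + 1)) ^ 2 ≤ 45 * 144 ^ 2 * (r + 1) ^ 3 :=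
        (Nat.mul_le_mul_left _ this).trans h8
      have : 64 * r * 55 ^ 2 * 9 ≤ 45 * 144 ^ 2 * (r + 1) :=
        Nat.le_of_mul_le_mul_right (by nlinarith) (by positivity : 0 < (r + 1) ^ 2)
      omega
  · have h8 := key 11 24 (by nlinarith)
    have : (36 * (r + 1)) ^ 2 ≤ (13 * d) ^ 2 := Nat.pow_le_pow_left (by omega) 2
    have : 64 * r * 11 ^ 2 * (36 * (r + 1)) ^ 2 ≤ 169 * (45 * 24 ^ 2 * (r + 1) ^ 3) := by
      nlinarith
    have : 64 * r * 11 ^ 2 * 1296 ≤ 169 * (45 * 24 ^ 2 * (r + 1)) :=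
      Nat.le_of_mul_le_mul_right (by nlinarith) (by positivity : 0 < (r + 1) ^ 2)
    omega

theorem num_dist {q d p m ρ N γ : ℕ}
    (hn : (q = d + 1 ∧ 2 * m = q + 1) ∨ (d = q + 1 ∧ 2 * m + 1 = q)) (hd : 4 * p ≤ d)
    (hp : 5 ≤ p) (h2 : ρ ≤ p ^ 2 + p + 1) (h1 : q * m * (p - 1) ≤ γ)
    (h3 : γ * (γ - 2 * (q * m) - (p + 1)) ≤ N)
    (h4 : 64 * N * (q * m) ≤ 45 * ρ ^ 3 * d ^ 2) : False := by
  have h5 := num_qm hn
  generalize q * m = Q at *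
  obtain ⟨r, rfl⟩ : ∃ r, p = r + 5 := ⟨p - 5, by omega⟩
  rw [show r + 5 - 1 = r + 4 from rfl] at h1
  have a1 : 2 * d ^ 2 ≤ 5 * Q := by nlinarith
  have a2 : 32 * (r + 5) ^ 2 ≤ 5 * Q := by nlinarith
  have a3 : 4 * ((r + 5) * Q) ≤ 5 * γ := by nlinarith
  have a4 : (r + 5) * Q ≤ 5 * (γ - 2 * Q - (r + 5 + 1)) := by
    have : r + 6 ≤ Q := by nlinarith
    have : Q * (r + 4) = Q * r + 4 * Q := by ring
    have : (r + 5) * Q = Q * r + 5 * Q := by ring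
    omega
  have a5 : 4 * ((r + 5) * Q) * ((r + 5) * Q) ≤ 25 * N :=
    (Nat.mul_le_mul a3 a4).trans (by nlinarith)
  have a6 : (4 * ρ) ^ 3 ≤ (5 * (r + 5) ^ 2) ^ 3 := Nat.pow_le_pow_left (by nlinarith) 3
  have a7 : 2 * d ^ 2 * (32 * (r + 5) ^ 2) ^ 2 ≤ 5 * Q * (5 * Q) ^ 2 :=
    Nat.mul_le_mul a1 (Nat.pow_le_pow_left a2 2)
  generalize r + 5 = p at *
  have a8 : 33554432 * (p ^ 6 * d ^ 2) ≤ 17578125 * (p ^ 6 * d ^ 2) :=
    calc _ = 16384 * p ^ 2 * (2 * d ^ 2 * (32 * p ^ 2) ^ 2) := by ring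
      _ ≤ 16384 * p ^ 2 * (5 * Q * (5 * Q) ^ 2) := Nat.mul_le_mul_left _ a7
      _ = 512000 * Q * (4 * (p * Q) * (p * Q)) := by ring
      _ ≤ 512000 * Q * (25 * N) := Nat.mul_le_mul_left _ a5
      _ = 200000 * (64 * N * Q) := by ring
      _ ≤ 200000 * (45 * ρ ^ 3 * d ^ 2) := Nat.mul_le_mul_left _ h4
      _ = 140625 * d ^ 2 * (4 * ρ) ^ 3 := by ring
      _ ≤ 140625 * d ^ 2 * (5 * p ^ 2) ^ 3 := Nat.mul_le_mul_left _ a6
      _ = _ := by ring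
  have : 0 < p ^ 6 * d ^ 2 := by
    have : 0 < p := by omega
    have : 0 < d := by omega
    positivity
  omega

end GW
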