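import Cfsg.Agent.Lib.GW.Base
import Cfsg.Agent.Lib.Char.SimpleGrp

/-!
# Character bounds for simple groups with dihedral Sylow `2`-subgroups
-/

set_option autoImplicit false
set_option linter.unusedSectionVars false

namespace GW

open Cfsg CT GT BT FT GAG Subgroup
open scoped Pointwise commutatorElement ComplexConjugate

variable {G : Type*} [Group G] [Finite G]

/-- A linear character missing from a restriction gives a vanishing projection. -/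
theorem miss_sum {χ : G → ℂ} (hχ : IsCharacter G χ) {K : Type*} [Group K] [Fintype K] (ι : K →* G)
    (l : K →* ℂˣ) (h : ∑ u, (l u : ℂ) * χ (ι u) = 0) (w : G) :
    ∑ u, (l u : ℂ) * χ (ι u * w) = 0 := by
  obtain ⟨n, ρ, rfl⟩ := hχ
  let E : Module.End ℂ (Fin n → ℂ) := ∑ u, (l u : ℂ) • ρ (ι u)
  have hc : (Fintype.card K : ℂ) ≠ 0 := Nat.cast_ne_zero.2 Fintype.card_ne_zero
  have h1 : E * E = (Fintype.card K : ℂ) • E := by
    have h2 : ∀ u, ((l u : ℂ) • ρ (ι u)) * E = E := fun u => by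
      simp only [E, Finset.mul_sum]
      refine Fintype.sum_equiv (Equiv.mulLeft u) _ _ fun v => ?_
      simp only [Equiv.coe_mulLeft, map_mul, Units.val_mul, smul_mul_assoc, mul_smul_comm, smul_smul]
      rw [mul_comm]
    conv_lhs => lhs; simp only [E]
    rw [Finset.sum_mul, Finset.sum_congr rfl fun u _ => h2 u, Finset.sum_const, Finset.card_univ,
      Nat.cast_smul_eq_nsmul]
  have h3 : IsIdempotentElem ((Fintype.card K : ℂ)⁻¹ • E) := by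
    rw [IsIdempotentElem, smul_mul_assoc, mul_smul_comm, h1, smul_smul (Fintype.card K : ℂ)⁻¹ (Fintype.card K : ℂ),
      inv_mul_cancel₀ hc, one_smul]
  have h4 : ∀ w, LinearMap.trace ℂ _ (E * ρ w) = ∑ u, (l u : ℂ) * ρ.character (ι u * w) := fun w => by
    simp only [E, Finset.sum_mul, map_sum, smul_mul_assoc, map_smul, smul_eq_mul, ← map_mul]
    rfl
  have h5 : E = 0 := by
    have h6 := h4 1
    simp only [map_one, mul_one, h] at h6
    exact (smul_eq_zero.1 (LinearMap.IsIdempotentElem.eq_zero_of_trace_eq_zero h3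
      (by rw [map_smul, h6, smul_zero]))).resolve_left (inv_ne_zero hc)
  rw [← h4, h5, zero_mul, map_zero]

theorem Sd.noncomm (h : Sd G) : ∃ x y : G, x * y ≠ y * x := by
  by_contra hc
  push Not at hc
  exact h.ns (Group.isSolvable_of_comm hc)

theorem Sd.degree_ne_one (h : Sd G) {χ : IrrCharacter G} (h1 : χ ≠ irrOne G) : charDegree χ.1 ≠ 1 :=
  have := h.simple
  irr_degree_ne_one_of_simple h.noncomm h1

/-- **Miss.** -/
theorem Sd.miss (h : Sd G) {χ : IrrCharacter G} (h1 : χ ≠ irrOne G) {K : Type*} [Group K] [Fintype K]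
    (ι : K →* G) (hι : Function.Injective ι) (l : K →* ℂˣ) (h0 : ∑ u, (l u : ℂ) * χ.1 (ι u) = 0) {w : G}
    {z : ℂ} (hz : ‖z‖ = 1) (hw : ∀ u ≠ 1, χ.1 (ι u * w) = z * χ.1 (ι u)) : w = 1 := by
  classical
  have := h.simple
  have h2 := miss_sum (irr_isCharacter χ) ι l h0 w
  rw [← Finset.add_sum_erase _ _ (Finset.mem_univ 1)] at h0 h2
  rw [Finset.sum_congr rfl (g := fun u => z * ((l u : ℂ) * χ.1 (ι u))) fun u hu => by
    rw [hw u (Finset.ne_of_mem_erase hu)]; ring, ← Finset.mul_sum] at h2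
  simp only [map_one, Units.val_one, one_mul] at h0 h2
  have h3 : χ.1 w = z * χ.1 1 := by linear_combination h2 - z * h0
  have h4 : w ∈ CT.center χ.1 := (irr_mem_center_iff χ).2 (by
    rw [h3, norm_mul, hz, one_mul, (irr_isCharacter χ).norm_apply_one])
  rwa [irr_center_eq_bot_of_simple h.noncomm h1, mem_bot] at h4

theorem Sd.card_pair (h : Sd G) {t s : G} (hk : Kl t s) :
    Nat.card (centralizer ({t, s} : Set G)) = 4 * Nat.card (Wt t s) := by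
  have h1 : centralizer ({t, s} : Set G) = 𝐂[t] ⊓ 𝐂[s] := by
    ext x
    simp only [mem_centralizer_iff, Set.mem_insert_iff, Set.mem_singleton_iff, forall_eq_or_imp,
      forall_eq, mem_inf]
  have h2 : Wt t s ≤ 𝐂(Vk t s) := by
    rw [hk.cent_Vk]; exact inf_le_inf_right _ (Ut_le t)
  rw [h1, h.cent_kl hk, ← hk.card]
  refine card_sup_of_disjoint_of_le_normalizer ((le_centralizer_iff.1 h2).trans (cent_le_norm _))
    (disjoint_of_coprime ?_)
  rw [hk.card]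
  exact (Nat.coprime_two_left.2 (odd_of_le_Od inf_le_left)).pow_left 2

theorem sum_of_const {χ : G → ℂ} {P : Subgroup G} [Fintype P] {δ : ℂ}
    (h : ∀ x ∈ P, x ≠ 1 → χ x = δ) : ∑ u : P, χ u = χ 1 + (Nat.card P - 1) * δ := by
  classical
  rw [← Finset.add_sum_erase _ _ (Finset.mem_univ 1), Finset.sum_congr rfl (g := fun _ => δ)
    fun (u : P) hu => h u u.2 fun e => Finset.ne_of_mem_erase hu (Subtype.ext e), Finset.sum_const,
    Finset.card_erase_of_mem (Finset.mem_univ _), Finset.card_univ, Nat.card_eq_fintype_card,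
    nsmul_eq_mul, Nat.cast_sub Fintype.card_pos, Nat.cast_one]
  rfl

theorem Sd.signed (h : Sd G) {χ : IrrCharacter G} (h1 : χ ≠ irrOne G) {P : Subgroup G} {ε : ℤ}
    (hε : ε = 1 ∨ ε = -1) (hv : ∀ x ∈ P, x ≠ 1 → χ.1 x = ε) :
    (Nat.card P : ℤ) ∣ ε * charDegree χ.1 - 1 ∧ ε * charDegree χ.1 ≠ 1 := by
  have h2 := card_dvd_sub_of_const (irr_isCharacter χ) hv
  have h3 := h.degree_ne_one h1
  rcases hε with rfl | rfl
  · exact ⟨by rwa [one_mul], by omega⟩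
  · exact ⟨by rw [← dvd_neg, show -(-1 * (charDegree χ.1 : ℤ) - 1) = charDegree χ.1 - -1 by ring]; exact h2,
      by omega⟩

variable {S : Subgroup G} {σ τ t : G} {k : ℕ}

theorem Sd.isConj_S (h : Sd G) (D : DihSyl S σ τ t k) {y : G} (hy : y ∈ S) (h1 : y ∉ zpowers σ) :
    IsConj t y := h.isConj D.inv_J (D.kl hy h1).r

theorem Sd.principal_mul (h : Sd G) {M : Ideal AlgInt} (hM : IsPModular 2 M) {χ : IrrCharacter G}
    (hχ : χ ∈ principalBlock M G) {v w : G} (hv : Inv v) (hw : w ∈ Ut v) : χ.1 (v * w) = χ.1 v := by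
  obtain ⟨S, σ, τ, k, D, -⟩ := h.exists_dih hv IsPGroup.of_bot bot_le
  exact principal_apply_mul_of_nilpotent hM rfl hv.isPElt D.nilp hχ (s := ⟨w, Ut_le v hw⟩)
    (by rw [← Subgroup.orderOf_coe]; exact not_two_dvd.2 (odd_of_mem_Od hw))

theorem Sd.mem_Ut_of_mem_Wt (h : Sd G) {t s v w : G} (hk : Kl t s) (hv : v ∈ Vk t s) (h1 : v ≠ 1)
    (hw : w ∈ Wt t s) : w ∈ Ut v :=
  h.mem_Ut ⟨h1, hk.sq hv⟩ (mem_centralizer_singleton_iff.2 ((show w ∈ 𝐂(Vk t s) from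
    hk.cent_Vk ▸ mem_inf.2 ⟨Ut_le t hw.1, hw.2⟩) v hv).symm) (odd_of_mem_Od hw.1)

/-- The principal block for a Klein four Sylow subgroup. -/
theorem Sd.klein (h : Sd G) (D : DihSyl S t τ t 0) (h1 : Wt t τ ≠ ⊥) {M : Ideal AlgInt}
    (hM : IsPModular 2 M) : ∃ x y z : ℤ, (x % 4 = 1 ∧ (5 ≤ x ∨ x ≤ -7)) ∧ (y % 4 = 1 ∧ (5 ≤ y ∨ y ≤ -7)) ∧
      (z % 4 = 1 ∧ (5 ≤ z ∨ z ≤ -7)) ∧ x + y + z = -1 ∧
      ∑ χ ∈ bset (principalBlock M G), χ.1 t ^ 3 / χ.1 1 = ((1 + 1 / x + 1 / y + 1 / z : ℚ) : ℂ) ∧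
      2 * (Nat.card G : ℚ) * Nat.card (Wt t τ) ^ 2 * (1 + 1 / x + 1 / y + 1 / z) =
        Nat.card 𝐂[t] ^ 3 := by
  have := Fintype.ofFinite S
  have hS := D.eq_Vk_of_zero.2
  obtain ⟨χ₁, χ₂, χ₃, hB, hd, hv⟩ := D.exists_klein' hM
  have key : ∀ χ ∈ principalBlock M G, χ ≠ irrOne G → ∀ ε : ℤ, (ε = 1 ∨ ε = -1) → χ.1 t = ε →
      (ε * charDegree χ.1) % 4 = 1 ∧ (5 ≤ ε * charDegree χ.1 ∨ ε * charDegree χ.1 ≤ -7) :=
    fun χ hχ h2 ε hε h3 => by
    have h4 : ∀ x ∈ S, x ≠ 1 → χ.1 x = ε := fun x hx h4 => by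
      rw [← (irr_isClassFunction χ).of_isConj (h.isConj D.inv_J ⟨h4, D.kl_τ.sq (hS ▸ hx)⟩), h3]
    obtain ⟨h5, h6⟩ := h.signed h2 hε h4
    rw [D.card_P] at h5
    have h7 : ε * charDegree χ.1 ≠ -3 := fun e => h1 (eq_bot_iff.2 fun w hw => by
      refine h.miss h2 S.subtype S.subtype_injective 1 ?_ (z := 1) norm_one fun u hu => ?_
      · simp only [MonoidHom.one_apply, Units.val_one, one_mul, coe_subtype]
        rw [sum_of_const h4, D.card_P, irr_apply_one]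
        have h8 : (charDegree χ.1 : ℤ) + 3 * ε = 0 := by rcases hε with rfl | rfl <;> omega
        have h9 := congrArg (Int.cast : ℤ → ℂ) h8
        push_cast at h9 ⊢
        linear_combination h9
      · have h8 : (u : G) ≠ 1 := fun e => hu (Subtype.ext e)
        rw [one_mul]
        exact h.principal_mul hM hχ ⟨h8, D.kl_τ.sq (hS ▸ u.2)⟩
          (h.mem_Ut_of_mem_Wt D.kl_τ (hS ▸ u.2) h8 hw))
    norm_num at h5
    omega
  obtain ⟨a, sa, va⟩ := hv χ₁ (by simp [hB])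
  obtain ⟨b, sb, vb⟩ := hv χ₂ (by simp [hB])
  obtain ⟨c, sc, vc⟩ := hv χ₃ (by simp [hB])
  have hd' : χ₁.1 ≠ (fun _ => 1) ∧ χ₂.1 ≠ (fun _ => 1) ∧ χ₃.1 ≠ (fun _ => 1) ∧ χ₁ ≠ χ₂ ∧
      χ₁ ≠ χ₃ ∧ χ₂ ≠ χ₃ := ⟨fun h => hd.1 (Subtype.ext h), fun h => hd.2.1 (Subtype.ext h),
    fun h => hd.2.2.1 (Subtype.ext h), hd.2.2.2⟩
  have h5 := D.klein_degree hM hB hd' ⟨va, vb, vc⟩
  have h6 := D.klein_order hM hB hd' ⟨va, vb, vc⟩ (h.isConj D.inv_J D.kl_τ.r)
    (h.isConj D.inv_J D.kl_στ.r)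
  have e : ∀ (ε : ℤ) (n : ℕ), (ε = 1 ∨ ε = -1) → (ε : ℚ) ^ 3 / n = 1 / ((ε * n : ℤ) : ℚ) := by
    rintro _ n (rfl | rfl) <;> simp [div_neg, neg_div]
    norm_num [neg_div]
  rw [e _ _ sa, e _ _ sb, e _ _ sc, ← D.centralizer_pair D.τ_mem D.not_mem, h.card_pair D.kl_τ] at h6
  refine ⟨_, _, _, key χ₁ (by simp [hB]) hd.1 a sa va, key χ₂ (by simp [hB]) hd.2.1 b sb vb,
    key χ₃ (by simp [hB]) hd.2.2.1 c sc vc, by omega, ?_, ?_⟩
  · rw [sum_principal_four hB hd', va, vb, vc, ← e _ _ sa, ← e _ _ sb, ← e _ _ sc]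
    simp [irr_apply_one]
  · have h7 : (Nat.card (Wt t τ) : ℚ) ≠ 0 := Nat.cast_ne_zero.2 Nat.card_pos.ne'
    rw [eq_div_iff (by push_cast; positivity)] at h6
    push_cast at h6 ⊢
    linear_combination h6 / 8

theorem sig_ge {x y z : ℤ} (hx : 5 ≤ x ∨ x ≤ -7) (hy : 5 ≤ y ∨ y ≤ -7) (hz : 5 ≤ z ∨ z ≤ -7)
    (h : x + y + z = -1) : (5 / 7 : ℚ) < 1 + 1 / x + 1 / y + 1 / z := by
  have p : ∀ x : ℤ, 5 ≤ x → (0 : ℚ) < 1 / x := fun x h => by
    have : (0 : ℚ) < x := by exact_mod_cast (by omega : 0 < x)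
    positivity
  have q : ∀ x : ℤ, x ≤ -7 → -(1 / 7 : ℚ) ≤ 1 / x := fun x h => by
    have h1 : (x : ℚ) ≤ -7 := by exact_mod_cast h
    rw [le_div_iff_of_neg (by linarith)]
    linarith
  rcases hx with hx | hx <;> rcases hy with hy | hy <;> rcases hz with hz | hz <;>
    first | omega | linarith [p _ hx, p _ hy, q _ hz] | linarith [p _ hx, q _ hy, p _ hz] |
      linarith [q _ hx, p _ hy, p _ hz] | linarith [p _ hx, q _ hy, q _ hz] |
      linarith [q _ hx, p _ hy, q _ hz] | linarith [q _ hx, q _ hy, p _ hz]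

theorem Sd.bound (h : Sd G) (D : DihSyl S σ τ t k)
    (he : Nat.card (Wt t τ) = Nat.card (Wt t (σ * τ))) (h1 : Wt t τ ≠ ⊥) :
    64 * Nat.card G * Nat.card (Wt t τ) ^ 2 ≤ 45 * Nat.card 𝐂[t] ^ 3 := by
  have h7 : (0 : ℚ) < Nat.card (Wt t τ) := Nat.cast_pos.2 Nat.card_pos
  have h8 : (0 : ℚ) < Nat.card G := Nat.cast_pos.2 Nat.card_pos
  rw [← Nat.cast_le (α := ℚ)]
  push_cast
  rcases Nat.eq_zero_or_pos k with rfl | hk
  · obtain rfl := D.eq_Vk_of_zero.1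
    obtain ⟨M, hM⟩ := exists_isPModular Nat.prime_two
    obtain ⟨x, y, z, hx, hy, hz, h2, -, h3⟩ := h.klein D h1 hM
    have h4 := sig_ge hx.2 hy.2 hz.2 h2
    rw [← h3]
    nlinarith [mul_pos h8 (pow_pos h7 2)]
  · have h2 := (dih_bounds D hk (h.isConj D.inv_J D.kl_τ.r) (h.isConj D.inv_J D.kl_στ.r)).2
    rw [h.card_pair D.kl_τ, h.card_pair D.kl_στ, ← he] at h2
    have h3 : (1 / ((4 * Nat.card (Wt t τ) : ℕ) : ℚ) + 1 / ((4 * Nat.card (Wt t τ) : ℕ) : ℚ)) ^ 2 *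
        (2 * Nat.card (Wt t τ) ^ 2) = 1 / 2 := by
      push_cast; field_simp; norm_num
    have h4 := mul_le_mul_of_nonneg_right h2 (show (0 : ℚ) ≤ 2 * Nat.card (Wt t τ) ^ 2 by positivity)
    rw [mul_assoc 45, mul_assoc (2 * _), h3] at h4
    linarith

end GW
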