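import Cfsg.Agent.Lib.GW.Base
import Cfsg.Agent.Lib.Char.Burnside
import Mathlib.GroupTheory.SpecificGroups.Alternating.Simple
import Mathlib.GroupTheory.Perm.Centralizer

/-!
# `Aut(A₇) = S₇`; almost simple groups with socle `A₇` and dihedral Sylow `2`-subgroups
-/

set_option autoImplicit false
set_option linter.unusedSectionVars false
set_option linter.style.haveILetI false

namespace GW

open Cfsg GT FT GAG Subgroup Equiv MulAction
open scoped Pointwise commutatorElement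

local notation "A7" => alternatingGroup (Fin 7)

/-- no elementary abelian subgroup of order eight -/
theorem DC.mem_Vk {G : Type*} [Group G] [Finite G] {H : Subgroup G} (h : DC H) {t s y : G} (hk : Kl t s)
    (ht : t ∈ H) (hs : s ∈ H) (hy : y ∈ H) (h2 : y * y = 1) (h3 : y ∈ 𝐂[t]) (h4 : y ∈ 𝐂[s]) :
    y ∈ Vk t s := by
  classical
  have hc : zpowers y ≤ 𝐂(Vk t s) := zpowers_le.2 (hk.cent_Vk ▸ mem_inf.2 ⟨h3, h4⟩)
  have hab : Vk t s ⊔ zpowers y ≤ 𝐂(Vk t s ⊔ zpowers y) := by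
    rw [centralizer_sup]
    exact sup_le (le_inf hk.le_cent (le_cent_comm.1 hc))
      (le_inf hc (comm_iff_le_cent.1 inferInstance))
  rcases h (Vk t s ⊔ zpowers y) (sup_le (hk.Vk_le.2 ⟨ht, hs⟩) (zpowers_le.2 hy))
    (hk.isPGroup.to_sup_of_normal_left' (isPElt_of_sq h2).isPGroup_zpowers
      (hc.trans (cent_le_norm _))) with h5 | ⟨a, ha, b, hb, a2, b2, h5⟩
  · exact (hk.not_cyclic (Subgroup.isCyclic_of_le (le_sup_left : _ ≤ Vk t s ⊔ zpowers y))).elim
  · have h6 : Vk t s ⊔ zpowers y ≤ Fu.klein a2 b2 (hab ha b hb) := h5.trans ((closure_le _).2 (by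
      rintro _ (rfl | rfl) <;> exact Fu.mem_klein.2 (by simp)))
    have h7 : Nat.card (Fu.klein a2 b2 (hab ha b hb)) ≤ 4 := by
      have : ((Fu.klein a2 b2 (hab ha b hb) : Subgroup G) : Set G) = ({1, a, b, a * b} : Finset G) :=
        Set.ext fun x => by simp [Fu.mem_klein]
      rw [← SetLike.coe_sort_coe, this, Finset.coe_sort_coe, Nat.card_eq_finsetCard]
      exact Finset.card_le_four
    rw [eq_of_le_of_card_ge (le_sup_left.trans h6) (hk.card ▸ h7)]
    exact h6 (mem_sup_right (mem_zpowers y))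

namespace DA

theorem card_alt : Nat.card A7 = 2520 := by
  rw [nat_card_alternatingGroup, Nat.card_fin]
  rfl

instance : IsSimpleGroup A7 := alternatingGroup.isSimpleGroup (by simp)

theorem ncard_inv {H : Subgroup (Perm (Fin 7))} (h : Nat.card H = 360) {O : Set (Fin 7)}
    (hO : ∀ g ∈ H, ∀ x, g x ∈ O ↔ x ∈ O) : O.ncard ≤ 1 ∨ 6 ≤ O.ncard := by
  have h1 := Nat.card_le_card_of_injective (fun g : H => (Perm.subtypePerm (p := (· ∈ O)) g.1 (hO g g.2),
      Perm.subtypePerm (p := (· ∈ Oᶜ)) g.1 fun x => (hO g g.2 x).not)) fun g g' e =>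
    Subtype.ext (Equiv.ext fun x => by
      by_cases hx : x ∈ O
      · exact congrArg Subtype.val (Equiv.congr_fun (Prod.ext_iff.1 e).1 ⟨x, hx⟩)
      · exact congrArg Subtype.val (Equiv.congr_fun (Prod.ext_iff.1 e).2 ⟨x, hx⟩))
  have h2 := Set.ncard_add_ncard_compl O
  rw [Nat.card_prod, Nat.card_perm, Nat.card_perm, h] at h1
  change _ ≤ O.ncard.factorial * (Oᶜ).ncard.factorial at h1
  rw [Nat.card_fin] at h2
  rw [show (Oᶜ).ncard = 7 - O.ncard by omega] at h1
  by_contra! h3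
  obtain ⟨h3, h4⟩ := h3
  generalize O.ncard = k at *
  interval_cases k <;> simp [Nat.factorial] at h1

theorem exists_fix {H : Subgroup (Perm (Fin 7))} (h : Nat.card H = 360) : ∃ x, ∀ g ∈ H, g x = x := by
  have hO : ∀ g ∈ H, ∀ x, g x ∈ orbit H (0 : Fin 7) ↔ x ∈ orbit H (0 : Fin 7) := fun g hg x =>
    ⟨fun e => inv_smul_smul (⟨g, hg⟩ : H) x ▸ mapsTo_smul_orbit (⟨g, hg⟩⁻¹ : H) _ e,
      fun e => mapsTo_smul_orbit (⟨g, hg⟩ : H) _ e⟩
  have h1 := Set.ncard_add_ncard_compl (orbit H (0 : Fin 7))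
  have h2 := index_dvd_card (stabilizer H (0 : Fin 7))
  rw [index_stabilizer, h] at h2
  rw [Nat.card_fin] at h1
  rcases ncard_inv h hO with h3 | h3
  · exact ⟨0, fun g hg => (Set.ncard_le_one (Set.toFinite _)).1 h3 _
      ((hO g hg 0).2 (mem_orbit_self _)) _ (mem_orbit_self _)⟩
  · have h4 : (orbit H (0 : Fin 7)).ncard ≠ 7 := fun e => by rw [e] at h2; omega
    obtain ⟨y, hy⟩ := Set.ncard_eq_one.1 (show (orbit H (0 : Fin 7))ᶜ.ncard = 1 by omega)
    refine ⟨y, fun g hg => ?_⟩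
    have h5 : y ∈ (orbit H (0 : Fin 7))ᶜ := hy ▸ rfl
    exact Set.mem_singleton_iff.1 (hy ▸ (hO g hg y).not.2 h5)

theorem fix_unique {H : Subgroup (Perm (Fin 7))} (h : Nat.card H = 360) {x y : Fin 7}
    (hx : ∀ g ∈ H, g x = x) (hy : ∀ g ∈ H, g y = y) : x = y := by
  by_contra hn
  have := ncard_inv h (O := {x, y}) fun g hg z => by
    rw [Set.mem_insert_iff, Set.mem_insert_iff, Set.mem_singleton_iff, Set.mem_singleton_iff,
      ← g.apply_eq_iff_eq (x := z), ← g.apply_eq_iff_eq (x := z) (y := y), hx g hg, hy g hg]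
  rw [Set.ncard_pair hn] at this
  omega

/-- every automorphism of `A₇` is induced by a permutation -/
theorem exists_perm (α : MulAut A7) : ∃ π : Perm (Fin 7), MulAut.conjNormal π = α := by
  haveI : IsPretransitive A7 (Fin 7) := alternatingGroup.isPretransitive_of_three_le_card _ (by simp)
  have hc : ∀ i : Fin 7, Nat.card (((stabilizer A7 i).map α.toMonoidHom).map (A7).subtype) = 360 := fun i => by
    have := (stabilizer A7 i).card_mul_index
    rw [index_stabilizer_of_transitive, Nat.card_fin, card_alt] at this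
    rw [card_map_of_injective (subtype_injective _), card_map_of_injective α.injective]
    omega
  choose f hf using fun i => exists_fix (hc i)
  have h1 : ∀ (l : A7) i, f (l.1 i) = (α l).1 (f i) := fun l i => by
    refine fix_unique (hc (l.1 i)) (hf _) ?_
    rintro _ ⟨_, ⟨m, hm, rfl⟩, rfl⟩
    have h2 := hf i _ ⟨_, ⟨l⁻¹ * m * l, show ((l.1)⁻¹ * m.1 * l.1) i = i by
      rw [Perm.mul_apply, Perm.mul_apply, show m.1 (l.1 i) = l.1 i from hm]; simp, rfl⟩, rfl⟩
    have h3 : (α m).1 * (α l).1 = (α l).1 * (α (l⁻¹ * m * l)).1 := by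
      rw [← coe_mul, ← coe_mul, ← map_mul, ← map_mul]; congr 2; group
    exact (Equiv.congr_fun h3 (f i)).trans (congrArg (α l).1 h2)
  have h2 : Function.Surjective f := fun y => by
    obtain ⟨m, hm⟩ := exists_smul_eq A7 (f 0) y
    exact ⟨(α.symm m).1 0, by rw [h1, α.apply_symm_apply]; exact hm⟩
  refine ⟨Equiv.ofBijective f h2.bijective_of_finite, MulEquiv.ext fun l => Subtype.ext ?_⟩
  rw [MulAut.conjNormal_apply, mul_inv_eq_iff_eq_mul]
  exact Equiv.ext fun i => h1 l i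

theorem conjNormal_injective : Function.Injective (MulAut.conjNormal : Perm (Fin 7) →* MulAut A7) := by
  rw [← MonoidHom.ker_eq_bot_iff]
  by_contra h
  have h1 := Perm.alternatingGroup_le_of_normal (by simp) ((nontrivial_iff_ne_bot _).2 h)
    (show swap 0 1 * swap 1 2 ∈ A7 from Perm.mem_alternatingGroup.2 (by decide))
  have h2 := congrArg Subtype.val (MulEquiv.congr_fun h1 ⟨swap 0 1 * swap 2 3, Perm.mem_alternatingGroup.2 (by decide)⟩)
  rw [MulAut.conjNormal_apply] at h2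
  exact absurd h2 (by decide)

theorem not_dc : ¬ DC (⊤ : Subgroup (Perm (Fin 7))) := fun h => by
  have hk : Kl (swap 0 1 : Perm (Fin 7)) (swap 2 3) :=
    ⟨⟨by decide, by decide⟩, ⟨by decide, by decide⟩, by decide, by decide⟩
  exact absurd (hk.mem_Vk.1 (h.mem_Vk hk (y := swap 4 5) trivial trivial trivial (by decide)
    (mem_cent1.2 (by decide)) (mem_cent1.2 (by decide)))) (by decide)

theorem eq_top {Γ : Type*} [Group Γ] [Finite Γ] {L : Subgroup Γ} [L.Normal] (e : L ≃* A7)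
    (hC : 𝐂(L) = ⊥) (hD : DC (⊤ : Subgroup Γ)) : L = ⊤ := by
  let ψ := MulEquiv.ofBijective _ ⟨conjNormal_injective, exists_perm⟩
  let ι : Γ →* Perm (Fin 7) :=
    ψ.symm.toMonoidHom.comp ((MulAut.congr e).toMonoidHom.comp MulAut.conjNormal)
  have h1 : ∀ l : L, ι l = e l := fun l => ψ.symm_apply_eq.2 (MulEquiv.ext fun x => by
    change e (MulAut.conjNormal (l : Γ) (e.symm x)) = MulAut.conjNormal _ x
    rw [MulAut.conjNormal_val, MulAut.conjNormal_val]; simp)
  have h2 : Function.Injective ι := by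
    refine ψ.symm.injective.comp ((MulAut.congr e).injective.comp
      ((injective_iff_map_eq_one _).2 fun g hg => mem_bot.1 (hC ▸ fun l hl => ?_)))
    have := congrArg Subtype.val (MulEquiv.congr_fun hg ⟨l, hl⟩)
    rw [MulAut.conjNormal_apply] at this
    exact (mul_inv_eq_iff_eq_mul.1 this).symm
  have h3 : A7 ≤ ι.range := fun x hx => ⟨e.symm ⟨x, hx⟩, by rw [h1]; simp⟩
  refine eq_top_iff.2 fun g _ => ?_
  by_cases h4 : ι g ∈ A7
  · rw [h2 (show ι g = ι (e.symm ⟨_, h4⟩) by rw [h1]; simp)]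
    exact (e.symm _).2
  · have h5 : ι.range = ⊤ := eq_top_iff.2 fun x _ => by
      by_cases hx : x ∈ A7
      · exact h3 hx
      · have := mul_mem (h3 ((mul_mem_iff_of_index_two alternatingGroup.index_eq_two).2
          (iff_of_false hx ((A7).inv_mem_iff.not.2 h4)))) (⟨g, rfl⟩ : ι g ∈ ι.range)
        rwa [inv_mul_cancel_right] at this
    exact (not_dc (h5 ▸ MonoidHom.range_eq_map ι ▸ hD.map ι)).elim

theorem card_cent {g x : Perm (Fin 7)} (hg : g ∈ A7) (hx : x ∉ A7) (h : x * g = g * x) :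
    Nat.card 𝐂[(⟨g, hg⟩ : A7)] * 2 = Nat.card 𝐂[g] := by
  have h1 : (A7).relIndex 𝐂[g] = 2 := by
    have h2 := relIndex_dvd_index_of_normal A7 𝐂[g]
    rw [alternatingGroup.index_eq_two] at h2
    exact ((Nat.dvd_prime Nat.prime_two).1 h2).resolve_left fun e =>
      hx (relIndex_eq_one.1 e (mem_cent1.2 h))
  have h2 : 𝐂[(⟨g, hg⟩ : A7)] = 𝐂[g].subgroupOf A7 := Subgroup.ext fun y => by
    rw [mem_subgroupOf, mem_cent1, mem_cent1, Subtype.ext_iff]; rfl
  rw [h2, ← h1, ← card_mul_index ((A7).subgroupOf 𝐂[g])]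
  congr 1
  rw [← card_map_of_injective (subtype_injective _), subgroupOf_map_subtype,
    ← card_map_of_injective (subtype_injective 𝐂[g]), subgroupOf_map_subtype, inf_comm]

theorem card_cent_equiv {G G' : Type*} [Group G] [Group G'] (j : G ≃* G') (x : G) :
    Nat.card 𝐂[j x] = Nat.card 𝐂[x] :=
  (Nat.card_congr (j.toEquiv.subtypeEquiv fun y => by
    rw [mem_cent1, mem_cent1, ← j.injective.eq_iff, map_mul, map_mul]; rfl)).symm

theorem kl_map {G G' : Type*} [Group G] [Group G'] (j : G ≃* G') {x y : G} (h : Kl x y) : Kl (j x) (j y) :=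
  ⟨⟨j.map_ne_one_iff.2 h.l.ne, by rw [← map_mul, h.l.sq, map_one]⟩,
    ⟨j.map_ne_one_iff.2 h.r.ne, by rw [← map_mul, h.r.sq, map_one]⟩, j.injective.ne h.ne,
    by rw [← map_mul, h.comm, map_mul]⟩

/-- the local data of `A₇` at an involution -/
def Data {G : Type*} [Group G] (u : G) : Prop := Nat.card 𝐂[u] = 24 ∧ ∃ c a b : G, c ≠ 1 ∧ c ^ 3 = 1 ∧
  c * u = u * c ∧ Nat.card 𝐂[c] = 36 ∧ Kl u a ∧ Kl u b ∧ a * c * a⁻¹ = c ∧ b * c * b⁻¹ = c⁻¹ ∧ (a * b) ^ 2 = u

theorem Data.map {G G' : Type*} [Group G] [Group G'] (j : G ≃* G') {u : G} (h : Data u) : Data (j u) := by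
  obtain ⟨h1, c, a, b, h2, h3, h4, h5, h6, h7, h8, h9, h10⟩ := h
  refine ⟨by rwa [card_cent_equiv], j c, j a, j b, j.map_ne_one_iff.2 h2, ?_, ?_, by rwa [card_cent_equiv],
    kl_map j h6, kl_map j h7, ?_, ?_, ?_⟩
  · rw [← map_pow, h3, map_one]
  · rw [← map_mul, h4, map_mul]
  · rw [← map_inv, ← map_mul, ← map_mul, h8]
  · rw [← map_inv, ← map_mul, ← map_mul, h9, map_inv]
  · rw [← map_mul, ← map_pow, h10]

theorem m (a b c d : Fin 7) (h1 : a ≠ b) (h2 : c ≠ d) : swap a b * swap c d ∈ A7 := by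
  simp [Perm.sign_swap h1, Perm.sign_swap h2]

theorem exists_data : ∃ u : A7, Inv u ∧ Data u := by
  have n : ∀ a b : Fin 7, a ≠ b → swap a b ∉ A7 := fun a b h => by simp [Perm.sign_swap h]
  have h1 := card_cent (m 0 1 2 3 (by decide) (by decide)) (n 0 1 (by decide)) (by decide)
  have h2 := card_cent (m 4 5 5 6 (by decide) (by decide)) (n 0 1 (by decide)) (by decide)
  rw [Perm.nat_card_centralizer] at h1 h2
  refine ⟨⟨_, m 0 1 2 3 (by decide) (by decide)⟩, ⟨by decide, by decide⟩,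
    Nat.eq_of_mul_eq_mul_right two_pos (h1.trans (by decide +kernel)),
    ⟨_, m 4 5 5 6 (by decide) (by decide)⟩, ⟨_, m 0 2 1 3 (by decide) (by decide)⟩,
    ⟨_, m 0 1 4 5 (by decide) (by decide)⟩, by decide, by decide, by decide,
    Nat.eq_of_mul_eq_mul_right two_pos (h2.trans (by decide +kernel)),
    ⟨⟨by decide, by decide⟩, ⟨by decide, by decide⟩, by decide, by decide⟩,
    ⟨⟨by decide, by decide⟩, ⟨by decide, by decide⟩, by decide, by decide⟩, by decide, by decide, by decide⟩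

end DA

variable {Γ : Type*} [Group Γ] [Finite Γ]

theorem Sd.card_Ut_mul (h : Sd Γ) {u : Γ} (hu : Inv u) : ∃ k, Nat.card 𝐂[u] = Nat.card (Ut u) * 2 ^ (k + 2) := by
  obtain ⟨S, σ, τ, k, D, -⟩ := h.exists_dih hu IsPGroup.of_bot bot_le
  exact ⟨k, D.card_C⟩

theorem Sd.Od_top (h : Sd Γ) : Od (⊤ : Subgroup Γ) = ⊥ :=
  h.eq_bot_of_norm (top_le_iff.1 (le_norm_Od ⊤)) inferInstance

theorem Sd.Ly_top (h : Sd Γ) : Ly (⊤ : Subgroup Γ) = ⊤ :=
  top_le_iff.1 (le_Ly le_rfl (by rw [h.Od_top]; exact le_cent_comm.1 bot_le) h.perfect)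

theorem Sd.cent_top (h : Sd Γ) : 𝐂((⊤ : Subgroup Γ)) = ⊥ := eq_bot_iff.2 fun x hx => by
  by_contra hn
  exact h.cent1_ne_top hn (eq_top_iff.2 fun y _ => mem_cent1.2 (hx y trivial))

theorem Sd.cp_top (h : Sd Γ) : Cp (⊤ : Subgroup Γ) := by
  haveI := h.simple
  obtain ⟨S, σ, τ, t, k, D⟩ := h.dih
  constructor <;> rw [h.Ly_top]
  · exact top_ne_bot
  · rw [h.cent_top, h.Od_top, inf_bot_eq]
  · exact fun N _ hN => (top_le_norm_iff.1 hN).eq_bot_or_eq_top.imp_left fun e => e.le.trans bot_le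
  · exact fun u _ v _ => h.conj
  · exact fun u _ v _ => h.fused
  · exact fun u _ hu => (h.exists_kl hu).imp fun v hv => ⟨trivial, hv⟩
  · exact ⟨t, trivial, D.inv_J⟩
  · exact le_sup_of_le_right le_top
  · exact fun _ _ _ _ _ _ e => (e trivial).elim
  · exact fun _ _ _ _ _ _ e => (e trivial).elim

theorem eq_or_inv_of_three {c v : Γ} (h : orderOf c = 3) (hv : v ∈ 𝐍(zpowers c)) :
    v * c * v⁻¹ = c ∨ v * c * v⁻¹ = c⁻¹ := by
  classical
  obtain ⟨n, hn, e⟩ := (mem_zpowers_iff_mem_range_orderOf.trans Finset.mem_image).1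
    (conj_mem_of_mem_normalizer hv (mem_zpowers c))
  rw [h, Finset.mem_range] at hn
  interval_cases n
  · exact absurd (orderOf_eq_one_iff.2 (conj_eq_one_iff.1 ((pow_zero c).symm.trans e).symm)) (by omega)
  · exact Or.inl (e.symm.trans (pow_one c))
  · exact Or.inr (e.symm.trans (eq_inv_of_mul_eq_one_left (by rw [← pow_succ]; exact orderOf_dvd_iff_pow_eq_one.1 h.dvd)))

theorem at_top {L : Subgroup Γ} [L.Normal] (e : L ≃* A7) (hC : 𝐂(L) = ⊥) (hD : HasDih Γ) :
    AT (⊤ : Subgroup Γ) ∧ Ly (⊤ : Subgroup Γ) = L ∧ Bar L := by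
  obtain rfl : L = ⊤ := by
    obtain ⟨S, σ, τ, t, k, D⟩ := hD
    exact DA.eq_top e hC (dc_of_dihSyl D ⊤)
  replace e : A7 ≃* Γ := e.symm.trans topEquiv
  have h : Sd Γ := ⟨e.symm.isSimpleGroup, fun hs => by
    have := Group.isSolvable_of_surjective (f := e.symm.toMonoidHom) e.symm.surjective
    exact absurd (IsSimpleGroup.comm_iff_isSolvable.2 this ⟨_, DA.m 0 1 1 2 (by decide) (by decide)⟩
      ⟨_, DA.m 0 1 2 3 (by decide) (by decide)⟩) (by decide), hD⟩
  have hd : ∀ u : Γ, Inv u → DA.Data u := fun u hu => by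
    obtain ⟨u0, h0, h1⟩ := DA.exists_data
    obtain ⟨g, -, rfl⟩ := h.conj ⟨e.map_ne_one_iff.2 h0.ne, by rw [← map_mul, h0.sq, map_one]⟩ hu
    exact (h1.map e).map (MulAut.conj g)
  have hU : ∀ u c : Γ, Inv u → orderOf c = 3 → c * u = u * c → Ut u = zpowers c := fun u c hu hc h1 => by
    obtain ⟨k, hk⟩ := h.card_Ut_mul hu
    rw [(hd u hu).1] at hk
    refine (eq_of_le_of_card_ge (zpowers_le.2 (h.mem_Ut hu (mem_cent1.2 h1) (by rw [hc]; decide))) ?_).symm
    have h2 : Nat.card (Ut u) ∣ 3 := (Nat.Coprime.pow_right 3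
      (Nat.coprime_two_right.2 (odd_Od' 𝐂[u]))).dvd_of_dvd_mul_right ⟨_, hk⟩
    rw [Nat.card_zpowers, hc]
    exact Nat.le_of_dvd three_pos h2
  refine ⟨⟨h.cp_top, ?_, by rw [h.Ly_top, sup_top_eq], fun u _ hu => ?_, fun T _ hT => ?_⟩, h.Ly_top,
    fun p _ hp u hu Y hY hn => ?_, fun _ _ _ _ _ _ _ _ _ _ => sup_top_eq _⟩
  · rw [h.Ly_top]
    have : center (⊤ : Subgroup Γ) = ⊥ := eq_bot_iff.2 fun x hx => Subtype.ext
      (mem_bot.1 (h.cent_top ▸ fun y _ => congrArg Subtype.val (mem_center_iff.1 hx ⟨y, trivial⟩)))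
    exact ⟨((QuotientGroup.quotientMulEquivOfEq this).trans QuotientGroup.quotientBot).trans
      (topEquiv.trans e.symm)⟩
  · obtain ⟨-, c, a, b, h2, h3, h4, h5, h6, h7, h8, h9, h10⟩ := hd u hu
    haveI : Fact (Nat.Prime 3) := ⟨Nat.prime_three⟩
    have hc := orderOf_eq_prime h3 h2
    rw [h.Ly_top, h.Od_top, top_inf_eq, hU u c hu hc h4]
    refine ⟨c, mem_zpowers c, hc, (bot_sup_eq _).symm, ?_, fun v _ hv => eq_or_inv_of_three hc
      (hU u c hu hc h4 ▸ norm_Ut u hv.mem_cent), a, trivial, b, trivial, h6, h7, h8, h9, h10⟩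
    rw [top_inf_eq]
    exact CT.isSolvable_of_card_eq_pow_mul_pow (a := 2) (b := 2) Nat.prime_two Nat.prime_three h5
  · obtain ⟨n, hn⟩ := hT.exists_card_eq
    have h1 := card_subgroup_dvd_card T
    rw [← Nat.card_congr e.toEquiv, DA.card_alt, hn] at h1
    rw [hn]
    exact (Nat.Coprime.pow_left n (by decide : Nat.Coprime 2 315)).dvd_of_dvd_mul_right h1
  · obtain ⟨-, c, a, b, h2, h3, h4, -, h6, -, h8, -⟩ := hd u hu
    haveI : Fact (Nat.Prime 3) := ⟨Nat.prime_three⟩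
    have hc := orderOf_eq_prime h3 h2
    have h9 := (mul_inv_eq_iff_eq_mul.1 h8).symm
    refine le_cent_comm.1 (le_trans ?_ ((Ut_le u).trans (centralizer_zpowers u).ge)) (mem_zpowers u)
    refine h.le_of_kl h6 (not_two_dvd.1 (not_dvd_card_of_ne hY hp.symm)) (hn (mem_cent1.2 rfl)) (hn h6.mem_cent)
      inf_le_right (inf_le_right.trans ?_) (inf_le_right.trans ?_)
    · rw [hU u c hu hc h4, hU a c h6.r hc h9]
    · rw [hU u c hu hc h4, hU _ c h6.inv_mul hc (by rw [← mul_assoc, h4, mul_assoc, h9, mul_assoc])]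

end GW
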