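import Cfsg.Agent.Lib.GW.DLD
import Cfsg.Agent.Lib.Grp.Ex27

/-!
# Local structure of groups between `PSL(2, q)` and `PΓL(2, q)` with dihedral Sylow `2`-subgroups
-/

set_option autoImplicit false
set_option linter.unusedSectionVars false

namespace GW.DL

open Cfsg GT FT Subgroup
open scoped Pointwise commutatorElement

variable {G : Type*} [Group G] [Finite G] {L P T : Subgroup G} {u v r : G} {q d m : ℕ}

theorem sq_ne_one_of_odd {a : G} (ho : Odd (orderOf a)) (h1 : a ≠ 1) : a * a ≠ 1 := fun e =>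
  not_two_dvd.2 ho (by rw [Inv.orderOf ⟨h1, e⟩])

theorem odd_of_isPElt {p : ℕ} [hp : Fact p.Prime] (hp2 : p ≠ 2) {a : G} (h : IsPElt p a) :
    Odd (orderOf a) := by
  obtain ⟨k, hk⟩ := h
  exact hk ▸ (hp.out.odd_of_ne_two hp2).pow

theorem eq_of_mul_two_pow {a b i j : ℕ} (ha : Odd a) (hb : Odd b) (h : a * 2 ^ i = b * 2 ^ j) :
    a = b :=
  Nat.dvd_antisymm
    ((Nat.Coprime.pow_right j (Nat.coprime_two_right.2 ha)).dvd_of_dvd_mul_right ⟨_, h.symm⟩)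
    ((Nat.Coprime.pow_right i (Nat.coprime_two_right.2 hb)).dvd_of_dvd_mul_right ⟨_, h⟩)

namespace TG
variable (h : TG L P u T r)
include h

theorem r_inv : r⁻¹ = r := inv_eq_of_mul_eq_one_right h.r_sq

theorem exists_eq {y : G} (hy : y ∈ P) (e : y * u = u * y) (hT : y ∉ T) : ∃ x ∈ T, y = x * r :=
  ⟨_, (h.cent y hy e).resolve_left hT, by rw [mul_assoc, h.r_sq, mul_one]⟩

theorem conj_mul {x a : G} (hx : x ∈ T) (ha : a ∈ T) : x * r * a * (x * r)⁻¹ = a⁻¹ := by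
  calc _ = x * (r * a * r⁻¹) * x⁻¹ := by group
    _ = _ := by rw [h.inv a ha, cyc_comm h.cyc hx (inv_mem ha), mul_inv_cancel_right]

theorem mul_sq {x : G} (hx : x ∈ T) : x * r * (x * r) = 1 := by
  calc _ = x * (r * x * r⁻¹) := by rw [h.r_inv]; group
    _ = 1 := by rw [h.inv x hx, mul_inv_cancel]

theorem inv_of_not_mem {y a : G} (hy : y ∈ P) (e : y * u = u * y) (hT : y ∉ T) (ha : a ∈ T) :
    y * a * y⁻¹ = a⁻¹ := by
  obtain ⟨x, hx, rfl⟩ := h.exists_eq hy e hT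
  exact h.conj_mul hx ha

theorem mem_of_sq {y : G} (hy : y ∈ P) (e : y * u = u * y) (h2 : y * y ≠ 1) : y ∈ T := by
  by_contra hT
  obtain ⟨x, hx, rfl⟩ := h.exists_eq hy e hT
  exact h2 (h.mul_sq hx)

theorem mem_of_odd {y : G} (hy : y ∈ P) (e : y * u = u * y) (ho : Odd (orderOf y)) : y ∈ T := by
  by_cases h1 : y = 1
  · exact h1 ▸ one_mem T
  · exact h.mem_of_sq hy e (sq_ne_one_of_odd ho h1)

theorem comm {x : G} (hx : x ∈ T) : x * u = u * x := cyc_comm h.cyc hx h.mem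

theorem kl (hu : Inv u) : Kl u r :=
  ⟨hu, ⟨fun e => h.r_not (e ▸ one_mem T), h.r_sq⟩, fun e => h.r_not (e ▸ h.mem), by
    have := h.inv u h.mem
    rw [hu.inv, mul_inv_eq_iff_eq_mul] at this
    exact this.symm⟩

theorem not_mem (hk : Kl u v) : v ∉ T := fun e => hk.ne (cyc_eq h.cyc h.mem e hk.l hk.r)

theorem comm_of_conj (hP : P.Normal) (hu : Inv u) {a g : G} (ha : a ∈ T) (a2 : a * a ≠ 1)
    (hg : g * a * g⁻¹ ∈ T) : g * u = u * g := by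
  refine mul_inv_eq_iff_eq_mul.1 (cyc_eq h.cyc (h.cent' _ hg (fun e => a2 ?_) _
    (hP.conj_mem _ (h.le h.mem) g) ?_) h.mem (hu.conj g) hu)
  · simpa [mul_assoc] using congrArg (g⁻¹ * · * g) e
  · calc _ = g * (u * a) * g⁻¹ := by group
      _ = _ := by rw [← h.comm ha]; group

theorem card_cent (hL : L ≤ P) (hu : Inv u) :
    Nat.card ↥(L ⊓ 𝐂[u]) = 2 * Nat.card ↥(T ⊓ L) := by
  have : T.relIndex (L ⊓ 𝐂[u]) = 2 := relIndex_eq_two_iff.2
    ⟨r, ⟨h.r_mem, (h.kl hu).mem_cent⟩, fun b hb => by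
      by_cases e : b ∈ T
      · exact Or.inr ⟨e, fun e' => h.r_not ((_root_.mul_mem_cancel_left e).1 e')⟩
      · exact Or.inl ⟨(h.cent b (hL hb.1) (mem_cent1.1 hb.2)).resolve_left e, e⟩⟩
  have e : T ≤ 𝐂[u] := fun x hx => mem_cent1.2 (h.comm hx)
  rw [← card_inf_mul_relIndex T, this, mul_comm, inf_left_comm, inf_of_le_left e, inf_comm]

end TG

namespace MG
variable (h : MG L P q d m)
include h

theorem normalP : P.Normal := ⟨fun n hn g => by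
  simpa [commutatorElement_def] using mul_mem (h.le (h.der g n)) hn⟩

theorem exists_dih {Q : Subgroup G} (hQ : IsPGroup 2 Q) :
    ∃ S σ τ J k, DihSyl S σ τ J k ∧ Q ≤ S := by
  obtain ⟨S, σ, τ, J, k, D⟩ := h.dih
  obtain ⟨g, -, hg⟩ := D.syl.exists_le_conj hQ le_top
  exact ⟨_, _, _, _, _, D.conj' g, hg⟩

theorem two_dvd : 2 ∣ Nat.card L :=
  h.card ▸ ((Dvd.dvd.trans (by norm_num) h.four).mul_left q).mul_right m

theorem mem_of_inv {x : G} (hx : Inv x) : x ∈ P := by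
  have := h.normal
  by_contra hP
  obtain ⟨S, σ, τ, J, k, D, hS⟩ := h.exists_dih hx.isPGroup
  have hx' := hS (mem_zpowers x)
  obtain ⟨⟨a, ⟨a1, a2⟩, a3⟩, a4⟩ := ne_bot_iff_exists_ne_one.1
    (inf_centralizer_ne_bot_of_isPGroup D.syl.isPGroup (D.syl.isPGroup.to_le inf_le_left)
      ((D.syl.inf_of_le_normalizer le_top le_normalizer_of_normal).ne_bot h.two_dvd)
      (le_normalizer_inf le_normalizer le_normalizer_of_normal))
  replace a4 : a ≠ 1 := fun e => a4 (Subtype.ext e)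
  have hd := (D.isPElt a1).dvd_orderOf a4
  have t1 : Inv (a ^ (orderOf a / 2)) := by
    have := orderOf_pow_orderOf_div (orderOf_pos a).ne' hd
    exact ⟨fun e => by simp [e] at this, by rw [← pow_two]; exact orderOf_dvd_iff_pow_eq_one.1 this.dvd⟩
  have tx : x * a ^ (orderOf a / 2) = a ^ (orderOf a / 2) * x :=
    (Commute.pow_right (a3 x hx') _).eq
  have tL := pow_mem a2 (orderOf a / 2)
  generalize a ^ (orderOf a / 2) = t at t1 tx tL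
  obtain ⟨v, hv, hk, vx⟩ := h.third x hP hx.sq t tL t1 tx
  have xc : x ∈ 𝐂(Vk t v) := hk.cent_Vk ▸ ⟨mem_cent1.2 tx, mem_cent1.2 vx.symm⟩
  obtain ⟨S, σ, τ, J, k, D, hS⟩ := h.exists_dih (IsPGroup.to_sup_of_normal_left' hk.isPGroup
    hx.isPGroup (zpowers_le.2 (cent_le_norm _ xc)))
  have hV : Vk t v ≤ L := hk.Vk_le.2 ⟨tL, hv⟩
  have hVS : Vk t v ≤ S := le_sup_left.trans hS
  have hxS : x ∈ S := hS (mem_sup_right (mem_zpowers x))
  have key : ∀ {y}, Inv y → y ∈ zpowers σ → y = J := fun hy e => D.eq_J_of_sq e hy.ne hy.sq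
  have hJ : J ∈ L := by
    by_cases e1 : t ∈ zpowers σ
    · exact key hk.l e1 ▸ tL
    by_cases e2 : v ∈ zpowers σ
    · exact key hk.r e2 ▸ hv
    · exact key hk.mul (D.mul_mem_of_not_mem (hVS hk.left_mem) e1 (hVS hk.right_mem) e2) ▸
        mul_mem tL hv
  have xL : x ∉ L := fun e => hP (h.le e)
  have fin : ∀ w ∈ Vk t v, w ∉ zpowers σ → False := fun w hw e => by
    have w1 : w * x ∉ L := fun e' => xL ((_root_.mul_mem_cancel_left (hV hw)).1 e')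
    refine w1 (key ⟨fun e' : w * x = 1 => w1 (e' ▸ one_mem L), ?_⟩ (D.mul_mem_of_not_mem (hVS hw) e hxS
      fun e' => xL (key hx e' ▸ hJ)) ▸ hJ)
    rw [mul_assoc, ← mul_assoc x, ← xc w hw, mul_assoc, hx.sq, mul_one, hk.sq hw]
  by_cases e1 : t ∈ zpowers σ
  · exact fin v hk.right_mem fun e2 => hk.ne ((key hk.l e1).trans (key hk.r e2).symm)
  · exact fin t hk.left_mem e1

theorem dih_le {S : Subgroup G} {σ τ J : G} {k : ℕ} (D : DihSyl S σ τ J k) : S ≤ P := by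
  have h1 := h.mem_of_inv D.kl_τ.r
  rw [← D.eq_sup]
  exact sup_le (zpowers_le.2 ((_root_.mul_mem_cancel_right h1).1 (h.mem_of_inv D.kl_στ.r)))
    (zpowers_le.2 h1)

theorem mem_of_two {x : G} (hx : IsPElt 2 x) : x ∈ P := by
  obtain ⟨S, σ, τ, J, k, D, hS⟩ := h.exists_dih hx.isPGroup_zpowers
  exact h.dih_le D (hS (mem_zpowers x))

theorem odd_index : Odd P.index := by
  obtain ⟨S, σ, τ, J, k, D⟩ := h.dih
  simpa using not_two_dvd.1 (D.syl.not_dvd_relIndex_of_le (h.dih_le D))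

theorem mem_of_odd {x : G} (hx : x ∈ P) (ho : Odd (orderOf x)) : x ∈ L := by
  by_contra e
  obtain ⟨j, hj⟩ := ho
  have := pow_mem (h.mul x hx x hx e e) j
  rw [← pow_two, ← pow_mul, eq_inv_of_mul_eq_one_left (by
    rw [← pow_succ, ← hj, pow_orderOf_eq_one] : x ^ (2 * j) * x = 1)] at this
  exact e (inv_mem_iff.1 this)

theorem od : Od (⊤ : Subgroup G) = ⊥ :=
  have := h.normal
  have := h.simple
  Od_top_eq_bot h.ns h.cent

theorem ly : Ly (⊤ : Subgroup G) = L := by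
  have := h.normal
  have := h.simple
  refine Ly_top_eq h.ns h.cent (Group.isSolvable_of_comm fun a b => ?_)
  obtain ⟨a, rfl⟩ := QuotientGroup.mk_surjective a
  obtain ⟨b, rfl⟩ := QuotientGroup.mk_surjective b
  rw [← commutatorElement_eq_one_iff_mul_comm]
  exact (QuotientGroup.eq_one_iff _).2 (h.der a b)

open Classical in
theorem tor' (hu : Inv u) :
    ∃ T r, TG L P u T r ∧ 2 * Nat.card ↥(T ⊓ L) = if u ∈ L then d else 2 * m :=
  h.tor u (h.mem_of_inv hu) hu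

theorem conj_two (hT : TG L P u T r) {x g : G} (hx : x ∈ T) (h2 : IsPElt 2 x) (hg : g ∈ 𝐂[u])
    (ho : ¬ 2 ∣ orderOf g) : g * x * g⁻¹ = x :=
  conj_eq_of_conj_mem_zpowers_dih h2 ho (cyc_conj hT.cyc hx (hT.norm g (mem_cent1.1 hg) x hx))

theorem nilp (hu : Inv u) : HasNormalPComplement 2 𝐂[u] := by
  obtain ⟨T, r, hT, -⟩ := h.tor' hu
  obtain ⟨S, hS⟩ := exists_isSylowIn 2 𝐂[u]
  refine hS.hasNormalPComplement_of_forall_le fun Q hQ g hg hn ho x hx => ?_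
  have h2 : ∀ {y}, y ∈ Q → IsPElt 2 y := fun hy => isPElt_of_mem hS.isPGroup (hQ hy)
  have hc : ∀ {y}, y ∈ Q → y * u = u * y := fun hy => mem_cent1.1 (hS.le (hQ hy))
  by_cases e : x ∈ T
  · exact h.conj_two hT e (h2 hx) hg ho
  have e' : g * x * g⁻¹ ∉ T := fun e' => e (by
    simpa [mul_assoc] using hT.norm g⁻¹ (mem_cent1.1 (inv_mem hg)) _ e')
  obtain ⟨a, ha, e1⟩ := hT.exists_eq (h.mem_of_two (h2 hx)) (hc hx) e
  obtain ⟨b, hb, e2⟩ := hT.exists_eq (h.mem_of_two (h2 (hn x hx))) (hc (hn x hx)) e'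
  have hs : g * x * g⁻¹ * x⁻¹ ∈ T := by
    rw [e2, e1]; simpa using mul_mem hb (inv_mem ha)
  have hs2 := h2 (mul_mem (hn x hx) (inv_mem hx))
  exact mul_inv_eq_one.1 (eq_one_of_conj_eq_mul (q := x) hs2 ho (h.conj_two hT hs hs2 hg ho)
    (by simp))

theorem mem_Ut (hu : Inv u) {x : G} (hx : x ∈ 𝐂[u]) (ho : Odd (orderOf x)) : x ∈ Ut u :=
  mem_Op'_of_hall (hall_Op'_iff.2 (h.nilp hu)) hx (not_two_dvd.2 ho)

theorem conj_mem_iff (g x : G) : g * x * g⁻¹ ∈ L ↔ x ∈ L :=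
  ⟨fun e => by simpa [mul_assoc] using h.normal.conj_mem _ e g⁻¹, fun e => h.normal.conj_mem _ e g⟩

theorem conj' (hu : Inv u) (hv : Inv v) (e : u ∈ L ↔ v ∈ L) : ConjIn L u v :=
  h.conj u (h.mem_of_inv hu) v (h.mem_of_inv hv) hu hv e

theorem sup_cent (hu : Inv u) : L ⊔ 𝐂[u] = ⊤ := eq_top_iff.2 fun g _ => by
  obtain ⟨l, hl, e⟩ := h.conj' hu (hu.conj g) (h.conj_mem_iff g u).symm
  rw [← mul_inv_cancel_left l g]
  refine mul_mem_sup hl (mem_cent1.2 ?_)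
  calc _ = l⁻¹ * (g * u * g⁻¹) * g := by group
    _ = _ := by rw [← e]; group

theorem card_cent (hu : Inv u) : Nat.card 𝐂[u] = L.index * Nat.card ↥(L ⊓ 𝐂[u]) := by
  have := h.normal
  have h1 := card_sup_mul_card_inf 𝐂[u] L
  rw [sup_comm, h.sup_cent hu, card_top, ← card_mul_index L, inf_comm] at h1
  exact Nat.eq_of_mul_eq_mul_left (Nat.card_pos (α := L)) (by rw [← mul_assoc, h1, mul_comm])

theorem card_cent_in (hu : Inv u) (hL : u ∈ L) : Nat.card ↥(L ⊓ 𝐂[u]) = d := by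
  obtain ⟨T, r, hT, e⟩ := h.tor' hu
  rw [hT.card_cent h.le hu, e, if_pos hL]

theorem card_cent_out (hu : Inv u) (hL : u ∉ L) : Nat.card ↥(L ⊓ 𝐂[u]) = 2 * m := by
  obtain ⟨T, r, hT, e⟩ := h.tor' hu
  rw [hT.card_cent h.le hu, e, if_neg hL]

theorem mem_K (hu : Inv u) (hT : TG L P u T r) {x : G} :
    x ∈ Ut u ⊓ L ↔ x ∈ T ∧ Odd (orderOf x) :=
  ⟨fun hx => have ho := odd_of_mem_Od hx.1
    ⟨hT.mem_of_odd (h.le hx.2) (mem_cent1.1 (Ut_le u hx.1)) ho, ho⟩,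
    fun hx => ⟨h.mem_Ut hu (mem_cent1.2 (hT.comm hx.1)) hx.2, h.mem_of_odd (hT.le hx.1) hx.2⟩⟩

theorem K_le (hu : Inv u) (hT : TG L P u T r) : Ut u ⊓ L ≤ T := fun _ hx => ((h.mem_K hu hT).1 hx).1

theorem card_K (hu : Inv u) (hT : TG L P u T r) {b k : ℕ} (hk : Odd k)
    (e : Nat.card ↥(T ⊓ L) = 2 ^ b * k) : Nat.card ↥(Ut u ⊓ L) = k := by
  have := hT.cyc
  have hc := GT.isCyclic_of_le (inf_le_left : T ⊓ L ≤ T)
  obtain ⟨x, hx⟩ := isCyclic_iff_exists_zpowers_eq.1 hc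
  have hx' : x ∈ T ⊓ L := hx ▸ mem_zpowers x
  have o1 : orderOf (x ^ 2 ^ b) = k := by
    rw [← hx, Nat.card_zpowers] at e
    rw [orderOf_pow_of_dvd (by positivity) ⟨k, e⟩, e, Nat.mul_div_cancel_left _ (by positivity)]
  rw [← o1, ← Nat.card_zpowers]
  congr 2
  refine le_antisymm (fun y hy => ?_) (zpowers_le.2 ((h.mem_K hu hT).2 ⟨pow_mem hx'.1 _, o1 ▸ hk⟩))
  obtain ⟨y1, y2⟩ := (h.mem_K hu hT).1 hy
  refine cyc_mem hT.cyc y1 (pow_mem hx'.1 _) (o1 ▸ ?_)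
  exact (Nat.Coprime.pow_right b (Nat.coprime_two_right.2 y2)).dvd_of_dvd_mul_left
    (e ▸ orderOf_dvd_natCard _ (⟨y1, hy.2⟩ : y ∈ T ⊓ L))

theorem norm_K (u : G) : 𝐂[u] ≤ 𝐍(Ut u ⊓ L) :=
  have := h.normal
  le_normalizer_inf (norm_Ut u) le_normalizer_of_normal

theorem comm_mem_K {x y : G} (hx : x ∈ Ut u) (hy : y ∈ 𝐂[u]) : ⁅x, y⁆ ∈ Ut u ⊓ L :=
  ⟨by simpa [commutatorElement_def, mul_assoc] using
    mul_mem hx (conj_mem_of_mem_normalizer (norm_Ut u hy) (inv_mem hx)), h.der x y⟩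

theorem invBy (hk : Kl u v) : InvBy v (Ut u ⊓ L) := fun x hx => by
  obtain ⟨T, r, hT, -⟩ := h.tor' hk.l
  exact hT.inv_of_not_mem (h.mem_of_inv hk.r) hk.comm.symm (hT.not_mem hk) (h.K_le hk.l hT hx)

theorem tor_K (hu : Inv u) : Tor ⊤ u (Ut u ⊓ L) := by
  obtain ⟨T, r, hT, -⟩ := h.tor' hu
  have hc : ∀ v, Kl u v → ⁅⊤ ⊓ Ut u, zpowers v⁆ ≤ Ut u ⊓ L := fun v hk =>
    commutator_le.2 fun x hx y hy => h.comm_mem_K hx.2 (zpowers_le.2 hk.mem_cent hy)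
  have := hT.cyc
  refine ⟨by rw [h.ly, inf_comm], GT.isCyclic_of_le (h.K_le hu hT), inf_le_right.trans (h.norm_K u),
    fun v _ => h.invBy, fun v _ hk => (hc v hk).trans le_sup_right, fun v _ => hc v,
    fun v _ hk p hp hp2 y hy py hc => ?_⟩
  by_contra y1
  replace y1 : y ≠ 1 := fun e => y1 (e ▸ one_mem _)
  have o1 := orderOf_pow_orderOf_div (orderOf_pos y).ne' (py.dvd_orderOf y1)
  have c1 := mem_cent1.1 (pow_mem hy.1.2 (orderOf y / p))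
  have c2 := mem_cent1.1 (pow_mem hy.2 (orderOf y / p))
  have c3 : ∀ x ∈ Ut u ⊓ L, ¬ p ∣ orderOf x → x * y ^ (orderOf y / p) = y ^ (orderOf y / p) * x :=
    fun x hx e => (Commute.pow_right (hc x hx e) _).eq
  generalize y ^ (orderOf y / p) = z at o1 c1 c2 c3
  have oz : Odd (orderOf z) := o1 ▸ hp.out.odd_of_ne_two hp2
  by_cases e : z ∈ P
  · have := hT.inv_of_not_mem (h.mem_of_inv hk.r) hk.comm.symm (hT.not_mem hk) (hT.mem_of_odd e c1 oz)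
    rw [← c2, mul_inv_cancel_right, eq_inv_iff_mul_eq_one] at this
    exact sq_ne_one_of_odd oz (fun e => hp.out.ne_one (by rw [← o1, e, orderOf_one])) this
  · obtain ⟨x, x1, x2, x3, x4⟩ := hT.fld p hp.out hp2 z e (by rw [← o1, pow_orderOf_eq_one]) c1
    exact x4 (c3 x ((h.mem_K hu hT).2 ⟨x1, x2⟩) x3)

theorem card_U_eq (hk : Kl u v) :
    Nat.card (Ut u) = Nat.card (Wt u v) * Nat.card ↥(Ut u ⊓ L) := by
  have hn : Wt u v ≤ 𝐍(Ut u ⊓ L) := inf_le_left.trans ((Ut_le u).trans (h.norm_K u))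
  rw [← card_sup_of_disjoint_of_le_normalizer hn]
  · refine congrArg (fun X : Subgroup G => Nat.card X)
      (le_antisymm (fun x hx => ?_) (sup_le inf_le_left inf_le_left))
    have hc := h.comm_mem_K hx hk.mem_cent
    obtain ⟨j, hj⟩ := odd_of_mem_Od hc.1
    have hk' := pow_mem hc (j + 1)
    have e1 : ⁅x, v⁆ ^ (j + 1) * ⁅x, v⁆ ^ (j + 1) = ⁅x, v⁆ := by
      rw [← pow_add, show j + 1 + (j + 1) = orderOf ⁅x, v⁆ + 1 by omega, pow_succ,
        pow_orderOf_eq_one, one_mul]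
    generalize ⁅x, v⁆ ^ (j + 1) = k at hk' e1
    have e2 := h.invBy hk _ (inv_mem hk')
    rw [sup_comm, ← mul_inv_cancel_left k x]
    refine mul_mem_sup hk' ⟨(Ut u).mul_mem ((Ut u).inv_mem hk'.1) hx, mem_cent1.2 ?_⟩
    calc _ = k⁻¹ * ⁅x, v⁆ * v * x := by rw [commutatorElement_def]; group
      _ = v * k⁻¹ * v⁻¹ * v * x := by rw [← e1, e2]; group
      _ = _ := by group
  · refine disjoint_def.2 fun {x} h1 h2 => by_contra fun x1 =>
      sq_ne_one_of_odd (odd_of_mem_Od h2.1) x1 ?_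
    have := h.invBy hk x h2
    rwa [← mem_cent1.1 h1.2, mul_inv_cancel_right, eq_inv_iff_mul_eq_one] at this

theorem cp : Cp (⊤ : Subgroup G) := by
  have := h.normal
  have := h.simple
  refine ⟨?_, ?_, ?_, ?_, ?_, ?_, ?_, ?_, ?_, ?_⟩ <;> rw [h.ly]
  · rintro rfl
    exact h.ns inferInstance
  · rw [h.od, h.cent, inf_bot_eq]
  · intro N h1 h2
    rcases (subgroupOf_normal h2).eq_bot_or_eq_top with e | e
    · exact Or.inl (((subgroupOf_eq_bot.1 e).eq_bot_of_le h1).le.trans bot_le)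
    · exact Or.inr (h1.antisymm (subgroupOf_eq_top.1 e))
  · exact fun u hu v hv u1 v1 => h.conj' u1 v1 (iff_of_true hu hv)
  · exact h.fused
  · intro u _ u1
    obtain ⟨T, r, hT, -⟩ := h.tor' u1
    exact ⟨r, hT.r_mem, hT.kl u1⟩
  · obtain ⟨x, hx⟩ := exists_prime_orderOf_dvd_card' 2 h.two_dvd
    rw [← Subgroup.orderOf_coe] at hx
    exact ⟨x, x.2, fun e => by simp [e] at hx, by
      rw [← pow_two]; exact orderOf_dvd_iff_pow_eq_one.1 hx.dvd⟩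
  · exact (commutator_le.2 fun x _ y _ => h.der x y).trans le_sup_right
  · exact fun x _ y _ x1 y1 x2 y2 =>
      mem_sup_right (h.mul x (h.mem_of_two x1) y (h.mem_of_two y1) x2 y2)
  · exact fun u _ v _ u1 v1 u2 v2 =>
      let ⟨g, _, e⟩ := h.conj' u1 v1 (iff_of_false u2 v2); ⟨g, mem_top g, e⟩

theorem e_eq : (L.relIndex P = 1 ∧ ∀ x, IsPElt 2 x → x ∈ L) ∨
    (L.relIndex P = 2 ∧ ∃ u, Inv u ∧ u ∉ L) := by
  by_cases e : P ≤ L
  · exact Or.inl ⟨relIndex_eq_one.2 e, fun x hx => e (h.mem_of_two hx)⟩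
  obtain ⟨u, -, hu⟩ := h.cp.ex_inv
  obtain ⟨T, r, hT, -⟩ := h.tor' hu
  obtain ⟨x, hx, hx'⟩ := hT.ex.resolve_left e
  have e1 : x * r ∉ L := fun e => hx' ((_root_.mul_mem_cancel_right hT.r_mem).1 e)
  refine Or.inr ⟨relIndex_eq_two_iff.2 ⟨x, hT.le hx, fun b hb => ?_⟩, x * r,
    ⟨fun e : x * r = 1 => e1 (e ▸ one_mem L), hT.mul_sq hx⟩, e1⟩
  by_cases e : b ∈ L
  · exact Or.inr ⟨e, fun e' => hx' ((_root_.mul_mem_cancel_left e).1 e')⟩
  · exact Or.inl ⟨h.mul b hb x (hT.le hx) e hx', e⟩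

theorem odd_m : Odd m := by
  have := h.num
  have := h.four
  exact Nat.odd_iff.2 (by omega)

theorem three_le : 3 ≤ m := by
  have := h.num
  have := h.four
  have := h.five
  omega

theorem lt : ∃ k e φ, LT (⊤ : Subgroup G) q d k m e φ := by
  classical
  have hN := h.normal
  have d0 : d ≠ 0 := by have := h.num; have := h.five; omega
  obtain ⟨a, k, hk, hd⟩ := Nat.exists_eq_two_pow_mul_odd d0
  have ha : 2 ≤ a := (Nat.pow_dvd_pow_iff_le_right one_lt_two).1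
    ((Nat.Coprime.pow_left 2 (Nat.coprime_two_left.2 hk)).dvd_of_dvd_mul_right (hd ▸ h.four))
  have hZ : Zc L = ⊥ := by rw [Zc, h.cent, inf_bot_eq]
  have hi : L.index = P.index * L.relIndex P := by rw [mul_comm, relIndex_mul_index h.le]
  have cK : ∀ u ∈ L, Inv u → Nat.card ↥(Ut u ⊓ L) = k := fun u hu u1 => by
    obtain ⟨T, r, hT, e⟩ := h.tor' u1
    obtain ⟨b, rfl⟩ : ∃ b, a = b + 1 := ⟨a - 1, by omega⟩
    rw [if_pos hu, hd, pow_succ', mul_assoc] at e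
    exact h.card_K u1 hT hk (Nat.eq_of_mul_eq_mul_left two_pos e)
  have cU : ∀ u ∈ L, Inv u → Nat.card (Ut u) = P.index * k := fun u hu u1 => by
    obtain ⟨S, hS⟩ := exists_isSylowIn 2 𝐂[u]
    have e := (sdp_Op'_of_hall (hall_Op'_iff.2 (h.nilp u1)) hS).card
    rw [hS.card_eq] at e
    nth_rw 2 [h.card_cent u1] at e
    rw [h.card_cent_in u1 hu, hi, hd] at e
    rcases h.e_eq with e1 | e1 <;> rw [e1.1] at e
    · exact eq_of_mul_two_pow (j := a) (odd_Od' _) (h.odd_index.mul hk) (e.trans (by ring))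
    · exact eq_of_mul_two_pow (j := a + 1) (odd_Od' _) (h.odd_index.mul hk) (e.trans (by ring))
  refine ⟨k, L.relIndex P, P.index, h.cp, h.five, h.num, ⟨a, ha, hd⟩, hk, h.odd_index, ?_, ?_, ?_, ?_,
    ?_, ?_, ?_, ?_, ?_, ?_, ?_, ?_, ?_⟩ <;> try rw [h.ly]
  · simpa using h.e_eq
  · simp [hZ]
  · rw [hZ, card_bot, one_mul, h.card]
  · rw [h.od, card_bot, one_mul, card_top, ← hi, ← h.card, index_mul_card]
  · obtain ⟨u, hu, u1⟩ := h.cp.ex_inv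
    rw [h.ly] at hu
    have e : {v | v ∈ L ∧ Inv v} = {v | ∃ t ∈ L, t * u * t⁻¹ = v} := Set.ext fun v =>
      ⟨fun hv => h.conj' u1 hv.2 (iff_of_true hu hv.1),
        fun ⟨t, _, e⟩ => e ▸ ⟨(h.conj_mem_iff t u).2 hu, u1.conj t⟩⟩
    have := card_inf_mul_relIndex 𝐂[u] L
    rw [inf_comm, h.card_cent_in u1 hu, h.card] at this
    rw [e, ncard_conj_orbit]
    exact Nat.eq_of_mul_eq_mul_left (Nat.pos_of_ne_zero d0) (this.trans (by ring))
  · intro u hu u1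
    rw [top_inf_eq, h.od, card_bot, one_mul, h.card_cent u1, h.card_cent_in u1 hu, hi]
  · intro u hu u1
    rw [top_inf_eq, h.od, card_bot, one_mul, cU u hu u1]
  · intro u hu v _ hk'
    have := h.card_U_eq hk'
    rw [cU u hu hk'.l, cK u hu hk'.l] at this
    rw [top_inf_eq, h.od, card_bot, one_mul, Nat.eq_of_mul_eq_mul_right hk.pos this]
  · intro u _ u1 hu
    rw [top_inf_eq, h.od, bot_inf_eq, card_bot, one_mul, h.card_cent u1, h.card_cent_out u1 hu, hi,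
      (h.e_eq.resolve_left fun e => hu (e.2 u u1.isPElt)).1]
    ring
  · intro u hu u1
    obtain ⟨T, r, hT, -⟩ := h.tor' u1
    refine ⟨_, h.tor_K u1, cK u hu u1, fun a ha a1 v hv v1 e => ?_⟩
    obtain ⟨a2, a3⟩ := (h.mem_K u1 hT).1 ha
    exact cyc_eq hT.cyc (hT.cent' a a2 (sq_ne_one_of_odd a3 a1) v (h.le hv) e) hT.mem v1 u1
  · intro u _ u1 hu
    obtain ⟨T, r, hT, e⟩ := h.tor' u1
    rw [if_neg hu] at e
    replace e := Nat.eq_of_mul_eq_mul_left two_pos e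
    have e1 := h.card_K (b := 0) u1 hT h.odd_m (by simpa using e)
    refine ⟨_, h.tor_K u1, e1, ?_⟩
    obtain ⟨⟨a, ha⟩, a1⟩ := ne_bot_iff_exists_ne_one.1 (show Ut u ⊓ L ≠ ⊥ from fun e => by
      have := h.three_le
      rw [e, card_bot] at e1; omega)
    obtain ⟨a2, a3⟩ := (h.mem_K u1 hT).1 ha
    refine (Set.ncard_le_ncard_of_injOn (t := ((T ⊓ L : Subgroup G) : Set G)) (· * r)
      (fun v hv => ?_) (mul_left_injective r).injOn).trans_eq e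
    have c := hT.comm_of_conj h.normalP u1 a2 (sq_ne_one_of_odd a3 fun e => a1 (Subtype.ext e))
      (h.K_le u1 hT (conj_mem_of_mem_normalizer hv.1.2 ha))
    exact ⟨(hT.cent v (h.le hv.1.1) c).resolve_left fun e =>
      hu (cyc_eq hT.cyc e hT.mem hv.2 u1 ▸ hv.1.1), mul_mem hv.1.1 hT.r_mem⟩
  · intro u _ u1 x hx x1 x2 y hy
    obtain ⟨T, r, hT, -⟩ := h.tor' u1
    exact mul_inv_eq_iff_eq_mul.1 (h.conj_two hT (hT.mem_of_sq (h.le hx.1) (mem_cent1.1 hx.2) x2) x1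
      (Ut_le u hy.2) (not_two_dvd.2 (odd_of_mem_Od hy.2)))
  · exact fun _ => h.st

variable {p : ℕ} [Fact p.Prime] (hp : p ≠ 2) {R : Subgroup G} (hR : IsPGroup p R)
include hp hR

theorem le_cent_of_mem (hu : Inv u) {a : G} (ha : a ∈ R ⊓ L ⊓ 𝐂(R)) (a1 : a ≠ 1) (c : a ∈ 𝐂[u]) :
    R ≤ 𝐂[u] := fun y hy => by
  obtain ⟨T, r, hT, -⟩ := h.tor' hu
  have ho := odd_of_isPElt hp (isPElt_of_mem hR ha.1.1)
  have := hT.mem_of_odd (h.le ha.1.2) (mem_cent1.1 c) ho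
  exact mem_cent1.2 (hT.comm_of_conj h.normalP hu this (sq_ne_one_of_odd ho a1)
    (by rwa [ha.2 y hy, mul_inv_cancel_right]))

omit hp in
theorem ne_bot_or {x : G} (hn : x ∈ 𝐍(R)) : R ≤ 𝐂[x] ∨ R ⊓ L ⊓ 𝐂(R) ≠ ⊥ := by
  have := h.normal
  by_cases e : R ⊓ L = ⊥
  · refine Or.inl fun y hy => mem_cent1.2 (commutatorElement_eq_one_iff_mul_comm.1
      (mem_bot.1 (e ▸ ⟨?_, h.der y x⟩)))
    simpa [commutatorElement_def, mul_assoc] using
      mul_mem hy (conj_mem_of_mem_normalizer hn (inv_mem hy))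
  · exact Or.inr (inf_centralizer_ne_bot_of_isPGroup hR (hR.to_le inf_le_left) e
      (le_normalizer_inf le_normalizer le_normalizer_of_normal))

omit hp hR in
theorem norm_A : 𝐍(R) ≤ 𝐍(R ⊓ L ⊓ 𝐂(R)) :=
  have := h.normal
  le_normalizer_inf (le_normalizer_inf le_rfl le_normalizer_of_normal) (norm_le_norm_cent R)

omit h hp hR in
theorem invBy_or {A : Subgroup G} (hA : A ≤ 𝐂(A)) (hu : Inv u) (hn : u ∈ 𝐍(A)) :
    (∃ a ∈ A, a ≠ 1 ∧ a ∈ 𝐂[u]) ∨ InvBy u A := by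
  refine or_iff_not_imp_left.2 fun e x hx => by_contra fun e' => e ⟨u * x * u⁻¹ * x, mul_mem
    (conj_mem_of_mem_normalizer hn hx) hx, mt eq_inv_of_mul_eq_one_left e', mem_cent1.2 ?_⟩
  calc _ = u * (x * (u * x * u⁻¹)) := by simp only [hu.inv, mul_assoc]
    _ = _ := by rw [hA (conj_mem_of_mem_normalizer hn hx) x hx]

omit h hp hR in
theorem exists_fix {A : Subgroup G} (hA : A ≤ 𝐂(A)) (h0 : A ≠ ⊥) (hk : Kl u v) (hn : Vk u v ≤ 𝐍(A)) :
    ∃ a ∈ A, a ≠ 1 ∧ (a ∈ 𝐂[u] ∨ a ∈ 𝐂[v] ∨ a ∈ 𝐂[u * v]) := by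
  rcases invBy_or hA hk.l (hn hk.left_mem) with ⟨a, h1, h2, h3⟩ | e1
  · exact ⟨a, h1, h2, Or.inl h3⟩
  rcases invBy_or hA hk.r (hn hk.right_mem) with ⟨a, h1, h2, h3⟩ | e2
  · exact ⟨a, h1, h2, Or.inr (Or.inl h3)⟩
  obtain ⟨⟨a, ha⟩, a1⟩ := ne_bot_iff_exists_ne_one.1 h0
  refine ⟨a, ha, fun e => a1 (Subtype.ext e), Or.inr (Or.inr (mem_cent1.2 ?_))⟩
  calc _ = u * (v * a * v⁻¹) * u⁻¹ * (u * v) := by rw [e2 a ha, e1 _ (inv_mem ha), inv_inv]
    _ = _ := by group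

theorem d2 (hk : Kl u v) (hn : Vk u v ≤ 𝐍(R)) : R ≤ 𝐂[u] ∨ R ≤ 𝐂[v] ∨ R ≤ 𝐂[u * v] := by
  rcases h.ne_bot_or hR (hn hk.left_mem) with e | e
  · exact Or.inl e
  obtain ⟨a, ha, a1, c⟩ := exists_fix (A := R ⊓ L ⊓ 𝐂(R)) (fun x hx y hy => hx.2 y hy.1.1) e hk (hn.trans h.norm_A)
  exact c.imp (h.le_cent_of_mem hp hR hk.l ha a1)
    (Or.imp (h.le_cent_of_mem hp hR hk.r ha a1) (h.le_cent_of_mem hp hR hk.mul ha a1))

theorem d1 (hu : Inv u) (hn : 𝐂[u] ≤ 𝐍(R)) : R ≤ 𝐂[u] := by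
  classical
  rcases h.ne_bot_or hR (hn (mem_cent1.2 rfl)) with e | e
  · exact e
  obtain ⟨T, r, hT, c1⟩ := h.tor' hu
  have hk := hT.kl hu
  obtain ⟨a, ha, a1, c⟩ := exists_fix (A := R ⊓ L ⊓ 𝐂(R)) (fun x hx y hy => hx.2 y hy.1.1) e hk
    ((hk.Vk_le.2 ⟨mem_cent1.2 rfl, hk.mem_cent⟩).trans (hn.trans h.norm_A))
  have ho := odd_of_isPElt hp (isPElt_of_mem hR ha.1.1)
  have key : ∀ w, Kl u w → (u ∈ L → w ∈ L) → a ∈ 𝐂[w] → False := fun w k hw c => by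
    obtain ⟨T', r', hT', c2⟩ := h.tor' k.r
    have a2 := hT'.mem_of_odd (h.le ha.1.2) (mem_cent1.1 c) ho
    have := hT.cyc
    obtain ⟨x, hx⟩ := isCyclic_iff_exists_zpowers_eq.1 (GT.isCyclic_of_le (inf_le_left : T ⊓ L ≤ T))
    have hx' : x ∈ T := (hx ▸ mem_zpowers x : x ∈ T ⊓ L).1
    have b := conj_mem_of_mem_normalizer (h.norm_A (hn (mem_cent1.2 (hT.comm hx')))) ha
    have e1 := hT'.comm_of_conj h.normalP k.r a2 (sq_ne_one_of_odd ho a1)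
      (hT'.cent' a a2 (sq_ne_one_of_odd ho a1) _ (h.le b.1.2) (ha.2 _ b.1.1))
    have e2 := hT.inv_of_not_mem (h.mem_of_inv k.r) k.comm.symm (hT.not_mem k) hx'
    rw [← e1, mul_inv_cancel_right, eq_inv_iff_mul_eq_one, ← pow_two] at e2
    have e3 := orderOf_le_of_pow_eq_one two_pos e2
    rw [← Nat.card_zpowers, hx] at e3
    have e4 := h.three_le
    have e5 : 3 ≤ Nat.card ↥(T' ⊓ L) := by
      have := Nat.le_of_dvd Nat.card_pos (orderOf_dvd_natCard (T' ⊓ L) ⟨a2, ha.1.2⟩)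
      have := mt orderOf_eq_one_iff.1 a1
      have := Nat.odd_iff.1 ho
      omega
    by_cases e : u ∈ L
    · rw [if_pos e] at c1
      rw [if_pos (hw e)] at c2
      omega
    · rw [if_neg e] at c1
      omega
  rcases c with c | c | c
  · exact h.le_cent_of_mem hp hR hu ha a1 c
  · exact (key r hk (fun _ => hT.r_mem) c).elim
  · exact (key _ hk.mulR (fun e => mul_mem e hT.r_mem) c).elim

theorem d2max (hk : Kl u v) (hn : Vk u v ≤ 𝐍(R))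
    (hmax : ∀ R' : Subgroup G, IsPGroup p R' → Vk u v ≤ 𝐍(R') → R ≤ R' → R' = R) : 𝐍(R) ⊔ L = ⊤ := by
  have key : ∀ w, Inv w → Vk u v ≤ 𝐂[w] → R ≤ 𝐂[w] → 𝐍(R) ⊔ L = ⊤ := fun w hw h1 h2 => by
    have h3 : R ≤ Ut w := fun x hx => h.mem_Ut hw (h2 hx) (odd_of_isPElt hp (isPElt_of_mem hR hx))
    obtain ⟨R', s1, s2, s3⟩ := (coprimeAct_of_isPGroup_left (h1.trans (norm_Ut w)) hk.isPGroup
      (odd_Od _)).exists_isSylowIn_ge hR h3 hn
    rw [hmax R' s1.isPGroup s2 s3] at s1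
    have h4 : 𝐂[w] ≤ 𝐍(R ⊔ Ut w ⊓ L) := fun g hg => mem_normalizer_of_conj_mem fun x hx => by
      have x1 : x ∈ Ut w := sup_le h3 inf_le_left hx
      simpa [commutatorElement_def, mul_assoc] using
        mul_mem (mem_sup_right (inv_mem (h.comm_mem_K x1 hg))) hx
    have h5 := (s1.of_le le_sup_left (sup_le h3 inf_le_left)).frattini_sup
      ((sup_le h3 inf_le_left).trans (Ut_le w)) h4
    rw [eq_top_iff, ← h.sup_cent hw, ← h5]
    exact sup_le le_sup_right (sup_le (sup_le (le_normalizer.trans le_sup_left)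
      (inf_le_right.trans le_sup_right)) (inf_le_left.trans le_sup_left))
  have hc : ∀ {w}, w ∈ Vk u v → Vk u v ≤ 𝐂[w] := fun hw x hx => mem_cent1.2 (hk.le_cent hw x hx)
  rcases h.d2 hp hR hk hn with e | e | e
  · exact key u hk.l (hc hk.left_mem) e
  · exact key v hk.r (hc hk.right_mem) e
  · exact key _ hk.mul (hc (mul_mem hk.left_mem hk.right_mem)) e

end MG

end GW.DL

namespace GW

open Cfsg GT FT Subgroup

/-- `PSL(2, q) ≅ L ⊴ G ≤ Aut L` with dihedral Sylow `2`-subgroups -/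
structure LG (G : Type*) [Group G] (L : Subgroup G) : Prop where
  normal : L.Normal
  iso : ∃ (F : Type) (_ : Field F) (_ : Fintype F), Odd (Fintype.card F) ∧
    Nonempty (L ≃* Matrix.ProjectiveSpecialLinearGroup (Fin 2) F)
  cent : 𝐂(L) = ⊥
  dih : HasDih G
  ns : ¬ Group.IsSolvable L

namespace LG
variable {G : Type*} [Group G] [Finite G] {L : Subgroup G} (h : LG G L) {u v : G}
include h

theorem mg : ∃ P q d m, DL.MG L P q d m := by
  classical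
  obtain ⟨F, _, _, ho, ⟨e⟩⟩ := h.iso
  have := h.normal
  exact DL.exists_MG ho e h.cent h.dih h.ns

theorem simple : IsSimpleGroup L := let ⟨_, _, _, _, m⟩ := h.mg; m.simple
theorem od : Od (⊤ : Subgroup G) = ⊥ := let ⟨_, _, _, _, m⟩ := h.mg; m.od
theorem ly : Ly (⊤ : Subgroup G) = L := let ⟨_, _, _, _, m⟩ := h.mg; m.ly

theorem lt : ∃ q d k m e φ, LT (⊤ : Subgroup G) q d k m e φ ∧
    ∀ s : ℕ, s.Prime → s ≠ 2 → s ∣ d * m → ∀ Q ≤ L, IsPGroup s Q → IsCyclic Q :=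
  let ⟨_, q, d, m, M⟩ := h.mg
  let ⟨k, e, φ, t⟩ := M.lt
  ⟨q, d, k, m, e, φ, t, M.cyc⟩

theorem nilp (hu : Inv u) : HasNormalPComplement 2 𝐂[u] := let ⟨_, _, _, _, m⟩ := h.mg; m.nilp hu

variable {p : ℕ} [Fact p.Prime]

theorem d1 (hu : Inv u) (hp : p ≠ 2) {Y : Subgroup G} (hY : IsPGroup p Y) (hn : 𝐂[u] ≤ 𝐍(Y)) :
    Y ≤ 𝐂[u] := let ⟨_, _, _, _, m⟩ := h.mg; m.d1 hp hY hu hn

theorem d2 (hk : Kl u v) (hp : p ≠ 2) {R : Subgroup G} (hR : IsPGroup p R) (hn : Vk u v ≤ 𝐍(R)) :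
    R ≤ 𝐂[u] ∨ R ≤ 𝐂[v] ∨ R ≤ 𝐂[u * v] := let ⟨_, _, _, _, m⟩ := h.mg; m.d2 hp hR hk hn

theorem d2max (hk : Kl u v) (hp : p ≠ 2) {R : Subgroup G} (hR : IsPGroup p R)
    (hn : Vk u v ≤ 𝐍(R))
    (hmax : ∀ R' : Subgroup G, IsPGroup p R' → Vk u v ≤ 𝐍(R') → R ≤ R' → R' = R) :
    𝐍(R) ⊔ L = ⊤ := let ⟨_, _, _, _, m⟩ := h.mg; m.d2max hp hR hk hn hmax

theorem bar : Bar L :=
  ⟨fun _ _ hp _ hu _ hY hn _ hy => mem_cent1.1 (h.d1 hu hp hY hn hy),
    fun _ _ hp _ _ hk _ hR hn hmax => h.d2max hk hp hR hn hmax⟩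

end LG

end GW
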