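import Cfsg.Agent.Lib.GW.DXd
import Cfsg.Agent.Lib.GW.DA
import Cfsg.Agent.Lib.GW.DLE

/-!
# Proper subgroups of a minimal simple group with dihedral Sylow `2`-subgroups
-/

set_option autoImplicit false
set_option linter.unusedSectionVars false

namespace GW
open Cfsg GT FT Subgroup DX
open scoped Pointwise commutatorElement

universe u

theorem DX.as : AS.{u} := by
  rintro Γ _ _ L h0 _ h1 h2 h3 (⟨⟨e⟩⟩ | h4)
  · exact ⟨(at_top e h2 h3).2.2, Or.inl (at_top e h2 h3).1⟩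
  · have h : LG Γ L := ⟨h0, h4, h2, h3, h1⟩
    exact ⟨h.bar, Or.inr (h.ly.symm ▸ h.lt)⟩

variable {G : Type u} [Group G] [Finite G]

theorem Min.types (h : Min G) {X : Subgroup G} (hX : X ≠ ⊤) (hE : Ly X ≠ ⊥) :
    AT X ∨ ∃ q d k m e φ, LT X q d k m e φ := DX.types DX.as h hX hE

theorem Min.cp (h : Min G) {X : Subgroup G} (hX : X ≠ ⊤) (hE : Ly X ≠ ⊥) : Cp X :=
  (h.types hX hE).elim (fun h => h.toCp) fun ⟨_, _, _, _, _, _, h⟩ => h.toCp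

theorem Min.Op_two (h : Min G) {X : Subgroup G} (hX : X ≠ ⊤) (hE : Ly X ≠ ⊥) : Op 2 X = ⊥ :=
  (h.cp hX hE).Op_two

/-- D1 -/
theorem Min.comm_le_Op (h : Min G) {X Y : Subgroup G} (hX : X ≠ ⊤) {u : G} (hu : Inv u)
    (huX : u ∈ X) {p : ℕ} [Fact p.Prime] (hp : p ≠ 2) (hY : IsPGroup p Y) (hYX : Y ≤ X)
    (hn : X ⊓ 𝐂[u] ≤ 𝐍(Y)) : ⁅Y, zpowers u⁆ ≤ Op p X :=
  d1 (h.dc X) (hb DX.as h hX) hu huX hp hY hYX hn

/-- D2 (Puig–Glauberman for maximal `V`-invariant `p`-subgroups) -/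
theorem Min.puig (h : Min G) {X R : Subgroup G} (hX : X ≠ ⊤) {u v : G} (hk : Kl u v) (hu : u ∈ X)
    (hv : v ∈ X) {p : ℕ} [Fact p.Prime] (hp : p ≠ 2) (hc : X ⊓ 𝐂(Op p X) ≤ Op p X)
    (hR : IsPGroup p R) (hRX : R ≤ X) (hn : Vk u v ≤ 𝐍(R))
    (hmax : ∀ R' : Subgroup G, IsPGroup p R' → R' ≤ X → Vk u v ≤ 𝐍(R') → R ≤ R' → R' = R) :
    X ≤ 𝐍(Zc (Puig R)) :=
  d2 (h.dc X) (hb DX.as h hX) hk hu hv hp hc hR hRX hn hmax

end GW
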