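import Cfsg.Agent.Lib.GW.Gen
import Cfsg.Agent.Lib.GW.DX
import Cfsg.Agent.Lib.GW.ChA
import Cfsg.Agent.Lib.GW.CaseIG

/-!
# A maximal subgroup containing the centralizer of an involution and having a component
-/

set_option autoImplicit false
set_option linter.unusedSectionVars false

namespace GW

open Cfsg GT FT Subgroup
open scoped Pointwise commutatorElement

universe u

theorem a2l_num {q d m N : ℕ} {x : ℤ} (hn : (q = d + 1 ∧ 2 * m = q + 1) ∨ (d = q + 1 ∧ 2 * m + 1 = q)) (h4 : 4 ∣ d)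
    (h5 : 5 ≤ q) (hN : Odd N) (h1 : 2 + q * d ≤ 2 * N) (h8 : 8 ∣ x - 1) (hx : x ≠ 1)
    (e : 2 * N * q * m * (x - 1) ^ 2 = x * (x + 1) * d ^ 2 * (m + 1) ^ 2) : False := by
  have h1' : (2 + q * d : ℤ) ≤ 2 * N := by exact_mod_cast h1
  have hp : 0 < (x - 1) ^ 2 := by positivity
  have b1 : 32 * (x * (x + 1)) ≤ 45 * (x - 1) ^ 2 := by
    rcases (show 9 ≤ x ∨ x ≤ -7 by omega) with h | h <;> nlinarith
  have b2 : 64 * ((2 + q * d) * q * m : ℤ) ≤ 90 * (d ^ 2 * (m + 1) ^ 2) := by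
    refine le_of_mul_le_mul_right ?_ hp
    calc _ ≤ 64 * (2 * N * q * m * (x - 1) ^ 2 : ℤ) := by
          have : (0 : ℤ) ≤ q * m * (x - 1) ^ 2 := by positivity
          nlinarith
      _ = 2 * (32 * (x * (x + 1))) * (d ^ 2 * (m + 1) ^ 2) := by rw [e]; ring
      _ ≤ 2 * (45 * (x - 1) ^ 2) * (d ^ 2 * (m + 1) ^ 2) := by gcongr
      _ = _ := by ring
  obtain ⟨c, rfl⟩ := h4
  obtain ⟨n, rfl⟩ := hN
  rcases hn with ⟨rfl, h⟩ | ⟨h', h⟩
  · obtain rfl : m = 2 * c + 1 := by omega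
    push_cast at b2 e h1'
    obtain rfl | hc : c = 1 ∨ 2 ≤ c := by omega
    · rcases (show x = 9 ∨ 17 ≤ x ∨ x ≤ -7 by omega) with rfl | h | h
      · omega
      all_goals push_cast at e h1'; nlinarith
    · obtain ⟨c, rfl⟩ := Nat.exists_eq_add_of_le hc
      push_cast at b2
      have : (0 : ℤ) ≤ c := by positivity
      nlinarith [pow_nonneg this 2, pow_nonneg this 3, pow_nonneg this 4]
  · obtain ⟨c, rfl⟩ : ∃ c', c = c' + 2 := ⟨c - 2, by omega⟩
    obtain rfl : q = 4 * c + 7 := by omega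
    obtain rfl : m = 2 * c + 3 := by omega
    push_cast at b2 e h1'
    obtain rfl | hc : c = 0 ∨ 1 ≤ c := by omega
    · rcases (show x = 9 ∨ x = 17 ∨ 25 ≤ x ∨ x ≤ -7 by omega) with rfl | rfl | h | h
      · omega
      · omega
      all_goals push_cast at e h1'; nlinarith
    · obtain ⟨c, rfl⟩ := Nat.exists_eq_add_of_le hc
      push_cast at b2
      have : (0 : ℤ) ≤ c := by positivity
      nlinarith [pow_nonneg this 2, pow_nonneg this 3, pow_nonneg this 4]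

section
variable {G : Type*} [Group G] [Finite G]

theorem Sd.formula (h : Sd G) {S : Subgroup G} {σ τ t : G} {k : ℕ} (D : DihSyl S σ τ t k) (hk : 1 ≤ k) :
    ∃ x : ℤ, 8 ∣ x - 1 ∧ x ≠ 1 ∧ 8 * Nat.card G * (x - 1) ^ 2 * (Nat.card (Wt t τ) * Nat.card (Wt t (σ * τ))) ^ 2 =
      x * (x + 1) * Nat.card 𝐂[t] ^ 3 * (Nat.card (Wt t τ) + Nat.card (Wt t (σ * τ))) ^ 2 := by
  classical
  have hτ := h.isConj D.inv_J D.kl_τ.r
  have hστ := h.isConj D.inv_J D.kl_στ.r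
  obtain ⟨M, hM⟩ := BT.exists_isPModular Nat.prime_two
  obtain ⟨χ, _, _, _, δ, _, _, hδ, -, -, -, h1, -, -, -, -, -, -, hB, hv, -⟩ :=
    D.exists_struct hM hk (Complex.isPrimitiveRoot_exp (2 ^ (k + 1)) (by positivity))
  have h2 : ∀ u ∈ zpowers σ, u ≠ 1 → χ.1 u = δ := fun u hu hu1 => by
    obtain ⟨l, hl, rfl⟩ := Finset.mem_image.1 (mem_zpowers_iff_mem_range_orderOf.1 hu)
    exact (hv l (Nat.pos_of_ne_zero fun h => hu1 (by rw [h, pow_zero])) (D.ord ▸ Finset.mem_range.1 hl)).1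
  obtain ⟨h3, -⟩ := D.order_formula hM hk hτ hστ ((hB χ).2 (by simp)) h1 hδ h2
  obtain ⟨h5, h6⟩ := h.signed h1 (P := S) hδ fun x hx hx1 => by
    by_cases h : x ∈ zpowers σ
    · exact h2 x h hx1
    · rw [← (CT.irr_isCharacter χ).isClassFunction.of_isConj (isConj_of_not_mem D hτ hστ hx h)]
      exact h2 t D.J_mem D.J_ne_one
  refine ⟨_, dvd_trans (by rw [D.card_P]; exact_mod_cast pow_dvd_pow 2 (show 3 ≤ k + 2 by omega)) h5, h6, ?_⟩
  rw [h.card_pair D.kl_τ, h.card_pair D.kl_στ] at h3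
  have p1 : (0 : ℚ) < Nat.card (Wt t τ) := Nat.cast_pos.2 Nat.card_pos
  have p2 : (0 : ℚ) < Nat.card (Wt t (σ * τ)) := Nat.cast_pos.2 Nat.card_pos
  rw [← Int.cast_inj (α := ℚ)]
  push_cast at h3 ⊢
  field_simp at h3
  rcases hδ with rfl | rfl <;> push_cast at h3 ⊢ <;> linear_combination h3 / 2

namespace LT
variable {H : Subgroup G} {q d k m e φ : ℕ} (L : LT H q d k m e φ)
include L

theorem four_dvd : 4 ∣ d := by
  obtain ⟨a, ha, rfl⟩ := L.dk
  exact (pow_dvd_pow 2 ha).mul_right _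

theorem odd_q : Odd q := by
  have := L.four_dvd; have := L.num; rw [Nat.odd_iff]; omega

theorem odd_m : Odd m := by
  have := L.four_dvd; have := L.num; rw [Nat.odd_iff]; omega

theorem three_le : 3 ≤ m := by
  have := L.four_dvd; have := L.num; have := L.five; omega

theorem cop_mk : m.Coprime k := by
  obtain ⟨a, -, e⟩ := L.dk
  refine Nat.coprime_of_dvd fun p hp h1 h2 => ?_
  have h3 : p ∣ d := e ▸ h2.mul_left _
  have h4 : p ∣ 2 := by
    rcases L.num with ⟨h, h'⟩ | ⟨h, h'⟩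
    · exact (Nat.dvd_add_right h3).1 (by rw [show d + 2 = 2 * m by omega]; exact h1.mul_left _)
    · exact (Nat.dvd_add_right (h1.mul_left 2)).1 (by rw [show 2 * m + 2 = d by omega]; exact h3)
  rw [Nat.prime_dvd_prime_iff_eq hp Nat.prime_two] at h4
  exact not_two_dvd.2 L.odd_m (h4 ▸ h1)

theorem e_two {s : G} (hs : s ∈ H) (hi : Inv s) (hn : s ∉ Ly H) : e = 2 :=
  L.e_eq.elim (fun h => (hn (h.2 s hs hi.isPElt)).elim) (·.1)

end LT

theorem Tor.le_comm {X Y K : Subgroup G} {u v : G} (T : Tor X u K) (hv : v ∈ X) (hk : Kl u v) (hK : K ≤ Y) :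
    K ≤ ⁅Y ⊓ Ut u, zpowers v⁆ := fun x hx =>
  mem_comm_of_inv (odd_of_le_Od inf_le_right) ⟨hK hx, (T.le hx).2⟩ (T.inv v hv hk x hx)

theorem LT.ly_le {H M : Subgroup G} {q d k m φ q' d' k' m' φ' : ℕ} (L : LT H q d k m 2 φ) (L' : LT M q' d' k' m' 2 φ')
    (hE : Ly H ≤ Ly M) {t s : G} (hk : Kl t s) (hC : 𝐂[t] ≤ H) (ht : t ∈ Ly H) (hs : s ∈ M) (h1 : s ∉ Ly H)
    (h2 : s ∉ Ly M) : Ly M ≤ Ly H := by
  have hM := hE.trans (Ly_le M)
  obtain ⟨v, hv, hk'⟩ := L.ex t ht hk.l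
  obtain ⟨K, T, rfl, -⟩ := L.tor_in t ht hk.l
  obtain ⟨K', T', rfl, -⟩ := L'.tor_in t (hE ht) hk.l
  obtain rfl : K = K' := le_antisymm ((T.le_comm (Ly_le H hv) hk' (T.le.trans (inf_le_left.trans hM))).trans
    (T'.comm' v (hE hv) hk')) ((T'.le_comm (hM hv) hk' (T'.le.trans (inf_le_right.trans ((Ut_le t).trans hC)))).trans
    (T.comm' v hv hk'))
  obtain rfl : d = d' := by
    obtain ⟨a, -, e⟩ := L.dk
    obtain ⟨a', -, e'⟩ := L'.dk
    have d1 := card_dvd_of_le hE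
    have d2 := card_dvd_of_le (show M ⊓ 𝐂[t] ≤ H ⊓ 𝐂[t] from le_inf (inf_le_right.trans hC) inf_le_right)
    rw [L.card_E, L'.card_E, e, e'] at d1
    rw [L.card_in t ht hk.l, L'.card_in t (hE ht) hk.l, e, e'] at d2
    have d3 : 2 ^ a ∣ 2 ^ a' * (Nat.card (Zc (Ly M)) * q' * Nat.card K * m') :=
      (Dvd.intro (Nat.card (Zc (Ly H)) * q * Nat.card K * m) (by ring)).trans (d1.trans (dvd_of_eq (by ring)))
    have d4 : 2 ^ (a' + 1) ∣ 2 ^ (a + 1) * (Nat.card (Od H) * φ * Nat.card K) :=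
      (Dvd.intro (Nat.card (Od M) * φ' * Nat.card K) (by ring)).trans (d2.trans (dvd_of_eq (by ring)))
    have d5 := (Nat.pow_dvd_pow_iff_le_right one_lt_two).1 ((Nat.Coprime.pow_left _ (Nat.coprime_two_left.2
      ((((odd_of_le_Od L'.toCp.Zc_le).mul L'.odd_q).mul L.odd_k).mul L'.odd_m))).dvd_of_dvd_mul_right d3)
    have d6 := (Nat.pow_dvd_pow_iff_le_right one_lt_two).1 ((Nat.Coprime.pow_left _ (Nat.coprime_two_left.2
      (((odd_Od' H).mul L.odd_φ).mul L.odd_k))).dvd_of_dvd_mul_right d4)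
    rw [e, e', show a = a' by omega]
  obtain ⟨K1, T1, rfl, -⟩ := L.tor_out s (hC hk.mem_cent) hk.r h1
  obtain ⟨K2, T2, rfl, -⟩ := L'.tor_out s hs hk.r h2
  have d1 := card_dvd_of_le ((T1.le_comm (Ly_le H ht) hk.symm (T1.le.trans (inf_le_left.trans hM))).trans
    (T2.comm' t (hE ht) hk.symm))
  have e : q = q' ∧ Nat.card K1 = Nat.card K2 := by
    have n1 := L.num
    have n2 := L'.num
    have n3 := L.three_le
    have n4 := Nat.le_of_dvd Nat.card_pos d1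
    by_contra hne
    have n5 := Nat.le_of_dvd two_pos ((Nat.dvd_add_right dvd_rfl).1
      (show Nat.card K1 ∣ Nat.card K1 + 2 by rwa [show Nat.card K1 + 2 = Nat.card K2 by omega]))
    omega
  have e2 : {v | v ∈ Ly H ∧ Inv v} = {v | v ∈ Ly M ∧ Inv v} :=
    Set.eq_of_subset_of_ncard_le (fun v hv => ⟨hE hv.1, hv.2⟩) (by rw [L.card_inv, L'.card_inv, e.1, e.2])
  have h3 : closure {v | v ∈ Ly M ∧ Inv v} ≤ Ly H := (closure_le _).2 fun v hv => (e2 ▸ hv : v ∈ {v | v ∈ Ly H ∧ Inv v}).1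
  rcases L'.qs _ (h3.trans hE) (fun g hg => mem_normalizer_of_conj_mem fun x hx => by
    refine closure_induction (fun v hv => subset_closure ⟨mul_mem (mul_mem hg hv.1) (inv_mem hg), hv.2.conj g⟩)
      (by simp) (fun x y _ _ hx hy => conj_mul (b := g) ▸ mul_mem hx hy) (fun x _ hx => conj_inv (b := g) ▸ inv_mem hx)
      hx) with h4 | h4
  · exact (hk.l.ne (DX.eq_one_of_two hk.l.isPElt (L'.toCp.Zc_le (h4 (subset_closure ⟨hE ht, hk.l⟩))))).elim
  · exact h4 ▸ h3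

end

variable {G : Type u} [Group G] [Finite G]

theorem AT.mem {X : Subgroup G} (A : AT X) {s : G} (hs : s ∈ X) (hi : Inv s) : s ∈ Ly X :=
  mem_Ly_of_two hi.isPElt (A.eq.ge hs)

theorem Min.norm_le_of_LT (h : Min G) {H K : Subgroup G} {q d k m φ : ℕ} (L : LT H q d k m 2 φ) (hH : IsCoatom H)
    {t s : G} (hk : Kl t s) (hC : 𝐂[t] ≤ H) (ht : t ∈ Ly H) (h1 : s ∉ Ly H) (h0 : K ≠ ⊥) (hK : K ≤ Od H)
    (hi : InvBy s K) : 𝐍(K) ≤ H := by
  have ho := odd_of_le_Od hK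
  have hM := h.norm_ne_top h0 (have := solv_Od H; isSolvable_of_le hK)
  have hEM : Ly H ≤ 𝐍(K) := (Ly_le_cent H).trans ((centralizer_anti hK).trans (cent_le_norm K))
  obtain ⟨v, hv, hk'⟩ := L.ex t ht hk.l
  have hc : ∀ u ∈ Ly H, Inv u → Od 𝐍(K) ⊓ Ut u ≤ H := fun u hu hi => by
    obtain ⟨g, hg, rfl⟩ := L.conj t ht u hu hk.l hi
    rw [← conj_Ut]
    exact inf_le_right.trans (conj_le_of_mem ((Ut_le t).trans hC) (Ly_le H hg))
  have hO : Od 𝐍(K) ≤ H := h.le_of_kl hk' (odd_Od' _) (le_norm_Od _ (hEM ht)) (le_norm_Od _ (hEM hv)) (hc t ht hk.l)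
    (hc v hv hk'.r) (hc _ (mul_mem ht hv) hk'.inv_mul)
  have hE : Ly H ≤ Ly 𝐍(K) := le_Ly hEM (le_cent_comm.1 ((L.toCp.le_Od hO (hEM.trans (le_norm_Od _))
    (solv_Od _)).trans (Od_le_cent_Ly H))) (Ly_perfect H)
  have hs : s ∉ Ly 𝐍(K) := fun e => h0 ((inf_eq_left.2 (le_cent1_iff.2 (centralizer_anti
    (le_Op' le_normalizer le_rfl (not_two_dvd.2 ho)) (Ly_le_cent _ e)))).symm.trans (hi.inf_eq_bot ho))
  rcases h.types hM (FT.ne_bot_of_le_ne_bot L.ne hE) with A | ⟨q', d', k', m', e', φ', L'⟩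
  · exact (hs (A.mem hi.mem_norm hk.r)).elim
  obtain rfl := L'.e_two hi.mem_norm hk.r hs
  refine (le_norm_Ly _).trans ?_
  rw [le_antisymm (L.ly_le L' hE hk hC ht hi.mem_norm h1 hs) hE]
  exact ((hH.le_iff.1 (le_norm_Ly H)).resolve_left (h.norm_ne_top' L.ne (ne_top_of_le_ne_top hH.1 (Ly_le H)))).le

theorem stepA2L (h : Min G) {t : G} (ht : Inv t) {H : Subgroup G} (hH : IsCoatom H) (hC : 𝐂[t] ≤ H)
    (hE : Ly H ≠ ⊥) : Ut t = ⊥ := by
  have c := h.cp hH.1 hE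
  have htH : t ∈ H := hC (mem_cent1.2 rfl)
  have hsyl : ∀ {u v}, Kl u v → u ∈ H → v ∈ H → IsSylowIn 2 (Vk u v) ⊤ → Vk u v ≤ Ly H := fun hk hu hv e =>
    c.mem_of_sylow (e.of_le (hk.Vk_le.2 ⟨hu, hv⟩) le_top) hk.card
  have htE : t ∈ Ly H := by
    obtain ⟨s, hk⟩ := h.exists_kl ht
    rcases h.swap' hk with e | ⟨y, hy, e⟩
    · exact hsyl hk htH (hC hk.mem_cent) e hk.left_mem
    · exact c.mem_of_swap hk htH (hC hk.mem_cent) (hC hy.mem_cent) e
  by_cases hall : ∀ s, Kl t s → s ∈ Ly H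
  · exact (stepA1 h.toSd ht hH.1 hC fun s hk =>
      (c.conj t htE s (hall s hk) ht hk.r).imp fun g hg => ⟨Ly_le H hg.1, hg.2⟩).1
  push Not at hall
  obtain ⟨s, hk, hs⟩ := hall
  have hsH := hC hk.mem_cent
  obtain ⟨q, d, k, m, e, φ, L⟩ := (h.types hH.1 hE).resolve_left fun A => hs (A.mem hsH hk.r)
  obtain rfl := L.e_two hsH hk.r hs
  have hk2 : Kl (t * s) t := hk.mulR.symm
  obtain ⟨y, hy, e1⟩ := (h.swap' hk2).resolve_left fun e => hs ((mul_mem_cancel_left htE).1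
    (hsyl hk2 (mul_mem htH hsH) htH e hk2.left_mem))
  rw [hk.comm, hk.l.mul_mul'] at e1
  have e2 : y * s * y⁻¹ = t := by rw [← e1, hy.r.conj_conj]
  have yy : ∀ X : Subgroup G, MulAut.conj y • MulAut.conj y • X = X := fun X => by
    rw [conj_smul_conj_smul, hy.r.sq, conj_one_smul]
  obtain ⟨K, T, hK, -⟩ := L.tor_in t htE ht
  obtain ⟨K1, T1, hK1, hm⟩ := L.tor_out s hsH hk.r hs
  have i2 : InvBy s (MulAut.conj y • K1) := e1 ▸ (T1.inv t htH hk.symm).conj y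
  have u2 : MulAut.conj y • K1 ≤ Ut t := by
    rw [← e2, ← conj_Ut]; exact conj_smul_mono y (T1.le.trans inf_le_right)
  have c2 : Nat.card ↥(MulAut.conj y • K1) = m := by rw [card_conj_smul, hK1]
  have j2 : MulAut.conj y • K1 ≤ Od H := by
    have hKH : K ≤ H := T.le.trans (inf_le_left.trans (Ly_le H))
    refine le_of_coprime_card_relIndex (K := K ⊔ Od H) (fun x hx => sup_comm (Od H) K ▸ T.comm s hsH hk
      (mem_comm_of_inv (odd_of_le_Od inf_le_right) ⟨hC (Ut_le t (u2 hx)), u2 hx⟩ (i2 x hx)))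
      ((sup_le hKH (Od_le H)).trans (le_norm_Od H)) ?_
    rw [relIndex_sup_of_le_normalizer (hKH.trans (le_norm_Od H)), c2]
    exact L.cop_mk.coprime_dvd_right (hK ▸ relIndex_dvd_card _ _)
  have hN := h.norm_le_of_LT L hH hk hC htE hs (fun e => by
    have := L.three_le; rw [e, card_bot] at c2; omega) j2 i2
  have jU : Od H ≤ Ut t := h.le_Ut ht (le_cent1_iff.2 (Ly_le_cent H htE)) (odd_Od' H)
  have js : MulAut.conj y • Od H ≤ H ⊓ Ut s := le_inf ((conj_le_cent_conj ((Od_le_cent_Ly H).trans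
    (centralizer_anti (T1.le.trans inf_le_left))) y).trans ((cent_le_norm _).trans hN))
    (by rw [← e1, ← conj_Ut]; exact conj_smul_mono y jU)
  have eK : ⁅Od H, zpowers s⁆ = MulAut.conj y • K1 := by
    refine le_antisymm ?_ fun x hx => mem_comm_of_inv (odd_Od' H) (j2 hx) (i2 x hx)
    have := conj_smul_mono y ((commutator_mono js le_rfl).trans (T1.comm' t htE hk.symm))
    rwa [conj_smul_commutator, yy, conj_smul_zpowers, e1] at this
  have sdp : ∀ {X : Subgroup G} {u : G}, Inv u → Odd (Nat.card X) → u ∈ 𝐍(X) → InvBy u ⁅X, zpowers u⁆ →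
      Nat.card X = Nat.card ↥⁅X, zpowers u⁆ * Nat.card ↥(X ⊓ 𝐂[u]) := fun {X u} hu ho hn hi => by
    have H := hu.copAct ho hn
    have e := H.commutator_sup_inf_centralizer
    rw [centralizer_zpowers] at e
    have := (sdp_sup (K := ⁅X, zpowers u⁆) (H := X ⊓ 𝐂[u]) (le_normalizer_commutator (inf_le_left.trans le_normalizer)
      (inf_le_right.trans ((centralizer_zpowers u).ge.trans (cent_le_norm _)))) (disjoint_iff.2 (eq_bot_iff.2
      ((inf_le_inf_left _ inf_le_right).trans (hi.inf_eq_bot (ho.of_dvd_nat (card_dvd_of_le H.commutator_le))).le)))).card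
    rw [this, e]
  have cJ := sdp hk.r (odd_Od' H) (le_norm_Od H hsH) (eK ▸ i2)
  rw [eK, c2] at cJ
  have cS : Nat.card ↥(H ⊓ 𝐂[s]) = 4 * (Nat.card (Od H) * φ) := by rw [L.card_out s hsH hk.r hs, cJ]; ring
  have oj : Odd (Nat.card (Od H) * φ) := (odd_Od' H).mul L.odd_φ
  have cU : Nat.card ↥(H ⊓ Ut s) = Nat.card (Od H) * φ := by
    obtain ⟨S, σ, n, D⟩ := h.exists_dih' hk.symm
    have d1 : (Ut s).relIndex (H ⊓ 𝐂[s]) ∣ 2 ^ (n + 2) := by
      rw [← D.card_P, ← D.sdp.relIndex_left, inf_comm]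
      exact relIndex_inf_dvd_of_le_normalizer (Ut_le s) (norm_Ut s |>.trans le_rfl)
    obtain ⟨i, -, hi⟩ := (Nat.dvd_prime_pow Nat.prime_two).1 d1
    have e := card_inf_mul_relIndex (Ut s) (H ⊓ 𝐂[s])
    rw [hi, cS, ← inf_assoc, inf_right_comm, inf_eq_left.2 (Ut_le s), inf_comm] at e
    have o1 : Odd (Nat.card ↥(H ⊓ Ut s)) := odd_of_le_Od inf_le_right
    exact Nat.dvd_antisymm ((Nat.Coprime.pow_right 2 o1.coprime_two_right).dvd_of_dvd_mul_left (Dvd.intro _ e))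
      ((Nat.Coprime.pow_right i oj.coprime_two_right).dvd_of_dvd_mul_right (Dvd.intro_left _ e.symm))
  have cW : Nat.card (Od H) * φ = m * Nat.card (Wt t s) := by
    have eK1 : ⁅H ⊓ Ut s, zpowers t⁆ = K1 := le_antisymm (T1.comm' t htE hk.symm)
      (T1.le_comm htH hk.symm (T1.le.trans (inf_le_left.trans (Ly_le H))))
    have := sdp ht (odd_of_le_Od (inf_le_right : H ⊓ Ut s ≤ _)) (le_normalizer_inf (zpowers_le.2 (le_normalizer htH))
      (zpowers_le.2 (norm_Ut s hk.mem_cent')) (mem_zpowers t)) (eK1 ▸ T1.inv t htH hk.symm)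
    rw [cU, eK1, hK1, inf_assoc, inf_eq_right.2 (inf_le_right.trans hC)] at this
    rwa [h.Wt_comm hk]
  obtain ⟨S, σ, n, D⟩ := h.exists_dih' hk
  have hS := D.le_C.trans hC
  have hσ : σ * s ∈ Ly H := by
    by_contra e
    have h1 := mem_Ly_of_two (D.isPElt D.σ_mem) (by
      simpa only [hk.r.mul_mul'] using c.two _ (hS (mul_mem D.σ_mem D.τ_mem)) s hsH D.kl_στ.r.isPElt hk.r.isPElt e hs)
    obtain ⟨v, hv, hk'⟩ := c.ex t htE ht
    obtain ⟨g, hg, hv'⟩ := D.isSylowIn_C.exists_conj_mem hk'.r.isPElt hk'.mem_cent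
    have hk3 := hk'.conj g
    rw [mem_cent1.1 hg, mul_inv_cancel_right] at hk3
    obtain ⟨x, hx, e3⟩ := D.exists_eq_mul hv' (D.not_mem_of_kl hk3)
    exact hs ((mul_mem_cancel_left (zpowers_le.2 h1 hx)).1 (e3 ▸ conj_mem_of_mem_normalizer (le_norm_Ly H (hC hg)) hv))
  have hn : 1 ≤ n := Nat.pos_of_ne_zero fun e => by
    subst e
    exact hs (hsyl hk htH hsH (D.eq_Vk_of_zero.2 ▸ D.syl) hk.right_mem)
  obtain ⟨x, h8, hx, e⟩ := h.formula D hn
  have cW1 := L.card_W t htE _ hσ D.kl_στ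
  have cC := L.card_in t htE ht
  rw [inf_eq_right.2 (inf_le_left.trans ((Ut_le t).trans hC))] at cW1
  rw [inf_eq_right.2 hC] at cC
  have hNH : 𝐍(H) = H := (hH.le_iff.1 le_normalizer).resolve_left (h.norm_ne_top' (FT.ne_bot_of_le_ne_bot hE (Ly_le H)) hH.1)
  have r1 : (MulAut.conj y • H).relIndex H + 1 ≤ H.index := by
    have hne : H ∉ Cj H (MulAut.conj y • H) := fun ⟨g, hg, e⟩ => by
      rw [conj_smul_conj_smul, conj_smul_eq_iff_mem_normalizer, hNH, mul_mem_cancel_left hg] at e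
      exact hs (e1 ▸ conj_mem_of_mem_normalizer (le_norm_Ly H e) htE)
    have hsub : insert H (Cj H (MulAut.conj y • H)) ⊆ Cj ⊤ H := by
      rintro _ (rfl | ⟨g, -, rfl⟩)
      exacts [⟨1, trivial, conj_one_smul _⟩, ⟨g * y, trivial, (conj_smul_conj_smul _ _ _).symm⟩]
    have := Set.ncard_le_ncard hsub
    rwa [Set.ncard_insert_of_notMem hne, ncard_Cj, ncard_Cj, ← conj_smul_normalizer, hNH, relIndex_top_right] at this
  have r2 : Nat.card ↥(MulAut.conj y • H ⊓ H) ≤ 4 * (Nat.card (Od H) * φ) * m := by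
    rw [← card_inf_mul_relIndex 𝐂[t], ← ncard_conj]
    refine Nat.mul_le_mul ?_ (le_trans (Set.ncard_le_ncard ?_) hm)
    · rw [← cS, ← card_conj_smul y (H ⊓ 𝐂[s]), conj_smul_inf, conj_cent1, e2]
      exact card_le_of_le (le_inf (inf_le_right.trans inf_le_left) inf_le_left)
    rintro _ ⟨g, hg, rfl⟩
    refine ⟨⟨conj_mem_of_mem_normalizer (le_norm_Ly H hg.2) htE, ?_⟩, ht.conj g⟩
    obtain ⟨g', hg', rfl⟩ := mem_conj_smul'.1 hg.1
    have h1 := c.two s hsH _ (mul_mem (mul_mem hg' hsH) (inv_mem hg')) hk.r.isPElt (hk.r.conj g').isPElt hs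
      fun e => hs (by simpa [mul_assoc] using inv_conj_mem_of_mem_normalizer (le_norm_Ly H hg') e)
    have h2 : Od H ⊔ Ly H ≤ 𝐍(MulAut.conj y • K1) := sup_le (eK ▸ normalizer_commutator_ge_left _ _)
      ((Ly_le_cent H).trans ((centralizer_anti j2).trans (cent_le_norm _)))
    have h3 := (conj_mem_conj_smul (g := y)).2 ((mul_mem_cancel_left i2.mem_norm).1 (h2 h1))
    rw [conj_smul_normalizer, yy] at h3
    rwa [show y * (g' * s * g'⁻¹) * y⁻¹ = y * g' * y⁻¹ * t * (y * g' * y⁻¹)⁻¹ by rw [← e2]; group] at h3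
  have r3 := card_inf_mul_relIndex (MulAut.conj y • H) H
  have pj : 0 < Nat.card (Od H) * φ := oj.pos
  have pm : 0 < m := by have := L.three_le; omega
  refine (a2l_num L.num L.four_dvd L.five (N := H.index) (not_two_dvd.1 (by
    rw [← relIndex_top_right]; exact D.syl.not_dvd_relIndex_of_le hS)) ?_ h8 hx ?_).elim
  · have : q * d ≤ 2 * (MulAut.conj y • H).relIndex H := by
      refine Nat.le_of_mul_le_mul_left ?_ (Nat.mul_pos (Nat.mul_pos pj pm) two_pos)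
      have := Nat.mul_le_mul_right ((MulAut.conj y • H).relIndex H) r2
      rw [r3, L.card_X] at this
      nlinarith
    omega
  · rw [← H.card_mul_index, L.card_X, cW1, cC, cW] at e
    have pw : (0 : ℤ) < Nat.card (Wt t s) := by exact_mod_cast Nat.card_pos
    have pd : (0 : ℤ) < d := by have := L.num; have := L.five; omega
    push_cast at e
    refine mul_left_cancel₀ (show (8 * d * m ^ 3 * Nat.card (Wt t s) ^ 5 : ℤ) ≠ 0 by positivity) ?_
    linear_combination e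

end GW
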