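import Cfsg.Agent.Lib.GW.A7a
import Cfsg.Agent.Lib.Gag.W1
import Cfsg.Agent.Lib.Grp.Ess

/-!
# Recognition of `A₇`
-/

set_option autoImplicit false
set_option linter.unusedSectionVars false

namespace GW

open Cfsg GT CT BT FT GAG Subgroup
open scoped Pointwise

variable {G : Type*} [Group G] [Finite G]

theorem alt_of_index [IsSimpleGroup G] (hns : ¬ Group.IsSolvable G) {L : Subgroup G} (hL : L ≠ ⊤)
    {m : ℕ} (hm : L.index = m) : 2 * Nat.card G ∣ m.factorial ∧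
      (2 * Nat.card G = m.factorial → Nonempty (G ≃* alternatingGroup (Fin m))) := by
  classical
  have e : G ⧸ L ≃ Fin m := Finite.equivFinOfCardEq hm
  have : Nontrivial (Fin m) := Fin.nontrivial_iff_two_le.2 (hm ▸ one_lt_index_of_ne_top hL)
  let φ := e.permCongrHom.toMonoidHom.comp (MulAction.toPermHom G (G ⧸ L))
  have h1 : Function.Injective φ := e.permCongrHom.injective.comp ((MonoidHom.ker_eq_bot_iff _).1 (by
    rw [← normalCore_eq_ker]
    exact (Normal.eq_bot_or_eq_top inferInstance).resolve_right fun h =>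
      hL (top_le_iff.1 (h.ge.trans L.normalCore_le))))
  have h2 : φ.range ≤ alternatingGroup (Fin m) := by
    rintro _ ⟨a, rfl⟩
    exact Abelianization.commutator_subset_ker (Equiv.Perm.sign.comp φ)
      ((commutator_eq_top_of_simple hns).ge (mem_top a))
  have h3 := two_mul_nat_card_alternatingGroup (α := Fin m)
  rw [Nat.card_perm, Nat.card_eq_fintype_card (α := Fin m), Fintype.card_fin] at h3
  have h4 := Nat.card_congr (MonoidHom.ofInjective h1).toEquiv
  rw [h4, ← h3]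
  exact ⟨mul_dvd_mul_left 2 (card_dvd_of_le h2), fun h => ⟨(MonoidHom.ofInjective h1).trans
    (MulEquiv.subgroupCongr (eq_of_le_of_card_ge h2 (by omega)))⟩⟩

theorem card_mulAut_of_card_prime {X : Subgroup G} {p : ℕ} [hp : Fact p.Prime]
    (h : Nat.card X = p) : Nat.card (MulAut X) = p - 1 := by
  haveI := isCyclic_of_prime_card h
  rw [IsCyclic.card_mulAut, h, Nat.totient_prime hp.out]

theorem mul_mem_cent_of_three {X : Subgroup G} (h3 : Nat.card X = 3) {a b : G} (ha : a ∈ 𝐍(X))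
    (hb : b ∈ 𝐍(X)) (ha' : a ∉ 𝐂(X)) (hb' : b ∉ 𝐂(X)) : a * b ∈ 𝐂(X) := by
  have key : ∀ g : 𝐍(X), X.normalizerMonoidHom g = 1 ↔ (g : G) ∈ 𝐂(X) := fun g => by
    rw [← MonoidHom.mem_ker, normalizerMonoidHom_ker, mem_subgroupOf]
  have h2 : Nat.card (MulAut X) = 2 := card_mulAut_of_card_prime h3
  obtain ⟨y, -, hy⟩ := (Nat.card_eq_two_iff' (1 : MulAut X)).1 h2
  refine (key (⟨a, ha⟩ * ⟨b, hb⟩)).1 ?_
  rw [map_mul, hy _ (mt (key ⟨a, ha⟩).1 ha'), hy _ (mt (key ⟨b, hb⟩).1 hb'), ← sq, ← h2,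
    pow_card_eq_one']

section
variable {P : Subgroup G} {σ τ J : G} (D : DihSyl P σ τ J 1)
include D

theorem σ_ne_inv : σ ≠ σ⁻¹ := fun h => by
  have : orderOf σ ∣ 2 := orderOf_dvd_of_pow_eq_one (by rw [sq]; exact eq_inv_iff_mul_eq_one.1 h)
  rw [D.ord] at this
  norm_num at this

theorem eq_J_of_cent {c : G} (hc : c ∈ P) (h : c ∈ 𝐂(P)) (h1 : c ≠ 1) : c = J := by
  have h2 : c ∈ zpowers σ := by
    by_contra h2
    refine σ_ne_inv D ?_
    rw [← D.conj_of_not_mem hc h2 (mem_zpowers σ), ← h σ D.σ_mem, mul_inv_cancel_right]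
  refine D.eq_J_of_sq h2 h1 (eq_inv_iff_mul_eq_one.1 ?_)
  rw [← D.τ_conj h2, h τ D.τ_mem, mul_inv_cancel_right]

theorem card_pair (h24 : Nat.card 𝐂[J] = 24) {X : Subgroup G} (hX : IsSylowIn 3 X 𝐂[J])
    (hn : 𝐂[J] ≤ 𝐍(X)) (h3 : Nat.card X = 3) {u : G} (hu : u ∈ P) (hu' : u ∉ zpowers σ) :
    (u ∈ 𝐂(X) → Nat.card (centralizer ({J, u} : Set G)) = 12) ∧
      (u ∉ 𝐂(X) → Nat.card (centralizer ({J, u} : Set G)) = 4) := by
  have hC : centralizer ({J, u} : Set G) = 𝐂[J] ⊓ 𝐂[u] := by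
    ext x
    simp only [mem_centralizer_iff, mem_inf, Set.mem_insert_iff, Set.mem_singleton_iff,
      forall_eq_or_imp, forall_eq]
  rw [hC]
  set C := 𝐂[J] ⊓ 𝐂[u]
  have uJ : u ≠ J := fun e => hu' (e ▸ D.J_mem)
  have u1 : u ≠ 1 := fun e => hu' (e ▸ one_mem _)
  have hJC : J ∈ C := ⟨mem_cent1.2 rfl, mem_cent1_comm.1 (D.le_C hu)⟩
  have huC : u ∈ C := ⟨D.le_C hu, mem_cent1.2 rfl⟩
  obtain ⟨T, hT, hle⟩ := exists_isSylowIn_ge (D.syl.isPGroup.to_le (inf_le_left : P ⊓ C ≤ P))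
    inf_le_right
  have hJT := hle ⟨D.le D.J_mem, hJC⟩
  have huT := hle ⟨hu, huC⟩
  have c8 : Nat.card P = 8 := D.card_P
  have d8 : Nat.card T ∣ 8 := c8 ▸ D.syl.card_dvd hT.isPGroup le_top
  have h8 : Nat.card T ≠ 8 := fun e => by
    obtain ⟨g, -, hg⟩ := (D.syl.of_card_ge hT.isPGroup le_top (by rw [c8, e])).exists_conj_eq
      D.syl
    have key : ∀ c ∈ T, c ∈ 𝐂(T) → c ≠ 1 → g * c * g⁻¹ = J := fun c hc h1 h2 =>
      eq_J_of_cent D (hg ▸ conj_mem_conj_smul.2 hc) (by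
        rw [← hg, ← conj_smul_centralizer]; exact conj_mem_conj_smul.2 h1) (mt conj_eq_one_iff.1 h2)
    exact uJ (by
      simpa using (key u huT (le_cent1_iff.1 (hT.le.trans inf_le_right)) u1).trans
        (key J hJT (le_cent1_iff.1 (hT.le.trans inf_le_left)) D.J_ne_one).symm)
  have h2 : 2 < Nat.card T := by
    classical
    have := Set.ncard_le_ncard (s := ({1, J, u} : Set G)) (t := T) (by
      rintro _ (rfl | rfl | rfl); exacts [one_mem T, hJT, huT])
    rw [Set.ncard_eq_three.2 ⟨1, J, u, D.J_ne_one.symm, u1.symm, uJ.symm, rfl⟩] at this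
    exact this
  have h4 : Nat.card T = 4 := by
    have := Nat.le_of_dvd (by norm_num) d8
    interval_cases Nat.card T <;> omega
  have e1 := relIndex_mul_card hT.le
  have e2 := hT.not_dvd
  have e3 : Nat.card C ∣ 24 := h24 ▸ card_dvd_of_le inf_le_left
  have e4 := Nat.le_of_dvd (by norm_num) e3
  have e5 : 3 ∣ Nat.card C ↔ u ∈ 𝐂(X) := by
    refine ⟨fun h => ?_, fun h => h3 ▸ card_dvd_of_le (le_inf hX.le (le_cent1_iff.2 h))⟩
    obtain ⟨Y, hY⟩ := exists_isSylowIn 3 C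
    have h5 := hX.le_of_le_normalizer hY.isPGroup (hY.le.trans inf_le_left) ((hY.le.trans inf_le_left).trans hn)
    rw [← eq_of_le_of_card_ge h5 (by
      rw [h3]; exact Nat.le_of_dvd Nat.card_pos ((hY.isPGroup.card_eq_or_dvd).resolve_left
        fun e => hY.ne_bot h (card_eq_one.1 e)))]
    exact le_cent1_iff.1 (hY.le.trans inf_le_right)
  rw [← e5]
  rw [h4] at e1
  generalize Nat.card C = n at *
  interval_cases n <;> omega

theorem inv_add_inv (h24 : Nat.card 𝐂[J] = 24) (h4 : Nat.card 𝐂[σ] = 4) :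
    1 / (Nat.card (centralizer ({J, τ} : Set G)) : ℚ) +
      1 / (Nat.card (centralizer ({J, σ * τ} : Set G)) : ℚ) = 1 / 3 := by
  obtain ⟨X, h1, hn, h2, k, hk⟩ := hasNormalPComplement_subgroup_iff.1 D.nilp
  have e := relIndex_mul_card h1
  have h3 : Nat.card X = 3 := by
    have d : Nat.card X ∣ 24 := h24 ▸ card_dvd_of_le h1
    have := Nat.le_of_dvd (by norm_num) d
    have h5 : ¬ 3 ∣ 2 ^ k := fun h => by
      have := Nat.prime_three.dvd_of_dvd_pow h
      omega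
    rw [← hk] at h5
    interval_cases Nat.card X <;> omega
  have hX : IsSylowIn 3 X 𝐂[J] := ⟨h1, IsPGroup.of_card (h3.trans (pow_one 3).symm), by
    rw [h3, h24] at e; omega⟩
  have hσ : σ ∉ 𝐂(X) := fun h => by
    have := card_dvd_of_le (le_cent1_iff.2 h)
    rw [h3, h4] at this
    omega
  obtain ⟨a1, a2⟩ := card_pair D h24 hX hn h3 D.τ_mem D.not_mem
  obtain ⟨b1, b2⟩ := card_pair D h24 hX hn h3 (mul_mem D.σ_mem D.τ_mem) (D.mul_τ_not_mem (mem_zpowers σ))
  by_cases h : τ ∈ 𝐂(X)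
  · rw [a1 h, b2 fun e => hσ (by simpa using mul_mem e (inv_mem h))]; norm_num
  · rw [a2 h, b1 (mul_mem_cent_of_three h3 (hn (D.le_C D.σ_mem)) (hn (D.le_C D.τ_mem)) hσ h)]
    norm_num

theorem isConj_of_invol (hτ : IsConj J τ) (hστ : IsConj J (σ * τ)) {w : G} (h1 : w ≠ 1)
    (h2 : w * w = 1) : IsConj J w := by
  obtain ⟨g, -, hg⟩ := D.syl.exists_conj_mem (isPElt_of_pow_eq_one (k := 1) (by rwa [pow_one, pow_two]))
    (mem_top w)
  refine IsConj.trans ?_ (isConj_iff.2 ⟨g, rfl⟩ : IsConj w _).symm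
  by_cases h : g * w * g⁻¹ ∈ zpowers σ
  · rw [D.eq_J_of_sq h (mt conj_eq_one_iff.1 h1) (BT.conj_mul_self_of_sq h2 g)]
  · exact isConj_J D hτ hστ hg h

end

theorem index_norm_modEq {p : ℕ} [Fact p.Prime] {P : Subgroup G} (h : IsSylowIn p P ⊤) :
    (𝐍(P)).index ≡ 1 [MOD p] :=
  (Sylow.card_eq_index_normalizer h.toSylowTop) ▸ card_sylow_modEq_one p G

theorem card_cent1_of_isConj {a b : G} (h : IsConj a b) : Nat.card 𝐂[b] = Nat.card 𝐂[a] := by
  obtain ⟨g, rfl⟩ := isConj_iff.1 h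
  rw [← conj_smul_centralizer_singleton, card_conj_smul]

variable [IsSimpleGroup G] (hns : ¬ Group.IsSolvable G)
include hns

theorem not_norm_le_cent {p : ℕ} [Fact p.Prime] {P : Subgroup G} (h : IsSylowIn p P ⊤)
    (hd : p ∣ Nat.card G) : ¬ 𝐍(P) ≤ 𝐂(P) := fun e => not_hasNormalPComplement_of_simple hns hd
  (hasNormalPComplement_of_normalizer_le_centralizer h.toSylowTop e)

theorem card_norm_three (hG : Nat.card G = 2520) {Q : Subgroup G} (hQ : IsSylowIn 3 Q ⊤)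
    (h9 : Nat.card Q = 9) : Nat.card 𝐍(Q) = 36 := by
  have key : ∀ r : ℕ, r = 5 ∨ r = 7 → ¬ r ∣ Nat.card 𝐍(Q) := fun r hr hd => by
    haveI : Fact r.Prime := ⟨by rcases hr with rfl | rfl <;> norm_num⟩
    obtain ⟨⟨y, hy⟩, ho⟩ := exists_prime_orderOf_dvd_card' r hd
    rw [orderOf_mk] at ho
    have cR : Nat.card (zpowers y) = r := by rw [Nat.card_zpowers, ho]
    have hR : IsSylowIn r (zpowers y) ⊤ := ⟨le_top, IsPGroup.of_card (cR.trans (pow_one r).symm), by
      have := relIndex_mul_card (le_top (a := zpowers y))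
      rw [cR, card_top, hG] at this
      rcases hr with rfl | rfl <;> omega⟩
    have h1 := card_conj_modEq (W := Q) (k := 1) (Fact.out : r.Prime) hy fun w _ => by
      rw [pow_one, ← ho, pow_orderOf_eq_one, mul_one, one_mul]
    have h2 : Nat.card ↥(Q ⊓ 𝐂[y]) ∣ 9 := h9 ▸ card_dvd_of_le inf_le_left
    have h3 : 9 ∣ Nat.card 𝐂(zpowers y) := by
      have := Nat.le_of_dvd (by norm_num) h2
      rw [h9, Nat.ModEq] at h1
      rw [cent_zpowers]
      refine dvd_trans ?_ (card_dvd_of_le (inf_le_right : Q ⊓ 𝐂[y] ≤ _))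
      rcases hr with rfl | rfl <;> interval_cases Nat.card ↥(Q ⊓ 𝐂[y]) <;> omega
    have h4 : r ∣ Nat.card 𝐂(zpowers y) := cR ▸ card_dvd_of_le (by
      rw [cent_zpowers]; exact zpowers_le.2 (mem_cent1.2 rfl))
    have h5 := relIndex_centralizer_dvd_card_mulAut (zpowers y)
    rw [card_mulAut_of_card_prime cR] at h5
    have h6 := mt relIndex_eq_one.1 (not_norm_le_cent hns hR
      (hd.trans (card_subgroup_dvd_card _)))
    have h7 := relIndex_mul_card (centralizer_le_normalizer (zpowers y : Set G))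
    have h8 := index_mul_card 𝐍(zpowers y)
    have h10 := index_norm_modEq hR
    have h11 : (𝐍(zpowers y)).index ≠ 1 := fun e => by
      rcases (normalizer_eq_top_iff.1 (index_eq_one.1 e)).eq_bot_or_eq_top with e | e <;>
        rw [e] at cR
      · rw [card_bot] at cR; omega
      · rw [card_top] at cR; omega
    rw [← h7, hG] at h8
    generalize (𝐍(zpowers y)).index = n at *
    generalize (𝐂(zpowers y)).relIndex 𝐍(zpowers y) = e at *
    obtain ⟨c, hc⟩ := Nat.Coprime.mul_dvd_of_dvd_of_dvd (by rcases hr with rfl | rfl <;> norm_num) h3 h4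
    rw [hc] at h8
    rw [Nat.ModEq] at h10
    rcases hr with rfl | rfl
    · have : n * (e * c) = 56 := by linarith
      have h := Nat.le_of_dvd (by norm_num) (Dvd.intro _ this)
      have := Nat.le_of_dvd (by norm_num) h5
      interval_cases n <;> interval_cases e <;> omega
    · have : n * (e * c) = 40 := by linarith
      have h := Nat.le_of_dvd (by norm_num) (Dvd.intro _ this)
      have := Nat.le_of_dvd (by norm_num) h5
      interval_cases n <;> interval_cases e <;> omega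
  have h1 := key 5 (Or.inl rfl)
  have h2 := key 7 (Or.inr rfl)
  have h3 := index_norm_modEq hQ
  have h4 := index_mul_card 𝐍(Q)
  haveI := IsPGroup.isMulCommutative_of_card_eq_prime_sq (p := 3) h9
  have h5 : Nat.card 𝐍(Q) ≠ 9 := fun e => not_norm_le_cent hns hQ (by omega)
    ((eq_of_le_of_card_ge le_normalizer (by omega)).ge.trans (le_centralizer Q))
  obtain ⟨k, hk⟩ : 9 ∣ Nat.card 𝐍(Q) := h9 ▸ card_dvd_of_le le_normalizer
  rw [hk] at h1 h2 h4 h5 ⊢
  rw [Nat.ModEq] at h3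
  have h6 : k ∣ 280 := ⟨(𝐍(Q)).index, by linarith⟩
  have H : ∀ k ≤ 280, k ∣ 280 → 5 ∣ k ∨ 7 ∣ k ∨ k = 1 ∨ k = 2 ∨ k = 4 ∨ k = 8 := by decide +kernel
  rcases H k (Nat.le_of_dvd (by norm_num) h6) h6 with h | h | rfl | rfl | rfl | rfl <;> omega

variable {P : Subgroup G} {σ τ J : G} (D : DihSyl P σ τ J 1) (hτ : IsConj J τ)
  (hστ : IsConj J (σ * τ)) (h24 : Nat.card 𝐂[J] = 24) (hG : Nat.card G = 2520)
include D hτ hστ h24 hG

theorem exists_three : ∃ Q : Subgroup G, IsSylowIn 3 Q ⊤ ∧ Nat.card Q = 9 ∧ σ ∈ 𝐍(Q) := by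
  obtain ⟨Q, hQ⟩ := exists_isSylowIn 3 (⊤ : Subgroup G)
  have h9 : Nat.card Q = 9 := by
    rw [hQ.card_eq, card_top, hG, show 2520 = 3 ^ 2 * 280 by norm_num,
      Nat.factorization_mul (by norm_num) (by norm_num), Nat.Prime.factorization_pow (by norm_num),
      Finsupp.add_apply, Nat.factorization_eq_zero_of_not_dvd (by norm_num)]
    simp
  haveI := IsPGroup.isMulCommutative_of_card_eq_prime_sq (p := 3) h9
  have hab : Q ≤ 𝐂(Q) := le_centralizer Q
  obtain ⟨K, hK, hQK, hK3⟩ := exists_compl_norm (hQ.of_le le_normalizer le_top) le_rfl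
  have act := coprimeAct_of_isPGroup_right hK hQ.isPGroup hK3
  have h4 : Nat.card K = 4 := by
    have := card_sup_of_disjoint_of_le_normalizer hK act.disjoint.symm
    rw [sup_comm, hQK, card_norm_three hns hG hQ h9, h9] at this
    omega
  haveI := IsPGroup.isMulCommutative_of_card_eq_prime_sq (p := 2) h4
  obtain ⟨f, hf, hf2⟩ : ∃ f ∈ K, f * f ≠ 1 := by
    by_contra! h
    have hnc := not_isCyclic_of_four h4 h
    have c24 : ∀ w ∈ K, w ≠ 1 → Nat.card 𝐂[w] = 24 := fun w hw h1 =>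
      (card_cent1_of_isConj (isConj_of_invol D hτ hστ h1 (h w hw))).trans h24
    obtain ⟨w, hw, w1, hY⟩ : ∃ w ∈ K, w ≠ 1 ∧ Q ⊓ 𝐂[w] ≠ ⊥ := by
      by_contra! h'
      have := card_dvd_of_le (le_of_forall_centralizer_le hK act.cop hnc fun a ha h1 => (h' a ha h1).le)
      rw [h9, card_bot] at this
      omega
    have pY := hQ.isPGroup.to_le (inf_le_left : Q ⊓ 𝐂[w] ≤ Q)
    have sY : IsSylowIn 3 (Q ⊓ 𝐂[w]) 𝐂[w] := ⟨inf_le_right, pY, by
      have h1 := relIndex_mul_card (inf_le_right : Q ⊓ 𝐂[w] ≤ 𝐂[w])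
      obtain ⟨c, hc⟩ := pY.card_eq_or_dvd.resolve_left fun e => hY (card_eq_one.1 e)
      rw [c24 w hw w1, hc] at h1
      rintro ⟨d, hd⟩
      rw [hd] at h1
      have : 9 * (d * c) = 24 := by linarith
      omega⟩
    have nY : 𝐍(Q) ≤ 𝐍(Q ⊓ 𝐂[w]) := hQK.ge.trans (sup_le
      (le_normalizer_of_le_centralizer (le_centralizer_iff.1 (inf_le_left.trans hab)))
      (le_normalizer_inf hK ((le_cent1_iff.2 (le_centralizer K hw)).trans le_normalizer)))
    have := card_dvd_of_le ((le_of_forall_centralizer_le hK act.cop hnc fun a ha h1 y hy => by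
      obtain ⟨g, rfl⟩ := isConj_iff.1 ((isConj_of_invol D hτ hστ h1 (h a ha)).symm.trans
        (isConj_of_invol D hτ hστ w1 (h w hw)))
      obtain ⟨c, -, hc⟩ := sY.exists_conj_mem (x := g * y * g⁻¹)
        ((isPElt_of_mem hQ.isPGroup hy.1).conj g) (by
          rw [← conj_smul_centralizer_singleton]; exact conj_mem_conj_smul.2 hy.2)
      rw [show c * (g * y * g⁻¹) * c⁻¹ = c * g * y * (c * g)⁻¹ by group] at hc
      obtain ⟨n, hn, e⟩ := burnside_fusion hQ hab hy.1 (mem_top _) hc.1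
      rw [← e] at hc
      have := conj_mem_of_mem_normalizer (inv_mem (nY hn.2)) hc
      rwa [show n⁻¹ * (n * y * n⁻¹) * n⁻¹⁻¹ = y by group] at this).trans
        (inf_le_right : Q ⊓ 𝐂[w] ≤ 𝐂[w]))
    rw [h9, c24 w hw w1] at this
    omega
  obtain ⟨g, -, hg⟩ := D.syl.exists_conj_mem (isPElt_of_mem
    (IsPGroup.of_card (n := 2) h4) hf) (mem_top f)
  have e : g * f * g⁻¹ * (g * f * g⁻¹) ≠ 1 := by rw [conj_mul]; exact mt conj_eq_one_iff.1 hf2
  have hn : g * f * g⁻¹ ∈ 𝐍(MulAut.conj g • Q) := by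
    rw [← conj_smul_normalizer]; exact conj_mem_conj_smul.2 (hK hf)
  refine ⟨_, by simpa using hQ.conj g, by rw [card_conj_smul, h9], ?_⟩
  rcases eq_or_of_mem_zpowers D (by_contra fun h => e (D.sq_of_not_mem hg h)) (fun h => e (by
    obtain ⟨n, hn⟩ := mem_zpowers_iff.1 h
    rw [← hn, ← (Commute.refl J).mul_zpow, D.J_sq, one_zpow])) with h | h
  · exact h ▸ hn
  · exact inv_mem_iff.1 (h ▸ hn)

theorem isConj_of_mem_norm {Q : Subgroup G} (hQ : IsSylowIn 3 Q ⊤) (h9 : Nat.card Q = 9)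
    (hσ : σ ∈ 𝐍(Q)) {x : G} (hx : x ∈ 𝐍(Q)) (hx' : x ∉ Q) : IsConj J x ∨ IsConj σ x := by
  have h36 := card_norm_three hns hG hQ h9
  have hJ : J ∈ 𝐍(Q) := zpowers_le.2 hσ D.J_mem
  haveI := IsPGroup.isMulCommutative_of_card_eq_prime_sq (p := 3) h9
  have hY : Q ⊓ 𝐂[J] = ⊥ := by
    by_contra h
    have act := coprimeAct_zpowers hJ (by rw [h9, D.ord_J]; norm_num)
    have hd := act.disjoint_commutator_centralizer
    have h1 := card_sup_of_disjoint_of_le_normalizer (H := ⁅Q, zpowers J⁆) (N := Q ⊓ 𝐂(zpowers J))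
      (le_normalizer_of_le_centralizer (act.commutator_le.trans ((le_centralizer Q).trans
        (centralizer_le inf_le_left)))) (hd.mono_right inf_le_right)
    rw [act.commutator_sup_inf_centralizer, h9, cent_zpowers] at h1
    have h2 : Nat.card ↥(Q ⊓ 𝐂[J]) ∣ 24 := h24 ▸ card_dvd_of_le inf_le_right
    have h3 : Nat.card ↥⁅Q, zpowers J⁆ = 3 := by
      have h4 := mt card_eq_one.1 h
      have := Nat.le_of_dvd (by norm_num) (Dvd.intro_left _ h1.symm)
      interval_cases Nat.card ↥(Q ⊓ 𝐂[J]) <;> omega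
    have h5 : σ ∈ 𝐍(⁅Q, zpowers J⁆) := le_normalizer_commutator (A := zpowers σ) (zpowers_le.2 hσ)
      (le_normalizer_of_le_centralizer (by rw [cent_zpowers]; exact D.le.trans D.le_C)) (mem_zpowers σ)
    have h6 : J ∈ 𝐂(⁅Q, zpowers J⁆) := by
      rw [show J = σ * σ from D.J_eq.trans (sq σ)] at h3 h5 ⊢
      by_cases h7 : σ ∈ 𝐂(⁅Q, zpowers (σ * σ)⁆)
      exacts [mul_mem h7 h7, mul_mem_cent_of_three h3 h5 h5 h7 h7]
    rw [hd.eq_bot_of_le (le_centralizer_iff.1 (zpowers_le.2 h6)), card_bot] at h3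
    omega
  have hS : IsSylowIn 2 (zpowers σ) 𝐍(Q) := ⟨zpowers_le.2 hσ, D.syl.isPGroup.to_le D.le, by
    have := relIndex_mul_card (zpowers_le.2 hσ)
    rw [D.card_S, h36] at this
    omega⟩
  have hy : pRegPart 2 x ∈ Q := hQ.mem_of_mem_normalizer (by
    have h1 := orderOf_dvd_natCard (⟨_, pRegPart_mem 2 hx⟩ : 𝐍(Q))
    rw [orderOf_mk, h36] at h1
    refine isPElt_of_pow_eq_one (k := 2) (orderOf_dvd_iff_pow_eq_one.1 ?_)
    exact Nat.Coprime.dvd_of_dvd_mul_left (k := orderOf (pRegPart 2 x)) (n := 3 ^ 2)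
      (Nat.Coprime.pow_right 2 ((Nat.prime_two.coprime_iff_not_dvd.2 (isPRegular_pRegPart 2 x)).symm))
      h1) (mem_top _) (pRegPart_mem 2 hx)
  have e := pPart_mul_pRegPart 2 x
  obtain ⟨n, hn, hu⟩ := hS.exists_conj_mem (isPElt_pPart 2 x) (pPart_mem 2 hx)
  have u1 : n * pPart 2 x * n⁻¹ ≠ 1 := fun h => hx' (by
    rw [← e, conj_eq_one_iff.1 h, one_mul]; exact hy)
  have y1 : pRegPart 2 x = 1 := conj_eq_one_iff.1 (mem_bot.1 (hY.le (mem_inf.2
    ⟨conj_mem_of_mem_normalizer hn hy, D.centralizer_le hu u1 (by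
      rw [← conj_smul_centralizer_singleton]
      exact conj_mem_conj_smul.2 (pRegPart_mem_centralizer_pPart 2 x))⟩)))
  rw [y1, mul_one] at e
  rw [e] at hu u1
  have c : IsConj (n * x * n⁻¹) x := (isConj_iff.2 ⟨n, rfl⟩ : IsConj x _).symm
  by_cases h : n * x * n⁻¹ ∈ zpowers J
  · refine Or.inl (D.eq_J_of_sq hu u1 ?_ ▸ c)
    obtain ⟨m, hm⟩ := mem_zpowers_iff.1 h
    rw [← hm, ← (Commute.refl J).mul_zpow, D.J_sq, one_zpow]
  · exact Or.inr ((isConj_σ D hu h).trans c)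

omit hG in
/-- **Recognition of `A₇`** by the centralizer of an involution. -/
theorem a7 (h4 : Nat.card 𝐂[σ] = 4) : Nonempty (G ≃* alternatingGroup (Fin 7)) := by
  classical
  obtain ⟨hG, χ, h0, ⟨j, hj, hJ⟩, hE⟩ := exists_six D hτ hστ h24 h4 (inv_add_inv D h24 h4)
  obtain ⟨Q, hQ, h9, hσ⟩ := exists_three hns D hτ hστ h24 hG
  have h36 := card_norm_three hns hG hQ h9
  have hL := hE _ hσ (by
    obtain ⟨n, hn⟩ := exists_ssum_irr χ Q
    rw [ssum_eq_add le_normalizer, hn, Finset.sum_congr rfl (g := fun x =>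
      ((if IsConj J x then j else 0 : ℕ) : ℂ)) fun x hx => by
        have c := irr_isClassFunction χ
        split_ifs with h
        · rw [← c.of_isConj h, hJ]
        · rw [← c.of_isConj ((isConj_of_mem_norm hns D hτ hστ h24 hG hQ h9 hσ
            (by simpa using (Finset.mem_sdiff.1 hx).1)
            (by simpa using (Finset.mem_sdiff.1 hx).2)).resolve_left h), h0, Nat.cast_zero]]
    norm_cast
    refine (Nat.add_pos_right _ (Finset.sum_pos' (fun _ _ => Nat.zero_le _) ⟨J, ?_, ?_⟩)).ne'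
    · have : J ∉ Q := fun h => by
        have := orderOf_dvd_natCard (⟨J, h⟩ : Q)
        rw [orderOf_mk, D.ord_J, h9] at this
        omega
      simpa [this] using zpowers_le.2 hσ D.J_mem
    · rwa [if_pos (IsConj.refl J)])
  obtain ⟨L, hL, l1, l2⟩ : ∃ L : Subgroup G, L ≠ ⊤ ∧ 𝐍(Q) ≤ L ∧ P ≤ L :=
    ⟨_, hL, le_sup_left, le_sup_right⟩
  have h1 := relIndex_mul_card l1
  have h2 : 8 ∣ Nat.card L := (D.card_P ▸ card_dvd_of_le l2 :)
  have h3 := index_mul_card L
  have h5 : (𝐍(Q)).relIndex L ≠ 2 := fun e => by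
    have h6 : L ≤ 𝐍(Q) := ((sgOf_normal_iff l1).1 (normal_of_index_eq_two e)).trans
      ((hQ.of_le le_normalizer le_top).normalizer_le_normalizer le_rfl)
    rw [relIndex_eq_one.2 h6] at e
    omega
  obtain ⟨a1, a2⟩ := alt_of_index hns hL rfl
  obtain ⟨k, hk⟩ : 2 ∣ (𝐍(Q)).relIndex L := by rw [h36] at h1; omega
  rw [← h1, h36, hG, hk] at h3
  have h6 : L.index * k = 35 := by linarith
  have h7 := Nat.le_of_dvd (by norm_num) (Dvd.intro _ h6)
  have h8 : L.index = 7 := by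
    rw [hG] at a1
    have := mt index_eq_one.1 hL
    clear a2
    generalize L.index = m at *
    interval_cases m <;> first | omega | (norm_num [Nat.factorial] at a1)
  exact (alt_of_index hns hL h8).2 (by rw [hG]; rfl)

end GW
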