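import Cfsg.Agent.Lib.GW.DXa
import Cfsg.Agent.Lib.GW.DA
import Cfsg.Agent.Lib.GW.A7b

/-!
# Step A2S of the Gorenstein–Walter theorem: the maximal subgroup is the normalizer of a four-group
-/

set_option autoImplicit false
set_option linter.unusedSectionVars false
set_option linter.style.haveILetI false

namespace GW

open Cfsg GT FT GAG Subgroup
open scoped Pointwise commutatorElement

variable {G : Type*} [Group G] [Finite G]

/-- a fusing element in the normal closure of a swap -/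
theorem fused_of_conj {t s y g : G} (hk : Kl t s) (hy : Kl t y) (e : y * s * y⁻¹ = t * s)
    (g1 : g * t * g⁻¹ = s) (g2 : g * s * g⁻¹ = t * s) :
    y * (g * y * g⁻¹) * t * (y * (g * y * g⁻¹))⁻¹ = s ∧
      y * (g * y * g⁻¹) * s * (y * (g * y * g⁻¹))⁻¹ = t * s := by
  refine fused_of_swap hk hy.mem_cent hy.r e (g1 ▸ (hy.conj g).mem_cent) ?_
  have h1 : g * (t * s) * g⁻¹ = t := by rw [← conj_mul, g1, g2, ← mul_assoc, ← hk.comm, hk.r.mul_mul']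
  have h2 : y * t * y⁻¹ = t := by rw [← hy.comm, mul_inv_cancel_right]
  calc _ = g * y * g⁻¹ * (g * (t * s) * g⁻¹) * (g * y * g⁻¹)⁻¹ := by rw [h1]
    _ = g * ((y * t * y⁻¹) * (y * s * y⁻¹)) * g⁻¹ := by group
    _ = _ := by rw [h2, e, hk.l.mul_mul, g2, hk.comm]

theorem Cp.le_cent {X N : Subgroup G} (h : Cp X) (h1 : N ≤ 𝐍(Ly X)) (hn : Ly X ≤ 𝐍(N))
    (hs : Group.IsSolvable N) : N ≤ 𝐂(Ly X) := by
  rcases h.qs _ (commutator_le_right_of_norm h1) (le_norm_commutator_right _ _) with h4 | h4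
  · have h5 : ⁅⁅N, Ly X⁆, Ly X⁆ = ⊥ := commutator_eq_bot_of_le_cent (h4.trans inf_le_right)
    have h6 := commutator_commutator_eq_bot_of_rotate (H₁ := Ly X) (H₂ := Ly X) (H₃ := N)
      (by rwa [Subgroup.commutator_comm (Ly X)]) h5
    rw [Ly_perfect] at h6
    exact le_cent_comm.1 (le_cent_of_commutator_le h6.le)
  · exact (not_solvable_Ly h.ne (isSolvable_of_le (h4 ▸ commutator_le_left_of_norm hn))).elim

theorem Cp.le_Ly_norm {X : Subgroup G} (h : Cp X) : Ly X ≤ Ly 𝐍(Ly X) :=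
  le_Ly le_normalizer (le_cent_comm.1 (h.le_cent (Od_le _) (le_normalizer.trans (le_norm_Od _))
    inferInstance)) (Ly_perfect X)

theorem Cp.Ly_norm {X : Subgroup G} (h : Cp X) (h' : Cp 𝐍(Ly X)) : Ly 𝐍(Ly X) = Ly X := by
  refine ((h'.qs _ h.le_Ly_norm (Ly_le _)).resolve_left fun e => h.ne ?_).symm
  rw [← Ly_perfect]
  exact commutator_eq_bot_of_le_cent (e.trans (inf_le_right.trans (centralizer_le h.le_Ly_norm)))

theorem Cp.eq_one {X : Subgroup G} (h : Cp X) {x : G} (hx : x ∈ Zc (Ly X)) (h2 : x * x = 1) : x = 1 :=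
  DX.eq_one_of_two (isPElt_of_sq h2) (h.Zc_le hx)

/-- a subgroup normalized by the layer and centralized by one of its involutions -/
theorem Cp.le_cent_of_inv {X N : Subgroup G} (h : Cp X) (hn : Ly X ≤ 𝐍(N)) {v : G} (hv : Inv v)
    (h1 : v ∈ Ly X) (h2 : v ∈ 𝐂(N)) : Ly X ≤ 𝐂(N) :=
  inf_eq_left.1 ((h.qs _ inf_le_left (le_norm_inf_cent le_normalizer hn)).resolve_left
    fun e => hv.ne (h.eq_one (e ⟨h1, h2⟩) hv.sq))

namespace A2S

/-- the configuration of step A2S -/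
structure Cx (t σ τ : G) (S H : Subgroup G) : Prop where
  sd : Sd G
  D : DihSyl S σ τ t 1
  max : IsCoatom H
  solv : Group.IsSolvable H
  norm : 𝐍(Vk t τ) = H
  hC : 𝐂[t] ≤ H
  cent : τ ∈ 𝐂(Ut t)
  nU : H ≤ 𝐍(Ut t)
  ne : Ut t ≠ ⊥

theorem exists_cx (h : Sd G) {t : G} (ht : Inv t) {H : Subgroup G} (hH : IsCoatom H) (hC : 𝐂[t] < H)
    (hs : Group.IsSolvable H) (h1 : t ∈ 𝐂(Od H)) (hU : Ut t ≠ ⊥) : ∃ σ τ S, Cx t σ τ S H := by
  obtain ⟨h2, h3⟩ := h.solv hs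
  have htH : t ∈ H := hC.le (mem_cent1.2 rfl)
  have hO : Od H = Ut t := le_antisymm (h.le_Ut ht (le_cent1_iff.2 h1) (odd_Od' H))
    ((le_inf ((Ut_le t).trans hC.le) le_rfl).trans (h2 t htH ht))
  obtain ⟨S, σ, τ, k, D, -⟩ := h.exists_dih ht IsPGroup.of_bot bot_le
  have hS : IsSylowIn 2 S H := D.syl.of_le (D.le_C.trans hC.le) le_top
  rcases h3 with h3 | ⟨u, hu, v, hv, hk, ⟨g, hg, g1, g2⟩, hn, hi⟩
  · exact (hC.not_ge ((sdp_Op'_of_hall (hall_Op'_iff.2 h3) hS).sup.ge.trans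
      (sup_le (hO.le.trans (Ut_le t)) D.le_C))).elim
  obtain ⟨x, hx, hle⟩ := hS.exists_conj_le hk.isPGroup (hk.Vk_le.2 ⟨hu, hv⟩)
  have hV : Vk u v ≤ 𝐂[x⁻¹ * t * x⁻¹⁻¹] := conj_cent1 x⁻¹ t ▸ conj_smul_le_iff_le_inv.1 (hle.trans D.le_C)
  have ht' := h.mem_Vk hk (ht.conj x⁻¹).isPElt (mem_cent1_comm.1 (hV hk.left_mem))
    (mem_cent1_comm.1 (hV hk.right_mem))
  have hnC : H ≤ 𝐍(𝐂(Od H)) := le_normalizer_centralizer (le_norm_Od H)
  have hc : ∀ a ∈ H, ∀ b, a * b * a⁻¹ ∈ 𝐂(Od H) ↔ b ∈ 𝐂(Od H) := fun a ha b =>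
    (mem_normalizer_iff.1 (hnC ha) b).symm
  have g3 : g * (u * v) * g⁻¹ = u := by rw [← conj_mul, g1, g2, ← mul_assoc, ← hk.comm, hk.r.mul_mul']
  have hu' : u ∈ 𝐂(Od H) := by
    have := (hc _ (inv_mem hx) t).2 h1
    rcases hk.mem_Vk.1 ht' with e | e | e | e <;> rw [e] at this
    · exact absurd e (ht.conj _).ne
    · exact this
    · exact (hc g hg u).1 (g1 ▸ this)
    · exact g3 ▸ (hc g hg _).2 this
  have hVC : Vk u v ≤ 𝐂(Od H) := hk.Vk_le.2 ⟨hu', g1 ▸ (hc g hg u).2 hu'⟩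
  have hV2 : ∀ a ∈ H, ∀ w ∈ Vk u v, a * w * a⁻¹ ∈ Vk u v := fun a ha w hw => by
    have := hk.cent_Vk ▸ sup_le (le_cent_comm.1 hVC) hk.le_cent
      (conj_mem_of_mem_normalizer (hn ha) (mem_sup_right hw))
    exact h.mem_Vk hk (isPElt_of_sq (by rw [conj_mul, hk.sq hw, mul_one, mul_inv_cancel])) this.1 this.2
  have hN : 𝐍(Vk u v) = H := (hH.le_iff.1 fun a ha => hk.mem_norm (hV2 a ha u hk.left_mem)
    (hV2 a ha v hk.right_mem)).resolve_left (h.norm_ne_top (fun e => hk.l.ne (mem_bot.1 (e ▸ hk.left_mem)))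
      hk.isPGroup.isSolvable')
  have htV : t ∈ Vk u v := by simpa [mul_assoc] using hV2 x hx _ ht'
  obtain ⟨s, hs', e⟩ : ∃ s, Kl t s ∧ Vk t s = Vk u v := by
    rcases hk.mem_Vk.1 htV with e | rfl | rfl | rfl
    exacts [absurd e ht.ne, ⟨v, hk, rfl⟩, ⟨u, hk.symm, hk.symm.Vk_comm⟩,
      ⟨u, hk.mulR.symm, hk.mulR.Vk_comm.symm.trans hk.Vk_mul⟩]
  rw [← e] at hN hVC
  rw [hO] at hVC hi
  obtain ⟨S, σ, k, D⟩ := h.exists_dih' hs'
  have hd : 2 ^ (k + 2) ∣ (Ut t).relIndex H := Nat.dvd_of_mul_dvd_mul_left (Nat.card_pos (α := Ut t)) (by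
    rw [← D.card_C, mul_comm, relIndex_mul_card ((Ut_le t).trans hC.le)]
    exact card_dvd_of_le hC.le)
  obtain rfl | rfl | hk2 : k = 0 ∨ k = 1 ∨ 2 ≤ k := by omega
  · refine (hU (stepA1 h ht hH.1 hC.le fun w hw => ?_).1).elim
    have := hs'.cent_Vk ▸ D.sdp.sup.ge.trans (sup_le (le_cent_comm.1 hVC)
      (D.eq_Vk_of_zero.2.le.trans hs'.le_cent)) hw.mem_cent
    have h4 : Vk t w = Vk t s := eq_of_le_of_card_ge (hw.Vk_le.2 ⟨hs'.left_mem,
      h.mem_Vk hs' hw.r.isPElt this.1 this.2⟩) (hs'.card.trans hw.card.symm).le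
    obtain ⟨a, -, a1, a2⟩ := h.fused hw
    exact ⟨a, hN ▸ h4 ▸ hw.mem_norm (a1 ▸ hw.right_mem) (a2 ▸ mul_mem hw.left_mem hw.right_mem), a1⟩
  · exact ⟨σ, s, S, h, D, hH, hs, hN, hC.le, hVC hs'.right_mem, hO ▸ le_norm_Od H, hU⟩
  · have := (pow_dvd_pow 2 (show 4 ≤ k + 2 by omega)).trans hd
    omega

variable {t σ τ : G} {S H : Subgroup G} (c : Cx t σ τ S H)
include c

local notation "V" => Vk t τ
local notation "U" => Ut t
local notation "F" => Ft t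

namespace Cx

theorem kl : Kl t τ := c.D.kl_τ

theorem V_le : V ≤ S := c.kl.Vk_le.2 ⟨c.D.le c.D.J_mem, c.D.τ_mem⟩

theorem S_le : S ≤ H := c.D.le_C.trans c.hC

theorem U_le : U ≤ H := (Ut_le t).trans c.hC

theorem V_cent : V ≤ 𝐂(U) := c.kl.Vk_le.2 ⟨le_cent1_iff.1 (Ut_le t), c.cent⟩

theorem nF : H ≤ 𝐍(F) := c.nU.trans (norm_le_norm_fittingOf _)

theorem conj_mem {g v : G} (hg : g ∈ H) (hv : v ∈ V) : g * v * g⁻¹ ∈ V :=
  conj_mem_of_mem_normalizer (c.norm ▸ hg) hv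

theorem sq : σ * σ = t := by rw [c.D.J_eq, pow_one, pow_two]

theorem not_mem : σ ∉ V := fun e => c.kl.l.ne (c.sq.symm.trans (c.kl.sq e))

theorem norm_eq {Y : Subgroup G} (h0 : Y ≠ ⊥) (hs : Group.IsSolvable Y) (h : H ≤ 𝐍(Y)) : 𝐍(Y) = H :=
  (c.max.le_iff.1 h).resolve_left (c.sd.norm_ne_top h0 hs)

theorem Ut_eq {v : G} (hv : Inv v) (h : U ≤ 𝐂[v]) : Ut v = U := by
  obtain ⟨g, -, rfl⟩ := c.sd.conj c.kl.l hv
  exact (eq_of_le_of_card_ge (c.sd.le_Ut hv h (odd_Od' _)) (by rw [← conj_Ut, card_conj_smul])).symm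

theorem odd_le {Y : Subgroup G} (ho : Odd (Nat.card Y)) (h : V ≤ 𝐍(Y)) : Y ≤ U :=
  c.sd.le_of_kl c.kl ho (h c.kl.left_mem) (h c.kl.right_mem) inf_le_right
    (inf_le_right.trans (c.Ut_eq c.kl.r (le_cent1_iff.2 c.cent)).le)
    (inf_le_right.trans (c.Ut_eq c.kl.inv_mul
      (le_cent1_iff.2 (c.V_cent (mul_mem c.kl.left_mem c.kl.right_mem)))).le)

theorem eq_or {A B : Subgroup G} (h1 : V ≤ A) (h2 : A ≤ B) (hB : IsPGroup 2 B) : A = V ∨ A = B := by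
  have e1 := card_dvd_of_le h1
  have e2 := card_dvd_of_le h2
  have e3 := c.D.syl.card_dvd hB le_top
  rw [c.D.card_P] at e3
  rw [c.kl.card] at e1
  have e4 := Nat.le_of_dvd (by norm_num) e3
  have e5 := Nat.le_of_dvd Nat.card_pos e2
  by_cases h : Nat.card A ≤ 4
  · exact Or.inl (eq_of_le_of_card_ge h1 (c.kl.card ▸ h)).symm
  · exact Or.inr (eq_of_le_of_card_ge h2 (by omega))

theorem two_le {T : Subgroup G} (hT : IsPGroup 2 T) (h : V ≤ T) : T ≤ H := by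
  rcases h.eq_or_lt with rfl | h1
  · exact c.V_le.trans c.S_le
  · haveI := hT.isNilpotent
    have h2 := lt_inf_normalizer_of_isNilpotent h1
    exact c.norm ▸ inf_eq_left.1 ((c.eq_or h2.le inf_le_left hT).resolve_left h2.ne')

theorem two_mem {Y : Subgroup G} (hY : H ≤ 𝐍(Y)) (hV : V ≤ 𝐂(Y)) {b : G} (hb : b ∈ H) (hb2 : IsPElt 2 b)
    (hb' : b ∉ 𝐂(Y)) {x : G} (hx : x ∈ H) (h2 : IsPElt 2 x) (hx' : x ∈ 𝐂(Y)) : x ∈ V := by
  have hS : IsSylowIn 2 S H := c.D.syl.of_le c.S_le le_top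
  have hn : H ≤ 𝐍(H ⊓ 𝐂(Y)) := le_norm_inf_cent le_normalizer hY
  have h1 := hS.inf_of_le_normalizer inf_le_left hn
  rcases c.eq_or (le_inf c.V_le (le_inf (c.V_le.trans c.S_le) hV)) inf_le_left hS.isPGroup with e | e
  · exact (e ▸ h1).mem_of_mem_normalizer h2 ⟨hx, hx'⟩ (c.norm ▸ hx)
  · obtain ⟨g, hg, hle⟩ := hS.exists_conj_le hb2.isPGroup_zpowers (zpowers_le.2 hb)
    exact (hb' ((mem_normalizer_iff.1 (hn hg) b).2
      (e.ge (hle (conj_mem_conj_smul.2 (mem_zpowers b)))).2).2).elim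

theorem not_cent : σ * τ ∉ 𝐂(U) := fun e => by
  have hk := c.D.kl_στ
  have h1 : 𝐂[σ * τ] ≤ H := c.norm_eq c.ne inferInstance c.nU ▸ c.Ut_eq hk.r (le_cent1_iff.2 e) ▸ norm_Ut _
  rcases c.sd.swap hk.symm with h2 | ⟨y, hy, -, h2⟩
  · have := h2.card_dvd c.D.syl.isPGroup le_top
    rw [c.D.card_P, hk.symm.card] at this
    omega
  · exact c.not_mem ((mul_mem_cancel_right c.kl.right_mem).1 ((mul_mem_cancel_right c.kl.left_mem).1
      (h2 ▸ c.conj_mem (h1 hy) c.kl.left_mem)))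

theorem le_V {A : Subgroup G} (hA : IsPGroup 2 A) (h : A ≤ H) (hc : A ≤ 𝐂(F)) : A ≤ V := by
  have h1 : U ≤ 𝐂(A) := le_centralizer_of_commutator_le_of_coprime (h.trans c.nU)
    (cop_of_odd hA (odd_Od _)) (le_trans (le_inf (commutator_le_left_of_norm (h.trans c.nU))
      ((commutator_mono le_rfl hc).trans (commutator_le_right_of_norm
        (le_normalizer_centralizer (le_norm_fittingOf _))))) (cent_fittingOf_le.trans (le_cent_comm.1 hc)))
  exact fun x hx => c.two_mem c.nU c.V_cent (c.hC c.D.kl_στ.mem_cent) c.D.kl_στ.r.isPElt c.not_cent (h hx)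
    (isPElt_of_mem hA hx) (le_cent_comm.1 h1 hx)

/-- subgroups without layer containing `V` and a self-centralizing subgroup of `F` lie in `H` -/
theorem le_of_Ly {M X : Subgroup G} (hV : V ≤ M) (hX : X ≤ M) (hF : X ≤ F) (hs : F ⊓ 𝐂(X) ≤ X)
    (hE : Ly M = ⊥) : M ≤ H := by
  have hn : M ≤ 𝐍(Op 2 M) := le_norm_piCoreOf _ _
  have h1 : Op 2 M ≤ H := le_sup_right.trans (c.two_le
    (c.kl.isPGroup.to_sup_of_normal_right' (isPGroup_Op 2 M) (hV.trans hn)) le_sup_left)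
  have h2 : X ≤ 𝐂(Op 2 M) := le_cent_of_commutator_le ((le_inf (commutator_le_right_of_norm (hX.trans hn))
    ((commutator_mono (hF.trans (Ft_le t)) le_rfl).trans (commutator_le_left_of_norm (h1.trans c.nU)))).trans
      (disjoint_of_coprime ((isPGroup_Op 2 M).coprime_card (odd_Od _))).le_bot)
  have h3 : Op 2 M ≤ V := c.le_V (isPGroup_Op 2 M) h1 (coprime_nil_faithful_cent_stab (h1.trans c.nF)
    (cop_of_odd (isPGroup_Op 2 M) (odd_of_le (odd_Od _) (Ft_le t))) inferInstance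
    (((inf_le_inf_left _ (centralizer_le (le_inf hF h2))).trans hs).trans h2))
  have h4 : fittingOf M ≤ 𝐂(V) := fittingOf_le_of_forall_Op fun p _ => by
    by_cases hp : p = 2
    · subst hp
      exact h3.trans c.kl.le_cent
    · exact (c.odd_le (not_two_dvd.1 (not_dvd_card_of_ne (isPGroup_Op p M) (Ne.symm hp)))
        (hV.trans (le_norm_piCoreOf _ _))).trans (le_cent_comm.1 c.V_cent)
  rw [← c.norm, ← le_antisymm h3 (le_Op_of_le_fittingOf c.kl.isPGroup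
    ((le_inf hV (le_cent_comm.1 h4)).trans (cent_fitting_of_Ly hE)))]
  exact hn

theorem mem_or {s : G} (hs : s ∈ S) (h : s ∉ zpowers σ) : s ∈ V ∨ σ * s ∈ V := by
  obtain ⟨r, hr, e⟩ := c.D.exists_conj_of_not_mem hs h
  have h1 : r * r ∈ V := by
    by_cases h0 : r * r = 1
    · exact h0 ▸ one_mem _
    · refine c.D.eq_J_of_sq (mul_mem hr hr) h0 ?_ ▸ c.kl.left_mem
      have := orderOf_dvd_iff_pow_eq_one.1 (orderOf_dvd_natCard _ hr)
      rw [c.D.card_S] at this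
      rw [← pow_two, ← pow_two, ← pow_mul]; exact this
  rcases e with e | e <;> rw [e]
  · exact Or.inl (mul_mem h1 c.kl.right_mem)
  · rw [← mul_assoc, ← mul_assoc, DihSyl.comm (mem_zpowers σ) (mul_mem hr hr), mul_assoc _ σ σ, c.sq]
    exact Or.inr (mul_mem (mul_mem h1 c.kl.left_mem) c.kl.right_mem)

theorem swap {s : G} (hs : s ∈ S) (h : s ∉ zpowers σ) : Kl t (σ * s) ∧ σ * s * s * (σ * s)⁻¹ = t * s := by
  have D := c.D.change hs h
  refine ⟨D.kl_στ, ?_⟩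
  rw [D.kl_τ.r.mul_mul', mul_inv_rev, ← mul_assoc, D.τ_inv, mul_assoc, D.τ_mul (inv_mem (mem_zpowers σ)),
    inv_inv, ← mul_assoc, c.sq]

theorem exists_cent {s : G} (hs : s ∈ S) (hk : Kl t s) (h : s ∉ V) :
    ∃ g ∈ 𝐂(Wt t s), g * t * g⁻¹ = s ∧ g * s * g⁻¹ = t * s := by
  have h0 := c.D.not_mem_of_kl hk
  obtain ⟨g, -, g1, g2⟩ := c.sd.fused hk
  have h1 : σ * s ∈ 𝐂(Wt t s) := centralizer_le inf_le_left (c.V_cent ((c.mem_or hs h0).resolve_left h))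
  have h2 : g ∈ 𝐍(Wt t s) := conj_smul_eq_iff_mem_normalizer.1 (by
    rw [conj_Wt, g1, g2, hk.comm, Wt_mul hk.symm, c.sd.Wt_comm hk])
  exact ⟨_, mul_mem h1 (conj_mem_of_mem_normalizer (normalizer_le_normalizer_centralizer _ h2) h1),
    fused_of_conj hk (c.swap hs h0).1 (c.swap hs h0).2 g1 g2⟩

/-- case (i): the normalizers of all non-trivial subgroups of `F(U)` lie in `H` -/
theorem invBy (hN : ∀ Y ≤ F, Y ≠ ⊥ → 𝐍(Y) ≤ H)
    (ns : ∀ N ≤ U, ⁅U, 𝐂[t]⁆ ≤ N → (∀ s ∈ S, Kl t s → ∃ g, g * t * g⁻¹ = s ∧ g * s * g⁻¹ = t * s ∧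
      ∀ w ∈ Wt t s, ⁅g, w⁆ ∈ N) → N = U) : F = U ∧ InvBy (σ * τ) U := by
  have h1 : ∀ s ∈ S, Kl t s → s ∉ V → InvBy s F := fun s hs hk h x hx => by
    refine conj_eq_inv_of_fpf (c.nF (c.S_le hs)) (fun y hy e => ?_) (by rw [pow_two, hk.r.sq]; exact one_mem _) hx
    by_contra h0
    obtain ⟨g, hg, g1, -⟩ := c.exists_cent hs hk h
    exact h (g1 ▸ c.conj_mem (hN (zpowers y) (zpowers_le.2 hy) (zpowers_ne_bot.2 h0) (cent_le_norm _
      (centralizer_le (zpowers_le.2 (mem_inf.2 ⟨Ft_le t hy, mem_cent1.2 e⟩)) hg))) c.kl.left_mem)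
  have h2 : ∀ s ∈ S, Kl t s → ∀ w ∈ U, ⁅s, w⁆ ∈ F := fun s hs hk w hw => by
    by_cases h : s ∈ V
    · exact commutatorElement_eq_one_iff_mul_comm.2 (c.V_cent h w hw).symm ▸ one_mem _
    refine cent_fittingOf_le (mem_inf.2 ⟨mul_mem (conj_mem_of_mem_normalizer (c.nU (c.S_le hs)) hw)
      (inv_mem hw), fun x hx => ?_⟩)
    have e1 := h1 s hs hk h _ (conj_mem_of_mem_normalizer (c.nF (c.U_le (inv_mem hw))) hx)
    have e2 := h1 s hs hk h _ (inv_mem hx)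
    rw [hk.r.inv] at e1 e2
    calc _ = s * x⁻¹ * s * ⁅s, w⁆ := by rw [e2, inv_inv]
      _ = s * w * (w⁻¹ * x * w⁻¹⁻¹)⁻¹ * w⁻¹ * (s * s) * w * s⁻¹ * w⁻¹ := by rw [commutatorElement_def]; group
      _ = s * w * s * w⁻¹ * x * w * (s * s) * w⁻¹ := by
        rw [← e1, hk.r.inv]; nth_rewrite 1 [hk.r.sq]; group
      _ = _ := by rw [hk.r.sq, commutatorElement_def, hk.r.inv]; group
  have hn : H ≤ 𝐍(⁅U, U⁆ ⊔ F) := le_normalizer_sup (le_normalizer_commutator c.nU c.nU) c.nF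
  have h3 : ∀ s ∈ S, Kl t s → ⁅zpowers s, U⁆ ≤ ⁅U, U⁆ ⊔ F := fun s hs hk => commutator_le.2 fun a ha w hw => by
    rcases hk.r.mem_zpowers_iff.1 ha with rfl | rfl
    · simp
    · exact mem_sup_right (h2 _ hs hk w hw)
  have h4 : F = U := by
    refine le_antisymm (Ft_le t) (P6.le_of_le_der_sup (Ft_le t) (le_norm_fittingOf _)
      (ns _ (sup_le (der_le _) (Ft_le t)) ?_ fun s hs hk => ?_).ge)
    · have hστ := mul_mem c.D.σ_mem c.D.τ_mem
      rw [Subgroup.commutator_comm, ← c.D.sdp.sup]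
      refine commutator_sup_left_le le_sup_left (le_trans (commutator_mono ?_ le_rfl) (commutator_sup_left_le
        (h3 _ hστ c.D.kl_στ) (h3 _ c.D.τ_mem c.kl) ((zpowers_le.2 (c.S_le hστ)).trans hn)
        ((zpowers_le.2 (c.S_le c.D.τ_mem)).trans hn))) (c.U_le.trans hn) (c.S_le.trans hn)
      exact c.D.eq_sup.ge.trans (sup_le (zpowers_le.2 ((mul_mem_cancel_right
        (mem_sup_right (mem_zpowers τ))).1 (mem_sup_left (mem_zpowers _)))) le_sup_right)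
    · by_cases h : s ∈ V
      · have h0 := c.D.not_mem_of_kl hk
        obtain ⟨g, -, g1, g2⟩ := c.sd.fused hk
        have hg : g ∈ H := c.norm ▸ eq_of_le_of_card_ge (hk.Vk_le.2 ⟨c.kl.left_mem, h⟩)
          (c.kl.card.trans hk.card.symm).le ▸
            hk.mem_norm (g1 ▸ hk.right_mem) (g2 ▸ mul_mem hk.left_mem hk.right_mem)
        obtain ⟨e1, e2⟩ := fused_of_conj hk (c.swap hs h0).1 (c.swap hs h0).2 g1 g2
        refine ⟨_, e1, e2, fun w hw => mem_sup_right ?_⟩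
        have hy := mul_mem c.D.σ_mem hs
        have e3 := mul_mem (conj_mem_of_mem_normalizer (c.nF (mul_mem (c.S_le hy) hg)) (h2 _ hy (c.swap hs h0).1 _
          (conj_mem_of_mem_normalizer (c.nU (inv_mem hg)) hw.1))) (h2 _ hy (c.swap hs h0).1 _ hw.1)
        convert e3 using 1
        simp only [commutatorElement_def]; group
      · obtain ⟨g, hg, g1, g2⟩ := c.exists_cent hs hk h
        exact ⟨g, g1, g2, fun w hw => commutatorElement_eq_one_iff_mul_comm.2 (hg w hw).symm ▸ one_mem _⟩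
  exact ⟨h4, h4 ▸ h1 _ (mul_mem c.D.σ_mem c.D.τ_mem) c.D.kl_στ
    fun e => c.not_mem ((mul_mem_cancel_right c.kl.right_mem).1 e)⟩

theorem iso (hi : InvBy (σ * τ) U) (h3 : Nat.card U = 3) : Nonempty (G ≃* alternatingGroup (Fin 7)) := by
  haveI := c.sd.simple
  refine a7 c.sd.ns c.D (c.sd.isConj c.kl.l c.kl.r) (c.sd.isConj c.kl.l c.D.kl_στ.r) (by rw [c.D.card_C, h3]; rfl) ?_
  have h1 : σ ≠ 1 := fun e => c.not_mem (e ▸ one_mem _)
  rw [(c.D.isSylowIn_S (mem_zpowers σ) h1 fun e => c.not_mem (e ▸ c.kl.left_mem)).eq_of_le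
    (P6.isPGroup_of_forall fun x hx ho => ?_) le_rfl (zpowers_le.2 (mem_cent1.2 rfl)), c.D.card_S]
  · rfl
  have h2 := c.sd.mem_Ut c.kl.l (c.D.centralizer_le (mem_zpowers σ) h1 hx) (not_two_dvd.1 ho)
  have h4 := hi x h2
  rw [mul_inv_eq_iff_eq_mul, mul_assoc, ← c.cent x h2, ← mul_assoc, ← mem_cent1.1 hx, mul_assoc,
    mul_left_inj] at h4
  exact (isPElt_of_sq (mul_eq_one_iff_eq_inv.2 h4)).eq_one_of_isPRegular ho

end Cx

end A2S

end GW
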