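import Cfsg.Agent.Lib.GW.A2Sa
import Cfsg.Agent.Lib.GW.DX

/-!
# Step A2S of the Gorenstein–Walter theorem: the case of a local subgroup with a component
-/

set_option autoImplicit false
set_option linter.unusedSectionVars false
set_option linter.style.haveILetI false

namespace GW

open Cfsg GT FT GAG Subgroup
open scoped Pointwise commutatorElement

/-- a `3`-cycle -/
def DA.c0 : alternatingGroup (Fin 7) := ⟨_, DA.m 0 1 1 2 (by decide) (by decide)⟩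

/-- an element of order four normalizing a Sylow `3`-subgroup -/
def DA.n0 : alternatingGroup (Fin 7) :=
  ⟨_, DA.m 0 3 1 4 (by decide) (by decide)⟩ * ⟨_, DA.m 4 2 2 5 (by decide) (by decide)⟩

theorem DA.exists_n {c u v : alternatingGroup (Fin 7)} (hc : orderOf c = 3) (hk : Kl u v) (hu : u ∈ 𝐂[c])
    (hv : v ∈ 𝐂[c]) : ∃ n, n * c * n⁻¹ * c = c * (n * c * n⁻¹) ∧ n * n * c * (n * n)⁻¹ = c⁻¹ := by
  have h0 : orderOf c.1 = 3 := (Subgroup.orderOf_coe c).trans hc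
  obtain ⟨k, h1⟩ := Equiv.Perm.cycleType_prime_order (h0 ▸ Nat.prime_three)
  have h2 := c.1.sum_cycleType_le
  rw [h0] at h1
  rw [h1, Multiset.sum_replicate, Fintype.card_fin, smul_eq_mul] at h2
  obtain rfl | rfl : k = 0 ∨ k = 1 := by omega
  · obtain ⟨g, rfl⟩ := isConj_iff.1 (alternatingGroup.isThreeCycle_isConj (by simp)
      (σ := DA.c0) (show Equiv.Perm.cycleType _ = _ by decide +kernel) h1)
    have e1 : n0 * c0 * n0⁻¹ * c0 = c0 * (n0 * c0 * n0⁻¹) := by decide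
    have e2 : n0 * n0 * c0 * (n0 * n0)⁻¹ = c0⁻¹ := by decide
    generalize c0 = c, n0 = n at e1 e2
    refine ⟨g * n * g⁻¹, ?_, ?_⟩ <;> simp only [conj_inv, conj_mul, e1, e2]
  · have h3 := card_dvd_of_le (show (Vk u v).map (alternatingGroup (Fin 7)).subtype ≤ 𝐂[c.1] from
      map_le_iff_le_comap.2 (hk.Vk_le.2 ⟨mem_cent1.2 (congrArg Subtype.val (mem_cent1.1 hu)),
        mem_cent1.2 (congrArg Subtype.val (mem_cent1.1 hv))⟩))
    rw [card_map_of_injective (subtype_injective _), hk.card, Equiv.Perm.nat_card_centralizer, h1] at h3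
    exact absurd h3 (by decide)

variable {G : Type*} [Group G] [Finite G]

namespace A2S

theorem mem3 {c x : G} (h : orderOf c = 3) (hx : x ∈ zpowers c) : x = 1 ∨ x = c ∨ x = c⁻¹ := by
  classical
  obtain ⟨n, hn, e⟩ := (mem_zpowers_iff_mem_range_orderOf.trans Finset.mem_image).1 hx
  rw [h, Finset.mem_range] at hn
  interval_cases n
  · exact Or.inl (e.symm.trans (pow_zero c))
  · exact Or.inr (Or.inl (e.symm.trans (pow_one c)))
  · exact Or.inr (Or.inr (e.symm.trans (eq_inv_of_mul_eq_one_left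
      (by rw [← pow_succ]; exact orderOf_dvd_iff_pow_eq_one.1 h.dvd))))

theorem sq3 {c : G} (h : orderOf c = 3) : c * c = c⁻¹ :=
  eq_inv_of_mul_eq_one_left (by rw [← pow_two, ← pow_succ]; exact orderOf_dvd_iff_pow_eq_one.1 h.dvd)

theorem split {J X : Subgroup G} {b c : G} (h : orderOf c = 3) (hc : c ∈ 𝐂(J)) (hb : b ∈ 𝐂(J))
    (e : b * c * b⁻¹ = c⁻¹) (hX : X ≤ J ⊔ zpowers c) (hn : b ∈ 𝐍(X)) : X ≤ J ∨ c ∈ X := by
  refine or_iff_not_imp_right.2 fun h0 x hx => ?_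
  obtain ⟨j, hj, d, hd, rfl⟩ := (mem_sup_of_le_normalizer_left
    (zpowers_le.2 (cent_le_norm _ hc))).1 (hX hx)
  have h1 := mul_mem (inv_mem hx) (conj_mem_of_mem_normalizer hn hx)
  rw [← conj_mul, ← hb j hj, mul_inv_cancel_right, mul_inv_rev, mul_assoc, inv_mul_cancel_left] at h1
  rcases mem3 h hd with rfl | rfl | rfl
  · rwa [mul_one]
  · rw [e, ← mul_inv_rev, sq3 h, inv_inv] at h1
    exact (h0 h1).elim
  · rw [← conj_inv, e, inv_inv, sq3 h] at h1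
    exact (h0 (X.inv_mem_iff.1 h1)).elim

/-- the final computation in an elementary abelian group of order `27` -/
theorem fin {y c h a n j d : G} (hy : orderOf y = 3) (hc : orderOf c = 3) (yc : y * c = c * y)
    (ny : n * y * n⁻¹ = y) (nc : n * c * n⁻¹ = h) (nh : n * h * n⁻¹ = c⁻¹) (ch : h * c = c * h)
    (ay : a * y * a⁻¹ = y * c) (ac : a * c * a⁻¹ = c) (hj : j ∈ zpowers y) (hd : d ∈ zpowers c)
    (ah : a * h * a⁻¹ = j * d * h) (aa : a * (n * n * a * (n * n)⁻¹) ∈ 𝐂[h]) :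
    a * h * a⁻¹ = h ∨ ∃ g, g * y * g⁻¹ = y⁻¹ := by
  have Cyc : Commute y c := yc
  have Chc : Commute h c := ch
  have Cyh : Commute y h := by
    have : n * (y * c) * n⁻¹ = n * (c * y) * n⁻¹ := by rw [yc]
    rwa [← conj_mul, ← conj_mul, ny, nc] at this
  have by' : n * n * y * (n * n)⁻¹ = y := by
    calc _ = n * (n * y * n⁻¹) * n⁻¹ := by group
      _ = _ := by rw [ny, ny]
  have bc : n * n * c * (n * n)⁻¹ = c⁻¹ := by
    calc _ = n * (n * c * n⁻¹) * n⁻¹ := by group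
      _ = _ := by rw [nc, nh]
  have bh : n * n * h * (n * n)⁻¹ = h⁻¹ := by
    calc _ = n * (n * h * n⁻¹) * n⁻¹ := by group
      _ = _ := by rw [nh, ← conj_inv, nc]
  have y1 : n * a * y * (n * a)⁻¹ = y * h := by
    calc _ = n * (a * y * a⁻¹) * n⁻¹ := by group
      _ = _ := by rw [ay, ← conj_mul, ny, nc]
  have ay' : a⁻¹ * y * a⁻¹⁻¹ = y * c⁻¹ := by
    calc _ = a⁻¹ * (y * c * c⁻¹) * a := by group
      _ = a⁻¹ * (a * (y * c⁻¹) * a⁻¹) * a := by rw [← conj_mul, ay, ← conj_inv, ac]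
      _ = _ := by group
  generalize n * n = b at *
  have key : a * (b * (j * d * h) * b⁻¹)⁻¹ * a⁻¹ = h := by
    calc _ = a * (b * a * b⁻¹) * (b * h * b⁻¹)⁻¹ * (a * (b * a * b⁻¹))⁻¹ := by rw [← ah]; group
      _ = _ := by rw [bh, inv_inv, mem_cent1.1 aa, mul_inv_cancel_right]
  have bd : b * d * b⁻¹ = d⁻¹ ∧ a * d * a⁻¹ = d ∧ Commute h d ∧ Commute y d ∧ (d * d = d⁻¹) := by
    rcases mem3 hc hd with rfl | rfl | rfl
    · simp
    · exact ⟨bc, ac, Chc, Cyc, sq3 hc⟩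
    · exact ⟨by rw [← conj_inv, bc], by rw [← conj_inv, ac], Chc.inv_right, Cyc.inv_right,
        by rw [← mul_inv_rev, sq3 hc]⟩
  obtain ⟨bd, ad, Chd, Cyd, dd⟩ := bd
  rw [← conj_mul, ← conj_mul, bd, bh, mul_inv_rev, mul_inv_rev, inv_inv, inv_inv, ← conj_mul, ← conj_mul, ah,
    ad] at key
  rcases mem3 hy hj with rfl | rfl | rfl
  · simp only [mul_one, mul_inv_cancel, inv_one, one_mul] at key ah
    rw [← Chd.eq, mul_assoc, dd, mul_eq_left, inv_eq_one] at key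
    exact Or.inl (by rw [ah, key, one_mul])
  · rw [by', ← conj_inv, ay] at key
    have h1 : d = c⁻¹ := by
      rw [mul_assoc j, ← Chd.eq, Cyh.left_comm, mul_assoc, mul_eq_left, mul_assoc, ← mul_assoc d, dd,
        Cyd.inv_right.left_comm, mul_inv_rev, Cyc.inv_right.left_comm, mul_inv_cancel, mul_one] at key
      exact inv_injective (eq_inv_of_mul_eq_one_left key)
    have h2 : a * (j * h) * a⁻¹ = n * (j * c⁻¹)⁻¹ * n⁻¹ := by
      rw [← conj_mul, ay, ah, h1, mul_inv_rev, inv_inv, ← conj_mul (b := n), nc, ← conj_inv (b := n),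
        ny, mul_assoc j c⁻¹, mul_assoc j, ← Cyc.left_comm, mul_inv_cancel_left, ← mul_assoc, sq3 hy,
        Cyh.inv_left.eq]
    refine Or.inr ⟨(n * a⁻¹)⁻¹ * a * (n * a), ?_⟩
    calc _ = (n * a⁻¹)⁻¹ * (a * (n * a * j * (n * a)⁻¹) * a⁻¹) * (n * a⁻¹) := by group
      _ = (n * a⁻¹)⁻¹ * (n * (a⁻¹ * j * a⁻¹⁻¹)⁻¹ * n⁻¹) * (n * a⁻¹) := by rw [y1, h2, ay']
      _ = _ := by group
  · rw [conj_inv, inv_inv, by', ay] at key
    have h1 : d = c := by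
      rw [mul_assoc y⁻¹, ← Chd.eq, Cyh.inv_left.left_comm, mul_assoc, mul_eq_left, mul_assoc, ← mul_assoc d,
        dd, Cyd.inv_inv.left_comm, inv_mul_cancel_left] at key
      exact inv_mul_eq_one.1 key
    have h2 : a * (n * a) * y * (a * (n * a))⁻¹ = c⁻¹ * h := by
      calc _ = a * (n * a * y * (n * a)⁻¹) * a⁻¹ := by group
        _ = _ := by rw [y1, ← conj_mul, ay, ah, h1, yc, mul_assoc, ← mul_assoc y, ← mul_assoc y,
          mul_inv_cancel, one_mul, ← mul_assoc, sq3 hc]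
    refine Or.inr ⟨(a * (n * a))⁻¹ * b * (a * (n * a)), ?_⟩
    calc _ = (a * (n * a))⁻¹ * (b * (a * (n * a) * y * (a * (n * a))⁻¹) * b⁻¹) * (a * (n * a)) := by group
      _ = (a * (n * a))⁻¹ * (a * (n * a) * y * (a * (n * a))⁻¹)⁻¹ * (a * (n * a)) := by
        rw [h2, ← conj_mul, ← conj_inv, bc, bh, mul_inv_rev c⁻¹, inv_inv, Chc.inv_left.eq]
      _ = _ := by group

/-- the configuration of case (ii) -/
structure Cy (t τ : G) (M : Subgroup G) : Prop where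
  ne : M ≠ ⊤
  ly : Ly M ≠ ⊥
  V_le : Vk t τ ≤ M
  B_ne : Ft t ⊓ Od M ≠ ⊥
  ti : ∀ y ∈ Ft t ⊓ Od M, y ≠ 1 → ∀ g, g * y * g⁻¹ ∈ Ft t ⊓ Od M → g ∈ M

variable {t σ τ : G} {S H M : Subgroup G} (c : Cx t σ τ S H)
include c

local notation "V" => Vk t τ
local notation "U" => Ut t
local notation "F" => Ft t
local notation "E" => Ly M
local notation "J" => Od M

namespace Cx

theorem exists_cy (cp : ∀ X : Subgroup G, X ≠ ⊤ → Ly X ≠ ⊥ → Cp X)
    (hN : ¬ ∀ Y ≤ F, Y ≠ ⊥ → 𝐍(Y) ≤ H) : ∃ M, Cy t τ M := by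
  push Not at hN
  obtain ⟨Y0, a1, a2, a3⟩ := hN
  have hV : ∀ Y ≤ F, V ≤ 𝐂(Y) := fun Y h => c.V_cent.trans (centralizer_le (h.trans (Ft_le t)))
  obtain ⟨Y, ⟨h1, h2⟩, h3⟩ := Set.exists_max_image {Y | Y ≤ F ∧ Y ≠ ⊥} (fun Y => Nat.card (Ly 𝐍(Y)))
    (Set.toFinite _) ⟨Y0, a1, a2⟩
  have h4 : Ly 𝐍(Y) ≠ ⊥ := fun e => a3 (c.le_of_Ly ((hV _ a1).trans (cent_le_norm _)) inf_le_right inf_le_left
    (inf_le_inf_left _ ((centralizer_le (le_inf a1 le_normalizer)).trans (cent_le_norm _)))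
    (eq_bot_of_card_le _ ((h3 Y0 ⟨a1, a2⟩).trans (by rw [e, card_bot]))))
  have h5 := c.sd.norm_ne_top h2 (isSolvable_of_le (h1.trans (Ft_le t)))
  have h6 := cp _ h5 h4
  have h7 := c.sd.norm_ne_top' h4 fun e => h5 (top_le_iff.1 (e ▸ Ly_le _))
  have h8 : Ly 𝐍(Ly 𝐍(Y)) ≠ ⊥ := fun e => h4 (eq_bot_iff.2 (e ▸ h6.le_Ly_norm))
  have h9 := cp _ h7 h8
  have hE := h6.Ly_norm h9
  have hVM : V ≤ 𝐍(Ly 𝐍(Y)) := ((hV _ h1).trans (cent_le_norm _)).trans (le_norm_Ly _)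
  have key : ∀ y ∈ F ⊓ Od 𝐍(Ly 𝐍(Y)), y ≠ 1 → Ly 𝐍(zpowers y) = Ly 𝐍(Y) := fun y hy h0 => by
    have b1 := zpowers_le.2 hy.1
    have b2 : Ly 𝐍(Y) ≤ 𝐍(zpowers y) :=
      (hE ▸ (Ly_le_cent _).trans (centralizer_le (zpowers_le.2 hy.2))).trans (cent_le_norm _)
    have b3 : V ≤ 𝐂(Od 𝐍(zpowers y)) := c.V_cent.trans (centralizer_le (c.odd_le (odd_Od' _)
      (((hV _ b1).trans (cent_le_norm _)).trans (le_norm_Od _))))
    refine (eq_of_le_of_card_ge (le_Ly b2 ?_ (Ly_perfect _)) (h3 _ ⟨b1, zpowers_ne_bot.2 h0⟩)).symm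
    have b4 := fun v (hv : Inv v) => h6.le_cent_of_inv (b2.trans (le_norm_Od _)) hv
    rcases hE ▸ h9.kl (hVM c.kl.left_mem) (hVM c.kl.right_mem) c.kl with e | e | e
    exacts [b4 _ c.kl.l e (b3 c.kl.left_mem), b4 _ c.kl.r e (b3 c.kl.right_mem),
      b4 _ c.kl.inv_mul e (b3 (mul_mem c.kl.left_mem c.kl.right_mem))]
  refine ⟨_, h7, h8, hVM, fun e => h2 (eq_bot_iff.2 (e ▸ le_inf h1 ?_)), fun y hy h0 g hg => ?_⟩
  · rw [← h9.cent, hE]
    exact le_inf (le_normalizer.trans (le_norm_Ly _)) ((le_Op' le_normalizer le_rfl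
      (odd_of_le (odd_Od _) (h1.trans (Ft_le t)))).trans (Od_le_cent_Ly _))
  · refine conj_smul_eq_iff_mem_normalizer.1 ?_
    nth_rewrite 1 [← key y hy h0]
    rw [conj_Ly, conj_smul_normalizer, conj_smul_zpowers, key _ hg fun e => h0 (conj_eq_one_iff.1 e)]

variable (m : Cy t τ M)
include m

theorem not_le : ¬ H ≤ M := fun e =>
  m.ly (Ly_eq_bot_of_solvable (((c.max.le_iff.1 e).resolve_left m.ne).symm ▸ c.solv))

theorem J_le : J ≤ U := c.odd_le (odd_Od' M) (m.V_le.trans (le_norm_Od M))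

theorem norm_le : 𝐍(F ⊓ J) ≤ M := fun g hg => by
  obtain ⟨⟨y, hy⟩, h0⟩ := ne_bot_iff_exists_ne_one.1 m.B_ne
  exact m.ti y hy (fun e => h0 (Subtype.ext e)) g (conj_mem_of_mem_normalizer hg hy)

theorem not_le' : ¬ F ⊓ M ≤ J := fun e => by
  rcases (inf_le_left : F ⊓ J ≤ F).eq_or_lt with h | h
  · exact c.not_le m (c.nF.trans (h.symm ▸ h ▸ c.norm_le m))
  · exact (lt_inf_normalizer_of_isNilpotent h).not_ge
      (le_inf inf_le_left ((inf_le_inf_left _ (c.norm_le m)).trans e))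

theorem lt_false {q d k r e φ : ℕ} (h : LT M q d k r e φ) : False := by
  have ht := m.V_le c.kl.left_mem
  obtain ⟨K, hK⟩ : ∃ K, Tor M t K := by
    by_cases h1 : t ∈ E
    · exact (h.tor_in t h1 c.kl.l).imp fun _ => And.left
    · exact (h.tor_out t ht c.kl.l h1).imp fun _ => And.left
  refine c.not_le' m (le_of_forall_isPElt_mem fun p _ x hx hp => ?_)
  have h1 := Ft_le t hx.1
  by_cases h2 : p = 2
  · subst h2
    exact DX.eq_one_of_two hp h1 ▸ one_mem _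
  refine hK.fld τ (m.V_le c.kl.right_mem) c.kl p h2 x ⟨⟨hx.2, Ut_le t h1⟩, le_cent1_iff.2 c.cent h1⟩ hp
    fun y hy _ => ?_
  have h3 := hK.inv τ (m.V_le c.kl.right_mem) c.kl y hy
  rw [← c.cent y (hK.le hy).2, mul_inv_cancel_right] at h3
  rw [DX.eq_one_of_two (isPElt_of_sq (mul_eq_one_iff_eq_inv.2 h3)) (hK.le hy).2, one_mul, mul_one]

/-- the case `F ≤ M` -/
theorem at_false_le (h : AT M) (h9 : Nat.card F ∣ 9) (hF : F ≤ M) {x : G} (hx : x ∈ M) (h2 : x ^ 2 = t) :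
    False := by
  haveI : Fact (Nat.Prime 3) := ⟨Nat.prime_three⟩
  have h3 : IsPGroup 3 U := IsPGroup.of_card (Nat.eq_prime_pow_of_unique_prime_dvd Nat.card_pos.ne'
    fun {q} hq hd => by
      haveI := Fact.mk hq
      obtain ⟨⟨u, hu⟩, ho⟩ := exists_prime_orderOf_dvd_card' q hd
      replace ho : orderOf u = q := (Subgroup.orderOf_coe _).trans ho
      have h4 := P4.card_modEq_card_inf_cent (IsPGroup.of_card (p := q) (n := 1) (by rw [Nat.card_zpowers, pow_one, ho]))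
        (zpowers_le.2 (c.nF (c.U_le hu)))
      have h5 := card_dvd_of_le (inf_le_left : F ⊓ 𝐂(zpowers u) ≤ F)
      have key : ∀ f ≤ 9, ∀ n ≤ f, f ∣ 9 → n ∣ f → n = f ∨ f - n ∣ 2 ^ 3 * 3 := by decide
      rcases key _ (Nat.le_of_dvd (by norm_num) h9) _ (Nat.le_of_dvd Nat.card_pos h5) h9 h5 with e | e
      · have h6 : u ∈ F := cent_fittingOf_le (mem_inf.2 ⟨hu, le_cent_comm.1
          (inf_eq_left.1 (eq_of_le_of_card_ge inf_le_left e.ge)) (mem_zpowers u)⟩)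
        exact (Nat.prime_dvd_prime_iff_eq hq Nat.prime_three).1 (hq.dvd_of_dvd_pow (n := 2)
          (ho ▸ (orderOf_dvd_natCard _ h6).trans h9))
      · rcases (Nat.Prime.dvd_mul hq).1 (((Nat.modEq_iff_dvd' (Nat.le_of_dvd Nat.card_pos h5)).1
          h4.symm).trans e) with e | e
        · exact absurd ((Nat.prime_dvd_prime_iff_eq hq Nat.prime_two).1 (hq.dvd_of_dvd_pow e) ▸ hd) (odd_Od _)
        · exact (Nat.prime_dvd_prime_iff_eq hq Nat.prime_three).1 e)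
  haveI := h3.isNilpotent
  have hU : U ≤ M := fittingOf_eq_self.ge.trans hF
  have hxt : x ∈ 𝐂[t] := mem_cent1.2 (h2 ▸ (Commute.refl x).pow_right 2)
  have hx2 : IsPElt 2 x := isPElt_of_pow_eq_one (k := 2) (by rw [pow_two, pow_mul, h2, pow_two, c.kl.l.sq])
  obtain ⟨T, a, b, k, D, hT⟩ := c.sd.exists_dih c.kl.l (c.kl.isPGroup.to_sup_of_normal_left' hx2.isPGroup_zpowers
    (zpowers_le.2 (c.norm ▸ c.hC hxt))) (sup_le (c.V_le.trans c.D.le_C) (zpowers_le.2 hxt))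
  have hC : 𝐂[t] ≤ M := by
    rcases c.eq_or le_sup_left hT D.syl.isPGroup with e | e
    · exact (c.kl.l.ne (h2 ▸ (pow_two x).trans (c.kl.sq (e.le (mem_sup_right (mem_zpowers x)))))).elim
    · exact D.sdp.sup.ge.trans (sup_le hU (e.ge.trans (sup_le m.V_le (zpowers_le.2 hx))))
  have hE : ∀ v ∈ M, Inv v → v ∈ E := fun v hv h1 => mem_Ly_of_two h1.isPElt (h.eq.ge hv)
  exact c.ne (stepA1 c.sd c.kl.l m.ne hC fun s hs => (h.conj t (hE t (m.V_le c.kl.left_mem) c.kl.l) s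
    (hE s (hC hs.mem_cent) hs.r) c.kl.l hs.r).imp fun g hg => ⟨Ly_le M hg.1, hg.2⟩).1

theorem at_false (h : AT M) : False := by
  have hE : ∀ v ∈ M, Inv v → v ∈ E := fun v hv h1 => mem_Ly_of_two h1.isPElt (h.eq.ge hv)
  obtain ⟨w, ⟨hwE, hwU⟩, o3, hUM, hsol, -, a1, ha1, b, hb, ka, kb, -, hbw, hab⟩ :=
    h.three t (m.V_le c.kl.left_mem) c.kl.l
  have wJ : w ∉ J := fun e => not_solvable_Ly m.ly
    (isSolvable_of_le (le_inf (Ly_le M) ((Ly_le_cent M).trans (cent_le_cent1 e))))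
  have hbH : b ∈ H := c.hC kb.mem_cent
  have hA : F ⊓ M ≤ J ⊔ zpowers w := hUM ▸ le_inf inf_le_right (inf_le_left.trans (Ft_le t))
  have sp := fun X => split (X := X) o3 (Ly_le_cent M hwE) (Ly_le_cent M hb) hbw
  have wF : w ∈ F ⊓ M := (sp _ hA (inf_normalizer_le_normalizer_inf ⟨c.nF hbH,
    le_normalizer (Ly_le M hb)⟩)).resolve_left (c.not_le' m)
  have dec : ∀ X, w ∈ X → X ≤ F ⊓ M → ∀ x ∈ X, ∃ j ∈ X ⊓ J, ∃ d ∈ zpowers w, j * d = x := fun X hw hX x hx => by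
    obtain ⟨j, hj, d, hd, rfl⟩ := (mem_sup_of_le_normalizer_left
      (zpowers_le.2 (cent_le_norm _ (Ly_le_cent M hwE)))).1 (hA (hX hx))
    exact ⟨j, ⟨(mul_mem_cancel_right (zpowers_le.2 hw hd)).1 hx, hj⟩, d, hd, rfl⟩
  obtain ⟨a0, ha0, haM, haF⟩ : ∃ a0 ∈ 𝐍(F ⊓ M), a0 ∉ M ∧ (F ≤ M ∨ a0 ∈ F) := by
    rcases (inf_le_left : F ⊓ M ≤ F).eq_or_lt with e | e
    · obtain ⟨x, hx, hx'⟩ := SetLike.not_le_iff_exists.1 (c.not_le m)
      exact ⟨x, e.symm ▸ c.nF hx, hx', Or.inl (inf_eq_left.1 e)⟩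
    · obtain ⟨x, hx, hx'⟩ := SetLike.exists_of_lt (lt_inf_normalizer_of_isNilpotent e)
      exact ⟨x, hx.2, fun e => hx' ⟨hx.1, e⟩, Or.inr hx.1⟩
  have BA : F ⊓ J ≤ F ⊓ M := inf_le_inf_left _ (Od_le M)
  have wc : ∀ j ∈ J, ∀ d ∈ zpowers w, Commute j d := fun j hj d hd =>
    (zpowers_le.2 (Ly_le_cent M hwE) hd j hj)
  -- `B` has order three
  have hB : ∀ x ∈ F ⊓ J, x ≠ 1 → ∃ j ∈ F ⊓ J, a0 * x * a0⁻¹ = j * w ∨ a0 * x * a0⁻¹ = j * w⁻¹ := fun x hx h0 => by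
    obtain ⟨j, hj, d, hd, e⟩ := dec _ wF le_rfl _ (conj_mem_of_mem_normalizer ha0 (BA hx))
    refine ⟨j, ⟨hj.1.1, hj.2⟩, ?_⟩
    rcases mem3 o3 hd with rfl | rfl | rfl
    · exact (haM (m.ti x hx h0 a0 (e ▸ (mul_one j).symm ▸ mem_inf.2 ⟨hj.1.1, hj.2⟩))).elim
    exacts [Or.inl e.symm, Or.inr e.symm]
  obtain ⟨⟨y, hy⟩, y1⟩ := ne_bot_iff_exists_ne_one.1 m.B_ne
  replace y1 : y ≠ 1 := fun e => y1 (Subtype.ext e)
  have hB' : ∀ x ∈ F ⊓ J, x = 1 ∨ x = y ∨ x = y⁻¹ := fun x hx => by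
    refine or_iff_not_imp_left.2 fun h0 => ?_
    obtain ⟨j, hj, e⟩ := hB x hx h0
    obtain ⟨i, hi, e'⟩ := hB y hy y1
    have k1 : ∀ d ∈ zpowers w, ∀ z ∈ F ⊓ J, ∀ i ∈ F ⊓ J, a0 * x * a0⁻¹ = j * d → a0 * z * a0⁻¹ = i * d → x = z :=
      fun d hd z hz i hi e1 e2 => by
        by_contra hn
        refine haM (m.ti _ (mul_mem hx (inv_mem hz)) (fun e => hn (mul_inv_eq_one.1 e)) a0 ?_)
        rw [← conj_mul, ← conj_inv, e1, e2, mul_inv_rev, mul_assoc, mul_inv_cancel_left]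
        exact mul_mem hj (inv_mem hi)
    have k2 : ∀ d ∈ zpowers w, a0 * y * a0⁻¹ = i * d → a0 * y⁻¹ * a0⁻¹ = i⁻¹ * d⁻¹ := fun d hd e => by
      rw [← conj_inv, e, mul_inv_rev, (wc i hi.2 d hd).inv_inv.eq]
    have hw := mem_zpowers w
    rcases e with e | e <;> rcases e' with e' | e'
    exacts [Or.inl (k1 _ hw _ hy _ hi e e'),
      Or.inr (k1 _ hw _ (inv_mem hy) _ (inv_mem hi) e ((k2 _ (inv_mem hw) e').trans (by rw [inv_inv]))),
      Or.inr (k1 _ (inv_mem hw) _ (inv_mem hy) _ (inv_mem hi) e (k2 _ hw e')),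
      Or.inl (k1 _ (inv_mem hw) _ hy _ hi e e')]
  have y2 : y ≠ y⁻¹ := fun e => y1 (DX.eq_one_of_two (isPElt_of_sq (mul_eq_one_iff_eq_inv.2 e)) hy.2)
  haveI : Fact (Nat.Prime 3) := ⟨Nat.prime_three⟩
  have oy : orderOf y = 3 := by
    refine orderOf_eq_prime ?_ y1
    rcases hB' _ (mul_mem hy hy) with e | e | e
    · exact (y2 (eq_inv_of_mul_eq_one_left e)).elim
    · exact (y1 (mul_eq_left.1 e)).elim
    · rw [pow_three, e, mul_inv_cancel]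
  have hBy : F ⊓ J ≤ zpowers y := fun x hx => by
    rcases hB' x hx with rfl | rfl | rfl
    exacts [one_mem _, mem_zpowers _, inv_mem (mem_zpowers _)]
  -- `y` is not real
  have odd_c : ∀ g x : G, Odd (orderOf g) → g * x * g⁻¹ = x⁻¹ → x = x⁻¹ := fun g x ho e => by
    obtain ⟨k, hk⟩ := exists_pow_eq_self_of_coprime (Nat.coprime_two_left.2 ho)
    have h1 : g ^ 2 ∈ 𝐂[x] := mem_cent1.2 (mul_inv_eq_iff_eq_mul.1 (by
      calc _ = g * (g * x * g⁻¹) * g⁻¹ := by rw [pow_two]; group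
        _ = _ := by rw [e, ← conj_inv, e, inv_inv]))
    have h2 := pow_mem h1 k
    rw [hk] at h2
    rw [← e, mem_cent1.1 h2, mul_inv_cancel_right]
  have hM : M ≤ 𝐂[y] := h.eq.ge.trans (sup_le (fun j hj => mem_cent1.2 (mul_inv_eq_iff_eq_mul.1 (by
    rcases hB' _ (conj_mem_of_mem_normalizer (inf_normalizer_le_normalizer_inf ⟨c.nF (c.U_le (c.J_le m hj)),
      le_normalizer hj⟩) hy) with e | e | e
    exacts [(y1 (conj_eq_one_iff.1 e)).elim, e, (y2 (odd_c j y (odd_of_mem_Od hj) e)).elim])))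
    ((Ly_le_cent M).trans (cent_le_cent1 hy.2)))
  have nr : ∀ g, g * y * g⁻¹ ≠ y⁻¹ := fun g e => y2 (by
    rw [← e, mem_cent1.1 (hM (m.ti y hy y1 g (e ▸ inv_mem hy))), mul_inv_cancel_right])
  have hA' : F ⊓ M ≤ zpowers y ⊔ zpowers w := fun x hx => by
    obtain ⟨j, hj, d, hd, rfl⟩ := dec _ wF le_rfl x hx
    exact mul_mem_sup (hBy ⟨hj.1.1, hj.2⟩) hd
  by_cases hFM : F ≤ M
  · refine c.at_false_le m h ((card_dvd_of_le ((le_inf le_rfl hFM).trans hA')).trans ?_) hFM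
      (Ly_le M (mul_mem ha1 hb)) hab
    have := card_sup_dvd_of_le_normalizer (H := zpowers y) (N := zpowers w) (zpowers_le.2 (cent_le_norm _
      (le_cent_comm.1 (zpowers_le.2 (Ly_le_cent M hwE)) hy.2)))
    rwa [Nat.card_zpowers, Nat.card_zpowers, oy, o3] at this
  replace haF := haF.resolve_left hFM
  -- `Z(F) = ⟨w⟩`
  have cy : F ⊓ 𝐂[y] ≤ F ⊓ M := inf_le_inf_left _ fun g hg => m.ti y hy y1 g (by
    rwa [mem_cent1.1 hg, mul_inv_cancel_right])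
  have hZ : Zc F ≤ F ⊓ M := (inf_le_inf_left _ (cent_le_cent1 hy.1)).trans cy
  have hZJ : ∀ z ∈ Zc F ⊓ J, z = 1 := fun z hz => by
    by_contra h0
    exact haM (m.ti z ⟨hz.1.1, hz.2⟩ h0 a0 (by rw [hz.1.2 a0 haF, mul_inv_cancel_right]; exact ⟨hz.1.1, hz.2⟩))
  have hnZ : H ≤ 𝐍(Zc F) := le_norm_inf_cent c.nF c.nF
  have wZ : w ∈ Zc F := (sp _ (hZ.trans hA) (hnZ hbH)).resolve_left fun e =>
    Zc_ne_bot (H := F) (fun e => hFM (e.le.trans bot_le)) (eq_bot_iff.2 fun z hz => hZJ z ⟨hz, e hz⟩)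
  have hZw : Zc F = zpowers w := le_antisymm (fun z hz => by
    obtain ⟨j, hj, d, hd, rfl⟩ := dec _ wZ hZ z hz
    rwa [hZJ j hj, one_mul]) (zpowers_le.2 wZ)
  have w1 : w ≠ 1 := fun e => wJ (e ▸ one_mem _)
  have hH : 𝐍(zpowers w) = H := c.norm_eq (zpowers_ne_bot.2 w1) inferInstance (hZw ▸ hnZ)
  have w2 : w ≠ w⁻¹ := fun e => w1 (by simpa [← e] using sq3 o3)
  have hVE : V ≤ E := c.kl.Vk_le.2 ⟨hE _ (m.V_le c.kl.left_mem) c.kl.l, hE _ (m.V_le c.kl.right_mem) c.kl.r⟩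
  have memH : ∀ x ∈ E, ∀ d, zpowers d = zpowers w → d⁻¹ * (x * w * x⁻¹) ∈ Zc E → x * w * x⁻¹ = d ∧ x ∈ H :=
    fun x hx d hd hz => by
      have h1 : x ∈ H := c.norm ▸ mem_normalizer_of_conj_mem fun v hv => by
        have h2 : x * v * x⁻¹ ∈ 𝐂(zpowers w) := by
          have h3 : x * v * x⁻¹ ∈ 𝐂[x * w * x⁻¹] := conj_cent1 x w ▸ conj_mem_conj_smul.2
            (cent_le_cent1 hwU (c.V_cent hv))
          have h4 := mul_mem (mem_cent1_comm.1 h3) (inv_mem (cent_le_cent1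
            (mul_mem (mul_mem hx (hVE hv)) (inv_mem hx)) hz.2))
          rw [mul_inv_rev, mul_inv_cancel_left, inv_inv, mem_cent1_comm] at h4
          rwa [← hd, centralizer_zpowers]
        exact c.two_mem hH.ge (c.V_cent.trans (centralizer_le (zpowers_le.2 hwU))) hbH kb.r.isPElt
          (fun e => w2 (by rw [← hbw, ← e w (mem_zpowers w), mul_inv_cancel_right])) (hH ▸ cent_le_norm _ h2)
          (isPElt_of_sq (by rw [conj_mul, c.kl.sq hv, mul_one, mul_inv_cancel])) h2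
      refine ⟨?_, h1⟩
      rcases mem3 o3 (mul_mem (inv_mem (hd ▸ mem_zpowers d))
        (conj_mem_of_mem_normalizer (hH.ge h1) (mem_zpowers w))) with e | e | e
      exacts [(inv_mul_eq_one.1 e).symm, (wJ (h.Zc_le (e ▸ hz))).elim,
        (wJ ((J).inv_mem_iff.1 (h.Zc_le (e ▸ hz)))).elim]
  -- the element `n`
  obtain ⟨e⟩ := h.iso
  let π : E →* alternatingGroup (Fin 7) := e.toMonoidHom.comp (QuotientGroup.mk' _)
  have hπ : ∀ x : E, π x = 1 ↔ (x : G) ∈ Zc E := fun x =>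
    e.map_eq_one_iff.trans ((QuotientGroup.eq_one_iff x).trans (mem_center_iff.trans
      ⟨fun h1 => ⟨x.2, fun z hz => congrArg Subtype.val (h1 ⟨z, hz⟩)⟩, fun h1 z => Subtype.ext (h1.2 z z.2)⟩))
  have hI : ∀ x : E, Inv (x : G) → Inv (π x) := fun x hx => ⟨fun e => hx.ne (h.eq_one ((hπ x).1 e) hx.sq),
    by rw [← map_mul, show x * x = 1 from Subtype.ext hx.sq, map_one]⟩
  have hc : ∀ x z : E, (x : G) * z = z * x → π x * π z = π z * π x := fun x z h1 => by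
    rw [← map_mul, ← map_mul, show x * z = z * x from Subtype.ext h1]
  obtain ⟨n0, n1, n2⟩ := DA.exists_n (c := π ⟨w, hwE⟩) (u := π ⟨t, hVE c.kl.left_mem⟩)
    (v := π ⟨τ, hVE c.kl.right_mem⟩) (orderOf_eq_prime (by
      rw [← map_pow, show (⟨w, hwE⟩ : E) ^ 3 = 1 from Subtype.ext (o3 ▸ pow_orderOf_eq_one w), map_one])
      fun e => wJ (h.Zc_le ((hπ _).1 e)))
    ⟨hI _ c.kl.l, hI _ c.kl.r, fun e => (hI (⟨t, hVE c.kl.left_mem⟩ * ⟨τ, hVE c.kl.right_mem⟩) c.kl.inv_mul).ne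
      (by rw [map_mul, e, (hI _ c.kl.r).sq]), hc _ _ c.kl.comm⟩
    (mem_cent1.2 (hc _ _ (mem_cent1.1 (Ut_le t hwU)).symm)) (mem_cent1.2 (hc _ _ (c.cent w hwU).symm))
  have hs : Function.Surjective π := e.surjective.comp (QuotientGroup.mk'_surjective _)
  obtain ⟨n, rfl⟩ := hs n0
  obtain ⟨e1, hh⟩ := memH _ (n * ⟨w, hwE⟩ * n⁻¹).2 w rfl ((hπ (⟨w, hwE⟩⁻¹ * ((n * ⟨w, hwE⟩ * n⁻¹) * ⟨w, hwE⟩ *
    (n * ⟨w, hwE⟩ * n⁻¹)⁻¹))).1 (by simp only [map_mul, map_inv]; rw [n1]; group))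
  obtain ⟨e2, hn⟩ := memH _ (n * n).2 w⁻¹ zpowers_inv ((hπ (⟨w, hwE⟩⁻¹⁻¹ * (n * n * ⟨w, hwE⟩ * (n * n)⁻¹))).1
    (by simp only [map_mul, map_inv]; rw [n2]; group))
  obtain ⟨n, hnE⟩ := n
  replace e1 : n * w * n⁻¹ * w = w * (n * w * n⁻¹) := mul_inv_eq_iff_eq_mul.1 e1
  replace e2 : n * (n * w * n⁻¹) * n⁻¹ = w⁻¹ := Eq.trans (by simp [mul_assoc]) e2
  replace hh : n * w * n⁻¹ ∈ H := hh
  replace hn : n * n ∈ H := hn
  have ny : n * y * n⁻¹ = y := by rw [mem_cent1.1 (hM (Ly_le M hnE)), mul_inv_cancel_right]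
  have yw : y * w = w * y := wc y hy.2 w (mem_zpowers w)
  -- the element `a`
  obtain ⟨a, ha, ay⟩ : ∃ a ∈ F, a * y * a⁻¹ = y * w := by
    have a0w : a0 * w = w * a0 := wZ.2 a0 haF
    have k : ∀ d ∈ zpowers w, ∀ j ∈ F ⊓ J, d ≠ 1 → a0 * y * a0⁻¹ = j * d → j = y := fun d hd j hj d1 e => by
      have a0d : a0 * d * a0⁻¹ = d := by rw [(hZw ▸ hd : d ∈ Zc F).2 a0 haF, mul_inv_cancel_right]
      rcases hB' j hj with rfl | rfl | rfl
      · rw [one_mul, ← a0d, mul_left_inj, mul_right_inj] at e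
        exact (d1 (hZJ d ⟨hZw ▸ hd, e ▸ hy.2⟩)).elim
      · rfl
      · obtain ⟨k, hk⟩ := exists_pow_eq_self_of_coprime (Nat.coprime_two_left.2 (odd_of_mem_Od (Ft_le t haF)))
        refine (haM (hk ▸ pow_mem (cy ⟨pow_mem haF 2, mem_cent1.2 (mul_inv_eq_iff_eq_mul.1 ?_)⟩).2 k)).elim
        calc _ = a0 * (a0 * y * a0⁻¹) * a0⁻¹ := by rw [pow_two]; group
          _ = _ := by rw [e, ← conj_mul, ← conj_inv, e, a0d, mul_inv_rev, inv_inv,
            ← (wc y hy.2 d hd).inv_right.eq, inv_mul_cancel_right]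
    obtain ⟨j, hj, e | e⟩ := hB y hy y1
    · exact ⟨a0, haF, k _ (mem_zpowers w) j hj w1 e ▸ e⟩
    · rw [k _ (inv_mem (mem_zpowers w)) j hj (inv_ne_one.2 w1) e] at e
      refine ⟨a0⁻¹, inv_mem haF, ?_⟩
      calc _ = a0⁻¹ * (y * w⁻¹) * (w * a0) := by group
        _ = _ := by rw [← e, ← a0w]; group
  have aw : a * w * a⁻¹ = w := by rw [wZ.2 a ha, mul_inv_cancel_right]
  have hAh : F ⊓ M ≤ 𝐂[n * w * n⁻¹] := hA'.trans (sup_le (zpowers_le.2 (mem_cent1_comm.1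
    (hM (Ly_le M (mul_mem (mul_mem hnE hwE) (inv_mem hnE)))))) (zpowers_le.2 (mem_cent1.2 e1.symm)))
  have hyA : y ∈ F ⊓ M := BA hy
  have ay' : a⁻¹ * y * a = y * w⁻¹ := by
    calc _ = a⁻¹ * (y * w * w⁻¹) * a := by group
      _ = a⁻¹ * (a * (y * w⁻¹) * a⁻¹) * a := by rw [← conj_mul, ay, ← conj_inv, aw]
      _ = _ := by group
  obtain ⟨j, hj, d, hd, e3⟩ := dec _ wF le_rfl (a * (n * w * n⁻¹) * a⁻¹ * (n * w * n⁻¹)⁻¹) (cy (mem_inf.2 ⟨by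
    rw [mul_assoc, mul_assoc, ← mul_assoc _ a⁻¹]
    exact mul_mem ha (conj_mem_of_mem_normalizer (c.nF hh) (inv_mem ha)),
    mul_mem (mem_cent1.2 (by
      calc _ = a * (n * w * n⁻¹ * (a⁻¹ * y * a)) * a⁻¹ := by group
        _ = _ := by rw [← mem_cent1.1 (hAh (ay' ▸ mul_mem hyA (inv_mem wF)))]; group))
      (inv_mem (mem_cent1_comm.1 (hAh hyA)))⟩))
  have e6 : a * (n * n * a * (n * n)⁻¹) * y * (a * (n * n * a * (n * n)⁻¹))⁻¹ = y := by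
    have ny' : n⁻¹ * y * n = y := by nth_rewrite 1 [← ny]; group
    calc _ = a * (n * n * (a * (n⁻¹ * (n⁻¹ * y * n) * n) * a⁻¹) * (n * n)⁻¹) * a⁻¹ := by
          simp only [mul_inv_rev, inv_inv, mul_assoc]
      _ = a * (n * (n * y * n⁻¹) * n⁻¹ * (n * (n * w * n⁻¹) * n⁻¹)) * a⁻¹ := by rw [ny', ny', ay]; group
      _ = _ := by rw [ny, ny, e2, ← conj_mul, ay, ← conj_inv, aw, mul_inv_cancel_right]
  rcases fin oy o3 yw ny rfl e2 e1 ay aw (hBy ⟨hj.1.1, hj.2⟩) hd (by rw [e3, inv_mul_cancel_right])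
    (hAh (cy ⟨mul_mem ha (conj_mem_of_mem_normalizer (c.nF hn) ha), mem_cent1.2 (mul_inv_eq_iff_eq_mul.1 e6)⟩))
    with e4 | ⟨g, e4⟩
  · have h1 : n⁻¹ * a * n ∈ H := hH ▸ cent_le_norm _ (by
      rw [centralizer_zpowers, mem_cent1]
      calc _ = n⁻¹ * (a * (n * w * n⁻¹) * a⁻¹) * a * n := by group
        _ = _ := by rw [e4]; group)
    have h2 := conj_mem_of_mem_normalizer (c.nU h1) (Ft_le t hy.1)
    have h3 : n⁻¹ * a * n * y * (n⁻¹ * a * n)⁻¹ = y * (n * w * n⁻¹)⁻¹ := by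
      calc _ = n⁻¹ * (a * (n * y * n⁻¹) * a⁻¹) * n := by group
        _ = n⁻¹ * ((n * y * n⁻¹) * (n * (n * w * n⁻¹) * n⁻¹)⁻¹) * n := by rw [ny, ay, e2, inv_inv]
        _ = _ := by group
    rw [h3, mul_mem_cancel_left (Ft_le t hy.1), inv_mem_iff] at h2
    obtain ⟨z, hz, f, hf, e5⟩ := (mem_sup_of_le_normalizer_left (zpowers_le.2 (cent_le_norm _
      (Ly_le_cent M hwE)))).1 (hUM.le ⟨Ly_le M (mul_mem (mul_mem hnE hwE) (inv_mem hnE)), h2⟩)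
    rw [← e5, ← conj_mul, ← Ly_le_cent M hnE z hz, mul_inv_cancel_right] at e2
    rcases mem3 o3 hf with rfl | rfl | rfl
    · exact wJ ((J).inv_mem_iff.1 (e2 ▸ by simpa using hz))
    · rw [← e5, ← mul_assoc, ← eq_mul_inv_iff_mul_eq, ← mul_inv_rev, sq3 o3, inv_inv] at e2
      exact wJ (e2 ▸ mul_mem hz hz)
    · rw [← conj_inv, ← e5, mul_inv_rev, inv_inv, ← mul_assoc, (wc z hz w (mem_zpowers w)).eq,
        mul_inv_cancel_right] at e2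
      exact w2 e2
  · exact nr g e4

omit m in
theorem norm_le_of_types (h : ∀ X : Subgroup G, X ≠ ⊤ → Ly X ≠ ⊥ → AT X ∨ ∃ q d k m e φ, LT X q d k m e φ) :
    ∀ Y ≤ F, Y ≠ ⊥ → 𝐍(Y) ≤ H := by
  by_contra hN
  obtain ⟨M, m⟩ := c.exists_cy (fun X h1 h2 => (h X h1 h2).elim (fun h => h.toCp)
    fun ⟨_, _, _, _, _, _, h⟩ => h.toCp) hN
  exact (h M m.ne m.ly).elim (c.at_false m) fun ⟨_, _, _, _, _, _, h⟩ => c.lt_false m h

end Cx

end A2S

universe u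

theorem stepA2S_of {G : Type u} [Group G] [Finite G] (h : Min G) {t : G} (ht : Inv t) {H : Subgroup G}
    (hH : IsCoatom H) (hC : 𝐂[t] < H) (hs : Group.IsSolvable H) (h1 : t ∈ 𝐂(Od H)) (hU : Ut t ≠ ⊥)
    (ns : ∀ {S : Subgroup G} {σ τ : G} {k : ℕ}, DihSyl S σ τ t k → ∀ {N : Subgroup G}, N ≤ Ut t →
      ⁅Ut t, 𝐂[t]⁆ ≤ N → (∀ s ∈ S, Kl t s → ∃ g, g * t * g⁻¹ = s ∧ g * s * g⁻¹ = t * s ∧
        ∀ w ∈ Wt t s, ⁅g, w⁆ ∈ N) → N = Ut t)
    (c3 : ∀ {S : Subgroup G} {σ τ : G}, DihSyl S σ τ t 1 → τ ∈ 𝐂(Ut t) → InvBy (σ * τ) (Ut t) →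
      (∀ Y, Y ≤ Ut t → Y ≠ ⊥ → 𝐍(Y) ≤ 𝐍(Vk t τ)) → Ut t ≠ ⊥ → Nat.card (Ut t) = 3) :
    Nonempty (G ≃* alternatingGroup (Fin 7)) := by
  obtain ⟨σ, τ, S, c⟩ := A2S.exists_cx h.toSd ht hH hC hs h1 hU
  have hN := c.norm_le_of_types fun X => h.types
  obtain ⟨e, hi⟩ := c.invBy hN fun N => ns c.D
  exact c.iso hi (c3 c.D c.cent hi (fun Y hY h0 => c.norm ▸ hN Y (e ▸ hY) h0) hU)

end GW
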