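import Cfsg.Agent.Lib.GW.A3pa
import Cfsg.Agent.Lib.GW.A2Sa
import Cfsg.Agent.Lib.GW.DX

/-!
# Step A3 of the Gorenstein–Walter theorem: the maximal subgroup has characteristic `p`
-/

set_option autoImplicit false
set_option linter.unusedSectionVars false
set_option linter.style.haveILetI false

namespace GW

open Cfsg GT FT GAG Subgroup
open scoped Pointwise commutatorElement

universe u

variable {G : Type u} [Group G] [Finite G] {p : ℕ} [hp : Fact p.Prime]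

namespace A3p

/-- `A` is a maximal subgroup of characteristic `p` containing `C(t)` -/
structure Pr (p : ℕ) (t : G) (A : Subgroup G) : Prop where
  min : Min G
  odd : p ≠ 2
  inv : Inv t
  max : IsCoatom A
  hC : 𝐂[t] ≤ A
  cons : A ⊓ 𝐂(Op p A) ≤ Op p A
  ne : t ∉ 𝐂(Op p A)

/-- `O_p(A) ∩ M` is self-centralizing in `O_p(A)` -/
def Sc (p : ℕ) (A M : Subgroup G) : Prop := Op p A ⊓ 𝐂(Op p A ⊓ M) ≤ M

variable {t s u : G} {A B C M Q R : Subgroup G}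

theorem Sc.mono {M' : Subgroup G} (h : Sc p A M) (e : M ≤ M') : Sc p A M' :=
  ((inf_le_inf_left _ (centralizer_le (inf_le_inf_left _ e))).trans h).trans e

theorem sc_norm (h : Q ≤ Op p A) : Sc p A 𝐍(Q) :=
  inf_le_right.trans ((centralizer_le (le_inf h le_normalizer)).trans (cent_le_norm _))

theorem Sc.Zc_le (h : Sc p A M) : Zc (Op p A) ≤ M :=
  (inf_le_inf_left _ (centralizer_le inf_le_left)).trans h

theorem odd_of {Y : Subgroup G} (hp2 : p ≠ 2) (h : IsPGroup p Y) : Odd (Nat.card Y) :=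
  not_two_dvd.1 (not_dvd_card_of_ne h hp2.symm)

theorem Op_le {q r : ℕ} (h : q ≠ r) (X : Subgroup G) : Op q X ≤ Op' r X :=
  piCoreOf_mono (Set.singleton_subset_iff.2 h) X

theorem cons_of (h1 : Ly M = ⊥) (h2 : Op' p M = ⊥) : M ⊓ 𝐂(Op p M) ≤ Op p M := by
  have h3 : fittingOf M ≤ Op p M := fittingOf_le_of_forall_Op fun q _ => by
    by_cases e : q = p
    · exact e ▸ le_rfl
    · exact (Op_le e M).trans (h2.le.trans bot_le)
  exact ((inf_le_inf_left _ (centralizer_le h3)).trans (cent_fitting_of_Ly h1)).trans h3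

theorem mem_cent_of_inv {D : Subgroup G} {x : G} (hi : InvBy t D) (hx : x ∈ 𝐍(D)) (ho : Odd (orderOf x))
    (e : t * x * t⁻¹ = x⁻¹) : x ∈ 𝐂(D) := by
  obtain ⟨k, hk⟩ := exists_pow_eq_self_of_coprime (Nat.coprime_two_left.2 ho)
  refine hk ▸ pow_mem (fun d hd => ?_) k
  have h1 := hi _ (conj_mem_of_mem_normalizer hx hd)
  rw [← conj_mul, ← conj_mul, ← conj_inv, e, hi d hd] at h1
  calc _ = x * (x⁻¹ * d⁻¹ * x⁻¹⁻¹)⁻¹ * x := by rw [pow_two]; group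
    _ = _ := by rw [h1, pow_two]; group

namespace Pr

variable (a : Pr p t A)
include a

theorem sd : Sd G := a.min.toSd

theorem mem : t ∈ A := a.hC (mem_cent1.2 rfl)

theorem ne_bot : Op p A ≠ ⊥ := fun e => a.ne (le_cent_comm.1 (e.le.trans bot_le) (mem_zpowers t))

theorem conj (g : G) : Pr p (g * t * g⁻¹) (MulAut.conj g • A) :=
  ⟨a.min, a.odd, a.inv.conj g, isCoatom_conj a.max g, conj_cent1 g t ▸ conj_smul_le_conj_smul_iff.2 a.hC, by
    rw [Op, ← conj_piCoreOf, ← conj_smul_centralizer, ← conj_smul_inf]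
    exact conj_smul_le_conj_smul_iff.2 a.cons, by
    rw [Op, ← conj_piCoreOf, ← conj_smul_centralizer, conj_mem_conj_smul]
    exact a.ne⟩

theorem eq_bot (h : Sc p A M) {D : Subgroup G} (hD : ¬ p ∣ Nat.card D) (h1 : D ≤ A) (h2 : Op p A ⊓ M ≤ 𝐍(D)) :
    D = ⊥ := by
  have h3 := h1.trans (le_norm_piCoreOf {p} A)
  have h4 := disjoint_of_isPGroup_of_not_dvd (isPGroup_Op p A) hD
  haveI := (isPGroup_Op p A).isNilpotent
  exact h4.symm.eq_bot_of_le ((le_inf h1 (le_cent_comm.1 (le_cent_of_sc inf_le_left (le_inf inf_le_left h) h3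
    ((isPGroup_Op p A).coprime_card hD) (le_cent_of_comm_le_inf ((commutator_mono inf_le_left le_rfl).trans
      (commutator_le_left_of_norm h3)) (commutator_le_right_of_norm h2) h4)))).trans a.cons)

theorem inf_eq_bot (h : Sc p A M) : Op' p M ⊓ A = ⊥ :=
  a.eq_bot h (fun e => not_dvd_card_Op' p M (e.trans (card_dvd_of_le inf_le_left))) inf_le_right
    (le_normalizer_inf (inf_le_right.trans (le_norm_piCoreOf _ _))
      (inf_le_left.trans ((piCoreOf_le _ _).trans le_normalizer)))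

theorem invBy (h : Sc p A M) (ht : t ∈ M) : InvBy t (Op' p M) :=
  invBy_of_fpf a.inv (le_norm_piCoreOf _ _ ht) (eq_bot_iff.2 (a.inf_eq_bot h ▸ inf_le_inf_left _ a.hC))

theorem odd_Op' (h : Sc p A M) (ht : t ∈ M) : Odd (Nat.card (Op' p M)) := not_two_dvd.1 fun e => by
  obtain ⟨v, hv, h1⟩ := DX.exists_inv e
  exact h1.ne (mem_bot.1 (a.inf_eq_bot h ▸ mem_inf.2 ⟨hv, a.hC (mem_cent1.2 (mul_inv_eq_iff_eq_mul.1
    ((a.invBy h ht v hv).trans h1.inv)).symm)⟩))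

theorem act (ht : t ∈ M) : CoprimeAct (zpowers t) (Op p A ⊓ M) :=
  a.inv.copAct (odd_of a.odd ((isPGroup_Op p A).to_le inf_le_left))
    (inf_normalizer_le_normalizer_inf ⟨le_norm_piCoreOf _ _ a.mem, le_normalizer ht⟩)

theorem not_cent (h : Sc p A M) : ¬ Op p A ⊓ M ≤ 𝐂(zpowers t) := fun e => by
  haveI := (isPGroup_Op p A).isNilpotent
  exact a.ne (le_cent_comm.1 (le_cent_of_sc inf_le_left (le_inf inf_le_left h)
    (zpowers_le.2 (le_norm_piCoreOf _ _ a.mem)) (a.inv.copr (odd_of a.odd (isPGroup_Op p A))) e) (mem_zpowers t))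

theorem comm_le (hM : M ≠ ⊤) (ht : t ∈ M) : ⁅Op p A ⊓ M, zpowers t⁆ ≤ Op p M :=
  a.min.comm_le_Op hM a.inv ht a.odd ((isPGroup_Op p A).to_le inf_le_left) inf_le_right
    (le_normalizer_inf (inf_le_right.trans (a.hC.trans (le_norm_piCoreOf _ _))) (inf_le_left.trans le_normalizer))

theorem not_mem_cent (h : Sc p A M) (hM : M ≠ ⊤) (ht : t ∈ M) : t ∉ 𝐂(Op p M) := fun e =>
  a.not_cent h ((a.act ht).le_centralizer_of_commutator_le
    ((a.comm_le hM ht).trans (le_cent_comm.1 (zpowers_le.2 e))))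

theorem mem_cent {Y D : Subgroup G} (hY : IsPGroup p Y) (hD : ¬ p ∣ Nat.card D) (ho : Odd (Nat.card D))
    (hi : InvBy t D) {z : G} (hz : z ∈ omegaOne p (Zc (Op p A))) (hc : z ∈ 𝐂[t]) (zD : z ∈ 𝐍(D)) (zY : z ∈ 𝐍(Y))
    (tY : t ∈ 𝐍(Y)) (DY : D ≤ 𝐍(Y)) (hf : D ⊓ 𝐂(Y) = ⊥) : z ∈ 𝐂(D) := by
  refine frob a.odd hY hD ho a.inv hi ((elem_omegaOne_Zc p _).2 z hz) (mem_cent1.1 hc) zD zY tY DY hf fun w hw => ?_
  have h1 := omegaOne_le _ _ hz
  have h2 := mul_mem h1.1 (conj_mem_of_mem_normalizer (le_norm_piCoreOf _ _ (a.hC hw.2)) (inv_mem h1.1))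
  rw [commutatorElement_eq_one_iff_mul_comm, commutatorElement_def, mul_assoc z w, mul_assoc z (w * _), h1.2 _ h2]

theorem Op'_eq_bot (h : Sc p A M) (ht : t ∈ M)
    (hz : ∀ z ∈ omegaOne p (Zc (Op p A)), z ∈ 𝐂[t] → z ∈ 𝐂(Op' p M)) : Op' p M = ⊥ := by
  have h1 : A ≤ 𝐍(omegaOne p (Zc (Op p A))) :=
    ((le_norm_piCoreOf _ _).trans (norm_le_norm_Zc _)).trans (norm_le_norm_omegaOne _ _)
  have h2 := (isPGroup_Op p A).to_le ((omegaOne_le p _).trans (Zc_le _))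
  rw [← a.inf_eq_bot h, eq_comm, inf_eq_left, ← a.sd.norm_eq a.max
    (omegaOne_Zc_ne_bot (isPGroup_Op p A) a.ne_bot) h2.isSolvable' h1]
  refine (le_cent_comm.1 fun z hz' => ?_).trans (cent_le_norm _)
  obtain ⟨i, hi, c, hc, e, rfl⟩ := exists_inv_mul_fixed a.inv.sq (odd_of a.odd h2) (h1 a.mem) hz'
  exact mul_mem (mem_cent_of_inv (a.invBy h ht) (le_norm_piCoreOf _ _ (h.Zc_le (omegaOne_le _ _ hi)))
    ((odd_of a.odd h2).of_dvd_nat (orderOf_dvd_natCard _ hi)) e) (hz c hc.1 hc.2)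

variable (b : Pr p u B) (hk : Kl t u) (h1 : Q ≤ Op p A) (h2 : Q ≤ 𝐂[u]) (h3 : ⁅Q, zpowers t⁆ = Q)
include b hk h1 h2 h3

theorem le_Op : Q ≤ Op p B :=
  h3.ge.trans ((commutator_mono (le_inf h1 (h2.trans b.hC)) le_rfl).trans (a.comm_le b.max.1 (b.hC hk.mem_cent')))

/-- the normalizer of `Q` has characteristic `p` -/
theorem cons_norm (c : Pr p (t * u) C) (h0 : Q ≠ ⊥) : 𝐍(Q) ⊓ 𝐂(Op p 𝐍(Q)) ≤ Op p 𝐍(Q) := by
  have hQ := (isPGroup_Op p A).to_le h1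
  have hM := a.sd.norm_ne_top h0 hQ.isSolvable'
  have ht : t ∈ 𝐍(Q) := h3 ▸ le_norm_commutator_right _ _ (mem_zpowers t)
  have hu : u ∈ 𝐂(Q) := le_cent1_iff.1 h2
  have hu' := cent_le_norm _ hu
  have sa := sc_norm h1
  have sb := sc_norm (a.le_Op b hk h1 h2 h3)
  have ht' : t ∉ 𝐂(Q) := fun e => h0 (h3 ▸ commutator_eq_bot_of_le_cent (le_cent_comm.1 (zpowers_le.2 e)))
  refine cons_of ?_ (a.Op'_eq_bot sa ht fun z hz hc => ?_)
  · by_contra hE
    have h4 : Ly 𝐍(Q) ≤ 𝐂(Op p 𝐍(Q)) := (Ly_le_cent _).trans (centralizer_le (Op_le a.odd _))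
    have h5 := h4.trans (centralizer_le (FT.le_Op le_normalizer le_rfl hQ))
    rcases (a.min.cp hM hE).kl ht hu' hk with e | e | e
    exacts [ht' (h5 e), b.not_mem_cent sb hM hu' (h4 e), ht' ((mul_mem_cancel_right hu).1 (h5 e))]
  · have h4 : A ≤ 𝐍(omegaOne p (Zc (Op p A))) :=
      ((le_norm_piCoreOf _ _).trans (norm_le_norm_Zc _)).trans (norm_le_norm_omegaOne _ _)
    have h5 := odd_of a.odd ((isPGroup_Op p A).to_le
      ((inf_le_left (b := 𝐂[t])).trans ((omegaOne_le p _).trans (Zc_le _))))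
    obtain ⟨i, hi, y, hy, e, rfl⟩ := exists_inv_mul_fixed b.inv.sq h5 (inf_normalizer_le_normalizer_inf
      ⟨h4 (a.hC hk.mem_cent), le_normalizer hk.mem_cent⟩) ⟨hz, hc⟩
    have hn : ∀ x ∈ omegaOne p (Zc (Op p A)), x ∈ 𝐍(Op' p 𝐍(Q)) := fun x hx =>
      le_norm_piCoreOf _ _ (sa.Zc_le (omegaOne_le _ _ hx))
    have hD : Op' p 𝐍(Q) ≤ C := fun d hd => c.hC (mem_cent1.2 (mul_inv_eq_iff_eq_mul.1 (by
      calc _ = t * (u * d * u⁻¹) * t⁻¹ := by group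
        _ = _ := by rw [b.invBy sb hu' d hd, ← conj_inv, a.invBy sa ht d hd, inv_inv])).symm)
    refine mul_mem (mem_cent_of_inv (b.invBy sb hu') (hn i hi.1) (h5.of_dvd_nat (orderOf_dvd_natCard _ hi)) e)
      (a.mem_cent (isPGroup_Op p C) (not_dvd_card_Op' p _) (a.odd_Op' sa ht) (a.invBy sa ht) hy.1.1 hy.1.2
        (hn y hy.1.1) (le_norm_piCoreOf _ _ (c.hC (mem_cent1.2 ?_))) (le_norm_piCoreOf _ _ (c.hC hk.mulR.mem_cent'))
        (hD.trans (le_norm_piCoreOf _ _)) (eq_bot_iff.2 ((le_inf ((inf_le_inf_right _ hD).trans c.cons)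
          inf_le_left).trans (disjoint_Op_Op' p _ _).le_bot)))
    rw [← mul_assoc, mem_cent1.1 hy.1.2, mul_assoc, mem_cent1.1 hy.2, mul_assoc]

end Pr

theorem exists_Q (h : Sd G) (hk : Kl t s) (ho : Odd (Nat.card R)) (hn : Vk t s ≤ 𝐍(R)) (h1 : ¬ R ≤ 𝐂(zpowers t)) :
    ∃ u Q, (u = s ∨ u = t * s) ∧ Q ≠ ⊥ ∧ Q ≤ R ∧ Q ≤ 𝐂[u] ∧ ⁅Q, zpowers t⁆ = Q := by
  have key : ∀ u, Kl t u → ¬ R ⊓ Ut u ≤ 𝐂(zpowers t) → ∃ Q, Q ≠ ⊥ ∧ Q ≤ R ∧ Q ≤ 𝐂[u] ∧ ⁅Q, zpowers t⁆ = Q :=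
    fun u hu h2 => by
      have h3 : CoprimeAct (zpowers t) (R ⊓ Ut u) := hk.l.copAct (odd_of_le_Od inf_le_right)
        (inf_normalizer_le_normalizer_inf ⟨hn hk.left_mem, norm_Ut u hu.mem_cent'⟩)
      exact ⟨_, fun e => h2 (le_cent_of_commutator_le e.le), h3.commutator_le.trans inf_le_left,
        h3.commutator_le.trans (inf_le_right.trans (Ut_le u)), h3.commutator_commutator_eq⟩
  by_cases h2 : R ⊓ Ut s ≤ 𝐂(zpowers t)
  · obtain ⟨Q, hQ⟩ := key _ hk.mulR fun h3 => h1 (h.le_of_kl hk ho (hn hk.left_mem) (hn hk.right_mem)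
      (inf_le_right.trans ((Ut_le t).trans (centralizer_zpowers t).ge)) h2 h3)
    exact ⟨_, Q, Or.inr rfl, hQ⟩
  · obtain ⟨Q, hQ⟩ := key _ hk h2
    exact ⟨_, Q, Or.inl rfl, hQ⟩

namespace Pr

variable (a : Pr p t A)
include a

theorem exists_pr (hu : Inv u) : ∃ g, g * t * g⁻¹ = u ∧ Pr p u (MulAut.conj g • A) := by
  obtain ⟨g, -, rfl⟩ := a.sd.conj a.inv hu
  exact ⟨g, rfl, a.conj g⟩

/-- maximal subgroups containing a four-group and a self-centralizing subgroup of `O_p(A)` have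
characteristic `p` -/
theorem cons_max (hk : Kl t s) (hM : IsCoatom M) (hV : Vk t s ≤ M) (h : Sc p A M) : M ⊓ 𝐂(Op p M) ≤ Op p M := by
  have ht := hV hk.left_mem
  have h1 := (a.act ht).commutator_le
  have hVA : Vk t s ≤ 𝐂[t] := hk.Vk_le.2 ⟨mem_cent1.2 rfl, hk.mem_cent⟩
  obtain ⟨u, Q, hu, h0, h2, h3, h4⟩ := exists_Q a.sd hk (R := ⁅Op p A ⊓ M, zpowers t⁆)
    (odd_of a.odd ((isPGroup_Op p A).to_le (h1.trans inf_le_left))) (le_normalizer_commutator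
      (le_normalizer_inf ((hVA.trans a.hC).trans (le_norm_piCoreOf _ _)) (hV.trans le_normalizer))
      ((hVA.trans (centralizer_zpowers t).ge).trans (cent_le_norm _)))
    fun e => a.not_cent h ((a.act ht).le_centralizer_of_commutator_le e)
  have hk' : Kl t u := by rcases hu with rfl | rfl; exacts [hk, hk.mulR]
  obtain ⟨_, -, b⟩ := a.exists_pr hk'.r
  obtain ⟨_, -, c⟩ := a.exists_pr hk'.inv_mul
  have h5 := h2.trans (h1.trans inf_le_left)
  have h6 := h2.trans (a.comm_le hM.1 ht)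
  have hc := a.cons_norm b hk' h5 h3 h4 c h0
  have hY := isPGroup_Op p 𝐍(Q)
  have hnY : 𝐍(Q) ≤ 𝐍(Op p 𝐍(Q)) := le_norm_piCoreOf _ _
  refine cons_of ?_ (a.Op'_eq_bot h ht fun z hz hz' => ?_)
  · by_contra hE
    have cp := a.min.cp hM.1 hE
    have e1 : Ly M ≤ 𝐂(Op p M) := (Ly_le_cent _).trans (centralizer_le (Op_le a.odd _))
    have e2 : Ly M ≤ 𝐍(Q) := e1.trans ((centralizer_le h6).trans (cent_le_norm _))
    have e3 : 𝐍(Zc (Op p M)) = M := a.sd.norm_eq hM (fun e => h0 (eq_bot_iff.2 (h6.trans (by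
      by_contra h7
      haveI := (isPGroup_Op p M).isNilpotent
      exact Zc_ne_bot (fun e => h7 e.le) e)))) ((isPGroup_Op p M).to_le (Zc_le _)).isSolvable'
      ((le_norm_piCoreOf _ _).trans (norm_le_norm_Zc _))
    have e4 : Op p 𝐍(Q) ⊓ 𝐂(Op p M ⊓ 𝐍(Q)) ≤ M := inf_le_right.trans (((centralizer_le (le_inf (Zc_le _)
      (inf_le_right.trans ((centralizer_le h6).trans (cent_le_norm _))))).trans (cent_le_norm _)).trans e3.le)
    have e5 := cp.le_cent (e4.trans (le_norm_Ly M)) (le_norm_inf_cent (e2.trans hnY)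
      ((e1.trans (centralizer_anti inf_le_left)).trans (cent_le_norm _))) (hY.to_le inf_le_left).isSolvable'
    obtain ⟨v, hv, hv'⟩ := cp.ex_inv
    have e6 := le_centralizer_of_pxq ((isPGroup_Op p M).to_le (inf_le_left (b := 𝐍(Q))))
      (not_dvd_card_of_ne hv'.isPGroup a.odd) hY (inf_le_right.trans hnY) (zpowers_le.2 (hnY (e2 hv)))
      (inf_le_left.trans (le_cent_comm.1 (zpowers_le.2 (e1 hv)))) (e5.trans (centralizer_le (zpowers_le.2 hv)))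
    exact hv'.ne (hv'.isPElt.eq_one_of_isPRegular (isPRegular_of_mem (not_dvd_card_of_ne hY a.odd.symm)
      (hc ⟨e2 hv, le_cent_comm.1 e6 (mem_zpowers v)⟩)))
  · have e1 : Op' p M ≤ 𝐍(Q) := (le_cent_comm.1 (h6.trans (piCoreOf_le_cent_compl _ _))).trans (cent_le_norm _)
    exact a.mem_cent hY (not_dvd_card_Op' p _) (a.odd_Op' h ht) (a.invBy h ht) hz hz'
      (le_norm_piCoreOf _ _ (h.Zc_le (omegaOne_le _ _ hz))) (hnY ((sc_norm h5).Zc_le (omegaOne_le _ _ hz)))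
      (hnY (h4 ▸ le_norm_commutator_right _ _ (mem_zpowers t))) (e1.trans hnY)
      (eq_bot_iff.2 ((le_inf ((inf_le_inf_right _ e1).trans hc) inf_le_left).trans (disjoint_Op_Op' p _ _).le_bot))

theorem le_aux (hk : Kl t s) (R : Subgroup G) : IsPGroup p R → Vk t s ≤ 𝐍(R) → Sc p A R → R ≤ A →
    ∀ M, M ≠ ⊤ → Vk t s ≤ M → R ≤ M → M ≤ A := by
  induction R using WellFoundedGT.induction with | ind R ih => ?_
  intro hR hV hs hA M hM hVM hRM
  have hVA : Vk t s ≤ A := (hk.Vk_le.2 ⟨mem_cent1.2 rfl, hk.mem_cent⟩).trans a.hC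
  have h0 : Zc (Puig R) ≠ ⊥ := fun e => a.not_cent hs (by
    rw [trivg_center_Puig_pgroup hR e, inf_bot_eq]; exact bot_le)
  have h1 := (hR.to_le ((Zc_le _).trans (Puig_le R))).isSolvable'
  have up : ∀ R' : Subgroup G, IsPGroup p R' → Vk t s ≤ 𝐍(R') → R ≤ R' → R' ≠ R → R' ⊓ 𝐍(R) ≤ A →
      ∀ M, M ≠ ⊤ → Vk t s ≤ M → R' ⊓ 𝐍(R) ≤ M → M ≤ A := fun R' h2 h3 h4 h5 h6 => by
    haveI := h2.isNilpotent
    have h7 := lt_inf_normalizer_of_isNilpotent (lt_of_le_of_ne h4 h5.symm)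
    exact ih _ h7 (h2.to_le inf_le_left) (le_normalizer_inf h3 (le_normalizer_normalizer hV)) (hs.mono h7.le) h6
  have h2 : 𝐍(Zc (Puig R)) ≤ A := by
    by_cases h : ∀ R' : Subgroup G, IsPGroup p R' → R' ≤ A → Vk t s ≤ 𝐍(R') → R ≤ R' → R' = R
    · exact (a.sd.norm_eq a.max h0 h1 (a.min.puig a.max.1 hk a.mem (hVA hk.right_mem) a.odd a.cons hR hA hV h)).le
    · push Not at h
      obtain ⟨R', h2, h3, h4, h5, h6⟩ := h
      exact up R' h2 h4 h5 h6 (inf_le_left.trans h3) _ (a.sd.norm_ne_top h0 h1) (hV.trans (center_Puig_char R))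
        (inf_le_right.trans (center_Puig_char R))
  obtain ⟨M', hM', hle⟩ := (eq_top_or_exists_le_coatom M).resolve_left hM
  refine hle.trans ?_
  by_cases h : ∀ R' : Subgroup G, IsPGroup p R' → R' ≤ M' → Vk t s ≤ 𝐍(R') → R ≤ R' → R' = R
  · exact (a.min.puig hM'.1 hk (hle (hVM hk.left_mem)) (hle (hVM hk.right_mem)) a.odd
      (a.cons_max hk hM' (hVM.trans hle) (hs.mono (hRM.trans hle))) hR (hRM.trans hle) hV h).trans h2
  · push Not at h
    obtain ⟨R', h3, h4, h5, h6, h7⟩ := h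
    exact up R' h3 h5 h6 h7 (inf_le_right.trans ((center_Puig_char R).trans h2)) _ hM'.1 (hVM.trans hle)
      (inf_le_left.trans h4)

theorem le (hk : Kl t s) (hM : M ≠ ⊤) (hV : Vk t s ≤ M) (h : Sc p A M) : M ≤ A :=
  a.le_aux hk (Op p A ⊓ M) ((isPGroup_Op p A).to_le inf_le_left) (le_normalizer_inf
    (((hk.Vk_le.2 ⟨mem_cent1.2 rfl, hk.mem_cent⟩).trans a.hC).trans (le_norm_piCoreOf _ _))
    (hV.trans le_normalizer)) (by rw [Sc, ← inf_assoc, inf_idem]; exact le_inf inf_le_left h)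
    (inf_le_left.trans (piCoreOf_le _ _)) M hM hV inf_le_right

theorem conjIn (hk : Kl t s) : ConjIn A t s := by
  have hV : Vk t s ≤ A := (hk.Vk_le.2 ⟨mem_cent1.2 rfl, hk.mem_cent⟩).trans a.hC
  obtain ⟨u, Q, hu, h0, h1, h2, h3⟩ := exists_Q a.sd hk (odd_of a.odd (isPGroup_Op p A))
    (hV.trans (le_norm_piCoreOf _ _)) fun e => a.ne (le_cent_comm.1 e (mem_zpowers t))
  have hk' : Kl t u := by rcases hu with rfl | rfl; exacts [hk, hk.mulR]
  obtain ⟨g, hg, b⟩ := a.exists_pr hk'.r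
  have h4 := a.le hk' (a.sd.norm_ne_top h0 ((isPGroup_Op p A).to_le h1).isSolvable')
    (hk'.Vk_le.2 ⟨h3 ▸ le_norm_commutator_right _ _ (mem_zpowers t), cent_le_norm _ (le_cent1_iff.1 h2)⟩)
    (sc_norm h1)
  have h5 := b.le hk'.symm a.max.1 (hk'.symm.Vk_le.2 ⟨a.hC hk'.mem_cent, a.mem⟩)
    ((sc_norm (a.le_Op b hk' h1 h2 h3)).mono h4)
  have h6 : g ∈ A := (a.max.le_iff.1 le_normalizer).resolve_left (a.sd.norm_ne_top'
    (fun e => a.inv.ne (mem_bot.1 (e ▸ a.mem))) a.max.1) ▸ conj_smul_eq_iff_mem_normalizer.1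
      ((a.max.le_iff.1 h5).resolve_left b.max.1)
  rcases hu with rfl | rfl
  exacts [⟨g, h6, hg⟩, a.sd.conjIn_mul hk a.hC ⟨g, h6, hg⟩]

end Pr

end A3p

theorem stepA3_p (h : Min G) {t s : G} (hk : Kl t s) {H : Subgroup G} (hH : IsCoatom H) (hC : 𝐂[t] ≤ H)
    (hn : ¬ ConjIn H t s) (hp2 : p ≠ 2) (hF : IsPGroup p (fittingOf H)) (hE : Ly H = ⊥)
    (ht : t ∉ 𝐂(Op p H)) : False := by
  have h1 : fittingOf H ≤ Op p H := le_Op_of_le_fittingOf hF le_rfl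
  exact hn (A3p.Pr.conjIn ⟨h, hp2, hk.l, hH, hC, ((inf_le_inf_left _ (centralizer_le h1)).trans
    (cent_fitting_of_Ly hE)).trans h1, ht⟩ hk)

end GW
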