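import Cfsg.Agent.Lib.GW.A3a
import Cfsg.Agent.Lib.GW.A3p

/-!
# Step A3 of the Gorenstein–Walter theorem
-/

set_option autoImplicit false

namespace GW

open Cfsg GT FT Subgroup

universe u

theorem stepA3 {G : Type u} [Group G] [Finite G] (h : Min G) {t s : G} (hk : Kl t s) {H : Subgroup G}
    (hH : IsCoatom H) (hC : 𝐂[t] ≤ H) (hn : ¬ ConjIn H t s) : t ∈ 𝐂(Od H) :=
  stepA3_of h hk hH hC hn fun _ _ hp hF hE ht => stepA3_p h hk hH hC hn hp hF hE ht

end GW
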