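import Cfsg.Agent.Lib.GW.Defs
import Cfsg.Agent.Lib.FT.LibE

/-!
# Bender's lemma on maximal subgroups of simple groups
-/

set_option autoImplicit false
set_option linter.unusedSectionVars false

namespace GW

open Cfsg GT FT Subgroup
open scoped Pointwise commutatorElement

variable {G : Type*} [Group G] [Finite G]

section SC
variable {F Y D : Subgroup G}

theorem le_cent_of_comm_le_inf {A B K L : Subgroup G} (h1 : ⁅A, B⁆ ≤ K) (h2 : ⁅A, B⁆ ≤ L) (hd : Disjoint K L) :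
    A ≤ 𝐂(B) := le_cent_of_commutator_le ((le_inf h1 h2).trans (disjoint_iff_inf_le.1 hd))

theorem disjoint_Op_Op' (p : ℕ) (A B : Subgroup G) : Disjoint (Op p A) (Op' p B) :=
  disjoint_of_isPiNat (isPiNat_piCoreOf _ _) (isPiNat_piCoreOf _ _)

theorem piCoreOf_mono_nil [Group.IsNilpotent F] (π : Set ℕ) (h : Y ≤ F) : piCoreOf π Y ≤ piCoreOf π F :=
  le_piCoreOf_of_nilpotent ((piCoreOf_le _ _).trans h) (isPiNat_piCoreOf _ _)

theorem cent_eq_inf_nil [Group.IsNilpotent F] (π : Set ℕ) : 𝐂(F) = 𝐂(piCoreOf π F) ⊓ 𝐂(piCoreOf πᶜ F) := by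
  rw [← GT.centralizer_sup, (dp_piCoreOf_of_nilpotent (H := F) π).sup]

/-- the `π`-part of a self-centralizing subgroup is self-centralizing in the `π`-part -/
theorem sc_piCoreOf [Group.IsNilpotent F] (hY : Y ≤ F) (sc : F ⊓ 𝐂(Y) ≤ Y) (π : Set ℕ) :
    piCoreOf π F ⊓ 𝐂(piCoreOf π Y) ≤ piCoreOf π Y := by
  have : Group.IsNilpotent Y := isNilpotent_of_le hY
  refine le_piCoreOf_of_nilpotent (le_trans (le_inf (inf_le_left.trans (piCoreOf_le _ _)) ?_) sc)
    ((isPiNat_piCoreOf π F).of_le inf_le_left)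
  rw [cent_eq_inf_nil (F := Y) π]
  exact le_inf inf_le_right (inf_le_left.trans
    ((piCoreOf_le_cent_compl π F).trans (centralizer_anti (piCoreOf_mono_nil _ hY))))

theorem Op_le_cent_of_sc [Group.IsNilpotent F] (hY : Y ≤ F) (sc : F ⊓ 𝐂(Y) ≤ Y) {p : ℕ} [Fact p.Prime]
    (hn : D ≤ 𝐍(Op p F)) (hp : ¬ p ∣ Nat.card D) (hc : Op p Y ≤ 𝐂(D)) : Op p F ≤ 𝐂(D) :=
  le_centralizer_of_pxq (isPGroup_Op p Y) hp (isPGroup_Op p F)
    ((piCoreOf_mono_nil _ hY).trans le_normalizer) hn hc ((sc_piCoreOf hY sc _).trans hc)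

theorem nil_le_of_forall_Op [Group.IsNilpotent F] {K : Subgroup G}
    (h : ∀ (p : ℕ) [Fact p.Prime], p ∣ Nat.card F → Op p F ≤ K) : F ≤ K := by
  rw [← fittingOf_eq_self (H := F)]
  refine fittingOf_le_of_forall_Op fun p _ => ?_
  by_cases hp : p ∣ Nat.card F
  · exact h p hp
  · exact (piCoreOf_eq_bot ((isPiNat_compl_singleton_iff Fact.out).2 hp)).le.trans bot_le

/-- a coprime automorphism group centralizing a self-centralizing subgroup of a nilpotent group -/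
theorem le_cent_of_sc [Group.IsNilpotent F] (hY : Y ≤ F) (sc : F ⊓ 𝐂(Y) ≤ Y) (hn : D ≤ 𝐍(F))
    (hc : (Nat.card F).Coprime (Nat.card D)) (h : Y ≤ 𝐂(D)) : F ≤ 𝐂(D) :=
  nil_le_of_forall_Op fun p hp hd => Op_le_cent_of_sc hY sc (hn.trans (norm_le_norm_piCoreOf _ _))
    (fun h' => hp.out.one_lt.ne' (Nat.eq_one_of_dvd_coprimes hc hd h')) ((piCoreOf_le _ _).trans h)

theorem Zc_piCoreOf_le [Group.IsNilpotent F] (π : Set ℕ) : Zc (piCoreOf π F) ≤ Zc F := by
  refine le_inf (inf_le_left.trans (piCoreOf_le _ _)) ?_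
  rw [cent_eq_inf_nil (F := F) π]
  exact le_inf inf_le_right (inf_le_left.trans (piCoreOf_le_cent_compl π F))

theorem Zc_piCoreOf_le_of_sc [Group.IsNilpotent F] (hY : Y ≤ F) (sc : F ⊓ 𝐂(Y) ≤ Y) (π : Set ℕ) :
    Zc (piCoreOf π F) ≤ piCoreOf π Y := by
  have : Group.IsNilpotent Y := isNilpotent_of_le hY
  exact le_piCoreOf_of_nilpotent (((Zc_piCoreOf_le π).trans (inf_le_inf_left _ (centralizer_anti hY))).trans sc)
    ((isPiNat_piCoreOf π F).of_le inf_le_left)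

theorem Op_ne_bot_nil [Group.IsNilpotent F] {p : ℕ} [Fact p.Prime] (h : p ∣ Nat.card F) : Op p F ≠ ⊥ :=
  fun e => by
    have h1 := (sylow_Op_of_nilpotent (H := F) p).not_dvd
    rw [e, relIndex_bot_left] at h1
    exact h1 h

theorem Op'_ne_bot_nil [Group.IsNilpotent F] {p : ℕ} [Fact p.Prime] (h : ¬ IsPGroup p F) : Op' p F ≠ ⊥ :=
  fun e => h (by
    have h1 := (dp_piCoreOf_of_nilpotent (H := F) {p}).sup
    rw [show piCoreOf {p}ᶜ F = ⊥ from e, sup_bot_eq] at h1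
    exact h1 ▸ isPGroup_Op p F)

end SC

theorem norm_eq_of_coatom [IsSimpleGroup G] {A N : Subgroup G} (hA : IsCoatom A) (h1 : N ≤ A) (h2 : A ≤ 𝐍(N))
    (h0 : N ≠ ⊥) : 𝐍(N) = A := by
  refine (h2.eq_or_lt.resolve_right fun hlt => ?_).symm
  rcases (normalizer_eq_top_iff.1 (hA.2 _ hlt)).eq_bot_or_eq_top with e | e
  · exact h0 e
  · exact hA.1 (top_le_iff.1 (e ▸ h1))

/-- `Y` is self-centralizing in `F(A)`, `A` a maximal subgroup without components, `Y ≤ B < G` -/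
structure Inf (A Y B : Subgroup G) : Prop where
  max : IsCoatom A
  cons : A ⊓ 𝐂(fittingOf A) ≤ fittingOf A
  le : Y ≤ fittingOf A
  sc : fittingOf A ⊓ 𝐂(Y) ≤ Y
  leB : Y ≤ B

namespace Inf
variable [IsSimpleGroup G] {A Y B : Subgroup G}

theorem norm_Zc (h : Inf A Y B) {π : Set ℕ} (h0 : piCoreOf π (fittingOf A) ≠ ⊥) :
    𝐍(Zc (piCoreOf π (fittingOf A))) = A := by
  have : Group.IsNilpotent (piCoreOf π (fittingOf A)) := isNilpotent_of_le (piCoreOf_le _ _)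
  exact norm_eq_of_coatom h.max (inf_le_left.trans ((piCoreOf_le _ _).trans (fittingOf_le A)))
    (((le_norm_fittingOf A).trans (norm_le_norm_piCoreOf _ _)).trans (norm_le_norm_Zc _)) (Zc_ne_bot h0)

theorem cent_le (h : Inf A Y B) {π : Set ℕ} (h0 : piCoreOf π (fittingOf A) ≠ ⊥) : 𝐂(piCoreOf π Y) ≤ A :=
  (centralizer_anti (Zc_piCoreOf_le_of_sc h.le h.sc π)).trans ((cent_le_norm _).trans (h.norm_Zc h0).le)

/-- a subgroup of `A` normalized by `Y` and of order prime to `|F(A)|` is trivial -/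
theorem eq_bot (h : Inf A Y B) {D : Subgroup G} (hD : D ≤ A) (hn : Y ≤ 𝐍(D))
    (hc : (Nat.card (fittingOf A)).Coprime (Nat.card D)) : D = ⊥ := by
  have hd := FT.disjoint_of_coprime hc
  have h1 := hD.trans (le_norm_fittingOf A)
  have h2 : Y ≤ 𝐂(D) := le_cent_of_comm_le_inf
    ((commutator_mono h.le le_rfl).trans (commutator_le_left_of_norm h1)) (commutator_le_right_of_norm hn) hd
  exact hd.symm.eq_bot_of_le ((le_inf hD (le_cent_comm.1 (le_cent_of_sc h.le h.sc h1 hc h2))).trans h.cons)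

theorem a (h : Inf A Y B) {r : ℕ} [Fact r.Prime] (hr : ¬ r ∣ Nat.card (fittingOf A)) : Op r B ⊓ A = ⊥ :=
  h.eq_bot inf_le_right
    (le_normalizer_inf (h.leB.trans (le_norm_piCoreOf _ _)) ((h.le.trans (fittingOf_le A)).trans le_normalizer))
    (((isPGroup_Op r B).to_le inf_le_left).coprime_card hr).symm

theorem b (h : Inf A Y B) {r : ℕ} [Fact r.Prime] (hr : r ∣ Nat.card (fittingOf A)) : Op r B ≤ 𝐂(Op' r Y) := by
  have : Group.IsNilpotent Y := isNilpotent_of_le h.le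
  have n1 : ∀ π, piCoreOf π Y ≤ 𝐍(Op r B) := fun π => ((piCoreOf_le _ _).trans h.leB).trans (le_norm_piCoreOf _ _)
  refine le_centralizer_of_pxq (isPGroup_Op r Y) (not_dvd_card_Op' r Y) (isPGroup_Op r B) (n1 _) (n1 _)
    (piCoreOf_le_cent_compl _ _) (le_cent_of_comm_le_inf
      ((commutator_mono inf_le_left le_rfl).trans (commutator_le_left_of_norm (n1 _)))
      ((commutator_mono le_rfl (piCoreOf_mono_nil _ h.le)).trans (commutator_le_right_of_norm ?_))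
      (disjoint_Op_Op' r B (fittingOf A)))
  exact (inf_le_right.trans (h.cent_le (Op_ne_bot_nil hr))).trans
    ((le_norm_fittingOf A).trans (norm_le_norm_piCoreOf _ _))

theorem c (h : Inf A Y B) {r : ℕ} [Fact r.Prime] (hr : r ∣ Nat.card (fittingOf A))
    (hp : ¬ IsPGroup r (fittingOf A)) : Op r B ≤ A := (h.b hr).trans (h.cent_le (Op'_ne_bot_nil hp))

theorem dvd {Y' : Subgroup G} (h : Inf A Y B) (h' : Inf B Y' A) {r : ℕ} [Fact r.Prime]
    (hr : r ∣ Nat.card (fittingOf B)) : r ∣ Nat.card (fittingOf A) := by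
  by_contra hn
  have : Group.IsNilpotent (Op r (fittingOf B)) := isNilpotent_of_le (piCoreOf_le _ _)
  refine Zc_ne_bot (Op_ne_bot_nil hr) (le_bot_iff.1 (h.a hn ▸ le_inf ?_ ?_))
  · exact inf_le_left.trans (Op_fittingOf r B).le
  · exact (Zc_piCoreOf_le_of_sc h'.le h'.sc _).trans ((piCoreOf_le _ _).trans h'.leB)

theorem top (h : Inf A Y B) (hB : fittingOf A ≤ B) : Inf A (fittingOf A) B :=
  ⟨h.max, h.cons, le_rfl, inf_le_left, hB⟩

theorem fit_le (h : Inf A Y B) (hd : ∀ (r : ℕ) [Fact r.Prime], r ∣ Nat.card (fittingOf B) → r ∣ Nat.card (fittingOf A))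
    (hp : ∀ r : ℕ, r.Prime → ¬ IsPGroup r (fittingOf A)) : fittingOf B ≤ A :=
  nil_le_of_forall_Op fun r hr h1 => (Op_fittingOf r B).le.trans (h.c (hd r h1) (hp r hr.out))

theorem Op_le (h : Inf A (fittingOf A) B) (h' : Inf B (fittingOf B) A) {p r : ℕ} [Fact p.Prime] [Fact r.Prime]
    (hne : p ≠ r) (hp : p ∣ Nat.card (fittingOf A)) (hr : r ∣ Nat.card (fittingOf A)) : Op p A ≤ Op p B := by
  have hAB : ∀ (q : ℕ) [Fact q.Prime], Op q A ≤ B := fun q _ => (Op_le_fittingOf q A).trans h.leB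
  have hR : Op r A ≤ 𝐂(Op p B) := (h'.b (h'.dvd h hr)).trans (centralizer_anti
    (le_piCoreOf_of_nilpotent (Op_le_fittingOf p B) ((isPiNat_compl_singleton_iff Fact.out).2
      (not_dvd_card_of_ne (isPGroup_Op p B) hne.symm))))
  have nF := le_norm_fittingOf B
  have key : ∀ b ∈ B, MulAut.conj b • Op p A ≤ A := fun b hb => by
    have n1 : B ≤ 𝐍(𝐂(Op' p (fittingOf B))) := (nF.trans (norm_le_norm_piCoreOf _ _)).trans (norm_le_norm_cent _)
    have n2 : B ≤ 𝐍(𝐂(Op p B)) := (le_norm_piCoreOf _ _).trans (norm_le_norm_cent _)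
    have h1 : MulAut.conj b • Op p A ≤ B := conj_le_of_mem (hAB p) hb
    have h2 : MulAut.conj b • Op p A ≤ 𝐂(Op' p (fittingOf B)) :=
      conj_le_of_mem_norm (h'.b (h'.dvd h hp)) (n1 hb)
    have h3 : ⁅MulAut.conj b • Op p A, Op r A⁆ ≤ fittingOf B := by
      refine le_trans (le_inf ((commutator_mono h1 (hAB r)).trans (der_le B)) ?_) h'.cons
      rw [cent_eq_inf_nil (F := fittingOf B) {p}]
      refine le_inf ?_ ((commutator_mono h2 le_rfl).trans (commutator_le_left_of_norm ((hAB r).trans n1)))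
      rw [show piCoreOf {p} (fittingOf B) = Op p B from Op_fittingOf p B]
      exact (commutator_mono le_rfl hR).trans (commutator_le_right_of_norm (h1.trans n2))
    have h4 : ⁅MulAut.conj b • Op p A ⊔ fittingOf B, Op r A⁆ ≤ fittingOf B :=
      commutator_sup_left_le h3 (commutator_le_left_of_norm ((hAB r).trans nF)) (h1.trans nF) le_normalizer
    have hP : IsPGroup p ↥(MulAut.conj b • Op p A) := (isPGroup_Op p A).map _
    have h5 : MulAut.conj b • Op p A ≤ Op p (MulAut.conj b • Op p A ⊔ fittingOf B) := by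
      have h6 : MulAut.conj b • Op p A ≤ 𝐍(Op p B) := h1.trans (le_norm_piCoreOf _ _)
      refine le_sup_left.trans (le_Op (K := MulAut.conj b • Op p A ⊔ Op p B)
        (sup_le_sup_left (Op_le_fittingOf p B) _) (sup_le (le_sup_left.trans le_normalizer) ?_)
        (isPGroup_sup hP (isPGroup_Op p B) h6))
      rw [← (dp_piCoreOf_of_nilpotent (H := fittingOf B) {p}).sup]
      refine sup_le ((Op_fittingOf p B).le.trans (le_sup_right.trans le_normalizer)) (le_trans ?_ (cent_le_norm _))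
      rw [GT.centralizer_sup]
      refine le_inf (le_cent_comm.1 h2) (le_cent_comm.1 ?_)
      rw [← Op_fittingOf p B]
      exact piCoreOf_le_cent_compl _ _
    have n3 : Op r A ≤ 𝐍(Op p (MulAut.conj b • Op p A ⊔ fittingOf B)) :=
      (le_norm_of_commutator_le (h4.trans le_sup_right)).trans (norm_le_norm_piCoreOf _ _)
    have h7 := le_centralizer_of_commutator_le_of_coprime n3
      (coprime_card_of_ne (isPGroup_Op p _) (isPGroup_Op r A) hne)
      ((le_Op_of_le_fittingOf ((isPGroup_Op p _).to_le (commutator_le_left_of_norm n3))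
        ((commutator_mono (piCoreOf_le _ _) le_rfl).trans h4)).trans (le_cent_comm.1 hR))
    refine (h5.trans h7).trans (le_trans ?_ (h.cent_le (Op_ne_bot_nil hr)))
    rw [show piCoreOf {r} (fittingOf A) = Op r A from Op_fittingOf r A]
  let K : Subgroup G := ⨆ b : B, MulAut.conj (b : G) • Op p A
  have hK : Op p A ≤ K := le_iSup_of_le (1 : B) (by simp)
  have hKB : K ≤ B := iSup_le fun b => conj_le_of_mem (hAB p) b.2
  have hn : B ≤ 𝐍(K) := fun b hb => by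
    refine mem_normalizer_of_conj_mem fun x hx => (?_ : MulAut.conj b • K ≤ K) (smul_mem_pointwise_smul _ _ _ hx)
    rw [conj_smul_le_iff_le_inv]
    refine iSup_le fun c => ?_
    rw [← conj_smul_le_iff_le_inv, ← mul_smul, ← map_mul]
    exact le_iSup_of_le (⟨b, hb⟩ * c : B) le_rfl
  exact (le_Op hK ((iSup_le fun b : B => key b b.2).trans (le_norm_piCoreOf _ _)) (isPGroup_Op p A)).trans
    (piCoreOf_le_of_normal _ hKB hn)

theorem d {Y' : Subgroup G} (h : Inf A Y B) (h' : Inf B Y' A)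
    (hp : ∀ r : ℕ, r.Prime → ¬ IsPGroup r (fittingOf A)) : A = B := by
  have ex : ∀ r : ℕ, r.Prime → ∃ q : ℕ, q.Prime ∧ q ≠ r ∧ q ∣ Nat.card (fittingOf A) := fun r hr => by
    have := Fact.mk hr
    obtain ⟨q, hq, hd⟩ := exists_prime_dvd_card (Op'_ne_bot_nil (hp r hr))
    exact ⟨q, hq, fun e => not_dvd_card_Op' r _ (e ▸ hd), hd.trans (card_dvd_of_le (piCoreOf_le _ _))⟩
  have hp' : ∀ r : ℕ, r.Prime → ¬ IsPGroup r (fittingOf B) := fun r hr hB => by
    obtain ⟨q, hq, hne, hd⟩ := ex r hr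
    have := Fact.mk hr
    have := Fact.mk hq
    exact not_dvd_card_of_ne hB hne (h'.dvd h hd)
  have k := h.top (h'.fit_le (fun r _ => h'.dvd h) hp')
  have k' := h'.top (h.fit_le (fun r _ => h.dvd h') hp)
  obtain ⟨p, hp1, -, hp2⟩ := ex 2 Nat.prime_two
  obtain ⟨r, hr1, hne, hr2⟩ := ex p hp1
  have := Fact.mk hp1
  have := Fact.mk hr1
  have e : Op p A = Op p B := le_antisymm (k.Op_le k' hne.symm hp2 hr2)
    (k'.Op_le k hne.symm (h'.dvd h hp2) (h'.dvd h hr2))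
  have h0 : Op p A ≠ ⊥ := Op_fittingOf p A ▸ Op_ne_bot_nil hp2
  exact (norm_eq_of_coatom (N := Op p A) h.max (piCoreOf_le _ _) (le_norm_piCoreOf _ _) h0).symm.trans
    (e ▸ norm_eq_of_coatom (N := Op p B) h'.max (piCoreOf_le _ _) (le_norm_piCoreOf _ _) (e ▸ h0))

end Inf

theorem exists_sq_of_odd {x : G} (h : Odd (orderOf x)) : ∃ n : ℕ, x ^ n * x ^ n = x := by
  obtain ⟨k, hk⟩ := h
  refine ⟨k + 1, ?_⟩
  rw [← pow_add, show k + 1 + (k + 1) = orderOf x + 1 by omega, pow_succ, pow_orderOf_eq_one, one_mul]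

/-- an element of an odd group normalized by the involution `u` is an inverted times a fixed element -/
theorem exists_inv_mul_fixed {R : Subgroup G} {u r : G} (hu : u * u = 1) (hR : Odd (Nat.card R)) (hn : u ∈ 𝐍(R))
    (hr : r ∈ R) : ∃ i ∈ R, ∃ c ∈ R ⊓ 𝐂[u], u * i * u⁻¹ = i⁻¹ ∧ i * c = r := by
  have hi : u⁻¹ = u := inv_eq_of_mul_eq_one_right hu
  have hy : r * (u * r * u⁻¹)⁻¹ ∈ R := R.mul_mem hr (R.inv_mem ((mem_normalizer_iff.1 hn r).1 hr))
  obtain ⟨n, hn'⟩ := exists_sq_of_odd (hR.of_dvd_nat (R.orderOf_dvd_natCard hy))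
  have e : u * (r * (u * r * u⁻¹)⁻¹) * u⁻¹ = (r * (u * r * u⁻¹)⁻¹)⁻¹ := by
    rw [hi]; simp only [mul_inv_rev, hi, inv_inv, mul_assoc, hu, mul_one]
  have e' : u * (r * (u * r * u⁻¹)⁻¹) ^ n * u⁻¹ = ((r * (u * r * u⁻¹)⁻¹) ^ n)⁻¹ := by
    rw [← conj_pow, e, inv_pow]
  generalize (r * (u * r * u⁻¹)⁻¹) ^ n = i, R.pow_mem hy n = hiR at hn' e'
  refine ⟨i, hiR, i⁻¹ * r, ⟨R.mul_mem (R.inv_mem hiR) hr, mem_cent1.2 ?_⟩, e', mul_inv_cancel_left _ _⟩
  have e1 : u * r * u⁻¹ = i⁻¹ * (i⁻¹ * r) := by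
    rw [← mul_assoc, ← mul_inv_rev, hn']; group
  have e2 : u * i⁻¹ * u⁻¹ = i := by rw [← inv_inj, conj_inv, inv_inv, e']
  calc i⁻¹ * r * u = i * (u * r * u⁻¹) * u := by rw [e1, mul_inv_cancel_left]
    _ = u * i⁻¹ * u⁻¹ * (u * r * u⁻¹) * u := by rw [e2]
    _ = u * (i⁻¹ * r) := by group

/-- an involution `u` inverting `D`, both normalising the odd `R` of order prime to `|D|` -/
theorem le_cent_of_invBy {R D : Subgroup G} {u : G} (hu : u * u = 1) (hD : InvBy u D) (hR : Odd (Nat.card R))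
    (hc : (Nat.card R).Coprime (Nat.card D)) (ho : Odd (Nat.card D)) (hn : u ∈ 𝐍(R)) (hn' : D ≤ 𝐍(R))
    (h : R ⊓ 𝐂[u] ≤ 𝐂(D)) : R ≤ 𝐂(D) := by
  have hi : u⁻¹ = u := inv_eq_of_mul_eq_one_right hu
  have key : ∀ i ∈ R, u * i * u⁻¹ = i⁻¹ → i ∈ 𝐂(D) := fun i hiR hinv => mem_centralizer_iff.2 fun d hd => by
    obtain ⟨n, hn1⟩ := exists_sq_of_odd (ho.of_dvd_nat (D.orderOf_dvd_natCard hd))
    have he := D.pow_mem hd n
    generalize d ^ n = e at hn1 he
    have e1 : u * d = e⁻¹ * u * e := by rw [← hn1, ← hD e he]; group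
    have hu' : u * d * (u * d) = 1 := by
      rw [e1]; calc e⁻¹ * u * e * (e⁻¹ * u * e) = e⁻¹ * (u * u) * e := by group
        _ = 1 := by rw [hu]; group
    obtain ⟨j, hj, c, hcR, hj2, hjc⟩ := exists_inv_mul_fixed hu' hR (mul_mem hn (hn' hd)) (R.inv_mem hiR)
    have hc1 : e * c * e⁻¹ ∈ R ⊓ 𝐂[u] := ⟨(mem_normalizer_iff.1 (hn' he) c).1 hcR.1, mem_cent1.2 (by
      have := mem_cent1.1 hcR.2
      rw [e1] at this
      calc e * c * e⁻¹ * u = e * (c * (e⁻¹ * u * e)) * e⁻¹ := by group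
        _ = _ := by rw [this]; group)⟩
    have hc2 : e * c * e⁻¹ = c := by
      have := mem_centralizer_iff.1 (h hc1) e he
      calc e * c * e⁻¹ = e⁻¹ * (e * (e * c * e⁻¹)) := by group
        _ = e⁻¹ * (e * c * e⁻¹ * e) := by rw [this]
        _ = c := by group
    rw [hc2] at hc1
    have cu : c * u = u * c := mem_cent1.1 hc1.2
    have cd : d * c = c * d := mem_centralizer_iff.1 (h hc1) d hd
    have e3 : d * i * d⁻¹ = c⁻¹ * i * c⁻¹ := by
      have hj3 : j = i⁻¹ * c⁻¹ := by rw [← hjc]; group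
      rw [hj3] at hj2
      have e4 : u * (d * i * d⁻¹)⁻¹ * u⁻¹ = c * i * c := by
        calc u * (d * i * d⁻¹)⁻¹ * u⁻¹ = u * d * (i⁻¹ * c⁻¹) * (u * d)⁻¹ * (u * (d * c) * d⁻¹ * u⁻¹) := by group
          _ = c * i * c := by rw [hj2, cd, ← mul_assoc u, ← cu]; group
      have e5 : u * (c⁻¹ * i * c⁻¹)⁻¹ * u⁻¹ = c * i * c := by
        calc u * (c⁻¹ * i * c⁻¹)⁻¹ * u⁻¹ = (u * c) * u⁻¹ * (u * i * u⁻¹)⁻¹ * (u * c) * u⁻¹ := by group
          _ = c * i * c := by rw [hinv, ← cu]; group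
      rw [← e5] at e4
      exact inv_injective (mul_left_cancel (mul_right_cancel e4))
    have e6 : ∀ k : ℕ, d ^ k * i * (d ^ k)⁻¹ = (c ^ k)⁻¹ * i * (c ^ k)⁻¹ := fun k => by
      induction k with
      | zero => simp
      | succ k ih =>
        have ck : d * (c ^ k)⁻¹ = (c ^ k)⁻¹ * d := ((Commute.pow_right cd k).inv_right).eq
        calc d ^ (k + 1) * i * (d ^ (k + 1))⁻¹ = d * (d ^ k * i * (d ^ k)⁻¹) * d⁻¹ := by group
          _ = (d * (c ^ k)⁻¹) * i * (c ^ k)⁻¹ * d⁻¹ := by rw [ih]; group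
          _ = (c ^ k)⁻¹ * d * i * (c ^ k)⁻¹ * d⁻¹ := by rw [ck]
          _ = (c ^ k)⁻¹ * (d * i * d⁻¹) * (d * (c ^ k)⁻¹) * d⁻¹ := by group
          _ = _ := by rw [ck, e3]; group
    have e7 := e6 (Nat.card R)
    rw [orderOf_dvd_iff_pow_eq_one.1 (R.orderOf_dvd_natCard hcR.1), inv_one, one_mul, mul_one,
      mul_inv_eq_iff_eq_mul] at e7
    obtain ⟨m, hm⟩ := exists_pow_eq_self_of_coprime (hc.coprime_dvd_right (D.orderOf_dvd_natCard hd))
    rw [← hm]
    exact (Commute.pow_left e7 m).eq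
  intro r hr
  obtain ⟨i, hiR, c, hcR, h1, rfl⟩ := exists_inv_mul_fixed hu hR hn hr
  exact mul_mem (key i hiR h1) (h hcR)

end GW
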