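import Cfsg.Agent.Lib.GW.Ly
import Cfsg.Agent.Lib.Grp.CycAb

/-!
# Groups whose `2`-subgroups are cyclic or dihedral: the structure of `X / O(X)`
-/

set_option autoImplicit false
set_option linter.unusedSectionVars false
set_option linter.style.haveILetI false

namespace GW
open Cfsg GT FT Subgroup
open scoped Pointwise commutatorElement

namespace DX

section Kl
variable {G : Type*} [Group G] {u v x g : G}

theorem kl_symm (h : Kl u v) : Kl v u := ⟨h.r, h.l, h.ne.symm, h.comm.symm⟩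

theorem zp_le_cent (h : u * v = v * u) : zpowers v ≤ 𝐂(zpowers u) := by
  rw [centralizer_zpowers]; exact zpowers_le.2 (mem_cent1.2 h.symm)

theorem mem_pair (hu : u * u = 1) (hv : v * v = 1) (hc : u * v = v * u) :
    x ∈ Vk u v ↔ x = 1 ∨ x = u ∨ x = v ∨ x = u * v := by
  refine ⟨fun h => ?_, ?_⟩
  · obtain ⟨a, ha, b, hb, rfl⟩ := (mem_sup_of_le_normalizer_left
      ((zp_le_cent hc).trans (cent_le_norm _))).1 h
    rcases mem_zpowers_of_sq hu ha with rfl | rfl <;>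
      rcases mem_zpowers_of_sq hv hb with rfl | rfl <;> simp
  · rintro (rfl | rfl | rfl | rfl)
    exacts [one_mem _, mem_sup_left (mem_zpowers _), mem_sup_right (mem_zpowers _),
      mul_mem_sup (mem_zpowers _) (mem_zpowers _)]

theorem mem_Vk (h : Kl u v) : x ∈ Vk u v ↔ x = 1 ∨ x = u ∨ x = v ∨ x = u * v :=
  mem_pair h.l.sq h.r.sq h.comm

theorem l_mem_Vk (u v : G) : u ∈ Vk u v := mem_sup_left (mem_zpowers _)

theorem r_mem_Vk (u v : G) : v ∈ Vk u v := mem_sup_right (mem_zpowers _)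

theorem Vk_le {H : Subgroup G} : Vk u v ≤ H ↔ u ∈ H ∧ v ∈ H := by
  rw [sup_le_iff, zpowers_le, zpowers_le]

theorem closure_pair (u v : G) : closure {u, v} = Vk u v := by
  rw [Set.insert_eq, Subgroup.closure_union, ← zpowers_eq_closure, ← zpowers_eq_closure]

theorem mem_cent_Vk : x ∈ 𝐂(Vk u v) ↔ x ∈ 𝐂[u] ∧ x ∈ 𝐂[v] := by
  rw [← le_cent1_iff, Vk_le, mem_cent1_comm, mem_cent1_comm (x := x)]

theorem Vk_le_cent (h : u * v = v * u) : Vk u v ≤ 𝐂(Vk u v) :=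
  Vk_le.2 ⟨mem_cent_Vk.2 ⟨mem_cent1.2 rfl, mem_cent1.2 h⟩,
    mem_cent_Vk.2 ⟨mem_cent1.2 h.symm, mem_cent1.2 rfl⟩⟩

theorem inv_conj (h : Inv u) (g : G) : Inv (g * u * g⁻¹) :=
  ⟨fun e => h.ne (by simpa using e), by rw [conj_mul, h.sq]; simp⟩

theorem kl_conj (h : Kl u v) (g : G) : Kl (g * u * g⁻¹) (g * v * g⁻¹) :=
  ⟨inv_conj h.l g, inv_conj h.r g, fun e => h.ne (by simpa using e),
    by rw [conj_mul, conj_mul, h.comm]⟩

variable [Finite G]

theorem kl_mul (h : Kl u v) : Kl u (u * v) :=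
  ⟨h.l, h.mul, fun e => h.r.ne (by simpa using e), by rw [mul_assoc, h.comm]⟩

theorem card_Vk (h : Kl u v) : Nat.card (Vk u v) = 4 := by
  rw [Vk, sup_comm, card_sup_of_disjoint_of_le_normalizer ((zp_le_cent h.comm).trans
    (cent_le_norm _)), Nat.card_zpowers, Nat.card_zpowers, h.l.orderOf, h.r.orderOf]
  refine disjoint_def.2 fun ha hb => ?_
  rcases mem_zpowers_of_sq h.r.sq ha with e | e
  · exact e
  · exact (mem_zpowers_of_sq h.l.sq hb).resolve_right fun e' => h.ne (e'.symm.trans e)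

theorem two_Vk (h : Kl u v) : IsPGroup 2 (Vk u v) := IsPGroup.of_card (n := 2) (card_Vk h)

theorem not_cyclic_of_kl (h : Kl u v) {Q : Subgroup G} (hu : u ∈ Q) (hv : v ∈ Q) : ¬ IsCyclic Q :=
  not_cyclic_of_two hu hv h.l.sq h.r.sq h.l.ne h.r.ne h.ne

theorem sq_of_mem_Vk (h : Kl u v) (hx : x ∈ Vk u v) : x * x = 1 := by
  rcases (mem_Vk h).1 hx with rfl | rfl | rfl | rfl
  exacts [one_mul _, h.l.sq, h.r.sq, h.mul.sq]

end Kl

section DC
variable {G : Type*} [Group G] [Finite G] {H Q S : Subgroup G} {u v x z : G}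

/-- an abelian non-cyclic `2`-subgroup is a four-group -/
theorem exists_kl (h : DC H) (hQ : Q ≤ H) (hp : IsPGroup 2 Q) (hc : Q ≤ 𝐂(Q))
    (hn : ¬ IsCyclic Q) : ∃ a b, Kl a b ∧ Q = Vk a b := by
  obtain ⟨a, ha, b, hb, h1, h2, h3⟩ := (h Q hQ hp).resolve_left hn
  rw [closure_pair] at h3
  have h4 : ∀ c, ¬ Q ≤ zpowers c := fun c e => hn (Subgroup.isCyclic_of_le e)
  refine ⟨a, b, ⟨⟨?_, h1⟩, ⟨?_, h2⟩, ?_, hc hb a ha⟩, le_antisymm h3 (Vk_le.2 ⟨ha, hb⟩)⟩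
  · rintro rfl; exact h4 b (h3.trans (Vk_le.2 ⟨one_mem _, mem_zpowers _⟩))
  · rintro rfl; exact h4 a (h3.trans (Vk_le.2 ⟨mem_zpowers _, one_mem _⟩))
  · rintro rfl; exact h4 a (h3.trans (Vk_le.2 ⟨mem_zpowers _, mem_zpowers _⟩))

/-- four-groups contain the `2`-elements of their centralizers -/
theorem mem_Vk_of_two (h : DC H) (hk : Kl u v) (hu : u ∈ H) (hv : v ∈ H) (hx : x ∈ H)
    (h2 : IsPElt 2 x) (hc : x ∈ 𝐂(Vk u v)) : x ∈ Vk u v := by
  have h1 : zpowers x ≤ 𝐂(Vk u v) := zpowers_le.2 hc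
  obtain ⟨a, b, hab, e⟩ := exists_kl (Q := zpowers x ⊔ Vk u v) h
    (sup_le (zpowers_le.2 hx) (Vk_le.2 ⟨hu, hv⟩))
    (IsPGroup.to_sup_of_normal_right' h2.isPGroup_zpowers (two_Vk hk) (h1.trans (cent_le_norm _)))
    (by
      rw [centralizer_sup]
      exact le_inf (sup_le (comm_iff_le_cent.1 inferInstance) (le_cent_comm.1 h1))
        (sup_le h1 (Vk_le_cent hk.comm)))
    (not_cyclic_of_kl hk (mem_sup_right (l_mem_Vk u v)) (mem_sup_right (r_mem_Vk u v)))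
  rw [eq_of_le_of_card_ge (le_sup_right : Vk u v ≤ zpowers x ⊔ Vk u v)
    (by rw [e, card_Vk hab, card_Vk hk])]
  exact mem_sup_left (mem_zpowers x)

theorem exists_dih (h : DC (⊤ : Subgroup G)) (hS : IsSylowIn 2 S ⊤) (hn : ¬ IsCyclic S) :
    ∃ σ τ k, DihSyl S σ τ (σ ^ 2 ^ k) k := by
  obtain ⟨a, ha, b, hb, h1, h2, h3⟩ := (h S le_top hS.isPGroup).resolve_left hn
  have h4 : ∀ c, ¬ S ≤ zpowers c := fun c e => hn (Subgroup.isCyclic_of_le e)
  have e1 : b = a * (a * b) := by rw [← mul_assoc, h1, one_mul]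
  have h5 : closure {a * b, a} = S := by
    refine le_antisymm ((closure_le _).2 ?_) (h3.trans ((closure_le _).2 ?_))
    · rintro _ (rfl | rfl); exacts [mul_mem ha hb, ha]
    · have m1 : a ∈ closure {a * b, a} := subset_closure (by simp)
      have m2 : a * (a * b) ∈ closure {a * b, a} := mul_mem m1 (subset_closure (by simp))
      rw [← e1] at m2
      rintro _ (rfl | rfl)
      exacts [m1, m2]
  have h6 : a ∉ zpowers (a * b) := fun e =>
    h4 (a * b) (h5 ▸ (closure_pair _ _).le.trans (Vk_le.2 ⟨mem_zpowers _, e⟩))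
  obtain ⟨k, hk⟩ := isPElt_of_mem hS.isPGroup (mul_mem ha hb)
  cases k with
  | zero =>
    rw [pow_zero, orderOf_eq_one_iff] at hk
    exact (h4 a (h5 ▸ (closure_pair _ _).le.trans (Vk_le.2 ⟨hk ▸ one_mem _, mem_zpowers _⟩))).elim
  | succ k =>
    refine ⟨a * b, a, k, dihSyl_of_closure hS hk h1 ?_ h6 h5⟩
    rw [← e1, mul_inv_rev, inv_eq_of_mul_eq_one_right h2]

theorem hasDih (h : DC (⊤ : Subgroup G)) (hk : Kl u v) : HasDih G := by
  obtain ⟨S, hS, h1⟩ := exists_isSylowIn_ge (two_Vk hk) le_top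
  obtain ⟨σ, τ, k, D⟩ := exists_dih h hS (not_cyclic_of_kl hk (h1 (l_mem_Vk u v)) (h1 (r_mem_Vk u v)))
  exact ⟨S, σ, τ, _, k, D⟩

theorem exists_dih_of_cent (h : DC (⊤ : Subgroup G)) (hS : IsSylowIn 2 S ⊤) (hn : ¬ IsCyclic S)
    (hz : Inv z) (h1 : z ∈ S) (h2 : S ≤ 𝐂[z]) : ∃ σ τ k, DihSyl S σ τ z k := by
  obtain ⟨σ, τ, k, D⟩ := exists_dih h hS hn
  by_cases hσ : z ∈ zpowers σ
  · exact ⟨σ, τ, k, D.eq_J_of_sq hσ hz.ne hz.sq ▸ D⟩
  have h3 := D.conj_of_not_mem h1 hσ (mem_zpowers σ)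
  rw [← mem_cent1.1 (h2 D.σ_mem), mul_inv_cancel_right] at h3
  have h4 : 2 ^ (k + 1) ∣ 2 ^ 1 := D.ord ▸ orderOf_dvd_of_pow_eq_one (by
    rw [pow_one, pow_two]; exact mul_eq_one_iff_eq_inv.2 h3)
  have h5 : k = 0 := by have := (Nat.pow_dvd_pow_iff_le_right one_lt_two).1 h4; omega
  obtain ⟨τ', D'⟩ := exists_dihSyl_of_card_eq_four hS (by rw [D.card_P, h5]; rfl) hn h1 hz.orderOf
  exact ⟨z, τ', 0, D'⟩

/-- a subgroup with a central involution has a normal `2`-complement -/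
theorem nilp_of_cent (h : DC H) (hz : Inv z) (h1 : z ∈ H) (h2 : H ≤ 𝐂[z]) :
    HasNormalPComplement 2 H := by
  have hz' : Inv (⟨z, h1⟩ : H) := ⟨fun e => hz.ne (congrArg Subtype.val e), Subtype.ext hz.sq⟩
  have h3 : (⊤ : Subgroup H) ≤ 𝐂[(⟨z, h1⟩ : H)] :=
    fun y _ => mem_cent1.2 (Subtype.ext (mem_cent1.1 (h2 y.2)))
  obtain ⟨S, hS, h4⟩ := exists_isSylowIn_ge hz'.isPElt.isPGroup_zpowers le_top
  by_cases hn : IsCyclic S
  · obtain ⟨P, rfl⟩ := isSylowIn_top_iff.1 hS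
    exact hasNormalPComplement_two_of_isCyclic P
  obtain ⟨σ, τ, k, D⟩ := exists_dih_of_cent h.top hS hn hz' (h4 (mem_zpowers _)) (le_top.trans h3)
  exact hasNormalPComplement_top_iff.1 (hasNormalPComplement_of_le D.nilp h3)

theorem mem_Od_of_nilp (h : HasNormalPComplement 2 H) (hx : x ∈ H) (ho : ¬ 2 ∣ orderOf x) :
    x ∈ Od H := by
  rw [Od, Op'_eq_map]
  exact ⟨⟨x, hx⟩, hasNormalPComplement_iff_forall_mem.1 h _ ((isPRegular_mk hx).2 ho), rfl⟩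

theorem le_Od_of_nilp (h : HasNormalPComplement 2 H) (hQ : Q ≤ H) (ho : ¬ 2 ∣ Nat.card Q) :
    Q ≤ Od H := fun _ hx => mem_Od_of_nilp h (hQ hx) (isPRegular_of_mem ho hx)

theorem solvable_of_nilp (h : HasNormalPComplement 2 H) : Group.IsSolvable H := by
  have h1 := GAG.odd_solv (not_dvd_card_pPrimeCore 2 H)
  have h2 := IsPGroup.isSolvable' (hasNormalPComplement_iff_isPGroup_quotient.1 h)
  exact Group.isSolvable_of_ker_le_range (pPrimeCore 2 H).subtype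
    (QuotientGroup.mk' (pPrimeCore 2 H)) (by simp)

theorem nilp_cent1 (h : DC (⊤ : Subgroup G)) (hz : Inv z) : HasNormalPComplement 2 𝐂[z] :=
  nilp_of_cent (h.mono le_top) hz (mem_cent1.2 rfl) le_rfl

theorem mem_Ut (h : DC (⊤ : Subgroup G)) (hz : Inv z) (hx : x ∈ 𝐂[z]) (ho : ¬ 2 ∣ orderOf x) :
    x ∈ Ut z := mem_Od_of_nilp (nilp_cent1 h hz) hx ho

theorem le_Ut (h : DC (⊤ : Subgroup G)) (hz : Inv z) (hx : Q ≤ 𝐂[z]) (ho : ¬ 2 ∣ Nat.card Q) :
    Q ≤ Ut z := le_Od_of_nilp (nilp_cent1 h hz) hx ho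

theorem solvable_cent1 (h : DC (⊤ : Subgroup G)) (hz : Inv z) : Group.IsSolvable 𝐂[z] :=
  solvable_of_nilp (nilp_cent1 h hz)

theorem two_of_nilp (h : HasNormalPComplement 2 H) (hO : Od H = ⊥) : IsPGroup 2 H := by
  rw [Od, Op'_eq_map, map_eq_bot_iff_of_injective _ H.subtype_injective] at hO
  obtain ⟨k, hk⟩ := hasNormalPComplement_iff_index_pPrimeCore.1 h
  rw [hO, index_bot] at hk
  exact IsPGroup.of_card hk

theorem exists_inv (h : 2 ∣ Nat.card H) : ∃ z ∈ H, Inv z := by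
  obtain ⟨z, hz⟩ := exists_prime_orderOf_dvd_card' 2 h
  rw [← orderOf_coe, orderOf_eq_prime_iff, pow_two] at hz
  exact ⟨z, z.2, hz.2, hz.1⟩

theorem odd_cent (h : DC (⊤ : Subgroup G)) (hns : ¬ Group.IsSolvable H) :
    ¬ 2 ∣ Nat.card 𝐂(H) := fun h2 => by
  obtain ⟨z, hz, hz'⟩ := exists_inv h2
  have := solvable_cent1 h hz'
  exact hns (isSolvable_of_le (le_cent1_iff.2 hz))

theorem eq_bot_of_odd (hO : Od (⊤ : Subgroup G) = ⊥) (hn : H.Normal) (h : ¬ 2 ∣ Nat.card H) :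
    H = ⊥ := eq_bot_iff.2 (hO ▸ le_Op' le_top (top_le_norm_iff.2 hn) h)

theorem simple_of_minNormal (h : DC (⊤ : Subgroup G)) (hN : IsMinNormal H)
    (hns : ¬ Group.IsSolvable H) : IsSimpleGroup H := by
  have := hN.normal
  have := hN.nontrivial
  obtain ⟨M, hM⟩ := exists_isMinNormal H
  have h1 : ¬ Group.IsSolvable M := fun hs => by
    rcases hN.eq_bot_or_top (fittingSubgroup H) with e | e
    · exact hM.ne_bot (eq_bot_iff.2 (e ▸ hM.le_fitting))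
    · have := fittingSubgroup_isNilpotent (G := H)
      rw [e, Group.isNilpotent_top] at this
      exact hns inferInstance
  have h2 : ∀ g : G, M.map (MulAut.conjNormal g : H ≃* H).toMonoidHom = M := fun g => by
    by_contra hne
    have := GAG.odd_solv (odd_cent (h.mono (le_top : H ≤ ⊤)).top h1)
    have := isSolvable_of_le ((hM.map_mulEquiv (MulAut.conjNormal g)).le_centralizer_of_ne hM hne)
    exact h1 (Group.isSolvable_of_isSolvable_injective (f := (M.equivMapOfInjective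
      (MulAut.conjNormal g : H ≃* H).toMonoidHom (MulEquiv.injective _)).toMonoidHom)
      (MulEquiv.injective _))
  have h3 : (M.map H.subtype).Normal := ⟨by
    rintro _ ⟨x, hx, rfl⟩ g
    exact ⟨MulAut.conjNormal g x, h2 g ▸ mem_map_of_mem _ hx, by simp⟩⟩
  rcases hN.eq_bot_or_eq h3 (map_subtype_le M) with e | e
  · exact (hM.ne_bot ((map_eq_bot_iff_of_injective _ H.subtype_injective).1 e)).elim
  · rwa [← sgOf_eq_of_map e, subgroupOf_self, isMinNormal_top_iff] at hM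

/-- the group is `A₄` or `S₄` -/
structure S4 (u v : G) : Prop where
  kl : Kl u v
  normal : (Vk u v).Normal
  cent : 𝐂(Vk u v) ≤ Vk u v
  fused : Fused ⊤ u v
  card : Nat.card G = 12 ∨ Nat.card G = 24

theorem exists_fused {g : G} (hk : Kl u v) (hn : g ∈ 𝐍(Vk u v)) (hc : g ∉ 𝐂(Vk u v))
    (h3 : g ^ 3 = 1) : Kl u (g * u * g⁻¹) ∧ Vk u (g * u * g⁻¹) = Vk u v ∧
      g * (g * u * g⁻¹) * g⁻¹ = u * (g * u * g⁻¹) := by
  have hm : ∀ x ∈ Vk u v, g * x * g⁻¹ ∈ Vk u v := fun x hx => (mem_normalizer_iff.1 hn x).1 hx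
  have ho : ¬ 2 ∣ orderOf g := fun e => absurd (e.trans (orderOf_dvd_of_pow_eq_one h3)) (by decide)
  have h1 : u ≠ g * u * g⁻¹ := fun e => by
    have e1 : g ∈ 𝐂[u] := mem_cent1.2 (eq_mul_inv_iff_mul_eq.1 e).symm
    rcases (mem_Vk hk).1 (hm v (r_mem_Vk u v)) with e' | e' | e' | e'
    · exact (inv_conj hk.r g).ne e'
    · exact (kl_conj hk g).ne (e.symm.trans e'.symm)
    · exact hc (mem_cent_Vk.2 ⟨e1, mem_cent1.2 (mul_inv_eq_iff_eq_mul.1 e')⟩)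
    · exact hk.l.ne (eq_one_of_conj_eq_mul hk.l.isPElt ho e.symm e')
  have h2 : Kl u (g * u * g⁻¹) := ⟨hk.l, inv_conj hk.l g, h1,
    Vk_le_cent hk.comm (hm u (l_mem_Vk u v)) u (l_mem_Vk u v)⟩
  have h4 : Vk u (g * u * g⁻¹) = Vk u v := eq_of_le_of_card_ge
    (Vk_le.2 ⟨l_mem_Vk u v, hm u (l_mem_Vk u v)⟩) (by rw [card_Vk hk, card_Vk h2])
  refine ⟨h2, h4, ?_⟩
  rcases (mem_Vk h2).1 (h4 ▸ hm _ (hm u (l_mem_Vk u v))) with e | e | e | e
  · exact ((inv_conj h2.r g).ne e).elim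
  · refine (h1 ?_).elim
    calc u = g ^ 3 * u * (g ^ 3)⁻¹ := by simp [h3]
      _ = g * (g * (g * u * g⁻¹) * g⁻¹) * g⁻¹ := by simp only [pow_succ, pow_zero, one_mul, mul_inv_rev, mul_assoc]
      _ = _ := by rw [e]
  · exact ((kl_conj h2 g).ne e.symm).elim
  · exact e

theorem struct (h : DC (⊤ : Subgroup G)) (hO : Od (⊤ : Subgroup G) = ⊥) :
    IsPGroup 2 G ∨ (∃ u v : G, S4 u v) ∨ ∃ L : Subgroup G, L.Normal ∧ IsSimpleGroup L ∧
      ¬ Group.IsSolvable L ∧ 𝐂(L) = ⊥ := by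
  rw [or_iff_not_imp_left]
  intro h2
  have : Nontrivial G := by
    by_contra hn
    have := not_nontrivial_iff_subsingleton.1 hn
    exact h2 (IsPGroup.of_card (n := 0) Nat.card_unique)
  obtain ⟨N, hN⟩ := exists_isMinNormal G
  have := hN.normal
  by_cases hs : Group.IsSolvable N
  swap
  · exact Or.inr ⟨N, this, simple_of_minNormal h hN hs, hs,
      eq_bot_of_odd hO inferInstance (odd_cent h hs)⟩
  have hp := (hN.isPGroup_or_not_dvd 2).resolve_right fun e => hN.ne_bot (eq_bot_of_odd hO this e)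
  have hc : N ≤ 𝐂(N) := comm_iff_le_cent.1 hN.isMulCommutative_of_isSolvable
  by_cases hcy : IsCyclic N
  · obtain ⟨z, hz, hz'⟩ := exists_inv (hN.dvd_card_of_isPGroup hp)
    refine (h2 ((two_of_nilp (nilp_of_cent h hz' (mem_top z) fun g _ => ?_) hO).of_equiv
      topEquiv)).elim
    by_contra hne
    exact not_cyclic_of_two (this.conj_mem z hz g) hz (inv_conj hz' g).sq hz'.sq
      (inv_conj hz' g).ne hz'.ne (fun e => hne (mem_cent1.2 (mul_inv_eq_iff_eq_mul.1 e))) hcy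
  obtain ⟨a, b, hk, rfl⟩ := exists_kl h le_top hp hc hcy
  have h3 : IsPGroup 2 𝐂(Vk a b) := two_of_nilp (hasNormalPComplement_of_le (nilp_cent1 h hk.l)
    (cent_le_cent1 (l_mem_Vk a b))) (eq_bot_iff.2 (hO ▸ piCoreOf_le_of_normal _ le_top
      (top_le_norm_iff.2 inferInstance)))
  have h4 : 𝐂(Vk a b) ≤ Vk a b := fun x hx =>
    mem_Vk_of_two h hk (mem_top _) (mem_top _) (mem_top _) (isPElt_of_mem h3 hx) hx
  have h5 := (relIndex_centralizer_dvd_card_mulAut (Vk a b)).trans (card_mulAut_dvd_factorial _)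
  rw [normalizer_eq_top, relIndex_top_right, le_antisymm h4 hc, card_Vk hk] at h5
  have h6 := (Vk a b).card_mul_index
  rw [card_Vk hk] at h6
  have h7 : Nat.card G = 12 ∨ Nat.card G = 24 := by
    have h8 : (Vk a b).index ∈ Nat.divisors 6 := Nat.mem_divisors.2 ⟨h5, by decide⟩
    have h9 : Nat.divisors 6 = {1, 2, 3, 6} := by decide
    simp only [h9, Finset.mem_insert, Finset.mem_singleton] at h8
    rcases h8 with e | e | e | e <;> rw [e] at h6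
    · exact (h2 (IsPGroup.of_card (n := 2) h6.symm)).elim
    · exact (h2 (IsPGroup.of_card (n := 3) h6.symm)).elim
    · exact Or.inl h6.symm
    · exact Or.inr h6.symm
  have : Fact (Nat.Prime 3) := ⟨Nat.prime_three⟩
  obtain ⟨g, hg⟩ := exists_prime_orderOf_dvd_card' (G := G) 3 (by rcases h7 with e | e <;> simp [e])
  obtain ⟨k1, k2, k3⟩ := exists_fused hk (le_normalizer_of_normal (mem_top g)) (fun e => by
    have := hg ▸ orderOf_dvd_of_pow_eq_one ((pow_two g).trans (sq_of_mem_Vk hk (h4 e)))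
    exact absurd this (by decide)) (hg ▸ pow_orderOf_eq_one g)
  exact Or.inl ⟨a, _, k1, k2 ▸ ‹_›, k2 ▸ h4, ⟨g, mem_top g, rfl, k3⟩, h7⟩

/-- in `A₄`, `S₄` no element of odd order centralizes an involution -/
theorem S4.eq_one (hs : S4 u v) (h : DC (⊤ : Subgroup G)) (hz : Inv z) (hx : x ∈ 𝐂[z])
    (ho : ¬ 2 ∣ orderOf x) : x = 1 := by
  have := hs.normal
  have h1 := inf_centralizer_ne_bot_of_isPGroup hz.isPElt.isPGroup_zpowers (two_Vk hs.kl)
    (fun e => hs.kl.l.ne (mem_bot.1 (e ▸ l_mem_Vk u v))) le_normalizer_of_normal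
  rw [centralizer_zpowers] at h1
  obtain ⟨⟨w, hw⟩, hw1⟩ := ne_bot_iff_exists_ne_one.1 h1
  have hw' : Inv w := ⟨fun e => hw1 (Subtype.ext e), sq_of_mem_Vk hs.kl hw.1⟩
  have h2 := mem_centralizer_of_hasNormalPComplement (nilp_cent1 h hz)
    ((two_Vk hs.kl).to_inf_left (K := 𝐂[z])) inf_le_right hx
    (le_normalizer_inf le_normalizer_of_normal le_normalizer hx) ho
  have h3 := mem_centralizer_of_hasNormalPComplement (nilp_cent1 h hw') (two_Vk hs.kl)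
    (le_cent1_iff.2 (Vk_le_cent hs.kl.comm hw.1)) (cent_le_cent1 hw h2)
    (le_normalizer_of_normal (mem_top x)) ho
  exact (isPElt_of_mem (two_Vk hs.kl) (hs.cent h3)).eq_one_of_isPRegular ho

end DC

section Pr
variable {G : Type*} [Group G] {X H K T : Subgroup G} {a b x u v : G}

/-- `X / O(X)` -/
abbrev Qb (X : Subgroup G) : Type _ := Quo X (Od X)

/-- images in `X / O(X)` -/
abbrev im (X H : Subgroup G) : Subgroup (Qb X) := qim X (Od X) H

/-- preimages from `X / O(X)` -/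
abbrev pre (X : Subgroup G) (L : Subgroup (Qb X)) : Subgroup G := qpre X (Od X) L

open Classical in
/-- the projection onto `X / O(X)`, extended by `1` -/
noncomputable def pr (X : Subgroup G) (x : G) : Qb X :=
  if h : x ∈ X then qmk X (Od X) ⟨x, h⟩ else 1

theorem pr_eq (h : x ∈ X) : pr X x = qmk X (Od X) ⟨x, h⟩ := dif_pos h

theorem pr_one : pr X 1 = 1 := by rw [pr_eq (one_mem X)]; exact map_one _

theorem pr_mul (ha : a ∈ X) (hb : b ∈ X) : pr X (a * b) = pr X a * pr X b := by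
  rw [pr_eq ha, pr_eq hb, pr_eq (mul_mem ha hb), ← map_mul]; rfl

theorem pr_inv (ha : a ∈ X) : pr X a⁻¹ = (pr X a)⁻¹ := by
  rw [pr_eq ha, pr_eq (inv_mem ha), ← map_inv]; rfl

theorem pr_pow (ha : a ∈ X) (n : ℕ) : pr X (a ^ n) = pr X a ^ n := by
  rw [pr_eq ha, pr_eq (pow_mem ha n), ← map_pow]; rfl

theorem pr_conj (ha : a ∈ X) (hb : b ∈ X) :
    pr X (a * b * a⁻¹) = pr X a * pr X b * (pr X a)⁻¹ := by
  rw [pr_mul (mul_mem ha hb) (inv_mem ha), pr_mul ha hb, pr_inv ha]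

theorem pr_eq_one (h : x ∈ X) : pr X x = 1 ↔ x ∈ Od X := by rw [pr_eq h, qmk_eq_one_iff]

theorem pr_eq_iff (ha : a ∈ X) (hb : b ∈ X) : pr X a = pr X b ↔ a⁻¹ * b ∈ Od X := by
  rw [pr_eq ha, pr_eq hb, qmk_eq_iff]

theorem pr_mem_im (hx : x ∈ X) (h : x ∈ H) : pr X x ∈ im X H := pr_eq hx ▸ qmk_mem_qim h

theorem mem_im' {y : Qb X} : y ∈ im X H ↔ ∃ x ∈ X ⊓ H, pr X x = y :=
  ⟨fun h => by obtain ⟨x, h1, rfl⟩ := mem_qim.1 h; exact ⟨x, ⟨x.2, h1⟩, pr_eq x.2⟩,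
    by rintro ⟨x, h, rfl⟩; exact pr_mem_im h.1 h.2⟩

theorem mem_im (hH : H ≤ X) {y : Qb X} : y ∈ im X H ↔ ∃ x ∈ H, pr X x = y := by
  rw [mem_im', inf_eq_right.2 hH]

theorem im_top : im X X = ⊤ := qim_top

theorem mem_im_top (y : Qb X) : y ∈ im X X := im_top.ge (mem_top y)

theorem pr_surj (y : Qb X) : ∃ x ∈ X, pr X x = y := (mem_im le_rfl).1 (mem_im_top y)

theorem mem_pre {L : Subgroup (Qb X)} : x ∈ pre X L ↔ x ∈ X ∧ pr X x ∈ L := by
  rw [mem_qpre]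
  exact ⟨fun ⟨h, e⟩ => ⟨h, pr_eq h ▸ e⟩, fun ⟨h, e⟩ => ⟨h, pr_eq h ▸ e⟩⟩

theorem im_zpowers (hx : x ∈ X) : im X (zpowers x) = zpowers (pr X x) := by
  rw [pr_eq hx, im, qim, ← MonoidHom.map_zpowers]
  congr 1
  ext y
  simp only [mem_subgroupOf, mem_zpowers_iff, Subtype.ext_iff, SubgroupClass.coe_zpow]

theorem im_Vk (hu : u ∈ X) (hv : v ∈ X) : im X (Vk u v) = Vk (pr X u) (pr X v) := by
  rw [im, qim_sup (zpowers_le.2 hu) (zpowers_le.2 hv), ← im, ← im, im_zpowers hu, im_zpowers hv]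

theorem orderOf_pr_dvd (hx : x ∈ X) : orderOf (pr X x) ∣ orderOf x :=
  orderOf_dvd_of_pow_eq_one (by rw [← pr_pow hx, pow_orderOf_eq_one, pr_one])

theorem pr_mem_cent1 (ha : a ∈ X) (hb : b ∈ X) (h : a ∈ 𝐂[b]) : pr X a ∈ 𝐂[pr X b] :=
  mem_cent1.2 (by rw [← pr_mul ha hb, ← pr_mul hb ha, mem_cent1.1 h])

variable [Finite G]

theorem pr_mem_im_iff (hH : H ≤ X) (hx : x ∈ X) : pr X x ∈ im X H ↔ x ∈ H ⊔ Od X := by
  rw [← qpre_qim (Od_le X) hH, mem_pre, and_iff_right hx]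

theorem dc_Qb (h : DC X) : DC (⊤ : Subgroup (Qb X)) := qim_top (M := X) (N := Od X) ▸ h.qim _ _

theorem Od_Qb (X : Subgroup G) : Od (⊤ : Subgroup (Qb X)) = ⊥ := piCoreOf_quo_piCoreOf _ X

theorem solvable_of_Qb (h : Group.IsSolvable (Qb X)) : Group.IsSolvable X :=
  have := (sgOf_solvable_iff (Od_le X)).2 (GAG.odd_solv (odd_Od X))
  Group.isSolvable_of_ker_le_range ((Od X).subgroupOf X).subtype (qmk X (Od X)) (by simp)

theorem card_eq_mul (hH : H ≤ X) : Nat.card H = Nat.card ↥(H ⊓ Od X) * Nat.card (im X H) := by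
  rw [card_qim hH, ← inf_relIndex_right, inf_comm, card_mul_relIndex inf_le_right]

theorem lift_cop (hH : H ≤ X) {y : Qb X} (hy : y ∈ im X H)
    (hc : (Nat.card ↥(H ⊓ Od X)).Coprime (orderOf y)) :
    ∃ x ∈ H, pr X x = y ∧ orderOf x = orderOf y := by
  obtain ⟨x, hx, rfl⟩ := (mem_im hH).1 hy
  obtain ⟨m, hm⟩ := exists_pow_eq_self_of_coprime hc
  have h1 : pr X ((x ^ Nat.card ↥(H ⊓ Od X)) ^ m) = pr X x := by
    rw [pr_pow (pow_mem (hH hx) _), pr_pow (hH hx), hm]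
  refine ⟨_, pow_mem (pow_mem hx _) m, h1, Nat.dvd_antisymm (orderOf_dvd_of_pow_eq_one ?_)
    (h1 ▸ orderOf_pr_dvd (pow_mem (pow_mem (hH hx) _) m))⟩
  have h2 : x ^ orderOf (pr X x) ∈ H ⊓ Od X := ⟨pow_mem hx _,
    (pr_eq_one (pow_mem (hH hx) _)).1 (by rw [pr_pow (hH hx), pow_orderOf_eq_one])⟩
  have h3 : (x ^ orderOf (pr X x)) ^ Nat.card ↥(H ⊓ Od X) = 1 :=
    congrArg Subtype.val (pow_card_eq_one' (x := (⟨_, h2⟩ : ↥(H ⊓ Od X))))
  rw [← pow_mul, ← pow_mul, mul_comm m, ← mul_assoc, mul_comm (Nat.card _), pow_mul, pow_mul, h3,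
    one_pow]

theorem lift_two (hH : H ≤ X) {y : Qb X} (hy : y ∈ im X H) (h2 : IsPElt 2 y) :
    ∃ x ∈ H, pr X x = y ∧ orderOf x = orderOf y :=
  lift_cop hH hy (h2.coprime_orderOf ((Nat.Prime.coprime_iff_not_dvd Nat.prime_two).2
    (odd_of_le (odd_Od X) inf_le_right))).symm

theorem lift_inv (hH : H ≤ X) {y : Qb X} (hy : y ∈ im X H) (h2 : Inv y) :
    ∃ x ∈ H, pr X x = y ∧ Inv x := by
  obtain ⟨x, h1, h3, h4⟩ := lift_two hH hy h2.isPElt
  rw [h2.orderOf, orderOf_eq_prime_iff, pow_two] at h4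
  exact ⟨x, h1, h3, h4.2, h4.1⟩

theorem eq_one_of_two (h2 : IsPElt 2 x) (h : x ∈ Od X) : x = 1 :=
  h2.eq_one_of_isPRegular (isPRegular_of_mem (odd_Od X) h)

theorem eq_of_two (hT : IsPGroup 2 T) (hX : T ≤ X) (ha : a ∈ T) (hb : b ∈ T)
    (e : pr X a = pr X b) : a = b :=
  inv_mul_eq_one.1 (eq_one_of_two (isPElt_of_mem hT (mul_mem (inv_mem ha) hb))
    ((pr_eq_iff (hX ha) (hX hb)).1 e))

theorem inv_pr (hu : u ∈ X) (h : Inv u) : Inv (pr X u) :=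
  ⟨fun e => h.ne (eq_one_of_two h.isPElt ((pr_eq_one hu).1 e)),
    by rw [← pr_mul hu hu, h.sq, pr_one]⟩

theorem kl_pr (hu : u ∈ X) (hv : v ∈ X) (h : Kl u v) : Kl (pr X u) (pr X v) :=
  ⟨inv_pr hu h.l, inv_pr hv h.r, fun e => h.ne (eq_of_two (two_Vk h) (Vk_le.2 ⟨hu, hv⟩)
    (l_mem_Vk u v) (r_mem_Vk u v) e), by rw [← pr_mul hu hv, ← pr_mul hv hu, h.comm]⟩

theorem cop_Od (hT : IsPGroup 2 T) (hX : T ≤ X) : CoprimeAct T (Od X) :=
  coprimeAct_of_isPGroup_left (hX.trans (le_norm_Od X)) hT (odd_Od X)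

theorem im_cent (hT : IsPGroup 2 T) (hX : T ≤ X) : im X 𝐂(T) = 𝐂(im X T) :=
  qim_cent (cop_Od hT hX) hX

theorem im_norm (hT : IsPGroup 2 T) (hX : T ≤ X) : im X 𝐍(T) = 𝐍(im X T) :=
  qim_norm_of_coprime (cop_Od hT hX) hX

theorem im_cent1 (hx : x ∈ X) (h2 : IsPElt 2 x) : im X (X ⊓ 𝐂[x]) = 𝐂[pr X x] := by
  rw [im, qim_inf_M, ← centralizer_zpowers, ← im, im_cent h2.isPGroup_zpowers (zpowers_le.2 hx),
    im_zpowers hx, centralizer_zpowers]

theorem lift_kl (hu : u ∈ X) (h : Inv u) {y : Qb X} (hk : Kl (pr X u) y) :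
    ∃ v ∈ X, pr X v = y ∧ Kl u v := by
  obtain ⟨v, h1, rfl, h2⟩ := lift_inv inf_le_left
    (im_cent1 hu h.isPElt ▸ mem_cent1.2 hk.comm.symm) hk.r
  exact ⟨v, h1.1, rfl, h, h2, fun e => hk.ne (e ▸ rfl), (mem_cent1.1 h1.2).symm⟩

theorem lift_fused (hH : H ≤ X) (hO : Od X ≤ H) (hu : u ∈ X) (hv : v ∈ X) (hk : Kl u v)
    (h : Fused (im X H) (pr X u) (pr X v)) : Fused H u v := by
  obtain ⟨g, hg, h1, h2⟩ := h
  have hV : Vk u v ≤ X := Vk_le.2 ⟨hu, hv⟩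
  have h3 : g ∈ im X (H ⊓ 𝐍(Vk u v)) := by
    rw [im, qim_inf hO, ← im, ← im, im_norm (two_Vk hk) hV, im_Vk hu hv]
    refine ⟨hg, mem_normalizer_fintype fun x hx => ?_⟩
    rcases (mem_Vk (kl_pr hu hv hk)).1 hx with rfl | rfl | rfl | rfl
    · simp
    · exact h1 ▸ r_mem_Vk _ _
    · exact h2 ▸ mul_mem (l_mem_Vk _ _) (r_mem_Vk _ _)
    · rw [← conj_mul, h1, h2]
      exact mul_mem (r_mem_Vk _ _) (mul_mem (l_mem_Vk _ _) (r_mem_Vk _ _))
  obtain ⟨g, hg', rfl⟩ := (mem_im (inf_le_left.trans hH)).1 h3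
  have h4 := fun x hx => (mem_normalizer_iff.1 hg'.2 x).1 hx
  exact ⟨g, hg'.1, eq_of_two (two_Vk hk) hV (h4 u (l_mem_Vk u v)) (r_mem_Vk u v)
    (by rw [pr_conj (hH hg'.1) hu, h1]), eq_of_two (two_Vk hk) hV (h4 v (r_mem_Vk u v))
    (mul_mem (l_mem_Vk u v) (r_mem_Vk u v)) (by rw [pr_conj (hH hg'.1) hv, h2, pr_mul hu hv])⟩

/-- elements of odd order centralizing an involution, when `X / O(X)` is solvable -/
theorem mem_Od_of_solv (h : DC X) (hs : IsPGroup 2 (Qb X) ∨ ∃ u v : Qb X, S4 u v) (hu : u ∈ X)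
    (hu' : Inv u) (hx : x ∈ X) (hc : x ∈ 𝐂[u]) (ho : ¬ 2 ∣ orderOf x) : x ∈ Od X := by
  have h1 : ¬ 2 ∣ orderOf (pr X x) := fun e => ho (e.trans (orderOf_pr_dvd hx))
  rw [← pr_eq_one hx]
  rcases hs with hs | ⟨a, b, hs⟩
  · exact (isPElt_of_isPGroup hs _).eq_one_of_isPRegular h1
  · exact hs.eq_one (dc_Qb h) (inv_pr hu hu') (pr_mem_cent1 hx hu hc) h1

theorem struct_solv (h : DC X) (hs : Group.IsSolvable X) :
    IsPGroup 2 (Qb X) ∨ ∃ u v : Qb X, S4 u v := by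
  rcases struct (dc_Qb h) (Od_Qb X) with h1 | h1 | ⟨L, -, -, h1, -⟩
  exacts [Or.inl h1, Or.inr h1, (h1 inferInstance).elim]

theorem struct_ns (h : DC X) (hs : ¬ Group.IsSolvable X) : ∃ L : Subgroup (Qb X), L.Normal ∧
    IsSimpleGroup L ∧ ¬ Group.IsSolvable L ∧ 𝐂(L) = ⊥ := by
  rcases struct (dc_Qb h) (Od_Qb X) with h1 | ⟨u, v, h1⟩ | h1
  · exact (hs (solvable_of_Qb (IsPGroup.isSolvable' h1))).elim
  · refine (hs (solvable_of_Qb ?_)).elim
    have := h1.normal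
    have := IsPGroup.isSolvable' (two_Vk h1.kl)
    have h2 := (Vk u v).card_mul_index
    rw [card_Vk h1.kl] at h2
    have : Group.IsSolvable (Qb X ⧸ Vk u v) := by
      suffices h : HasNormalPComplement 2 (⊤ : Subgroup (Qb X ⧸ Vk u v)) from
        have := solvable_of_nilp h; isSolvable_of_mulEquiv topEquiv
      obtain ⟨P⟩ : Nonempty (Sylow 2 (⊤ : Subgroup (Qb X ⧸ Vk u v))) := inferInstance
      have : IsCyclic (P : Subgroup (⊤ : Subgroup (Qb X ⧸ Vk u v))) := by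
        refine isCyclic_of_card_dvd_prime (p := 2) ?_
        rw [P.card_eq_multiplicity, card_top, ← index]
        rcases h1.card with e | e
        · rw [show (Vk u v).index = 3 by omega]; decide +kernel
        · rw [show (Vk u v).index = 6 by omega]; decide +kernel
      exact hasNormalPComplement_two_of_isCyclic P
    exact Group.isSolvable_of_ker_le_range (Vk u v).subtype (QuotientGroup.mk' (Vk u v)) (by simp)
  · exact h1

end Pr

end DX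

open DX

universe u
variable {G : Type u} [Group G] [Finite G]

theorem Sd.dc (h : Sd G) (X : Subgroup G) : DC X := by
  obtain ⟨S, σ, τ, t, k, D⟩ := h.dih
  exact dc_of_dihSyl D X

/-- solvable subgroups: `X / O(X)` is a 2-group, `A₄` or `S₄` -/
theorem Sd.solv (h : Sd G) {X : Subgroup G} (hs : Group.IsSolvable X) :
    (∀ u ∈ X, Inv u → X ⊓ Ut u ≤ Od X) ∧ (HasNormalPComplement 2 X ∨ ∃ u ∈ X, ∃ v ∈ X, Kl u v ∧
      Fused X u v ∧ X ≤ 𝐍((Od X ⊔ Vk u v : Subgroup G)) ∧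
      ((Od X).relIndex X = 12 ∨ (Od X).relIndex X = 24)) := by
  have h1 := struct_solv (h.dc X) hs
  refine ⟨fun u hu hu' x hx => mem_Od_of_solv (h.dc X) h1 hu hu' hx.1 (Od_le _ hx.2)
    (isPRegular_of_mem (odd_Od _) hx.2), h1.imp (fun h2 => ?_) fun ⟨a, b, h2⟩ => ?_⟩
  · exact hasNormalPComplement_of_quotient_of_not_dvd ((Od X).subgroupOf X)
      (by rw [card_subgroupOf_of_le (Od_le X)]; exact odd_Od X) (hasNormalPComplement_of_isPGroup h2)
  · obtain ⟨u, hu, rfl, hu'⟩ := lift_inv le_rfl (mem_im_top a) h2.kl.l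
    obtain ⟨v, hv, rfl, hk⟩ := lift_kl hu hu' h2.kl
    refine ⟨u, hu, v, hv, hk, lift_fused le_rfl (Od_le X) hu hv hk
      (by rw [im_top]; exact h2.fused), ?_, card_quo (M := X) (N := Od X) ▸ h2.card⟩
    have := h2.normal
    rw [sup_comm, ← qpre_qim (Od_le X) (Vk_le.2 ⟨hu, hv⟩), ← im, im_Vk hu hv]
    exact le_norm_qpre_of_normal

theorem Min.ly_ne_bot (h : Min G) {X : Subgroup G} (_hX : X ≠ ⊤) (hs : ¬ Group.IsSolvable X)
    {u : G} (hu : Inv u) (h1 : u ∈ X) (h2 : u ∈ 𝐂(Od X)) : Ly X ≠ ⊥ := fun e => by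
  obtain ⟨L, _, _, h3, h4⟩ := struct_ns (h.dc X) hs
  have := Res_eq_bot_iff.1 e
  have := solvable_qim (M := X) (N := Od X) (inf_le_left : X ⊓ 𝐂(Od X) ≤ X)
  exact h3 (isSolvable_of_le (le_of_normal_ne_bot h4 (qim_normal
    (le_norm_inf_cent le_normalizer (le_norm_Od X))) fun e' =>
      (inv_pr h1 hu).ne (mem_bot.1 (e' ▸ pr_mem_im h1 ⟨h1, h2⟩))))

end GW
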