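import Cfsg.Agent.Lib.FT.Pf.BG1a
import Cfsg.Agent.Lib.FT.Min

/-!
# Bender's version of the `P × Q` lemma for odd `p`
-/

set_option autoImplicit false
set_option linter.unusedSectionVars false

namespace GW

open Cfsg GT FT Subgroup
open scoped Pointwise commutatorElement

variable {G : Type*} [Group G]

/-- `a₁ ⋯ aₙ aₙ ⋯ a₁` -/
def symP (l : List G) : G := l.foldr (fun a F => a * F * a) 1

theorem symP_mem {R : Subgroup G} {l : List G} (h : ∀ a ∈ l, a ∈ R) : symP l ∈ R := by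
  induction l with
  | nil => exact one_mem _
  | cons a l ih =>
    exact mul_mem (mul_mem (h a (by simp)) (ih fun b hb => h b (by simp [hb]))) (h a (by simp))

theorem symP_perm {R : Subgroup G} (hR : ⁅R, R⁆ ≤ 𝐂(R)) {l₁ l₂ : List G} (p : l₁.Perm l₂)
    (h : ∀ a ∈ l₁, a ∈ R) : symP l₁ = symP l₂ := by
  induction p with
  | nil => rfl
  | cons a _ ih => exact congrArg (a * · * a) (ih fun b hb => h b (by simp [hb]))
  | swap a b l =>
    have ha := h a (by simp)
    have hb := h b (by simp)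
    have hF : symP l ∈ R := symP_mem fun c hc => h c (by simp [hc])
    have e := mem_centralizer_iff.1 (hR (commutator_mem_commutator (inv_mem ha) (inv_mem hb))) _
      (mul_mem (mul_mem hF ha) hb)
    change b * (a * symP l * a) * b = a * (b * symP l * b) * a
    calc _ = b * a * (symP l * a * b * ⁅a⁻¹, b⁻¹⁆) * ⁅a⁻¹, b⁻¹⁆⁻¹ := by group
      _ = _ := by rw [e, commutatorElement_def]; group
  | trans p _ ih1 ih2 => exact (ih1 h).trans (ih2 fun a ha => h a (p.mem_iff.2 ha))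

theorem symP_conj (g : G) (l : List G) : g * symP l * g⁻¹ = symP (l.map (g * · * g⁻¹)) := by
  induction l with
  | nil => simp [symP]
  | cons a l ih =>
    change g * (a * symP l * a) * g⁻¹ = g * a * g⁻¹ * symP (l.map (g * · * g⁻¹)) * (g * a * g⁻¹)
    rw [← ih]; group

theorem symP_mul {R : Subgroup G} {z : G} (hz : z ∈ 𝐂(R)) {l : List G} (h : ∀ a ∈ l, a ∈ R) :
    symP (l.map (· * z)) = symP l * z ^ (2 * l.length) := by
  induction l with
  | nil => simp [symP]
  | cons a l ih =>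
    have ha := h a (by simp)
    have hF : symP l ∈ R := symP_mem fun c hc => h c (by simp [hc])
    change a * z * symP (l.map (· * z)) * (a * z) = a * symP l * a * z ^ (2 * (l.length + 1))
    rw [ih fun b hb => h b (by simp [hb])]
    have e1 := mem_centralizer_iff.1 hz _ hF
    have e2 := mem_centralizer_iff.1 (pow_mem hz (2 * l.length + 1)) _ ha
    calc _ = a * (z * symP l) * z ^ (2 * l.length) * a * z := by group
      _ = a * symP l * (z ^ (2 * l.length + 1) * a) * z := by rw [← e1]; group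
      _ = _ := by rw [← e2]; group

variable [Finite G]

theorem le_cent_of_pxq_odd {p : ℕ} [hp : Fact p.Prime] (hp2 : p ≠ 2) {P Q R : Subgroup G} (hP : IsPGroup p P)
    (hQ : ¬ p ∣ Nat.card Q) (hR : IsPGroup p R) (hPR : P ≤ 𝐍(R)) (hQR : Q ≤ 𝐍(R)) (hPQ : P ≤ 𝐍(Q))
    (h : R ⊓ 𝐂(P) ≤ 𝐂(Q)) : R ≤ 𝐂(Q) := by
  classical
  induction hn : Nat.card R using Nat.strong_induction_on generalizing R with | _ n ih => ?_
  have IH : ∀ K : Subgroup G, K < R → P ≤ 𝐍(K) → Q ≤ 𝐍(K) → K ≤ 𝐂(Q) := fun K hK h1 h2 =>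
    ih _ (hn ▸ card_lt_of_lt hK) (hR.to_le hK.le) h1 h2 ((inf_le_inf_right _ hK.le).trans h) rfl
  have H : CoprimeAct Q R := coprimeAct_of_isPGroup_right hQR hR hQ
  by_contra hne
  have h0 : R ≠ ⊥ := fun e => hne (e ▸ bot_le)
  have hK : ⁅R, Q⁆ = R := by
    by_contra e
    exact hne (H.le_centralizer_of_commutator_le (IH _ (lt_of_le_of_ne H.commutator_le e)
      (le_normalizer_commutator hPR hPQ) (le_normalizer_commutator hQR le_normalizer)))
  have := hR.isNilpotent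
  have hD : ⁅R, R⁆ ≤ 𝐂(Q) := IH _ (der_lt_of_solvable h0) (le_normalizer_commutator hPR hPR)
    (le_normalizer_commutator hQR hQR)
  have hZ : R ≤ 𝐂((R ⊓ 𝐂(Q) : Subgroup G)) := by
    rw [← hK]
    conv_rhs => rw [hK]
    refine commutator_le_centralizer_of_rotate ?_ ((commutator_mono inf_le_left le_rfl).trans hD)
    rw [commutator_eq_bot_of_le_cent (le_cent_comm.1 inf_le_right)]; exact bot_le
  have hZ' := le_cent_comm.1 hZ
  have hR2 : ⁅R, R⁆ ≤ 𝐂(R) := (le_inf (der_le R) hD).trans hZ'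
  obtain ⟨x, hx, hxZ, -, hc⟩ := exists_mem_pow_mem_comm (N := R ⊓ 𝐂(Q)) (isPGroup_sup hP hR hPR)
    (lt_of_le_of_ne inf_le_left fun e => hne (e ▸ inf_le_right)) le_sup_right
    (sup_le (le_norm_inf_cent hPR hPQ) (hZ.trans (cent_le_norm _))) (sup_le hPR le_normalizer)
  have := Fintype.ofFinite Q
  let L : List Q := Finset.univ.toList
  let N : G → G := fun y => symP (L.map fun d : Q => d * y * (d : G)⁻¹)
  have hm : ∀ y ∈ R, ∀ a ∈ L.map fun d : Q => (d * y * (d : G)⁻¹ : G), a ∈ R := fun y hy a ha => by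
    obtain ⟨d, -, rfl⟩ := List.mem_map.1 ha
    exact conj_mem_of_mem_normalizer (hQR d.2) hy
  have N1 : ∀ (g y y' : G) (e : Q ≃ Q), y' ∈ R → (∀ d : Q, g * (d * y * (d : G)⁻¹) * g⁻¹ = e d * y' * (e d : G)⁻¹) →
      g * N y * g⁻¹ = N y' := fun g y y' e hy he => by
    have p1 : L.Perm (L.map e) := (List.perm_ext_iff_of_nodup (Finset.nodup_toList _)
      ((Finset.nodup_toList _).map e.injective)).2 fun a => by
        simp only [L, Finset.mem_toList, Finset.mem_univ, List.mem_map, true_and, true_iff]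
        exact e.surjective a
    rw [symP_conj, List.map_map]
    refine ((symP_perm hR2 (p1.map _) (hm y' hy)).trans ?_).symm
    rw [List.map_map]
    exact congrArg symP (List.map_congr_left fun d _ => (he d).symm)
  have N2 : ∀ y ∈ R, ∀ z ∈ R ⊓ 𝐂(Q), N (y * z) = N y * z ^ (2 * Nat.card Q) := fun y hy z hz => by
    have e := symP_mul (hZ' hz) (hm y hy)
    rw [List.map_map, List.length_map, Finset.length_toList, Finset.card_univ, ← Nat.card_eq_fintype_card] at e
    refine (congrArg symP (List.map_congr_left fun d _ => ?_)).trans e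
    have := mem_centralizer_iff.1 hz.2 _ (inv_mem d.2)
    simp only [Function.comp, mul_assoc, this]
  have hco : ∀ z ∈ R, (orderOf z).Coprime (2 * Nat.card Q) := fun z hz => by
    obtain ⟨k, hk⟩ := (IsPGroup.iff_orderOf.1 hR) ⟨z, hz⟩
    rw [← orderOf_mk z hz, hk]
    exact Nat.Coprime.pow_left _ (Nat.Coprime.mul_right ((Nat.coprime_primes hp.out Nat.prime_two).2 hp2)
      ((Nat.Prime.coprime_iff_not_dvd hp.out).2 hQ))
  have hN : N x ∈ R ⊓ 𝐂(Q) := ⟨symP_mem (hm x hx), mem_centralizer_iff.2 fun g hg => by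
    rw [← mul_inv_eq_iff_eq_mul]
    exact N1 g x x (Equiv.mulLeft ⟨g, hg⟩) hx fun d => by simp [mul_assoc]⟩
  obtain ⟨m, hm'⟩ := exists_pow_eq_self_of_coprime (hco _ (inv_mem hN.1)).symm
  have hz : (N x)⁻¹ ^ m ∈ R ⊓ 𝐂(Q) := pow_mem (inv_mem hN) m
  have hx' := mul_mem hx hz.1
  have h1 : N (x * (N x)⁻¹ ^ m) = 1 := by
    rw [N2 x hx _ hz, ← pow_mul, mul_comm m, pow_mul, hm', mul_inv_cancel]
  generalize (N x)⁻¹ ^ m = z at hz hx' h1
  refine hxZ ?_
  have h2 : x * z ∈ 𝐂(P) := mem_centralizer_iff.2 fun g hg => by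
    have hw : ⁅g, x⁆ * (g * z * g⁻¹) * z⁻¹ ∈ R ⊓ 𝐂(Q) := mul_mem (mul_mem (hc g (mem_sup_left hg))
      (conj_mem_of_mem_normalizer (le_norm_inf_cent hPR hPQ hg) hz)) (inv_mem hz)
    have e : g * (x * z) * g⁻¹ = x * z * (⁅g, x⁆ * (g * z * g⁻¹) * z⁻¹) := by
      have e1 := mem_centralizer_iff.1 (hZ' hw) _ hx'
      have e2 := mem_centralizer_iff.1 (hZ' (conj_mem_of_mem_normalizer (le_norm_inf_cent hPR hPQ hg) hz)) _ hx
      rw [e1]
      calc _ = ⁅g, x⁆ * (x * (g * z * g⁻¹)) := by rw [commutatorElement_def]; group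
        _ = _ := by
          have e3 := mem_centralizer_iff.1 (hZ' (inv_mem hz)) _ hx
          rw [e2, mul_assoc (⁅g, x⁆ * _), ← mul_assoc z⁻¹, ← e3]; group
    have e4 := N1 g (x * z) (g * (x * z) * g⁻¹) (normalizerMonoidHom Q ⟨g, hPQ hg⟩).toEquiv
      (conj_mem_of_mem_normalizer (hPR hg) hx') fun d => by
        change _ = g * d * g⁻¹ * _ * (g * (d : G) * g⁻¹)⁻¹
        group
    rw [h1, e, N2 _ hx' _ hw, h1, one_mul, mul_one, mul_inv_cancel] at e4
    have e5 := (hco _ hw.1).eq_one_of_dvd (orderOf_dvd_of_pow_eq_one e4.symm)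
    rw [orderOf_eq_one_iff.1 e5, mul_one, mul_inv_eq_iff_eq_mul] at e
    exact e
  simpa using mul_mem (show x * z ∈ R ⊓ 𝐂(Q) from ⟨hx', h ⟨hx', h2⟩⟩) (inv_mem hz)

end GW
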