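import Cfsg.Agent.Lib.GW.Base
import Cfsg.Agent.Lib.GW.DXa
import Cfsg.Agent.Lib.GW.Bender
import Cfsg.Agent.Lib.GW.PxQ

/-!
# The centralizer of an involution is maximal: overgroups of `Y C(Y)`
-/

set_option autoImplicit false
set_option linter.unusedSectionVars false

namespace GW

open Cfsg GT FT Subgroup
open scoped Pointwise commutatorElement

universe u

section
variable {G : Type*} [Group G] [Finite G]

theorem Sd.solv_cent (h : Sd G) {t : G} (ht : Inv t) : Group.IsSolvable 𝐂[t] := DX.solvable_cent1 (h.dc ⊤) ht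

theorem Sd.norm_eq (h : Sd G) {H N : Subgroup G} (hH : IsCoatom H) (h0 : N ≠ ⊥) (hs : Group.IsSolvable N)
    (hn : H ≤ 𝐍(N)) : 𝐍(N) = H := (hH.le_iff.1 hn).resolve_left (h.norm_ne_top h0 hs)

theorem Inv.copr {t : G} (ht : Inv t) {Y : Subgroup G} (h : Odd (Nat.card Y)) :
    (Nat.card Y).Coprime (Nat.card (zpowers t)) := by
  rw [Nat.card_zpowers, ht.orderOf]; exact h.coprime_two_right

theorem Inv.copAct {t : G} (ht : Inv t) {Y : Subgroup G} (h : Odd (Nat.card Y)) (hn : t ∈ 𝐍(Y)) :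
    CoprimeAct (zpowers t) Y := coprimeAct_zpowers hn (by rw [ht.orderOf]; exact h.coprime_two_right)

theorem conj_Wt_of_fused (h : Sd G) {t s g : G} (hk : Kl t s) (e1 : g * t * g⁻¹ = s) (e2 : g * s * g⁻¹ = t * s) :
    MulAut.conj g • Wt t s = Wt t s := by
  rw [conj_Wt, e1, e2, hk.comm, Wt_mul hk.symm, h.Wt_comm hk]

theorem invBy_of_fpf {t : G} (ht : Inv t) {D : Subgroup G} (hn : t ∈ 𝐍(D)) (h : D ⊓ 𝐂[t] = ⊥) : InvBy t D :=
  fun _ hx => conj_eq_inv_of_fpf hn (fun _ hm e => mem_bot.1 (h ▸ ⟨hm, mem_cent1.2 e⟩))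
    (by rw [pow_two, ht.sq]; exact one_mem _) hx

theorem Op_Ut_le {p : ℕ} [Fact p.Prime] (t : G) : Op p (Ut t) ≤ Ft t := Op_le_fittingOf _ _

theorem norm_Op_Ut (p : ℕ) (t : G) : 𝐂[t] ≤ 𝐍(Op p (Ut t)) := (norm_Ut t).trans (norm_le_norm_piCoreOf _ _)

theorem cent_Ft_le (t : G) : Ut t ⊓ 𝐂(Ft t) ≤ Ft t := by
  have := solv_Od 𝐂[t]; exact cent_fittingOf_le

theorem Sd.card_Ft (h : Sd G) {t s : G} (ht : Inv t) (hs : Inv s) : Nat.card (Ft s) = Nat.card (Ft t) := by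
  obtain ⟨g, -, rfl⟩ := h.conj ht hs
  rw [← conj_Ft, card_conj_smul]

theorem Sd.not_cent_Ft (h : Sd G) {t s : G} (hk : Kl t s) (hC : IsCoatom 𝐂[t]) (hU : Ut t ≠ ⊥) : s ∉ 𝐂(Ft t) := by
  intro hs
  have h1 : Wt t s = Ut t := inf_eq_left.2 (le_cent1_iff.2 (coprime_cent_Fitting (zpowers_le.2 (norm_Ut t hk.mem_cent))
    (hk.r.copr (odd_Od' _)) (solv_Od _) ⟨mem_zpowers s, hs⟩))
  obtain ⟨g, -, e1, e2⟩ := h.fused hk
  have h2 := conj_Wt_of_fused h hk e1 e2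
  rw [h1, conj_smul_eq_iff_mem_normalizer, h.norm_eq hC hU (solv_Od _) (norm_Ut t), mem_cent1] at h2
  exact hk.ne (by rw [← e1, h2, mul_inv_cancel_right])

theorem Sd.claimB (h : Sd G) {t s : G} (hk : Kl t s) (hC : IsCoatom 𝐂[t]) {p : ℕ} [hp : Fact p.Prime]
    {Y M : Subgroup G} (hY : IsPGroup p Y) (h0 : Y ≠ ⊥) (h1 : Y ≤ Ft t ⊓ 𝐂[s]) (h2 : Y ⊔ 𝐂(Y) ≤ M) :
    M ≤ 𝐂[t] ∨ (Ly M ≠ ⊥ ∧ t ∈ 𝐂(Od M)) := by
  have := h.simple
  have := h.solv_cent hk.l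
  have hYF := h1.trans inf_le_left
  have hYU := hYF.trans (Ft_le t)
  have hYt := hYU.trans (Ut_le t)
  have hU : Ut t ≠ ⊥ := FT.ne_bot_of_le_ne_bot h0 hYU
  have hYo := odd_of_le_Od hYU
  have hp2 : p ≠ 2 := by
    rintro rfl
    exact h0 (eq_bot_of_isPGroup_of_not_dvd hY (not_two_dvd.2 hYo))
  have hFF : Ft t ≤ fittingOf 𝐂[t] := fittingOf_le_of_normal (Ut_le t) (norm_Ut t)
  have htF : t ∈ fittingOf 𝐂[t] := by
    have := hk.l.isPGroup.isNilpotent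
    exact le_fittingOf (zpowers_le.2 (mem_cent1.2 rfl))
      (le_normalizer_of_le_centralizer (centralizer_zpowers t).ge) (mem_zpowers t)
  have hCM : 𝐂(Y) ≤ M := le_sup_right.trans h2
  have hYM : Y ≤ M := le_sup_left.trans h2
  have htM : t ∈ M := hCM (le_cent1_iff.1 hYt)
  have hsM : s ∈ M := hCM (le_cent1_iff.1 (h1.trans inf_le_right))
  have I : Inf 𝐂[t] (Y ⊔ (fittingOf 𝐂[t] ⊓ 𝐂(Y))) M := ⟨hC, cent_fittingOf_le, sup_le (hYF.trans hFF) inf_le_left,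
    (inf_le_inf_left _ (centralizer_anti le_sup_left)).trans le_sup_right, sup_le hYM (inf_le_right.trans hCM)⟩
  have hnp : ∀ (r : ℕ) [Fact r.Prime], ¬ IsPGroup r (fittingOf 𝐂[t]) := fun r _ hr => by
    by_cases e : r = 2
    · subst e
      exact h0 (eq_bot_of_isPGroup_of_not_dvd (hr.to_le (hYF.trans hFF)) (not_two_dvd.2 hYo))
    · refine not_dvd_card_of_ne hr (Ne.symm e) ?_
      rw [← hk.l.orderOf]; exact orderOf_dvd_natCard _ htF
  have h2F : 2 ∣ Nat.card (fittingOf 𝐂[t]) := by rw [← hk.l.orderOf]; exact orderOf_dvd_natCard _ htF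
  have hO2 := I.c h2F (hnp 2)
  have hO2F : Op 2 M ≤ 𝐂(Ft t) := by
    have hX : Y ⊔ (Ft t ⊓ 𝐂(Y)) ≤ Ft t ⊓ 𝐂(Op 2 M) := by
      have : Group.IsNilpotent ↥(Y ⊔ (fittingOf 𝐂[t] ⊓ 𝐂(Y))) := isNilpotent_of_le I.le
      have hle : Y ⊔ (Ft t ⊓ 𝐂(Y)) ≤ Ft t := sup_le hYF inf_le_left
      exact le_inf hle ((le_piCoreOf_of_nilpotent (sup_le_sup_left (inf_le_inf_right _ hFF) _)
        ((isPiNat_piCoreOf _ _).of_le (hle.trans (Ft_le t)))).trans (le_cent_comm.1 (I.b h2F)))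
    exact coprime_nil_faithful_cent_stab (hO2.trans (norm_Ft t))
      (cop_of_odd (isPGroup_Op 2 M) (not_two_dvd.2 (odd_of_le_Od (Ft_le t)))) inferInstance
      ((inf_le_inf_left _ (centralizer_anti (le_sup_left.trans hX))).trans ((le_sup_right.trans hX).trans inf_le_right))
  by_cases hb : Op 2 M = ⊥
  swap
  · have e : ∀ v ∈ Op 2 M, Inv v → v = t := fun v hv hi => by
      by_contra e
      exact h.not_cent_Ft ⟨hk.l, hi, Ne.symm e, (mem_cent1.1 (hO2 hv)).symm⟩ hC hU (hO2F hv)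
    obtain ⟨v, hv, hi⟩ := DX.exists_inv (H := Op 2 M) (by
      by_contra e; exact hb (eq_bot_of_isPGroup_of_not_dvd (isPGroup_Op 2 M) e))
    obtain rfl := e v hv hi
    refine .inl fun m hm => mem_cent1.2 (mul_inv_eq_iff_eq_mul.1 (e _ ?_ (hi.conj m)))
    exact conj_mem_of_mem_normalizer (le_norm_piCoreOf _ _ hm) hv
  have hD : ∀ (r : ℕ) [Fact r.Prime], Op r M ≤ 𝐂[t] := fun r hr => by
    by_cases hd : r ∣ Nat.card (fittingOf 𝐂[t])
    · exact I.c hd (hnp r)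
    have ha := I.a hd
    have hr2 : r ≠ 2 := fun e => hd (e ▸ h2F)
    have hDo : Odd (Nat.card (Op r M)) := not_two_dvd.1 (not_dvd_card_of_ne (isPGroup_Op r M) hr2.symm)
    have hn : M ≤ 𝐍(Op r M) := le_norm_piCoreOf _ _
    have hu : ∀ u, Kl t u → Y ≤ 𝐂[u] → Op r M ⊓ Ut u ≤ ⊥ := fun u hu hYu => by
      have hrF : ¬ r ∣ Nat.card (Ft u) := by
        rw [h.card_Ft hk.l hu.r]; exact not_dvd_card_of_le hd hFF
      have hDp : IsPGroup r ↥(Op r M ⊓ Ut u) := (isPGroup_Op r M).to_le inf_le_left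
      have hYU' := h.le_Ut hu.r hYu hYo
      suffices hs : Ft u ≤ 𝐂((Op r M ⊓ Ut u : Subgroup G)) from (eq_bot_of_isPGroup_of_not_dvd hDp (not_dvd_card_of_le hrF
        ((le_inf inf_le_right (le_cent_comm.1 hs)).trans (cent_Ft_le u)))).le
      refine fittingOf_le_of_forall_Op fun q hq => ?_
      by_cases hqr : q = r
      · subst hqr
        rw [eq_bot_of_isPGroup_of_not_dvd (isPGroup_Op q _) (not_dvd_card_of_le hrF (Op_Ut_le u))]; exact bot_le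
      have hRn : Op r M ⊓ Ut u ≤ 𝐍(Op q (Ut u)) := inf_le_right.trans (le_norm_piCoreOf _ _)
      have hc : Op q (Ut u) ⊓ 𝐂(Y) ≤ 𝐂((Op r M ⊓ Ut u : Subgroup G)) := by
        refine le_cent_of_commutator_le ((le_inf ((commutator_mono inf_le_left le_rfl).trans
          (commutator_le_left_of_norm hRn)) ((commutator_mono (inf_le_right.trans hCM) inf_le_left).trans
          (commutator_le_right_of_norm hn))).trans ?_)
        exact (disjoint_of_coprime_natCard (coprime_card_of_ne (isPGroup_Op q _) (isPGroup_Op r M) hqr)).le_bot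
      by_cases hqp : q = p
      · subst hqp
        exact le_cent_of_pxq_odd hp2 hY (not_dvd_card_of_ne hDp hqr) (isPGroup_Op q _)
          (hYu.trans (norm_Op_Ut q u)) hRn (le_normalizer_inf (hYM.trans hn) (hYU'.trans le_normalizer)) hc
      have hRo : Odd (Nat.card (Op q (Ut u))) := odd_of_le_Od (piCoreOf_le _ _)
      refine le_cent_of_invBy hk.l.sq (fun x hx => invBy_of_fpf hk.l (hn htM) ha x hx.1) hRo
        (coprime_card_of_ne (isPGroup_Op q _) hDp hqr) (odd_of_le_Od inf_le_right) (norm_Op_Ut q u hu.mem_cent') hRn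
        ((le_inf inf_le_left ?_).trans hc)
      refine le_cent_of_commutator_le ((le_inf ((commutator_mono inf_le_left le_rfl).trans
        (commutator_le_left_of_norm (hYu.trans (norm_Op_Ut q u)))) ((commutator_mono inf_le_right
        (le_Op_of_le_fittingOf hY hYF)).trans (commutator_le_right_of_norm (norm_Op_Ut p t)))).trans ?_)
      exact (disjoint_of_coprime_natCard (coprime_card_of_ne (isPGroup_Op q _) (isPGroup_Op p _) hqp)).le_bot
    exact (h.le_of_kl hk hDo (hn htM) (hn hsM) ((inf_le_inf_left _ (Ut_le t)).trans ha.le)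
      (hu s hk (h1.trans inf_le_right)) (hu _ hk.mulR (le_cent1_iff.2 (mul_mem (le_cent1_iff.1 hYt)
        (le_cent1_iff.1 (h1.trans inf_le_right)))))).trans bot_le
  have hF : t ∈ 𝐂(fittingOf M) := le_cent1_iff.1 (fittingOf_le_of_forall_Op hD)
  refine .inr ⟨fun hE => ?_, coprime_cent_Fitting (zpowers_le.2 (le_norm_Od M htM)) (hk.l.copr (odd_Od' M)) (solv_Od M)
    ⟨mem_zpowers t, centralizer_anti (fittingOf_le_of_normal (Od_le M) (le_norm_Od M)) hF⟩⟩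
  have := le_Op_of_le_fittingOf hk.l.isPGroup (zpowers_le.2 (cent_fitting_of_Ly hE ⟨htM, hF⟩)) (mem_zpowers t)
  rw [hb] at this
  exact hk.l.ne this

end

variable {G : Type u} [Group G] [Finite G]

theorem not_cent_Ft (h : Min G) {t s : G} (hk : Kl t s) (hC : IsCoatom 𝐂[t]) (hU : Ut t ≠ ⊥) : s ∉ 𝐂(Ft t) :=
  h.toSd.not_cent_Ft hk hC hU

theorem claimB (h : Min G) {t s : G} (hk : Kl t s) (hC : IsCoatom 𝐂[t]) {p : ℕ} [Fact p.Prime] {Y M : Subgroup G}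
    (hY : IsPGroup p Y) (h0 : Y ≠ ⊥) (h1 : Y ≤ Ft t ⊓ 𝐂[s]) (_hM : M ≠ ⊤) (h2 : Y ⊔ 𝐂(Y) ≤ M) :
    M ≤ 𝐂[t] ∨ (Ly M ≠ ⊥ ∧ t ∈ 𝐂(Od M)) := h.toSd.claimB hk hC hY h0 h1 h2

end GW
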