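import Cfsg.Agent.Lib.GW.DX
import Cfsg.Agent.Lib.GW.ClaimB

/-!
# Maximal subgroups containing the centralizer of an involution: reduction, two primes
-/

set_option autoImplicit false
set_option linter.unusedSectionVars false

namespace GW

open Cfsg GT FT Subgroup
open scoped Pointwise commutatorElement

universe u

section
variable {G : Type*} [Group G] [Finite G]

theorem le_cent_of_split {M Y Z : Subgroup G} (hc : M ⊓ 𝐂(fittingOf M) ≤ fittingOf M) {p : ℕ} [Fact p.Prime]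
    (hY : IsPGroup p Y) (hZ : ¬ p ∣ Nat.card Z) (hYM : Y ≤ M) (hZM : Z ≤ M)
    (h1 : Y ≤ 𝐂(Op' p (fittingOf M))) (h2 : Z ≤ 𝐂(Op p M)) : Y ≤ 𝐂(Z) := by
  have nF := le_norm_fittingOf M
  have n1 : M ≤ 𝐍(𝐂(Op' p (fittingOf M))) := (nF.trans (norm_le_norm_piCoreOf _ _)).trans (norm_le_norm_cent _)
  have n2 : M ≤ 𝐍(𝐂(Op p M)) := (le_norm_piCoreOf _ _).trans (norm_le_norm_cent _)
  have h3 : ⁅Y, Z⁆ ≤ fittingOf M := by
    refine le_trans (le_inf ((commutator_mono hYM hZM).trans (der_le M)) ?_) hc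
    rw [cent_eq_inf_nil (F := fittingOf M) {p}]
    refine le_inf ?_ ((commutator_mono h1 le_rfl).trans (commutator_le_left_of_norm (hZM.trans n1)))
    rw [show piCoreOf {p} (fittingOf M) = Op p M from Op_fittingOf p M]
    exact (commutator_mono le_rfl h2).trans (commutator_le_right_of_norm (hYM.trans n2))
  have h4 : ⁅Y ⊔ fittingOf M, Z⁆ ≤ fittingOf M :=
    commutator_sup_left_le h3 (commutator_le_left_of_norm (hZM.trans nF)) (hYM.trans nF) le_normalizer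
  have h5 : Y ≤ Op p (Y ⊔ fittingOf M) := by
    refine le_sup_left.trans (le_Op (K := Y ⊔ Op p M)
      (sup_le_sup_left (Op_le_fittingOf p M) _) (sup_le (le_sup_left.trans le_normalizer) ?_)
      (isPGroup_sup hY (isPGroup_Op p M) (hYM.trans (le_norm_piCoreOf _ _))))
    rw [← (dp_piCoreOf_of_nilpotent (H := fittingOf M) {p}).sup]
    refine sup_le ((Op_fittingOf p M).le.trans (le_sup_right.trans le_normalizer)) (le_trans ?_ (cent_le_norm _))
    rw [GT.centralizer_sup]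
    refine le_inf (le_cent_comm.1 h1) (le_cent_comm.1 ?_)
    rw [← Op_fittingOf p M]
    exact piCoreOf_le_cent_compl _ _
  have n3 : Z ≤ 𝐍(Op p (Y ⊔ fittingOf M)) :=
    (le_norm_of_commutator_le (h4.trans le_sup_right)).trans (norm_le_norm_piCoreOf _ _)
  exact h5.trans (le_centralizer_of_commutator_le_of_coprime n3 ((isPGroup_Op p _).coprime_card hZ)
    ((le_Op_of_le_fittingOf ((isPGroup_Op p _).to_le (commutator_le_left_of_norm n3))
      ((commutator_mono (piCoreOf_le _ _) le_rfl).trans h4)).trans (le_cent_comm.1 h2)))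

theorem InvBy.comm_le {t : G} (ht : Inv t) {D R : Subgroup G} (h : InvBy t D) (hn : R ≤ 𝐍(D)) :
    ⁅R, zpowers t⁆ ≤ 𝐂(D) := commutator_le.2 fun r hr x hx => mem_centralizer_iff.2 fun d hd => by
  rcases ht.mem_zpowers_iff.1 hx with rfl | rfl
  · simp
  have h1 := h _ (conj_mem_of_mem_normalizer (inv_mem (hn hr)) hd)
  have h2 := h _ hd
  rw [commutatorElement_def, ht.inv] at *
  calc d * (r * x * r⁻¹ * x) = r * (x * x) * r⁻¹ * d * r * x * r⁻¹ * x := by rw [ht.sq]; group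
    _ = r * x * (x * (r⁻¹ * d * r⁻¹⁻¹) * x) * r⁻¹ * x := by group
    _ = r * x * r⁻¹ * (x * d * x) * x := by rw [h1, h2]; group
    _ = r * x * r⁻¹ * x * d * (x * x) := by group
    _ = _ := by rw [ht.sq, mul_one]

/-- `H` is a maximal subgroup containing `C(t)`, with a self-centralizing Fitting subgroup of odd order -/
structure Mx (t : G) (H : Subgroup G) : Prop where
  max : IsCoatom H
  le : 𝐂[t] ≤ H
  cons : H ⊓ 𝐂(fittingOf H) ≤ fittingOf H
  odd : ¬ 2 ∣ Nat.card (fittingOf H)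

theorem Mx.conj {t : G} {H : Subgroup G} (h : Mx t H) (g : G) : Mx (g * t * g⁻¹) (MulAut.conj g • H) := by
  refine ⟨isCoatom_conj h.max g, ?_, ?_, ?_⟩
  · rw [← conj_cent1]; exact conj_smul_le_conj_smul_iff.2 h.le
  · rw [← conj_fittingOf, ← conj_smul_centralizer, ← conj_smul_inf]; exact conj_smul_le_conj_smul_iff.2 h.cons
  · rw [← conj_fittingOf, card_conj_smul]; exact h.odd

theorem Mx.inf {t : G} {H Q : Subgroup G} (h : Mx t H) (hQ : Q ≤ fittingOf H) :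
    Inf H (fittingOf H ⊓ 𝐍(Q)) 𝐍(Q) :=
  ⟨h.max, h.cons, inf_le_left, inf_le_inf_left _
    ((centralizer_anti (le_inf hQ le_normalizer)).trans (cent_le_norm _)), inf_le_right⟩

theorem Mx.invBy [IsSimpleGroup G] {t : G} {H Y M : Subgroup G} (h : Mx t H) (ht : Inv t) (I : Inf H Y M)
    (hM : t ∈ M) {r : ℕ} [Fact r.Prime] (hr : ¬ r ∣ Nat.card (fittingOf H)) : InvBy t (Op r M) :=
  invBy_of_fpf ht (le_norm_piCoreOf _ _ hM) (le_bot_iff.1 ((inf_le_inf_left _ h.le).trans (I.a hr).le))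

end

variable {G : Type u} [Group G] [Finite G]

theorem Min.comm_Op_le (h : Min G) {t : G} (ht : Inv t) {A B : Subgroup G} (hA : 𝐂[t] ≤ A) (hB : B ≠ ⊤) (tB : t ∈ B)
    {p : ℕ} [Fact p.Prime] (hp : p ≠ 2) : ⁅Op p A ⊓ B, zpowers t⁆ ≤ Op p B :=
  h.comm_le_Op hB ht tB hp ((isPGroup_Op p A).to_le inf_le_left) inf_le_right
    (le_normalizer_inf (inf_le_right.trans (hA.trans (le_norm_piCoreOf _ _))) (inf_le_left.trans le_normalizer))

theorem Min.Ly_norm_eq_bot (h : Min G) {t u : G} (hk : Kl t u) {B Q : Subgroup G} (hB : 𝐂[u] ≤ B) {p : ℕ}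
    [Fact p.Prime] (hp : p ≠ 2) (hQ : Q ≤ Op p B) (tM : t ∈ 𝐍(Q)) (uQ : u ∈ 𝐂(Q)) (hQt : t ∉ 𝐂(Q))
    (h2 : u ∉ 𝐂(Op p B)) : Ly 𝐍(Q) = ⊥ := by
  by_contra hE
  have hQp := (isPGroup_Op p B).to_le hQ
  have hM : 𝐍(Q) ≠ ⊤ := h.norm_ne_top (fun e => hQt (le_cent1_iff.1 (e.le.trans bot_le))) (IsPGroup.isSolvable' hQp)
  have uM : u ∈ 𝐍(Q) := cent_le_norm _ uQ
  have hQO : Ly 𝐍(Q) ≤ 𝐂(Q) := (Ly_le_cent _).trans (centralizer_anti
    (le_Op' le_normalizer le_rfl (not_dvd_card_of_ne hQp hp.symm)))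
  rcases (h.cp hM hE).kl tM uM hk with e | e | e
  · exact hQt (hQO e)
  · have hR : IsPGroup p ↥(Op p B ⊓ 𝐍(Q)) := (isPGroup_Op p B).to_le inf_le_left
    have n1 : B ≤ 𝐍(Op p B) := le_norm_piCoreOf _ _
    have uB := hB (mem_cent1.2 rfl)
    have hu2 : ¬ p ∣ Nat.card (zpowers u) := not_dvd_card_of_ne hk.r.isPGroup hp
    have h3 : Op p B ⊓ 𝐍(Q) ≤ 𝐂(zpowers u) := le_centralizer_of_commutator_le_of_coprime
      (le_normalizer_inf (zpowers_le.2 (n1 uB)) (zpowers_le.2 (le_normalizer uM))) (hR.coprime_card hu2)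
      ((h.comm_Op_le hk.r hB hM uM hp).trans (le_cent_comm.1 (zpowers_le.2
        (centralizer_anti (le_Op' (piCoreOf_le _ _) (le_norm_piCoreOf _ _)
          (not_dvd_card_of_ne (isPGroup_Op p _) hp.symm)) (Ly_le_cent _ e)))))
    exact h2 (zpowers_le.1 (le_cent_comm.1 (le_centralizer_of_pxq hR hu2 (isPGroup_Op p B)
      (inf_le_left.trans le_normalizer) (zpowers_le.2 (n1 uB)) h3
      ((inf_le_inf_left _ ((centralizer_anti (le_inf hQ le_normalizer)).trans (cent_le_norm _))).trans h3))))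
  · exact hQt (by simpa [hk.r.mul_mul'] using mul_mem (hQO e) uQ)

theorem Min.eq_of_two (h : Min G) {t u : G} (hk : Kl t u) {A B : Subgroup G} (a : Mx t A) (b : Mx u B)
    (hc : Nat.card (fittingOf A) = Nat.card (fittingOf B)) (hp : ∀ r : ℕ, r.Prime → ¬ IsPGroup r (fittingOf A))
    {p : ℕ} [Fact p.Prime] (h1 : ¬ Op p A ⊓ 𝐂[u] ≤ 𝐂[t]) (h2 : u ∉ 𝐂(Op p B)) : A = B := by
  have := h.simple
  have hp' : ∀ r : ℕ, r.Prime → ¬ IsPGroup r (fittingOf B) := fun r hr e => by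
    have := Fact.mk hr
    obtain ⟨n, hn⟩ := IsPGroup.iff_card.1 e
    exact hp r hr (.of_card (hc.trans hn))
  have hPo : ¬ 2 ∣ Nat.card (Op p A) := not_dvd_card_of_le a.odd (Op_le_fittingOf p A)
  have hp2 : p ≠ 2 := by
    rintro rfl
    exact h1 (by rw [eq_bot_of_isPGroup_of_not_dvd (isPGroup_Op 2 A) hPo, bot_inf_eq]; exact bot_le)
  have tA : t ∈ A := a.le (mem_cent1.2 rfl)
  have tB : t ∈ B := b.le hk.mem_cent'
  have c1 : CoprimeAct (zpowers t) (Op p A ⊓ 𝐂[u]) := hk.l.copAct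
    (not_two_dvd.1 (not_dvd_card_of_le hPo inf_le_left))
    (zpowers_le.1 (le_normalizer_inf (zpowers_le.2 (le_norm_piCoreOf _ _ tA))
      (zpowers_le.2 (le_normalizer hk.mem_cent'))))
  obtain ⟨Q, hQ⟩ : ∃ Q, Q = ⁅Op p A ⊓ 𝐂[u], zpowers t⁆ := ⟨_, rfl⟩
  have hQ1 : Q ≤ Op p A ⊓ 𝐂[u] := hQ ▸ c1.commutator_le
  have hQt : t ∉ 𝐂(Q) := fun e => h1 ((c1.le_centralizer_of_commutator_le
    (hQ ▸ le_cent_comm.1 (zpowers_le.2 e))).trans (centralizer_zpowers t).le)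
  have hQB : Q ≤ Op p B := hQ ▸ (commutator_mono (inf_le_inf_left _ b.le) le_rfl).trans
    (h.comm_Op_le hk.l a.le b.max.1 tB hp2)
  have Ia := a.inf ((hQ1.trans inf_le_left).trans (Op_le_fittingOf p A))
  have Ib := b.inf (hQB.trans (Op_le_fittingOf p B))
  have tM : t ∈ 𝐍(Q) := zpowers_le.1 (hQ ▸ c1.commutator.norm)
  have uQ : u ∈ 𝐂(Q) := le_cent1_iff.1 (hQ1.trans inf_le_right)
  have hE := h.Ly_norm_eq_bot hk b.le hp2 hQB tM uQ hQt h2
  have key : fittingOf B ⊓ 𝐍(Q) ≤ A := by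
    have : Group.IsNilpotent ↥(fittingOf B ⊓ 𝐍(Q)) := isNilpotent_of_le inf_le_left
    refine nil_le_of_forall_Op fun r hr hd => ?_
    have hrA : r ∣ Nat.card (fittingOf A) := hc ▸ hd.trans (card_dvd_of_le inf_le_left)
    have hR := isPGroup_Op r (fittingOf B ⊓ 𝐍(Q))
    have hRM : Op r (fittingOf B ⊓ 𝐍(Q)) ≤ 𝐍(Q) := (piCoreOf_le _ _).trans inf_le_right
    have c2 : CoprimeAct (zpowers t) (Op r (fittingOf B ⊓ 𝐍(Q))) := hk.l.copAct
      (not_two_dvd.1 (not_dvd_card_of_le b.odd ((piCoreOf_le _ _).trans inf_le_left)))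
      (norm_le_norm_piCoreOf _ _ (zpowers_le.1 (le_normalizer_inf (zpowers_le.2 (le_norm_fittingOf B tB))
        (zpowers_le.2 (le_normalizer tM)))))
    rw [← c2.inf_centralizer_sup_commutator]
    refine sup_le (inf_le_right.trans ((centralizer_zpowers t).le.trans a.le)) ?_
    refine (le_cent_of_split (cent_fitting_of_Ly hE) (hR.to_le c2.commutator_le) (not_dvd_card_Op' r _)
      (c2.commutator_le.trans hRM) ((piCoreOf_le _ _).trans inf_le_right) (le_cent_comm.1 ?_)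
      (le_cent_comm.1 (Ia.b hrA))).trans (Ia.cent_le (Op'_ne_bot_nil (hp r hr.out)))
    have : Group.IsNilpotent (Op' r (fittingOf 𝐍(Q))) := isNilpotent_of_le (piCoreOf_le _ _)
    refine nil_le_of_forall_Op fun q hq hqd => (le_Op_of_le_fittingOf (isPGroup_Op q _)
      ((piCoreOf_le _ _).trans (piCoreOf_le _ _))).trans ?_
    by_cases e : q ∣ Nat.card (fittingOf A)
    · refine (Ib.b (hc ▸ e)).trans (centralizer_anti (c2.commutator_le.trans (piCoreOf_mono ?_ _)))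
      rintro _ rfl rfl
      exact not_dvd_card_Op' _ _ hqd
    · exact le_cent_comm.1 ((a.invBy hk.l Ia tM e).comm_le hk.l (hRM.trans (le_norm_piCoreOf _ _)))
  have I : Inf B _ A := ⟨b.max, b.cons, Ib.le, Ib.sc, key⟩
  exact Inf.d ⟨a.max, a.cons, le_rfl, inf_le_left, I.fit_le (fun r _ e => hc ▸ e) hp'⟩ I hp

theorem Sd.Op_two_eq_bot (h : Sd G) {t s : G} (hk : Kl t s) {H : Subgroup G} (hC : 𝐂[t] ≤ H) (ht : t ∉ 𝐂(Od H)) :
    Op 2 H = ⊥ := by
  by_contra h0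
  have hV : Vk t s ≤ H := hk.Vk_le.2 ⟨hC (mem_cent1.2 rfl), hC hk.mem_cent⟩
  have n : H ≤ 𝐍(Op 2 H) := le_norm_piCoreOf _ _
  have ht' : t ∉ Op 2 H := fun e => ht (piCoreOf_le_cent_compl _ _ e)
  obtain ⟨⟨z, hz1, hz2⟩, hz⟩ := ne_bot_iff_exists_ne_one.1
    (inf_centralizer_ne_bot_of_isPGroup hk.isPGroup (isPGroup_Op 2 H) h0 (hV.trans n))
  have hz0 : z ≠ 1 := fun e => hz (Subtype.ext e)
  rw [hk.cent_Vk] at hz2
  have hzV := h.mem_Vk hk (isPElt_of_mem (isPGroup_Op 2 H) hz1) hz2.1 hz2.2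
  have nb : ¬ (s ∈ Op 2 H ∧ t * s ∈ Op 2 H) := fun e => ht' (by simpa [hk.r.mul_mul'] using mul_mem e.2 e.1)
  rcases h.swap hk with hS | ⟨y, hy, -, e⟩
  · have hT : Op 2 H ≤ Vk t s := Op_le_sylow (hS.of_le hV le_top)
    have e : ∀ x ∈ Op 2 H, x ≠ 1 → x = z := fun x hx hx0 => by
      rcases hk.mem_Vk.1 (hT hx) with rfl | rfl | rfl | rfl <;>
        rcases hk.mem_Vk.1 hzV with rfl | rfl | rfl | rfl <;> tauto
    have hzi : Inv z := ⟨hz0, hk.sq hzV⟩
    have h1 : H ≤ 𝐂[z] := fun m hm => mem_cent1.2 (mul_inv_eq_iff_eq_mul.1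
      (e _ (conj_mem_of_mem_normalizer (n hm) hz1) (hzi.conj m).ne))
    obtain ⟨g, -, e1⟩ := h.conj hk.l hzi
    have h2 := eq_of_le_of_card_ge (hC.trans h1) (by rw [← e1, ← conj_cent1, card_conj_smul])
    exact ht (le_cent1_iff.1 ((Od_le H).trans (h2 ▸ h1)))
  · rcases hk.mem_Vk.1 hzV with rfl | rfl | rfl | rfl
    · exact hz0 rfl
    · exact ht' hz1
    · exact nb ⟨hz1, e ▸ conj_mem_of_mem_normalizer (n (hC hy)) hz1⟩
    · exact nb ⟨(mem_normalizer_iff.1 (n (hC hy)) s).2 (e ▸ hz1), hz1⟩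

theorem Min.Ly_eq_bot (h : Min G) {t s : G} (hk : Kl t s) {H : Subgroup G} (hH : H ≠ ⊤) (hC : 𝐂[t] ≤ H)
    (hn : ¬ ConjIn H t s) (ht : t ∉ 𝐂(Od H)) : Ly H = ⊥ := by
  by_contra hE
  have c := h.cp hH hE
  have tH : t ∈ H := hC (mem_cent1.2 rfl)
  have sH : s ∈ H := hC hk.mem_cent
  have ht' : t ∉ Ly H := fun e => ht (Ly_le_cent H e)
  by_cases e : s ∈ Ly H
  · exact hn (h.conjIn_mul hk hC (c.out t tH _ (mul_mem tH sH) hk.l hk.inv_mul ht'
      fun e' => ht' (by simpa [hk.r.mul_mul'] using mul_mem e' e)))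
  · exact hn (c.out t tH s sH hk.l hk.r ht' e)

theorem stepA3_of (h : Min G) {t s : G} (hk : Kl t s) {H : Subgroup G} (hH : IsCoatom H) (hC : 𝐂[t] ≤ H)
    (hn : ¬ ConjIn H t s) (h1 : ∀ (p : ℕ) [Fact p.Prime], p ≠ 2 → IsPGroup p (fittingOf H) → Ly H = ⊥ →
      t ∉ 𝐂(Op p H) → False) : t ∈ 𝐂(Od H) := by
  have := h.simple
  by_contra ht
  have hE := h.Ly_eq_bot hk hH.1 hC hn ht
  have h2 := h.Op_two_eq_bot hk hC ht
  have tH : t ∈ H := hC (mem_cent1.2 rfl)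
  have a : Mx t H := ⟨hH, hC, cent_fitting_of_Ly hE, fun e => Op_ne_bot_nil e ((Op_fittingOf 2 H).trans h2)⟩
  obtain ⟨p, hp, hP⟩ : ∃ (p : ℕ) (_ : Fact p.Prime), t ∉ 𝐂(Op p H) := by
    by_contra! e
    refine a.odd ?_
    rw [← hk.l.orderOf]
    exact orderOf_dvd_natCard _ (a.cons ⟨tH, le_cent1_iff.1 (fittingOf_le_of_forall_Op fun p hp => le_cent1_iff.2 (e p hp))⟩)
  have h0 : Op p H ≠ ⊥ := fun e => hP (le_cent1_iff.1 (e.le.trans bot_le))
  have hp' : ∀ r : ℕ, r.Prime → ¬ IsPGroup r (fittingOf H) := fun r hr e => by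
    have := Fact.mk hr
    obtain rfl : r = p := by
      by_contra e'
      exact h0 (eq_bot_of_isPGroup_of_not_dvd (e.to_le (Op_le_fittingOf p H)) (not_dvd_card_of_ne (isPGroup_Op p H) e'))
    exact h1 r (by rintro rfl; exact h0 h2) e hE hP
  have key : ∀ u, Kl t u → ¬ ConjIn H t u → Op p H ⊓ Ut u ≤ 𝐂[t] := fun u hu hn' => by
    by_contra e
    obtain ⟨g, -, rfl⟩ := h.conj hk.l hu.r
    have e1 := h.eq_of_two hu a (a.conj g) (by rw [← conj_fittingOf, card_conj_smul]) hp'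
      (fun e' => e ((inf_le_inf_left _ (Ut_le _)).trans e')) (fun e' => hP (le_cent1_iff.1
        (conj_smul_le_conj_smul_iff.1 ((conj_piCoreOf g _ H).le.trans
          ((le_cent1_iff.2 e').trans (conj_cent1 g t).ge)))))
    refine hn' ⟨g, ?_, rfl⟩
    rw [← norm_eq_of_coatom hH le_rfl le_normalizer fun e => hk.l.ne (mem_bot.1 (e ▸ tH))]
    exact conj_smul_eq_iff_mem_normalizer.1 e1.symm
  exact hP (le_cent1_iff.1 (h.le_of_kl hk (not_two_dvd.1 (not_dvd_card_of_le a.odd (Op_le_fittingOf p H)))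
    (le_norm_piCoreOf _ _ tH) (le_norm_piCoreOf _ _ (hC hk.mem_cent)) (inf_le_right.trans (Ut_le t)) (key s hk hn)
    (key _ hk.mulR fun e => hn (h.conjIn_mul hk hC e))))

end GW
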