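import Cfsg.Agent.Lib.GW.ClaimB
import Cfsg.Agent.Lib.Grp.FailFact

/-!
# A Frobenius group with complement of order `2 p` acting on a `p`-group
-/

set_option autoImplicit false
set_option linter.unusedSectionVars false
set_option linter.style.haveILetI false

namespace GW

open Cfsg GT FT GAG Subgroup
open scoped Pointwise commutatorElement

theorem sum_pow_mul_eq_zero {R : Type*} [Ring R] {x y : R} {p : ℕ} (hp2 : Odd p) (hR : (p : R) = 0)
    (hc : Commute x y) (hx : x ^ p = 1) (hy : y * y = 1) (h : (x - 1) * ((x - 1) * (1 + y)) = 0) :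
    ∑ i ∈ Finset.range (p + p), (x * y) ^ i = 0 := by
  have h0 : ∀ i : ℕ, y ^ i * (1 + y) = 1 + y := fun i => by
    induction i with
    | zero => simp
    | succ i ih => rw [pow_succ', mul_assoc, ih, mul_add, mul_one, hy, add_comm]
  have h1 : ∀ i : ℕ, x ^ i * (1 + y) = (1 + y) + (i : R) * ((x - 1) * (1 + y)) := fun i => by
    induction i with
    | zero => simp
    | succ i ih =>
      have h2 : x * ((x - 1) * (1 + y)) = (x - 1) * (1 + y) := by rwa [sub_mul, one_mul, sub_eq_zero] at h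
      rw [pow_succ', mul_assoc, ih, mul_add x, ← mul_assoc x (i : R), ← Nat.cast_comm, mul_assoc, h2,
        Nat.cast_succ]
      noncomm_ring
  have h2 : (x * y) ^ p = y := by
    obtain ⟨k, rfl⟩ := hp2
    rw [hc.mul_pow, hx, one_mul, pow_succ, pow_mul, pow_two, hy, one_pow, one_mul]
  rw [Finset.sum_range_add, ← Finset.sum_add_distrib]
  have h3 : ∀ i, (x * y) ^ i + (x * y) ^ (p + i) = (1 + y) + (i : R) * ((x - 1) * (1 + y)) := fun i => by
    rw [add_comm p, pow_add, h2, ← mul_one_add, hc.mul_pow, mul_assoc, h0, h1]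
  simp_rw [h3]
  rw [Finset.sum_add_distrib, ← Finset.sum_mul, ← Nat.cast_sum, Finset.sum_range_id]
  obtain ⟨k, rfl⟩ := hp2
  have : (2 * k + 1) * (2 * k + 1 - 1) / 2 = (2 * k + 1) * k := by
    rw [Nat.add_sub_cancel, mul_left_comm, Nat.mul_div_cancel_left _ two_pos]
  rw [this, Nat.cast_mul, hR, Finset.sum_const, Finset.card_range, nsmul_eq_mul, hR]
  simp

variable {G : Type*} [Group G] [Finite G] {p : ℕ} [hp : Fact p.Prime]

theorem frob_elem (hp2 : p ≠ 2) {W K : Subgroup G} {z t : G} (hW : IsElementaryAbelian p W) (hz : z ∈ 𝐍(W))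
    (ht : t ∈ 𝐍(W)) (hK : K ≤ 𝐍(W)) (zp : orderOf z = p) (t2 : Inv t) (hc : z * t = t * z)
    (hF : FrobAct (zpowers (z * t)) K) (hKp : ¬ p ∣ Nat.card K) (hq : ∀ w ∈ W ⊓ 𝐂[t], ⁅z, ⁅z, w⁆⁆ = 1) :
    K ≤ 𝐂(W) := by
  have := hW.1
  open scoped IsMulCommutative in
  let ρ : 𝐍(W) →* AddMonoid.End (Additive W) :=
    { toFun := fun g => MonoidHom.toAdditive (W.normalizerMonoidHom g).toMonoidHom
      map_one' := by rw [map_one]; rfl
      map_mul' := fun g h => by rw [map_mul]; rfl }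
  have hρ : ∀ (g : 𝐍(W)) (w : Additive W), ((ρ g w).toMul : G) = g * w.toMul * (g : G)⁻¹ :=
    fun g w => rfl
  have hρ' : ∀ (g : 𝐍(W)) (w : Additive W), (((ρ g - 1) w).toMul : G) = ⁅(g : G), (w.toMul : G)⁆ :=
    fun g w => by
      change (((ρ g w - w).toMul : W) : G) = _
      rw [toMul_sub, div_eq_mul_inv, Subgroup.coe_mul, hρ]; rfl
  have hM : ∀ m : Additive W, p • m = 0 := fun m =>
    Additive.toMul.injective (Subtype.ext (by simpa using hW.2 _ m.toMul.2))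
  have hR : (p : AddMonoid.End (Additive W)) = 0 := AddMonoidHom.ext fun m =>
    (AddMonoid.End.natCast_apply p m).trans (hM m)
  have hcz : Commute (⟨z, hz⟩ : 𝐍(W)) ⟨t, ht⟩ := Subtype.ext hc
  have ho : orderOf (⟨z, hz⟩ * ⟨t, ht⟩ : 𝐍(W)) = p + p := by
    rw [← Subgroup.orderOf_coe, Subgroup.coe_mul, Commute.orderOf_mul_eq_mul_orderOf_of_coprime hc
      (by rw [zp, t2.orderOf]; exact (Nat.coprime_primes hp.out Nat.prime_two).2 hp2), zp, t2.orderOf, mul_two]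
  have hz' : (zpowers (z * t)).subgroupOf 𝐍(W) = zpowers (⟨z, hz⟩ * ⟨t, ht⟩) := by
    ext x
    simp only [mem_subgroupOf, mem_zpowers_iff]
    exact exists_congr fun k => by rw [Subtype.ext_iff]; simp
  have hF' := hF.subgroupOf 𝐍(W)
  rw [hz'] at hF'
  have hs : ∑ i ∈ Finset.range (p + p), ρ (⟨z, hz⟩ * ⟨t, ht⟩) ^ i = 0 := by
    rw [map_mul]
    refine sum_pow_mul_eq_zero (hp.out.odd_of_ne_two hp2) hR (hcz.map ρ) ?_ ?_ (AddMonoidHom.ext fun w =>
      Additive.toMul.injective (Subtype.ext ((hρ' _ _).trans ((congrArg _ (hρ' _ _)).trans (hq _ ?_)))))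
    · rw [← map_pow, show (⟨z, hz⟩ : 𝐍(W)) ^ p = 1 from Subtype.ext (zp ▸ pow_orderOf_eq_one z), map_one]
    · rw [← map_mul, show (⟨t, ht⟩ : 𝐍(W)) * ⟨t, ht⟩ = 1 from Subtype.ext t2.sq, map_one]
    · refine ⟨Subtype.prop _, mem_cent1.2 ?_⟩
      change (w.toMul : G) * (t * w.toMul * t⁻¹) * t = t * (w.toMul * (t * w.toMul * t⁻¹))
      have h1 := comm_iff_le_cent.1 hW.1 w.toMul.2 _ (conj_mem_of_mem_normalizer ht w.toMul.2)
      conv_rhs => rw [← h1]
      simp only [t2.inv, mul_assoc, t2.sq, t2.mul_mul, mul_one]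
  intro y hy w hw
  have h1 := card_mul_sub_one_eq_zero ρ hF' ho hs (y := ⟨y, hK hy⟩) hy
  rw [card_subgroupOf_of_le hK] at h1
  have h2 := DFunLike.congr_fun h1 (Additive.ofMul ⟨w, hw⟩)
  have h3 : Nat.card K • ((ρ ⟨y, hK hy⟩ - 1) (Additive.ofMul ⟨w, hw⟩)) = 0 := by
    rw [← map_nsmul, ← AddMonoid.End.natCast_apply]; exact h2
  have h6 := Nat.eq_one_of_dvd_coprimes ((Nat.Prime.coprime_iff_not_dvd hp.out).2 hKp)
    (addOrderOf_dvd_of_nsmul_eq_zero (hM _)) (addOrderOf_dvd_of_nsmul_eq_zero h3)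
  rw [AddMonoid.addOrderOf_eq_one_iff] at h6
  have h7 := hρ' ⟨y, hK hy⟩ (Additive.ofMul ⟨w, hw⟩)
  rw [h6] at h7
  exact (commutatorElement_eq_one_iff_mul_comm.1 h7.symm).symm

theorem frob (hp2 : p ≠ 2) {Y D : Subgroup G} {z t : G} (hY : IsPGroup p Y) (hD : ¬ p ∣ Nat.card D)
    (ho : Odd (Nat.card D)) (ht : Inv t) (hi : InvBy t D) (zp : z ^ p = 1) (hc : z * t = t * z)
    (zD : z ∈ 𝐍(D)) (zY : z ∈ 𝐍(Y)) (tY : t ∈ 𝐍(Y)) (DY : D ≤ 𝐍(Y)) (hf : D ⊓ 𝐂(Y) = ⊥)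
    (hq : ∀ w ∈ Y ⊓ 𝐂[t], ⁅z, ⁅z, w⁆⁆ = 1) : z ∈ 𝐂(D) := by
  by_contra hn
  have z1 : z ≠ 1 := fun e => hn (e ▸ one_mem _)
  have oz := orderOf_eq_prime zp z1
  have tD : t ∈ 𝐍(D) := mem_normalizer_of_conj_mem fun x hx => (hi x hx).symm ▸ inv_mem hx
  haveI : IsMulCommutative D := comm_iff_le_cent.2 fun x hx y hy => inv_injective (by
    rw [← hi _ (mul_mem hy hx), ← conj_mul, hi x hx, hi y hy, mul_inv_rev])
  have a1 : CoprimeAct (zpowers z) D := coprimeAct_zpowers zD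
    (oz ▸ ((Nat.Prime.coprime_iff_not_dvd hp.out).2 hD).symm)
  have a2 := a1.commutator_le
  have a3 : ∀ n ∈ ⁅D, zpowers z⁆, n * z = z * n → n = 1 := fun n h1 h2 =>
    a1.disjoint_commutator_centralizer.le_bot ⟨h1, (centralizer_zpowers z).ge (mem_cent1.2 h2)⟩
  have a4 : ∀ n ∈ D, n * t = t * n → n = 1 := fun n h1 h2 => by
    have h3 := hi n h1
    rw [← h2, mul_inv_cancel_right] at h3
    exact (isPElt_of_sq (mul_eq_one_iff_eq_inv.2 h3)).eq_one_of_isPRegular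
      (isPRegular_of_mem (not_two_dvd.2 ho) h1)
  have Czt : Commute z t := hc
  have hF : FrobAct (zpowers (z * t)) ⁅D, zpowers z⁆ := by
    refine ⟨zpowers_le.2 (mul_mem (le_norm_commutator_right _ _ (mem_zpowers z))
      (le_normalizer_commutator (zpowers_le.2 tD) (zpowers_le.2 (cent_le_norm _ ((centralizer_zpowers z).ge
        (mem_cent1.2 hc.symm)))) (mem_zpowers t))), fun x hx x1 n hn e => ?_⟩
    obtain ⟨i, rfl⟩ := mem_powers_iff_mem_zpowers.2 hx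
    have e' : Commute n ((z * t) ^ i) := e
    simp only [Czt.mul_pow] at e' x1
    rcases Nat.even_or_odd' i with ⟨k, rfl | rfl⟩
    · rw [pow_mul t, pow_two t, ht.sq, one_pow, mul_one] at e' x1
      obtain ⟨m, hm⟩ := exists_pow_eq_self_of_coprime (x := z) (n := 2 * k) (oz ▸ ((Nat.Prime.coprime_iff_not_dvd
        hp.out).2 fun h => x1 (orderOf_dvd_iff_pow_eq_one.1 (oz ▸ h))).symm)
      exact a3 n hn (hm ▸ (e'.pow_right m).eq)
    · have h1 := (e'.pow_right p).eq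
      obtain ⟨m, hm⟩ := hp.out.odd_of_ne_two hp2
      rw [(Czt.pow_pow _ _).mul_pow, ← pow_mul z, mul_comm _ p, pow_mul z, zp, one_pow, one_mul, ← pow_mul,
        hm, show (2 * k + 1) * (2 * m + 1) = 2 * (2 * k * m + k + m) + 1 by ring, pow_succ, pow_mul, pow_two,
        ht.sq, one_pow, one_mul] at h1
      exact a4 n (a2 hn) h1
  have hK0 : ⁅D, zpowers z⁆ ≠ ⊥ := fun e => hn (le_cent_comm.1 (le_cent_of_commutator_le e.le) (mem_zpowers z))
  generalize ⁅D, zpowers z⁆ = K at *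
  have hKp : ¬ p ∣ Nat.card K := fun h => hD (h.trans (card_dvd_of_le a2))
  have hKY := a2.trans DY
  haveI := hY.isNilpotent
  haveI := subgroupOf_normal (norm_le_norm_Phi Y)
  have hΦ : ∀ x ∈ zpowers (z * t), x ∈ Phi Y → x = 1 := fun x hx h => by
    by_contra x1
    refine hK0 (eq_bot_iff.2 fun n hn => hF.fpf x hx x1 n hn (commutatorElement_eq_one_iff_mul_comm.1
      ((disjoint_of_isPGroup_of_not_dvd hY hKp).le_bot (mem_inf.2 ⟨?_, ?_⟩))))
    · exact mul_mem (conj_mem_of_mem_normalizer (hKY hn) (Phi_le Y h)) (inv_mem (Phi_le Y h))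
    · rw [commutatorElement_def, mul_assoc, mul_assoc, ← mul_assoc x]
      exact mul_mem hn (conj_mem_of_mem_normalizer (hF.norm hx) (inv_mem hn))
  obtain ⟨m, hm⟩ := hp.out.odd_of_ne_two hp2
  have tm : t ∈ zpowers (z * t) := ⟨(p : ℕ), by
    simp only [zpow_natCast, Czt.mul_pow, zp, one_mul]
    rw [hm, pow_succ, pow_mul, pow_two, ht.sq, one_pow, one_mul]⟩
  have zm : z ∈ zpowers (z * t) := (mul_mem_cancel_right tm).1 (mem_zpowers _)
  have hF' := (hF.subgroupOf 𝐍(Y)).map (qmk 𝐍(Y) (Phi Y))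
  change FrobAct (qim _ _ _) (qim _ _ _) at hF'
  rw [show z * t = ((⟨z, zY⟩ * ⟨t, tY⟩ : 𝐍(Y)) : G) from rfl, qim_zpowers, map_mul] at hF'
  have act : CoprimeAct (zpowers t) Y := ht.copAct (not_two_dvd.1 (not_dvd_card_of_ne hY hp2.symm)) tY
  have key := frob_elem hp2 (W := qim 𝐍(Y) (Phi Y) Y) ⟨(comm_qim_iff le_normalizer).2 der_le_Phi, fun a ha => by
      obtain ⟨x, hx, rfl⟩ := mem_qim.1 ha
      rw [← map_pow, qmk_eq_one_iff]
      exact pow_mem_Phi hY hx⟩ (top_le_norm_qim le_rfl trivial) (top_le_norm_qim le_rfl trivial)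
    (le_top.trans (top_le_norm_qim le_rfl))
    (orderOf_eq_prime (by rw [← map_pow, show (⟨z, zY⟩ : 𝐍(Y)) ^ p = 1 from Subtype.ext zp, map_one])
      fun e => z1 (hΦ z zm (qmk_eq_one_iff.1 e)))
    ⟨fun e => ht.ne (hΦ t tm (qmk_eq_one_iff.1 e)),
      by rw [← map_mul, show (⟨t, tY⟩ : 𝐍(Y)) * ⟨t, tY⟩ = 1 from Subtype.ext ht.sq, map_one]⟩
    (by rw [← map_mul, ← map_mul]; exact congrArg _ (Subtype.ext hc)) hF'
    (fun h => hKp (h.trans (card_qim_dvd hKY))) fun w hw => by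
      rw [← centralizer_zpowers, ← qim_zpowers, ← qim_inf_cent act (zpowers_le.2 tY), centralizer_zpowers] at hw
      obtain ⟨x, hx, rfl⟩ := mem_qim.1 hw
      rw [← map_commutatorElement, ← map_commutatorElement, show ⁅(⟨z, zY⟩ : 𝐍(Y)), ⁅(⟨z, zY⟩ : 𝐍(Y)), x⁆⁆ = 1 from
        Subtype.ext (hq x hx), map_one]
  rw [qim_le_cent_iff hKY le_normalizer, Subgroup.commutator_comm] at key
  exact hK0 (eq_bot_iff.2 (hf ▸ le_inf a2 (le_cent_comm.1
    ((coprimeAct_of_isPGroup_right hKY hY hKp).le_centralizer_of_commutator_le_frattini key))))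

end GW
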