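import Cfsg.Agent.Lib.Gag.Sig
import Cfsg.Agent.Lib.Char.Omega
import Cfsg.Agent.Lib.Block.PrincipalC

/-!
# Recognition of `A₇`: the order and a character of degree six
-/

set_option autoImplicit false
set_option linter.unusedSectionVars false

namespace GW

open Cfsg GT CT BT FT Subgroup
open scoped Pointwise ComplexConjugate

variable {G : Type*} [Group G] [Finite G]

/-- The sum of a function over a subgroup. -/
noncomputable def ssum (H : Subgroup G) (f : G → ℂ) : ℂ :=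
  ∑ x ∈ (Set.toFinite (H : Set G)).toFinset, f x

theorem card_toFinset_subgroup (H : Subgroup G) :
    (Set.toFinite (H : Set G)).toFinset.card = Nat.card H := by
  rw [← Set.ncard_eq_toFinset_card, ← Nat.card_coe_set_eq]; rfl

theorem ssum_bot (f : G → ℂ) : ssum ⊥ f = f 1 :=
  Finset.sum_eq_single_of_mem 1 (by simp) fun b hb h => absurd (by simpa using hb) h

theorem ssum_eq_add {K H : Subgroup G} (h : K ≤ H) (f : G → ℂ) [DecidableEq G] :
    ssum H f = ssum K f + ∑ x ∈ (Set.toFinite (H : Set G)).toFinset \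
      (Set.toFinite (K : Set G)).toFinset, f x := by
  rw [ssum, ssum, add_comm, Finset.sum_sdiff (Set.Finite.toFinset_subset_toFinset.2 h)]

theorem ssum_step {K H : Subgroup G} (h : K ≤ H) {f : G → ℂ} {c : ℂ}
    (hc : ∀ x ∈ H, x ∉ K → f x = c) :
    ssum H f = ssum K f + ((Nat.card H : ℂ) - Nat.card K) * c := by
  classical
  have hs := Set.Finite.toFinset_subset_toFinset (hs := Set.toFinite (K : Set G))
    (ht := Set.toFinite (H : Set G)) |>.2 h
  rw [ssum_eq_add h, Finset.sum_congr rfl fun x hx => hc x (by simpa using (Finset.mem_sdiff.1 hx).1)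
    (by simpa using (Finset.mem_sdiff.1 hx).2), Finset.sum_const, Finset.card_sdiff_of_subset hs,
    nsmul_eq_mul, Nat.cast_sub (Finset.card_le_card hs), card_toFinset_subgroup,
    card_toFinset_subgroup]

variable {V : Type*} [AddCommGroup V] [Module ℂ V] [FiniteDimensional ℂ V]

/-- The vectors fixed by a subgroup. -/
noncomputable def fixs (ρ : Representation ℂ G V) (H : Subgroup G) : Submodule ℂ V :=
  Representation.invariants (ρ.comp H.subtype)

theorem mem_fixs {ρ : Representation ℂ G V} {H : Subgroup G} {v : V} :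
    v ∈ fixs ρ H ↔ ∀ x ∈ H, ρ x v = v :=
  ⟨fun h x hx => h ⟨x, hx⟩, fun h x => h x x.2⟩

theorem ssum_character (ρ : Representation ℂ G V) (H : Subgroup G) :
    ssum H ρ.character = Nat.card H * Module.finrank ℂ (fixs ρ H) := by
  have := Fintype.ofFinite H
  have h0 : (Nat.card H : ℂ) ≠ 0 := card_cast_ne_zero
  have : Invertible (Nat.card H : ℂ) := invertibleOfNonzero h0
  rw [fixs, ← Representation.card_inv_mul_sum_char_eq_finrank, mul_inv_cancel_left₀ h0, ssum,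
    Finset.sum_subtype (p := (· ∈ H)) _ (fun x => by simp)]
  rfl

theorem exists_ssum_irr (χ : IrrCharacter G) (H : Subgroup G) :
    ∃ n : ℕ, ssum H χ.1 = Nat.card H * n := by
  obtain ⟨n, ρ, -, h⟩ := χ.2
  exact ⟨_, h ▸ ssum_character ρ H⟩

/-- Comparison of fixed spaces. -/
theorem exists_ssum_le (χ : IrrCharacter G) {K H : Subgroup G} (h : K ≤ H) :
    ∃ a b : ℕ, ssum H χ.1 = Nat.card H * a ∧ ssum K χ.1 = Nat.card K * (a + b) ∧
      (b = 0 → χ ≠ irrOne G → ∀ E : Subgroup G, K ≤ E → ssum E χ.1 ≠ 0 → E ⊔ H ≠ ⊤) := by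
  obtain ⟨n, ρ, hρ, e⟩ := χ.2
  have hle : fixs ρ H ≤ fixs ρ K := fun v hv => mem_fixs.2 fun x hx => mem_fixs.1 hv x (h hx)
  obtain ⟨b, hb⟩ := Nat.exists_eq_add_of_le (Submodule.finrank_mono hle)
  refine ⟨_, b, e ▸ ssum_character ρ H, by rw [← e, ssum_character, hb, Nat.cast_add],
    fun b0 h1 E hE hne ht => h1 ?_⟩
  have heq : fixs ρ H = fixs ρ K := Submodule.eq_of_le_of_finrank_eq hle (by omega)
  obtain ⟨w, hw, hw0⟩ := (Submodule.ne_bot_iff (fixs ρ E)).1 fun h0 => hne (by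
    rw [← e, ssum_character, h0, finrank_bot, Nat.cast_zero, mul_zero])
  let L : Subgroup G :=
    { carrier := {g | ρ g w = w}
      one_mem' := by simp
      mul_mem' := fun {x y} hx hy => by
        change ρ (x * y) w = w
        rw [map_mul, Module.End.mul_apply, hy, hx]
      inv_mem' := fun {x} hx => by
        change ρ x⁻¹ w = w
        conv_lhs => rw [← hx, ← Module.End.mul_apply, ← map_mul, inv_mul_cancel, map_one]
        rfl }
  have hL : ⊤ ≤ L := ht.ge.trans (sup_le (mem_fixs.1 hw) (mem_fixs.1 (heq.ge (mem_fixs.2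
    fun x hx => mem_fixs.1 hw x (hE hx)))))
  by_contra h2
  have h3 := ip_irr χ (irrOne G)
  rw [if_neg h2, ← e, irrOne_val] at h3
  exact (ip_character_one_ne_zero_iff ρ).2 ⟨w, hw0, fun g => hL (mem_top g)⟩ h3

section
variable {P : Subgroup G} {σ τ J : G} (D : DihSyl P σ τ J 1)
include D

theorem eq_or_of_mem_zpowers {x : G} (hx : x ∈ zpowers σ) (h : x ∉ zpowers J) : x = σ ∨ x = σ⁻¹ := by
  classical
  have ho : orderOf σ = 4 := D.ord
  have hJ : J = σ ^ 2 := D.J_eq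
  obtain ⟨l, hl, rfl⟩ := Finset.mem_image.1 ((mem_zpowers_iff_mem_range_orderOf (x := σ)).1 hx)
  rw [ho, Finset.mem_range] at hl
  interval_cases l
  · exact absurd (by simp) h
  · exact Or.inl (pow_one σ)
  · exact absurd (hJ ▸ mem_zpowers J) h
  · exact Or.inr (eq_inv_of_mul_eq_one_left (by rw [← pow_succ]; exact orderOf_dvd_iff_pow_eq_one.1 ho.dvd))

theorem isConj_σ {x : G} (hx : x ∈ zpowers σ) (h : x ∉ zpowers J) : IsConj σ x := by
  rcases eq_or_of_mem_zpowers D hx h with rfl | rfl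
  exacts [IsConj.refl _, isConj_iff.2 ⟨τ, D.rel⟩]

theorem isConj_J (hτ : IsConj J τ) (hστ : IsConj J (σ * τ)) {y : G} (hy : y ∈ P)
    (h : y ∉ zpowers σ) : IsConj J y := by
  obtain ⟨s, hs, rfl | rfl⟩ := D.exists_conj_of_not_mem hy h
  · refine hτ.trans (isConj_iff.2 ⟨s, ?_⟩)
    simpa using D.conj_mul_τ hs (one_mem _)
  · exact hστ.trans (isConj_iff.2 ⟨s, D.conj_mul_τ hs (mem_zpowers σ)⟩)

theorem exists_ab (hτ : IsConj J τ) (hστ : IsConj J (σ * τ)) (χ : IrrCharacter G) :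
    ∃ a b : ℕ, (charDegree χ.1 : ℂ) + 5 * χ.1 J + 2 * χ.1 σ = 8 * a ∧
      (charDegree χ.1 : ℂ) - 3 * χ.1 J + 2 * χ.1 σ = 8 * b ∧
      (b = 0 → χ ≠ irrOne G → ∀ E : Subgroup G, σ ∈ E → ssum E χ.1 ≠ 0 → E ⊔ P ≠ ⊤) := by
  obtain ⟨a, b, h1, h2, h3⟩ := exists_ssum_le χ D.le
  have c := irr_isClassFunction χ
  have e1 : ssum (zpowers J) χ.1 = charDegree χ.1 + χ.1 J := by
    rw [ssum_step bot_le (c := χ.1 J) fun x hx h => by
        rw [D.eq_J_of_sq (zpowers_le.2 D.J_mem hx) h (by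
          obtain ⟨n, rfl⟩ := mem_zpowers_iff.1 hx
          rw [← (Commute.refl J).mul_zpow, D.J_sq, one_zpow])],
      ssum_bot, Nat.card_zpowers, D.ord_J, card_bot, irr_apply_one]
    norm_num
  have e2 := ssum_step (zpowers_le.2 D.J_mem) fun x hx h => (c.of_isConj (isConj_σ D hx h)).symm
  have e3 := ssum_step D.le fun x hx h => (c.of_isConj (isConj_J D hτ hστ hx h)).symm
  rw [D.card_S, Nat.card_zpowers, D.ord_J, e1] at e2
  rw [D.card_S, D.card_P, e2] at e3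
  rw [D.card_P, e3] at h1
  rw [D.card_S, e2] at h2
  refine ⟨a, b, ?_, ?_, fun b0 h E hE => h3 b0 h E (zpowers_le.2 hE)⟩
  · push_cast at h1; linear_combination h1
  · push_cast at h1 h2; linear_combination 2 * h2 - h1

end

theorem a7_arith1 {g x a : ℕ} {δ : ℤ} (hδ : δ = 1 ∨ δ = -1) (h8 : (x : ℤ) + 7 * δ = 8 * a)
    (h : (g : ℤ) * (x - δ) ^ 2 = 3072 * x * (x + δ)) (h0 : 8 ∣ g) (h16 : ¬ 16 ∣ g) :
    (x : ℤ) = δ + 16 ∧ (g : ℤ) = 12 * x * (x + δ) := by
  obtain ⟨m, hm⟩ : ∃ m : ℤ, (x : ℤ) = δ + 8 * m := ⟨a - δ, by linarith⟩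
  have hd : δ * δ = 1 := by rcases hδ with rfl | rfl <;> norm_num
  have h1 : g * m ^ 2 = 96 * (32 * m ^ 2 + 12 * m * δ + 1) := by
    rw [hm] at h; nlinarith
  have h2 : m ∣ 96 := ⟨g * m - 3072 * m - 1152 * δ, by linear_combination -h1⟩
  have h3 := Int.le_of_dvd (by norm_num) h2
  have h4 : 0 ≤ m := by omega
  have h5 : m = 2 := by
    clear h h8 hd hm
    have H : ∀ z ≤ 96, z ∣ 96 → z = 1 ∨ z = 2 ∨ z = 3 ∨ z = 4 ∨ z = 6 ∨ z = 8 ∨ z = 12 ∨ z = 16 ∨
      z = 24 ∨ z = 32 ∨ z = 48 ∨ z = 96 := by decide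
    lift m to ℕ using h4
    rcases H m (by omega) (by exact_mod_cast h2) with
      rfl | rfl | rfl | rfl | rfl | rfl | rfl | rfl | rfl | rfl | rfl | rfl <;>
      rcases hδ with rfl | rfl <;> first | rfl | (exfalso; norm_num at h1; omega)
  subst h5
  rw [hm]
  rcases hδ with rfl | rfl <;> omega

theorem a7_arith2 {g x y a b : ℕ} {δ ε η : ℤ} (hδ : δ = 1 ∨ δ = -1) (hε : ε = 1 ∨ ε = -1)
    (hη : η = 1 ∨ η = -1) (hg : (g : ℤ) = 12 * (δ + 16) * (δ + 16 + δ)) (hx : x ∣ g) (hy : y ∣ g)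
    (hs : x ^ 2 + y ^ 2 ≤ g) (h1 : (x : ℤ) - 3 * ε = 8 * a) (h2 : (y : ℤ) - 3 * η = 8 * b)
    (h : 1 + δ * (δ + 16) = -ε * x - η * y) : δ = -1 ∧ x ^ 2 + y ^ 2 = 1666 := by
  have hx' : x ≤ 60 := by rcases hδ with rfl | rfl <;> nlinarith
  have hy' : y ≤ 60 := by rcases hδ with rfl | rfl <;> nlinarith
  rcases hδ with rfl | rfl
  · obtain rfl : g = 3672 := by omega
    have H : ∀ z ≤ 60, z ∣ 3672 → z % 2 = 1 → z % 8 = 1 ∨ z % 8 = 3 := by decide
    have := H x hx' hx (by omega)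
    have := H y hy' hy (by omega)
    exfalso
    rcases hε with rfl | rfl <;> rcases hη with rfl | rfl <;> omega
  · obtain rfl : g = 2520 := by omega
    have H : ∀ z ≤ 60, z ∣ 2520 → z % 8 = 3 ∨ z % 8 = 5 →
      z = 3 ∨ z = 5 ∨ z = 21 ∨ z = 35 ∨ z = 45 := by decide
    have := H x hx' hx (by omega)
    have := H y hy' hy (by omega)
    have : x = 35 ∧ y = 21 ∨ x = 21 ∧ y = 35 := by
      rcases hε with rfl | rfl <;> rcases hη with rfl | rfl <;> omega
    rcases this with ⟨rfl, rfl⟩ | ⟨rfl, rfl⟩ <;> exact ⟨rfl, rfl⟩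

theorem a7_arith3 {ι : Type*} (s : Finset ι) (x j : ι → ℤ) (h1 : ∑ i ∈ s, x i ^ 2 = 432)
    (h2 : ∑ i ∈ s, j i ^ 2 = 16) (h3 : ∑ i ∈ s, x i * j i = 0)
    (h4 : ∀ i ∈ s, 0 < x i ∧ 0 ≤ x i + 5 * j i ∧ 8 ≤ x i - 3 * j i) : False := by
  classical
  by_cases h : ∀ i ∈ s, j i ≤ 3
  · have := Finset.sum_nonneg (s := s) (f := fun i => 2 * x i ^ 2 - x i * j i - 55 * j i ^ 2)
      fun i hi => by
        obtain ⟨a, b, c⟩ := h4 i hi
        have := h i hi
        rcases le_or_gt (j i) 0 with e | e <;> nlinarith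
    rw [Finset.sum_sub_distrib, Finset.sum_sub_distrib, ← Finset.mul_sum, ← Finset.mul_sum, h1, h2,
      h3] at this
    omega
  · push Not at h
    obtain ⟨i, hi, h⟩ := h
    rw [← Finset.add_sum_erase _ _ hi] at h2 h3
    have h5 := Finset.sum_nonneg (s := s.erase i) fun k _ => sq_nonneg (j k)
    have h6 := (Finset.sum_eq_zero_iff_of_nonneg (s := s.erase i) fun k _ => sq_nonneg (j k)).1
      (by nlinarith)
    rw [Finset.sum_eq_zero fun k hk => by rw [pow_eq_zero_iff two_ne_zero |>.1 (h6 k hk), mul_zero]]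
      at h3
    nlinarith [(h4 i hi).1]

/-- The order of the group and a character of degree six. -/
theorem exists_six {P : Subgroup G} {σ τ J : G} (D : DihSyl P σ τ J 1) (hτ : IsConj J τ)
    (hστ : IsConj J (σ * τ)) (h24 : Nat.card 𝐂[J] = 24) (h4 : Nat.card 𝐂[σ] = 4)
    (hc : 1 / (Nat.card (centralizer ({J, τ} : Set G)) : ℚ) +
      1 / (Nat.card (centralizer ({J, σ * τ} : Set G)) : ℚ) = 1 / 3) :
    Nat.card G = 2520 ∧ ∃ χ : IrrCharacter G, χ.1 σ = 0 ∧ (∃ j : ℕ, 0 < j ∧ χ.1 J = j) ∧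
      ∀ E : Subgroup G, σ ∈ E → ssum E χ.1 ≠ 0 → E ⊔ P ≠ ⊤ := by
  classical
  obtain ⟨M, hM⟩ := exists_isPModular Nat.prime_two
  obtain ⟨χ₁, χ₂, χ₃, θ, δ₁, δ₂, δ₃, d1, d2, d3, -, n1, n2, n3, n12, n13, n23, nθ, hB, hv, hd⟩ :=
    D.exists_struct hM le_rfl (ζ := Complex.I) Complex.isPrimitiveRoot_I
  have hJ : J = σ ^ 2 := D.J_eq
  obtain ⟨s1, s2, s3, s4⟩ := hv 1 (by norm_num) (by norm_num)
  obtain ⟨t1, t2, t3, t4⟩ := hv 2 (by norm_num) (by norm_num)
  obtain ⟨e1, e2⟩ := hd 1 (by simp) ⟨0, by norm_num⟩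
  replace s4 := s4 ⟨0, by norm_num⟩
  replace t4 := t4 ⟨0, by norm_num⟩
  obtain ⟨m1, m2, m3, m4⟩ := nθ ⟨0, by norm_num⟩
  generalize θ ⟨0, by norm_num⟩ = ψ at *
  rw [← hJ] at t1 t2 t3 t4
  norm_num at s1 s2 s3 s4 t2 t3 t4
  obtain ⟨o1, -⟩ := D.order_formula hM le_rfl hτ hστ ((hB χ₁).2 (Or.inr (Or.inl rfl))) n1 d1
    fun u hu hu1 => by
      by_cases h : u ∈ zpowers J
      · rw [D.eq_J_of_sq hu hu1 (by
          obtain ⟨n, rfl⟩ := mem_zpowers_iff.1 h
          rw [← (Commute.refl J).mul_zpow, D.J_sq, one_zpow]), t1]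
      · rw [← (irr_isClassFunction χ₁).of_isConj (isConj_σ D hu h), s1]
  rw [h24, hc] at o1
  obtain ⟨a1, -, a1', -⟩ := exists_ab D hτ hστ χ₁
  obtain ⟨a2, -, a2', -⟩ := exists_ab D hτ hστ χ₂
  obtain ⟨a3, -, a3', -⟩ := exists_ab D hτ hστ χ₃
  rw [s1, t1] at a1'
  rw [s2, t2] at a2'
  rw [s3, t3] at a3'
  simp only [irr_apply_one] at e1 e2
  have h16 : ¬ 16 ∣ Nat.card G := fun h => D.syl.not_dvd (by
    have := relIndex_mul_relIndex ⊥ P ⊤ bot_le le_top
    rw [relIndex_bot_left, relIndex_bot_left, card_top, D.card_P] at this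
    omega)
  obtain ⟨x1, hg⟩ := a7_arith1 (g := Nat.card G) (x := charDegree χ₁.1) (a := a1) d1
    (by exact_mod_cast (by linear_combination a1' : (charDegree χ₁.1 : ℂ) + 7 * δ₁ = 8 * a1))
    (by exact_mod_cast (by linear_combination o1 : (Nat.card G : ℚ) * (charDegree χ₁.1 - δ₁) ^ 2 =
      3072 * charDegree χ₁.1 * (charDegree χ₁.1 + δ₁)))
    (D.card_P ▸ card_subgroup_dvd_card P :) h16
  have split : ∀ {A : Type} [AddCommMonoid A] (F : IrrCharacter G → A), ∑ χ, F χ =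
      F (irrOne G) + F χ₁ + F χ₂ + F χ₃ + F ψ +
        ∑ χ ∈ Finset.univ \ {irrOne G, χ₁, χ₂, χ₃, ψ}, F χ := fun F => by
    rw [← Finset.sum_sdiff (Finset.subset_univ {irrOne G, χ₁, χ₂, χ₃, ψ}),
      Finset.sum_insert (by simp [n1.symm, n2.symm, n3.symm, m4.symm]),
      Finset.sum_insert (by simp [n12, n13, m1.symm]), Finset.sum_insert (by simp [n23, m2.symm]),
      Finset.sum_pair m3.symm]
    abel
  have q1 := split fun χ => charDegree χ.1 ^ 2
  rw [sum_irr_degree_sq] at q1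
  rw [x1] at hg
  have e1' : 1 + δ₁ * (δ₁ + 16) = -δ₂ * charDegree χ₂.1 - δ₃ * charDegree χ₃.1 := by
    rw [← x1]; exact_mod_cast e1
  obtain ⟨rfl, hsq⟩ := a7_arith2 (a := a2) (b := a3) d1 d2 d3 hg (irr_degree_dvd_card χ₂)
    (irr_degree_dvd_card χ₃) (by omega)
    (by exact_mod_cast (by linear_combination a2' : (charDegree χ₂.1 : ℂ) - 3 * δ₂ = 8 * a2))
    (by exact_mod_cast (by linear_combination a3' : (charDegree χ₃.1 : ℂ) - 3 * δ₃ = 8 * a3)) e1'
  have x1' : charDegree χ₁.1 = 15 := by omega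
  have x4 : charDegree ψ.1 = 14 := by
    rw [x1'] at e2
    exact_mod_cast (by push_cast at e2; linear_combination e2 : (charDegree ψ.1 : ℂ) = 14)
  have hG : Nat.card G = 2520 := by omega
  refine ⟨hG, ?_⟩
  set R := Finset.univ \ {irrOne G, χ₁, χ₂, χ₃, ψ} with hR
  have dd : ∀ δ : ℤ, δ = 1 ∨ δ = -1 → (δ : ℂ) * δ = 1 := by rintro _ (rfl | rfl) <;> simp
  have q2 := split fun χ => χ.1 σ * conj (χ.1 σ)
  rw [sum_irr_mul_conj, if_pos (IsConj.refl σ), h4, s1, s2, s3, s4] at q2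
  have z : ∀ χ ∈ R, χ.1 σ = 0 := fun χ hχ => by
    simp only [irrOne_apply, map_intCast, dd _ d2, dd _ d3, Complex.mul_conj] at q2
    have h0 : ∑ χ ∈ R, Complex.normSq (χ.1 σ) = 0 := by
      exact_mod_cast (by push_cast at q2 ⊢; simp at q2; linear_combination -q2 :
        ((∑ χ ∈ R, Complex.normSq (χ.1 σ) : ℝ) : ℂ) = 0)
    exact Complex.normSq_eq_zero.1 ((Finset.sum_eq_zero_iff_of_nonneg
      fun χ _ => Complex.normSq_nonneg _).1 h0 χ hχ)
  choose j hj using fun χ : IrrCharacter G => exists_int_apply_of_sq (irr_isCharacter χ) D.J_sq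
  have q3 := split fun χ => χ.1 J * conj (χ.1 J)
  rw [sum_irr_mul_conj, if_pos (IsConj.refl J), h24, t1, t2, t3, t4] at q3
  have q4 := split fun χ => χ.1 1 * χ.1 J
  rw [sum_irr_degree_mul, if_neg D.J_ne_one, t1, t2, t3, t4] at q4
  by_contra hcon
  refine a7_arith3 R (fun χ => charDegree χ.1) j ?_ ?_ ?_ fun χ hχ => ?_
  · have : charDegree (irrOne G).1 = 1 := charDegree_eq_of_apply_one (by simp)
    rw [this, x1', x4] at q1
    exact_mod_cast (by omega : ∑ χ ∈ R, charDegree χ.1 ^ 2 = 432)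
  · simp only [irrOne_apply] at q3
    simp only [map_intCast, map_neg, map_mul, map_ofNat, map_one, neg_mul_neg, dd _ d2, dd _ d3,
      hj] at q3
    simp only [← sq] at q3
    exact_mod_cast (by push_cast at q3 ⊢; linear_combination -q3 :
      ((∑ χ ∈ R, j χ ^ 2 : ℤ) : ℂ) = 16)
  · simp only [irrOne_apply] at q4
    simp only [irr_apply_one, x1', x4, hj] at q4
    have e3 : (1 + (-1) * (-1 + 16) : ℂ) = -δ₂ * charDegree χ₂.1 - δ₃ * charDegree χ₃.1 := by
      exact_mod_cast e1'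
    exact_mod_cast (by push_cast at q4 ⊢; linear_combination -q4 + e3 :
      ((∑ χ ∈ R, charDegree χ.1 * j χ : ℤ) : ℂ) = 0)
  · obtain ⟨a, b, h1, h2, h3⟩ := exists_ab D hτ hστ χ
    rw [z χ hχ, hj] at h1 h2
    have h1' : (charDegree χ.1 : ℤ) + 5 * j χ = 8 * a := by rw [mul_zero, add_zero] at h1; exact_mod_cast h1
    have h2' : (charDegree χ.1 : ℤ) - 3 * j χ = 8 * b := by rw [mul_zero, add_zero] at h2; exact_mod_cast h2
    have h0 := irr_degree_pos χ
    have : b ≠ 0 := fun b0 => hcon ⟨χ, z χ hχ, ⟨(j χ).toNat, by omega, by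
      rw [hj, ← Int.cast_natCast, Int.toNat_of_nonneg (by omega)]⟩,
      h3 b0 fun e => by simp [hR, e] at hχ⟩
    omega

end GW
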