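import Cfsg.Agent.Lib.Char.SadD
import Cfsg.Agent.Lib.Char.DihTI
import Cfsg.Agent.Lib.Char.Invol
import Cfsg.Agent.Lib.Block.Dihedral

/-!
# Brauer–Suzuki–Wall: the characters and the order of the group
-/

set_option autoImplicit false
set_option linter.unusedSectionVars false

namespace GW

open Cfsg CT GT BT FT SAD Subgroup
open scoped Pointwise ComplexConjugate

variable {G : Type*} [Group G] [Finite G]

theorem exists_sub_of_norm_two {θ : G → ℂ} (hθ : IsGeneralizedCharacter G θ) (h : ip θ θ = 2)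
    (h0 : θ 1 = 0 ∨ θ 1 = -1) : ∃ χ ψ : IrrCharacter G, χ ≠ ψ ∧ θ = χ.1 - ψ.1 := by
  classical
  choose a ha using (isGen_iff_ip_int hθ.isClassFunction).1 hθ
  have hsum : ∑ χ : IrrCharacter G, a χ * a χ = 2 := by
    rw [ip_eq_sum_irr hθ.isClassFunction hθ.isClassFunction] at h
    simp only [ha, map_intCast] at h
    exact_mod_cast h
  obtain ⟨χ, ψ, ε, ε', hne, hε, hε', hv⟩ := exists_eq_dl_of_norm_two hsum
  have e : θ = (ε : ℂ) • χ.1 + (ε' : ℂ) • ψ.1 := hθ.isClassFunction.ext_ip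
    (((irr_isClassFunction χ).smul _).add ((irr_isClassFunction ψ).smul _)) fun φ => by
      rw [ha, hv, ip_add_left, ip_smul_left, ip_smul_left, ip_irr, ip_irr]
      simp only [BT.dl, eq_comm (a := φ)]
      push_cast
      rfl
  have h1 := irr_degree_pos χ
  have h2 := irr_degree_pos ψ
  rw [e] at h0
  simp only [Pi.add_apply, Pi.smul_apply, smul_eq_mul, irr_apply_one] at h0
  rcases hε with rfl | rfl <;> rcases hε' with rfl | rfl
  · exfalso
    have : (charDegree χ.1 : ℤ) + charDegree ψ.1 = 0 ∨ (charDegree χ.1 : ℤ) + charDegree ψ.1 = -1 := by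
      simp only [Int.cast_one, one_mul] at h0
      exact h0.imp (fun h => by exact_mod_cast h) fun h => by exact_mod_cast h
    omega
  · exact ⟨χ, ψ, hne, by rw [e]; simp [sub_eq_add_neg]⟩
  · exact ⟨ψ, χ, hne.symm, by rw [e]; simp [sub_eq_add_neg, add_comm]⟩
  · norm_cast at h0; omega

theorem exists_notMem_fin {A : Subgroup G} (S : Finset G) (h : S.card < Nat.card A) :
    ∃ x ∈ A, x ∉ S := by
  by_contra! h1
  exact absurd (Set.ncard_le_ncard (show (A : Set G) ⊆ S from h1)) (by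
    rwa [Set.ncard_coe_finset, ← Nat.card_coe_set_eq, not_le])

theorem mem_zpowers_two {t w : G} (h : t * t = 1) (hw : w ∈ zpowers t) : w = 1 ∨ w = t := by
  obtain ⟨n, rfl⟩ := mem_zpowers_iff.1 hw
  have h2 : t ^ (2 : ℤ) = 1 := by rw [zpow_two, h]
  obtain ⟨m, rfl | rfl⟩ := n.even_or_odd'
  · left; rw [zpow_mul, h2, one_zpow]
  · right; rw [zpow_add, zpow_mul, h2, one_zpow, one_mul, zpow_one]

theorem ip_irr_clMul {t : G} (ht : t * t = 1) (θ : IrrCharacter G) :
    ip θ.1 (clMul t t) = (𝐂[t].index : ℂ) ^ 2 / Nat.card G * (θ.1 t ^ 2 / θ.1 1) := by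
  classical
  obtain ⟨n, hn⟩ := exists_int_apply_of_sq (irr_isCharacter θ) ht
  rw [clMul_eq_sum, ip_sum_right, Finset.sum_eq_single θ (fun χ _ h => by
    rw [ip_smul_right, ip_irr_ne h.symm, mul_zero]) (by simp), ip_smul_right, ip_irr_self, hn,
    irr_apply_one]
  simp [sq]

theorem sum_clSupp [Fintype G] {M : Type*} [AddCommMonoid M] {A : Set G} {L : Subgroup G}
    [DecidablePred (· ∈ A)] [DecidablePred (· ∈ clSupp A ⊤)]
    (hn : ∀ g ∈ L, ∀ a ∈ A, g * a * g⁻¹ ∈ A) (hti : ∀ g : G, ∀ a ∈ A, g * a * g⁻¹ ∈ A → g ∈ L)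
    {F : G → M} (hF : ∀ g x, F (g * x * g⁻¹) = F x) :
    ∑ g with g ∈ clSupp A ⊤, F g = L.index • ∑ a with a ∈ A, F a := by
  classical
  have := Fintype.ofFinite (G ⧸ L)
  rw [index, Nat.card_eq_fintype_card, ← Finset.card_univ, ← Finset.sum_const,
    ← Finset.sum_product']
  refine (Finset.sum_nbij (fun p : (G ⧸ L) × G => p.1.out * p.2 * p.1.out⁻¹) ?_ ?_ ?_
    fun p _ => (hF _ _).symm).symm
  · rintro ⟨q, a⟩ h
    simp only [Finset.mem_product, Finset.mem_filter, Finset.mem_univ, true_and] at h ⊢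
    exact ⟨a, h, q.out, mem_top _, rfl⟩
  · rintro ⟨q, a⟩ ha ⟨r, b⟩ hb e1
    simp only [Finset.coe_product, Finset.coe_filter, Finset.mem_univ, true_and, Set.mem_prod,
      Set.mem_ofPred_eq, Finset.coe_univ, Set.mem_univ] at ha hb e1
    have e2 : r.out⁻¹ * q.out * a * (r.out⁻¹ * q.out)⁻¹ = b := by
      calc _ = r.out⁻¹ * (q.out * a * q.out⁻¹) * r.out := by group
        _ = b := by rw [e1]; group
    obtain rfl : r = q := by
      rw [← QuotientGroup.out_eq' q, ← QuotientGroup.out_eq' r, QuotientGroup.eq]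
      exact hti _ a ha (e2 ▸ hb)
    obtain rfl : a = b := by simpa using e2
    rfl
  · intro x hx
    obtain ⟨a, ha, g, -, rfl⟩ : x ∈ clSupp A ⊤ := by simpa using hx
    obtain ⟨m, hm⟩ := QuotientGroup.mk_out_eq_mul L g
    refine ⟨((g : G ⧸ L), _), by simpa using hn _ (inv_mem m.2) a ha, ?_⟩
    change _ * _ * _ = _
    rw [hm]; group

variable {A : Subgroup G} {t s : G}

/-- `(1 - l)^G` -/
noncomputable def al (A : Subgroup G) (l : A →* ℂˣ) : G → ℂ :=
  ind A ((linChar 1).1 - (linChar l).1)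

theorem bsw_realise_eqns : True := by
  have := @al.eq_1.{0}
  trivial

theorem al_gen (l : A →* ℂˣ) : IsGeneralizedCharacter G (al A l) :=
  ((irr_isCharacter _).isGen.sub (irr_isCharacter _).isGen).ind

theorem al_one (l : A →* ℂˣ) : al A l 1 = 0 := by
  rw [al, ind_apply_one]; simp [linChar_val]

theorem ip_al_const {l : A →* ℂˣ} (hl : l ≠ 1) {F : G → ℂ} (hF : IsClassFunction G F) {c : ℂ}
    (h : ∀ x ∈ A, x ≠ 1 → F x = c) : ip (al A l) F = conj c := by
  classical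
  have := Fintype.ofFinite A
  rw [al, ip_ind_left _ _ hF, show ip ((linChar 1).1 - (linChar l).1) (res A F) =
    ip ((linChar 1).1 - (linChar l).1) (c • (linChar 1).1) from ?_]
  · simp [ip_smul_right, ip_sub_left, ip_irr, linChar_injective.eq_iff, hl]
  rw [ip_def, ip_def]
  refine congrArg _ (Finset.sum_congr rfl fun x _ => ?_)
  rcases eq_or_ne x 1 with rfl | hx
  · simp [linChar_val]
  · rw [res_apply, h x x.2 (by simpa using hx)]; simp [linChar_val]

namespace Bs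
variable (d : Dih A t s)
include d

theorem ti {g a : G} (ha : a ∈ A) (h1 : a ≠ 1) (hga : g * a * g⁻¹ ∈ A) : g ∈ 𝐂[t] := by
  have key : g * t * g⁻¹ ∈ A → g ∈ 𝐂[t] := fun h => mem_cent1.2 (mul_inv_eq_iff_eq_mul.1
    ((d.uniq _ h (by rw [conj_mul, d.tt]; group)).resolve_left (mt conj_eq_one_iff.1 d.t1)))
  by_cases hat : a = t
  · exact key (hat ▸ hga)
  have h2 : g * a * g⁻¹ ≠ t := fun e => (d.uniq a ha (by
    have := d.tt
    rwa [← e, conj_mul, conj_eq_one_iff] at this)).elim h1 hat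
  refine key ?_
  rw [← d.cent _ hga (mt conj_eq_one_iff.1 h1) h2, ← conj_smul_centralizer_singleton,
    conj_mem_conj_smul, d.cent a ha h1 hat]
  exact d.tA

theorem conj_mem {g a : G} (hg : g ∈ 𝐂[t]) (ha : a ∈ A) : g * a * g⁻¹ ∈ A := by
  by_cases hA : g ∈ A
  · exact mul_mem (mul_mem hA ha) (inv_mem hA)
  · exact d.conj_out hg hA ha ▸ inv_mem ha

theorem card_out [Fintype G] [DecidableEq G] [DecidablePred (· ∈ A)] [DecidablePred (· ∈ 𝐂[t])] :
    (Finset.univ.filter fun x => x ∈ 𝐂[t] ∧ x ∉ A).card = Nat.card A := by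
  have h := Finset.card_filter_add_card_filter_not (s := Finset.univ.filter (· ∈ 𝐂[t])) (· ∈ A)
  rw [Finset.filter_filter, Finset.filter_filter, Finset.filter_congr (q := (· ∈ A))
    fun x _ => ⟨fun h => h.2, fun h => ⟨d.le h, h⟩⟩, ← Fintype.card_subtype (· ∈ A),
    ← Fintype.card_subtype (· ∈ 𝐂[t]), ← Nat.card_eq_fintype_card, ← Nat.card_eq_fintype_card] at h
  have := d.card_cent
  omega

theorem res_al (l : A →* ℂˣ) : res A (al A l) =
    (linChar 1).1 - (linChar l).1 + ((linChar 1).1 - (linChar l⁻¹).1) := funext fun x => by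
  have := d.comm
  rw [res_apply, al, res_ind_dihedral d.le d.card_cent
    (fun x hx h1 g h => inv_mem_iff.1 (ti d hx h1 (by rwa [inv_inv])))
    (fun g hg hA x hx => by
      simpa using d.conj_out (inv_mem hg) (mt inv_mem_iff.1 hA) hx) (by simp [linChar_val])]
  simp [linChar_val]

theorem al_t (l : A →* ℂˣ) : al A l t = 2 - 2 * l ⟨t, d.tA⟩ := by
  have h := congrFun (res_al d l) ⟨t, d.tA⟩
  have h2 : (l ⟨t, d.tA⟩)⁻¹ = l ⟨t, d.tA⟩ := by
    rw [inv_eq_iff_mul_eq_one, ← map_mul, ← map_one l]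
    exact congrArg l (Subtype.ext d.tt)
  rw [res_apply] at h
  rw [h]
  simp only [Pi.add_apply, Pi.sub_apply, linChar_apply, MonoidHom.one_apply, Units.val_one,
    MonoidHom.inv_apply, h2]
  ring

theorem ip_al [DecidableEq (A →* ℂˣ)] {l m : A →* ℂˣ} (hl : l ≠ 1) (hm : m ≠ 1) :
    ip (al A l) (al A m) = 2 + ((if l = m then 1 else 0) + if l = m⁻¹ then 1 else 0) := by
  classical
  have hm' : m⁻¹ ≠ 1 := fun h => hm ((inv_eq_one (a := m)).1 h)
  rw [al, ip_ind_left _ _ (al_gen m).isClassFunction, res_al d]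
  simp only [ip_sub_left, ip_sub_right, ip_add_right, ip_irr, linChar_injective.eq_iff, if_neg hl,
    if_neg hm.symm, if_neg hm'.symm, if_true]
  split_ifs <;> ring

theorem clMul_A {x : G} (hx : x ∈ A) (h1 : x ≠ 1) : clMul t t x = Nat.card A := by
  classical
  have := Fintype.ofFinite G
  have sq : ∀ {a : G}, IsConj t a → a * a = 1 := fun h => by
    obtain ⟨g, rfl⟩ := isConj_iff.1 h
    rw [conj_mul, d.tt]; group
  rw [clMul_apply, ← card_out d, ← Fintype.card_subtype, ← Nat.card_eq_fintype_card]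
  refine congrArg _ (Nat.card_congr ⟨fun p => ⟨p.1.1, ?_⟩, fun a => ⟨(a.1, a.1 * x), ?_⟩,
    fun p => Subtype.ext (Prod.ext rfl ?_), fun a => rfl⟩)
  · obtain ⟨⟨a, b⟩, ha, hb, rfl⟩ := p
    have h2 : a * (a * b) * a⁻¹ = (a * b)⁻¹ := by
      rw [← mul_assoc, sq ha, one_mul, mul_inv_rev, inv_eq_of_mul_eq_one_right (sq hb)]
    refine ⟨ti d hx h1 (h2 ▸ inv_mem hx), fun hA => h1 ?_⟩
    have h3 := (d.uniq a hA (sq ha)).resolve_left fun e => d.t1 (isConj_one_left.1 (e ▸ ha))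
    have h4 := (d.uniq b ((mul_mem_cancel_left hA).1 hx) (sq hb)).resolve_left
      fun e => d.t1 (isConj_one_left.1 (e ▸ hb))
    change a * b = 1
    rw [h3, h4, d.tt]
  · obtain ⟨a, ha, hA⟩ := a
    have h2 : a * x ∉ A := fun h => hA ((mul_mem_cancel_right hx).1 h)
    exact ⟨d.conj a (d.out ha hA) fun e => hA (e ▸ one_mem _),
      d.conj _ (d.out (mul_mem ha (d.le hx)) h2) fun e : a * x = 1 => h2 (e ▸ one_mem _),
      by rw [← mul_assoc, d.out ha hA, one_mul]⟩
  · obtain ⟨⟨a, b⟩, ha, hb, rfl⟩ := p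
    change a * (a * b) = b
    rw [← mul_assoc, sq ha, one_mul]

theorem card_G : Nat.card G = 2 * Nat.card A * 𝐂[t].index := by
  rw [← d.card_cent, card_mul_index]

theorem al_three {l : A →* ℂˣ} (hl : l ≠ l⁻¹) : ∃ χ ψ : IrrCharacter G, χ ≠ ψ ∧ χ ≠ irrOne G ∧
    ψ ≠ irrOne G ∧ al A l = (irrOne G).1 + χ.1 - ψ.1 := by
  classical
  have h1 : l ≠ 1 := by rintro rfl; exact hl (MonoidHom.ext fun _ => by simp)
  have h2 : ip (al A l) (irrOne G).1 = 1 := by
    rw [ip_al_const h1 (irr_isClassFunction _) (c := 1) fun _ _ _ => rfl, map_one]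
  have h3 : ip (irrOne G).1 (al A l) = 1 := by rw [← conj_ip, h2, map_one]
  obtain ⟨χ, ψ, hne, h⟩ := exists_sub_of_norm_two ((al_gen l).sub (irr_isCharacter (irrOne G)).isGen)
    (by rw [ip_sub_left, ip_sub_right, ip_sub_right, ip_al d h1 h1, h2, h3, ip_irr_self, if_pos rfl,
      if_neg hl]; norm_num) (Or.inr (by simp [al_one]))
  have h4 := congrArg (ip · (irrOne G).1) h
  simp only [ip_sub_left, h2, ip_irr, if_true, sub_self] at h4
  refine ⟨χ, ψ, hne, fun e => ?_, fun e => ?_, by rw [add_sub_assoc, ← h]; simp⟩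
  · rw [if_pos e, if_neg fun e' => hne (e.trans e'.symm)] at h4; simp at h4
  · rw [if_pos e, if_neg fun e' => hne (e'.trans e.symm)] at h4; simp at h4

theorem exists_vals : ∃ (l : A →* ℂˣ) (χ ψ : IrrCharacter G) (ε : ℤ), l ≠ 1 ∧ (ε = 1 ∨ ε = -1) ∧
    χ ≠ irrOne G ∧ al A l = (irrOne G).1 + (ε : ℂ) • (χ.1 - ψ.1) ∧ χ.1 t ^ 2 = 1 ∧
      ψ.1 t ^ 2 = 4 := by
  classical
  have := d.comm
  have hc : commutator A = ⊥ := commutator_eq_bot A
  have hsq : ∀ l : A →* ℂˣ, l ⟨t, d.tA⟩ ≠ 1 → (l ⟨t, d.tA⟩ : ℂ) = -1 := fun l h => by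
    have h2 : (l ⟨t, d.tA⟩ : ℂ) * l ⟨t, d.tA⟩ = 1 := by
      rw [← Units.val_mul, ← map_mul, show (⟨t, d.tA⟩ * ⟨t, d.tA⟩ : A) = 1 from Subtype.ext d.tt]
      simp
    exact (mul_self_eq_one_iff.1 h2).resolve_left fun e => h (Units.ext e)
  have hinv : ∀ (l : A →* ℂˣ) (a : A), l = l⁻¹ → l (a * a) = 1 := fun l a h => by
    rw [map_mul, ← eq_inv_iff_mul_eq_one]; exact DFunLike.congr_fun h a
  have key : ∀ (l : A →* ℂˣ) (χ ψ : IrrCharacter G), l ≠ l⁻¹ → χ ≠ irrOne G → ψ ≠ irrOne G →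
      al A l = (irrOne G).1 + χ.1 - ψ.1 → (χ.1 t ^ 2 = 1 ∧ ψ.1 t ^ 2 = 4) ∨
        (χ.1 t ^ 2 = 4 ∧ ψ.1 t ^ 2 = 1) → ∃ (l : A →* ℂˣ) (χ ψ : IrrCharacter G) (ε : ℤ), l ≠ 1 ∧
          (ε = 1 ∨ ε = -1) ∧ χ ≠ irrOne G ∧ al A l = (irrOne G).1 + (ε : ℂ) • (χ.1 - ψ.1) ∧
            χ.1 t ^ 2 = 1 ∧ ψ.1 t ^ 2 = 4 := fun l χ ψ hl h1 h2 h e => by
    have h0 : l ≠ 1 := by rintro rfl; exact hl (MonoidHom.ext fun _ => by simp)
    exact e.elim (fun e => ⟨l, χ, ψ, 1, h0, Or.inl rfl, h1, by rw [h]; simp [add_sub_assoc], e⟩)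
      fun e => ⟨l, ψ, χ, -1, h0, Or.inr rfl, h2, by rw [h]; simp [add_sub_assoc], e.symm⟩
  obtain ⟨ν, hν⟩ := exists_units_hom_ne_one_of_comm (g := (⟨t, d.tA⟩ : A))
    fun e => d.t1 (congrArg Subtype.val e)
  by_cases h : ∃ a : A, (a : G) * a ∉ zpowers t
  · obtain ⟨a, ha⟩ := h
    obtain ⟨l, hl, hla⟩ := exists_units_hom_apply_ne_one (N := zpowers (⟨t, d.tA⟩ : A))
      (hc ▸ bot_le) (g := a * a) fun ⟨n, hn⟩ => ha ⟨n, congrArg Subtype.val hn⟩
    have hlt : l ⟨t, d.tA⟩ = 1 := hl (mem_zpowers _)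
    have hl' : l ≠ l⁻¹ := fun e => hla (hinv l a e)
    obtain ⟨m, hm, hmt⟩ : ∃ m : A →* ℂˣ, m ≠ m⁻¹ ∧ m ⟨t, d.tA⟩ ≠ 1 := by
      by_cases e : ν = ν⁻¹
      · refine ⟨ν * l, fun e' => hla ?_, by simpa [hlt] using hν⟩
        simpa [hinv ν a e] using (MonoidHom.mul_apply ν l (a * a)).symm.trans (hinv _ a e')
      · exact ⟨ν, e, hν⟩
    have h1 : l ≠ 1 := by rintro rfl; exact hl' (MonoidHom.ext fun _ => by simp)
    have h1' : m ≠ 1 := by rintro rfl; exact hm (MonoidHom.ext fun _ => by simp)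
    have h2 : l ≠ m := by rintro rfl; exact hmt hlt
    have h3 : l ≠ m⁻¹ := by rintro rfl; exact hmt (by simpa using hlt)
    have h3' : m ≠ l⁻¹ := by rintro rfl; exact h3 (inv_inv l).symm
    obtain ⟨χ, ψ, hne, hχ, hψ, e⟩ := al_three d hl'
    obtain ⟨θ, η, hne', e'⟩ := exists_sub_of_norm_two ((al_gen l).sub (al_gen m)) (by
      rw [ip_sub_left, ip_sub_right, ip_sub_right, ip_al d h1 h1, ip_al d h1 h1', ip_al d h1' h1,
        ip_al d h1' h1']
      simp [hl', hm, h2, h2.symm, h3, h3']; norm_num) (Or.inl (by simp [al_one]))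
    have h4 : ∀ φ : IrrCharacter G, ip φ.1 (clMul t t) = _ := ip_irr_clMul d.tt
    have h5 := congrArg (ip · (clMul t t)) e'
    have h6 := congrFun e' 1
    have h7 := congrFun e' t
    have h8 := congrFun e t
    simp only [ip_sub_left, ip_al_const h1 (isClassFunction_clMul t t) fun _ => clMul_A d,
      ip_al_const h1' (isClassFunction_clMul t t) fun _ => clMul_A d, sub_self, h4] at h5
    simp only [Pi.sub_apply, Pi.add_apply, al_one, al_t d, hlt, hsq m hmt, irrOne_apply,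
      Units.val_one] at h6 h7 h8
    have h9 : θ.1 t ^ 2 = η.1 t ^ 2 := by
      have := irr_apply_one_ne_zero η
      have h10 : (𝐂[t].index : ℂ) ≠ 0 := by exact_mod_cast index_ne_zero_of_finite
      have h11 : (Nat.card G : ℂ) ≠ 0 := card_cast_ne_zero
      rw [show θ.1 1 = η.1 1 by linear_combination -h6] at h5
      field_simp at h5
      exact sub_eq_zero.1 ((mul_eq_zero.1 (h5.symm.trans (by simp))).resolve_left
        (pow_ne_zero _ h10))
    have h10 : θ.1 t = -2 := by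
      have : θ.1 t = η.1 t - 4 := by linear_combination -h7
      rw [this] at h9 ⊢
      linear_combination -h9 / 8
    have h11 := congrArg (ip (al A l)) e'
    rw [ip_sub_right, ip_al d h1 h1, ip_al d h1 h1', e] at h11
    simp only [ip_sub_left, ip_sub_right, ip_add_left, ip_irr, if_true, if_neg hl', if_neg h2,
      if_neg h3] at h11
    refine key l χ ψ hl' hχ hψ e ?_
    by_cases c1 : χ = θ
    · subst c1
      right
      rw [h10] at h8 ⊢
      exact ⟨by norm_num, by rw [show ψ.1 t = -1 by linear_combination h8]; norm_num⟩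
    by_cases c2 : ψ = η
    · subst c2
      left
      rw [h10] at h7
      rw [show χ.1 t = 1 by linear_combination h7 - h8, show ψ.1 t = 2 by linear_combination h7]
      norm_num
    exfalso
    rw [if_neg c1, if_neg c2] at h11
    by_cases c3 : irrOne G = θ
    · rw [← c3, irrOne_apply] at h10; norm_num at h10
    rw [if_neg c3] at h11
    split_ifs at h11 <;> norm_num at h11
  · push Not at h
    have h1 : ∀ a ∈ A, a * a = 1 ∨ a * a = t := fun a ha => mem_zpowers_two d.tt (h ⟨a, ha⟩)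
    obtain ⟨a, ha, ha'⟩ := exists_notMem_fin (A := A) {1, t} (Finset.card_le_two.trans_lt
      (by have := d.four; omega))
    simp only [Finset.mem_insert, Finset.mem_singleton, not_or] at ha'
    have h2 : a * a = t := (h1 a ha).resolve_left fun e => (d.uniq a ha e).elim ha'.1 ha'.2
    have h3 : Nat.card A ≤ 4 := by
      by_contra! h3
      obtain ⟨b, hb, hb'⟩ := exists_notMem_fin (A := A) {1, t, a, t * a} (Finset.card_le_four.trans_lt h3)
      simp only [Finset.mem_insert, Finset.mem_singleton, not_or] at hb'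
      have h4 : b * b = t := (h1 b hb).resolve_left fun e => (d.uniq b hb e).elim hb'.1 hb'.2.1
      have h5 := (isMulCommutative_iff_forall.1 d.comm) _ hb _ (inv_mem ha)
      rcases d.uniq (b * a⁻¹) (mul_mem hb (inv_mem ha)) (by
        rw [mul_assoc, ← mul_assoc a⁻¹, ← h5, mul_assoc, ← mul_assoc, h4, ← mul_inv_rev, h2,
          mul_inv_cancel]) with e | e
      · exact hb'.2.2.1 (mul_inv_eq_one.1 e)
      · exact hb'.2.2.2 (mul_inv_eq_iff_eq_mul.1 e)
    have hl : ν ≠ ν⁻¹ := fun e => hν (by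
      rw [← hinv ν ⟨a, ha⟩ e]; exact congrArg ν (Subtype.ext h2.symm))
    obtain ⟨χ, ψ, hne, hχ, hψ, e⟩ := al_three d hl
    obtain ⟨x, hx⟩ := exists_int_apply_of_sq (irr_isCharacter χ) d.tt
    obtain ⟨y, hy⟩ := exists_int_apply_of_sq (irr_isCharacter ψ) d.tt
    have h8 := congrFun e t
    simp only [Pi.sub_apply, Pi.add_apply, al_t d, hsq ν hν, irrOne_apply, hx, hy] at h8
    have h9 : x = y + 3 := by exact_mod_cast (show (x : ℂ) = y + 3 by linear_combination -h8)
    have h10 : x * x + y * y ≤ 8 := by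
      choose v hv using fun φ : IrrCharacter G => exists_int_apply_of_sq (irr_isCharacter φ) d.tt
      have h11 := sum_irr_mul_conj t t
      rw [if_pos (IsConj.refl t), d.card_cent] at h11
      simp only [hv, map_intCast] at h11
      have h12 : ∑ φ, v φ * v φ = 2 * Nat.card A := by exact_mod_cast h11
      have h13 := Finset.sum_le_sum_of_subset_of_nonneg (Finset.subset_univ {χ, ψ})
        fun φ _ _ => mul_self_nonneg (v φ)
      rw [Finset.sum_pair hne, h12, show v χ = x by exact_mod_cast (hv χ).symm.trans hx,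
        show v ψ = y by exact_mod_cast (hv ψ).symm.trans hy] at h13
      omega
    refine key ν χ ψ hl hχ hψ e ?_
    rw [hx, hy]
    obtain rfl | rfl : y = -2 ∨ y = -1 := by
      subst h9
      have : -3 < y := by nlinarith
      have : y < 0 := by nlinarith
      omega
    · left; subst h9; norm_num
    · right; subst h9; norm_num

theorem index_coprime : 𝐂[t].index.Coprime (Nat.card A) := by
  refine Nat.coprime_of_dvd fun p hp h1 h2 => ?_
  haveI := Fact.mk hp
  obtain ⟨P, hP, g, hle⟩ : ∃ P, IsSylowIn p P ⊤ ∧ ∃ g, P ≤ 𝐂[g * t * g⁻¹] := by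
    by_cases h : p = 2
    · subst h
      obtain ⟨P, hP, hle⟩ := exists_isSylowIn_ge (IsPElt.isPGroup_zpowers (p := 2) (g := t)
        ⟨1, (orderOf_eq_prime (by rw [pow_two, d.tt]) d.t1).trans (pow_one 2).symm⟩) le_top
      obtain ⟨⟨z, hz⟩, hz1⟩ := ne_bot_iff_exists_ne_one.1 (inf_centralizer_ne_bot_of_isPGroup
        hP.isPGroup hP.isPGroup (fun e => d.t1 (mem_bot.1 (e ▸ hle (mem_zpowers t)))) le_normalizer)
      obtain ⟨w, hw, ho⟩ := exists_orderOf_eq (B := zpowers z) Nat.prime_two (by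
        rw [Nat.card_zpowers]
        exact (isPElt_of_mem hP.isPGroup hz.1).dvd_orderOf fun e => hz1 (Subtype.ext e))
      obtain ⟨g, hg⟩ := isConj_iff.1 (d.conj w (by rw [← pow_two, ← ho, pow_orderOf_eq_one])
        fun e => by simp [e] at ho)
      exact ⟨P, hP, g, hg ▸ (le_cent1_iff.2 hz.2).trans (cent1_le_of_mem_zpowers hw)⟩
    · obtain ⟨P, hP, hle⟩ := exists_sylow_le h2 fun y hy y1 hyp => d.cent y hy y1 (by
        rintro rfl
        exact h ((Nat.prime_dvd_prime_iff_eq hp Nat.prime_two).1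
          ((hyp.dvd_orderOf y1).trans (orderOf_dvd_of_pow_eq_one (by rw [pow_two, d.tt])))))
      exact ⟨P, hP, 1, by simpa using hle.trans d.le⟩
  refine hP.not_dvd (relIndex_top_right P ▸ h1.trans ?_)
  have := index_dvd_of_le hle
  rwa [← conj_smul_centralizer_singleton, index_conj_smul] at this

end Bs

theorem bsw_arith {n k d : ℕ} {ε : ℤ} (hε : ε = 1 ∨ ε = -1) (hk : 2 ∣ k) (hk0 : 0 < k)
    (hd : 0 < d) (hc : n.Coprime k) (h : (n : ℤ) * (d - ε) ^ 2 = 2 * k ^ 2 * (d * (d + ε))) :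
    (d : ℤ) = 2 * k + ε ∧ (n : ℤ) = (2 * k + ε) * (k + ε) := by
  have hn : ¬ (2 : ℤ) ∣ n := fun h => by
    have := Nat.eq_one_of_dvd_coprimes hc (by exact_mod_cast h) hk
    omega
  have h1 : (k : ℤ) ^ 2 ∣ (d - ε) ^ 2 := (Nat.isCoprime_iff_coprime.2 hc.symm).pow_left.dvd_of_dvd_mul_left
    ⟨2 * (d * (d + ε)), by rw [h]; ring⟩
  obtain ⟨a, ha⟩ := (Int.pow_dvd_pow_iff two_ne_zero).1 h1
  have hεε : ε * ε = 1 := by rcases hε with rfl | rfl <;> norm_num
  have h2 : (n : ℤ) * a ^ 2 = 2 * ((k * a + ε) * (k * a + 2 * ε)) := by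
    refine mul_left_cancel₀ (show (k : ℤ) ^ 2 ≠ 0 by positivity) ?_
    rw [show (d : ℤ) = k * a + ε by linarith] at h
    linear_combination h
  have h3 : a ∣ 4 := ⟨n * a - 2 * k * (k * a + 3 * ε), by linear_combination -h2 - 4 * hεε⟩
  have h4 : 0 ≤ a := by
    by_contra h4
    have : (k : ℤ) * a < 0 := mul_neg_of_pos_of_neg (by exact_mod_cast hk0) (not_le.1 h4)
    omega
  have h5 := Int.le_of_dvd (by norm_num) h3
  have h6 : a = 2 := by
    interval_cases a
    · norm_num at h3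
    · exact absurd ⟨(k + ε) * (k + 2 * ε), by linear_combination h2⟩ hn
    · rfl
    · norm_num at h3
    · exfalso
      have : 4 * (n : ℤ) = 2 * (2 * (2 * k ^ 2) + 3 * k * ε) + 1 := by
        refine mul_left_cancel₀ (show (4 : ℤ) ≠ 0 by norm_num) ?_
        linear_combination h2 + 4 * hεε
      omega
  subst h6
  refine ⟨by linarith, mul_left_cancel₀ (show (4 : ℤ) ≠ 0 by norm_num) ?_⟩
  linear_combination h2

/-- the character theoretic information -/
structure BsData (A : Subgroup G) (t : G) (q r : ℕ) (ε : ℤ) (χ ψ : IrrCharacter G) : Prop where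
  eps : ε = 1 ∨ ε = -1
  hq : (q : ℤ) = 2 * Nat.card A + ε
  hr : (r : ℤ) = Nat.card A + ε
  idx : 𝐂[t].index = q * r
  ne : χ ≠ irrOne G
  dχ : charDegree χ.1 = q
  dψ : charDegree ψ.1 = 2 * r
  rel : ∀ g, Ap A g → ψ.1 g = χ.1 g + ε

theorem Bs.exists_data (d : Dih A t s) : ∃ q r ε χ ψ, BsData A t q r ε χ ψ := by
  obtain ⟨l, χ, ψ, ε, hl, hε, hχ, e, h1, h2⟩ := Bs.exists_vals d
  have hεε : (ε : ℂ) * ε = 1 := by rcases hε with rfl | rfl <;> norm_num
  have key : ∀ g, al A l g = 0 → ψ.1 g = χ.1 g + ε := fun g h => by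
    rw [e] at h
    simp only [Pi.add_apply, Pi.smul_apply, Pi.sub_apply, irrOne_apply, smul_eq_mul] at h
    linear_combination -ε * h + (χ.1 g - ψ.1 g) * hεε
  have h3 := key 1 (al_one l)
  have h4 := congrArg (ip · (clMul t t)) e
  simp only [ip_add_left, ip_smul_left, ip_sub_left, ip_irr_clMul d.tt, h1, h2, irrOne_apply,
    ip_al_const hl (isClassFunction_clMul t t) fun _ => Bs.clMul_A d, map_natCast] at h4
  have h5 := irr_apply_one_ne_zero χ
  have h6 := irr_apply_one_ne_zero ψ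
  have h7 : (𝐂[t].index : ℂ) ≠ 0 := by exact_mod_cast index_ne_zero_of_finite
  have h8 : (Nat.card A : ℂ) ≠ 0 := card_cast_ne_zero
  rw [Bs.card_G d, h3] at h4
  rw [h3] at h6
  rw [irr_apply_one] at h4 h5 h6
  push_cast at h4
  field_simp at h4
  obtain ⟨h9, h10⟩ := bsw_arith hε d.gen.even Nat.card_pos (irr_degree_pos χ) (Bs.index_coprime d)
    (by
      have : (𝐂[t].index : ℂ) * (charDegree χ.1 - ε) ^ 2 = 2 * (Nat.card A : ℂ) ^ 2 *
        (charDegree χ.1 * (charDegree χ.1 + ε)) := by linear_combination -h4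
      exact_mod_cast this)
  have h11 := d.four
  obtain ⟨r, hr⟩ := Int.eq_ofNat_of_zero_le (show 0 ≤ (Nat.card A : ℤ) + ε by omega)
  refine ⟨charDegree χ.1, r, ε, χ, ψ, hε, h9, hr.symm, by zify; rw [h10, h9, hr], hχ, rfl, ?_,
    fun g hg => key g (ind_apply_eq_zero _ fun x hx => hg.1 (orderOf_eq_one_iff.1 ?_))⟩
  · rw [irr_apply_one, irr_apply_one] at h3
    have : (charDegree ψ.1 : ℤ) = charDegree χ.1 + ε := by exact_mod_cast h3
    omega
  · refine Nat.eq_one_of_dvd_coprimes hg.2 dvd_rfl ?_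
    have := A.orderOf_dvd_natCard hx
    rwa [← inv_inv x, inv_inv x⁻¹, orderOf_conj'] at this

end GW
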