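import Cfsg.Agent.Lib.GW.BSW1

/-!
# Brauer–Suzuki–Wall: counting elements
-/

set_option autoImplicit false
set_option linter.unusedSectionVars false

namespace GW

open Cfsg CT GT BT FT SAD Subgroup
open scoped Pointwise ComplexConjugate

variable {G : Type*} [Group G] [Finite G]

theorem irr_vanish (θ : IrrCharacter G) {m p : ℕ} (hp : p.Prime)
    (h : Nat.card G = charDegree θ.1 * m) (hm : ¬ p ∣ m) {g : G} (hg : p ∣ orderOf g) :
    θ.1 g = 0 := by
  haveI := Fact.mk hp
  refine apply_eq_zero_of_defect_zero θ ?_ hg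
  rw [h, Nat.factorization_mul (irr_degree_pos θ).ne' (by rintro rfl; simp at hm),
    Finsupp.add_apply, Nat.factorization_eq_zero_of_not_dvd hm, add_zero]

theorem sum_sharp [Fintype G] {M : Type*} [AddCommMonoid M] (A : Subgroup G) [Fintype A]
    [DecidablePred (· ∈ sharp A)] (F : G → M) :
    ∑ a with a ∈ sharp A, F a + F 1 = ∑ a : A, F a := by
  classical
  rw [← Finset.sum_subtype (Finset.univ.filter (· ∈ A)) (by simp) F, ← Finset.sum_erase_add _ _
    (show (1 : G) ∈ Finset.univ.filter (· ∈ A) by simp)]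
  congr 2
  ext x
  simp [mem_sharp, and_comm]

theorem clMul_spec {t : G} (ht : t * t = 1) (t1 : t ≠ 1) (g : G) : ∃ m : ℕ, clMul t t g = m ∧
    (m ≠ 0 → Re g) ∧ m ≤ Nat.card 𝐂[g] ∧ (g = 1 → m ≤ 𝐂[t].index) := by
  have sq : ∀ {a : G}, IsConj t a → a * a = 1 := fun h => by
    obtain ⟨g, rfl⟩ := isConj_iff.1 h
    rw [conj_mul, ht]; group
  have inv : ∀ {a b : G}, IsConj t a → IsConj t b → a * b = g → a * g * a⁻¹ = g⁻¹ := by
    rintro a b ha hb rfl
    rw [← mul_assoc, sq ha, one_mul, mul_inv_rev, inv_eq_of_mul_eq_one_right (sq hb)]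
  refine ⟨_, clMul_apply t t g, fun h => ?_, ?_, ?_⟩
  · obtain ⟨⟨⟨a, b⟩, ha, hb, e⟩⟩ := (Nat.card_ne_zero.1 h).1
    exact ⟨a, sq ha, fun e => t1 (isConj_one_left.1 (e ▸ ha)), inv ha hb e⟩
  · by_cases h : Nonempty {ab : G × G // IsConj t ab.1 ∧ IsConj t ab.2 ∧ ab.1 * ab.2 = g}
    swap
    · rw [not_nonempty_iff] at h
      rw [Nat.card_of_isEmpty]
      exact Nat.zero_le _
    obtain ⟨⟨⟨a, b⟩, ha, hb, e⟩⟩ := h
    refine Nat.card_le_card_of_injective (fun x => ⟨a⁻¹ * x.1.1, mem_cent1.2 ?_⟩) fun x y h => ?_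
    · have h1 := inv x.2.1 x.2.2.1 x.2.2.2
      rw [← inv ha hb e] at h1
      calc a⁻¹ * x.1.1 * g = a⁻¹ * (x.1.1 * g * x.1.1⁻¹) * x.1.1 := by group
        _ = _ := by rw [h1]; group
    · have h1 : x.1.1 = y.1.1 := mul_left_cancel (congrArg Subtype.val h)
      exact Subtype.ext (Prod.ext h1 (mul_left_cancel (a := x.1.1)
        (x.2.2.2.trans (h1 ▸ y.2.2.2.symm))))
  · rintro rfl
    rw [← relIndex_top_right, ← ncard_conj_eq_relIndex, ← Nat.card_coe_set_eq]
    refine Nat.card_le_card_of_injective (fun x => ⟨x.1.1, by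
      obtain ⟨g, hg⟩ := isConj_iff.1 x.2.1
      exact ⟨g, mem_top _, hg⟩⟩) fun x y h => ?_
    have h1 : x.1.1 = y.1.1 := congrArg Subtype.val h
    exact Subtype.ext (Prod.ext h1 (mul_left_cancel (a := x.1.1)
      (x.2.2.2.trans (h1 ▸ y.2.2.2.symm))))

/-- non-trivial elements of order dividing `m` -/
def Wd (m : ℕ) (g : G) : Prop := g ≠ 1 ∧ orderOf g ∣ m

theorem Wd.conj {m : ℕ} {g : G} (h : Wd m g) (x : G) : Wd m (x * g * x⁻¹) :=
  ⟨mt conj_eq_one_iff.1 h.1, by rw [orderOf_conj']; exact h.2⟩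

theorem Wd.exists_prime {m : ℕ} {g : G} (h : Wd m g) : ∃ p, p.Prime ∧ p ∣ orderOf g ∧ p ∣ m :=
  let ⟨p, hp, hd⟩ := Nat.exists_prime_and_dvd (mt orderOf_eq_one_iff.1 h.1)
  ⟨p, hp, hd, hd.trans h.2⟩

theorem Wd.not {m m' : ℕ} (hc : m.Coprime m') {g : G} (h : Wd m g) : ¬ Wd m' g := fun h' =>
  h.1 (orderOf_eq_one_iff.1 (Nat.eq_one_of_dvd_coprimes hc h.2 h'.2))

variable {A : Subgroup G} {t s : G} {q r : ℕ} {ε : ℤ} {χ ψ : IrrCharacter G}

theorem card_cent_dvd (c : Gen A t) {a b : ℕ} (hab : a.Coprime b)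
    (hG : Nat.card G = 2 * Nat.card A * (a * b)) (h : ∀ g, Ap A g → Wd a g ∨ Wd b g) {g : G}
    (hg : Ap A g) (hw : Wd a g) : Nat.card 𝐂[g] ∣ a := by
  have h1 : Nat.card 𝐂[g] ∣ a * b := (((Nat.prime_two.coprime_iff_not_dvd.2
    (c.not_two hg)).symm).mul_right (c.cop hg)).dvd_of_dvd_mul_left
      (hG ▸ card_subgroup_dvd_card _)
  refine Nat.Coprime.dvd_of_dvd_mul_right (Nat.coprime_of_dvd fun p hp h2 h3 => ?_) h1
  obtain ⟨y, hy, rfl⟩ := exists_orderOf_eq hp h2
  have h4 := (show Commute y g from mem_cent1.1 hy).orderOf_mul_eq_mul_orderOf_of_coprime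
    ((hab.symm.coprime_dvd_left h3).coprime_dvd_right hw.2)
  have h5 : y * g ≠ 1 := fun e => by
    rw [e, orderOf_one] at h4
    exact hp.one_lt.ne' (Nat.eq_one_of_mul_eq_one_right h4.symm)
  rcases h _ (c.ap_of_mem hg (mul_mem hy (mem_cent1.2 rfl)) h5) with h6 | h6
  · exact hp.one_lt.ne' (Nat.eq_one_of_dvd_coprimes hab ((Dvd.intro _ h4.symm).trans h6.2) h3)
  · exact hw.not hab ⟨hw.1, (Dvd.intro_left _ h4.symm).trans h6.2⟩

namespace BsData
variable (D : BsData A t q r ε χ ψ) (d : Dih A t s)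
include D d

theorem card_G : Nat.card G = 2 * Nat.card A * (q * r) := by rw [Bs.card_G d, D.idx]

theorem cop : (q * r).Coprime (2 * Nat.card A) := by
  have h := D.idx ▸ Bs.index_coprime d
  exact (h.coprime_dvd_right d.gen.even).mul_right h

omit d in
theorem qr : q.Coprime r := by
  have h1 := D.hq
  have h2 := D.hr
  refine Nat.isCoprime_iff_coprime.1 ?_
  rcases D.eps with rfl | rfl
  · exact ⟨-1, 2, by linarith⟩
  · exact ⟨1, -2, by linarith⟩

theorem χ_zero {g : G} {p : ℕ} (hp : p.Prime) (h : p ∣ orderOf g) (hq : p ∣ q) : χ.1 g = 0 :=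
  irr_vanish χ hp (m := 2 * Nat.card A * r) (by rw [D.card_G d, D.dχ]; ring) (fun h => hp.one_lt.ne'
    (Nat.eq_one_of_dvd_coprimes ((D.cop d).coprime_mul_right.mul_right D.qr) hq h)) h

theorem ψ_zero {g : G} {p : ℕ} (hp : p.Prime) (h : p ∣ orderOf g) (hr : p ∣ r) : ψ.1 g = 0 :=
  irr_vanish ψ hp (m := Nat.card A * q) (by rw [D.card_G d, D.dψ]; ring) (fun h => hp.one_lt.ne'
    (Nat.eq_one_of_dvd_coprimes ((D.cop d).coprime_mul_left.coprime_mul_left_right.mul_right
      D.qr.symm) hr h)) h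

theorem ap_q {g : G} (h : Wd q g) : Ap A g :=
  ⟨h.1, (D.cop d).coprime_mul_right.coprime_mul_left_right.coprime_dvd_left h.2⟩

theorem ap_r {g : G} (h : Wd r g) : Ap A g :=
  ⟨h.1, (D.cop d).coprime_mul_left.coprime_mul_left_right.coprime_dvd_left h.2⟩

theorem cases {g : G} (h : Ap A g) : Wd q g ∨ Wd r g := by
  have h1 : orderOf g ∣ q * r := (((Nat.prime_two.coprime_iff_not_dvd.2
    (d.gen.odd h)).symm).mul_right h.2).dvd_of_dvd_mul_left
      (D.card_G d ▸ orderOf_dvd_natCard g)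
  by_cases h2 : (orderOf g).Coprime r
  · exact Or.inl ⟨h.1, h2.dvd_of_dvd_mul_right h1⟩
  by_cases h3 : (orderOf g).Coprime q
  · exact Or.inr ⟨h.1, h3.dvd_of_dvd_mul_left h1⟩
  obtain ⟨p, hp, a1, a2⟩ := Nat.Prime.not_coprime_iff_dvd.1 h2
  obtain ⟨p', hp', b1, b2⟩ := Nat.Prime.not_coprime_iff_dvd.1 h3
  have := D.rel g h
  rw [D.χ_zero d hp' b1 b2, D.ψ_zero d hp a1 a2] at this
  rcases D.eps with rfl | rfl <;> simp at this

theorem cent_q {g : G} (h : Wd q g) : Nat.card 𝐂[g] ∣ q :=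
  card_cent_dvd d.gen D.qr (D.card_G d) (fun _ => D.cases d) (D.ap_q d h) h

theorem cent_r {g : G} (h : Wd r g) : Nat.card 𝐂[g] ∣ r :=
  card_cent_dvd d.gen D.qr.symm (by rw [D.card_G d, mul_comm q]) (fun _ h => (D.cases d h).symm)
    (D.ap_r d h) h

theorem χ_q {g : G} (h : Wd q g) : χ.1 g = 0 :=
  let ⟨_, hp, h1, h2⟩ := h.exists_prime
  D.χ_zero d hp h1 h2

theorem χ_r {g : G} (h : Wd r g) : χ.1 g = -ε := by
  obtain ⟨_, hp, h1, h2⟩ := h.exists_prime
  have := D.rel g (D.ap_r d h)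
  rw [D.ψ_zero d hp h1 h2] at this
  linear_combination -this

theorem sum_split [Fintype G] {M : Type*} [AddCommMonoid M] [DecidablePred (· ∈ sharp A)]
    [DecidablePred fun g : G => Wd q g] [DecidablePred fun g : G => Wd r g] {F : G → M}
    (hF : ∀ g x, F (g * x * g⁻¹) = F x) : ∑ g, F g = F 1 + (q * r) • ∑ a with a ∈ sharp A, F a +
      ∑ g with Wd q g, F g + ∑ g with Wd r g, F g := by
  classical
  rw [← D.idx, ← sum_clSupp (A := sharp A)
    (fun g hg a ha => ⟨Bs.conj_mem d hg ha.1, mt conj_eq_one_iff.1 ha.2⟩)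
    (fun g a ha h => Bs.ti d ha.1 ha.2 h.1) hF, show F 1 = ∑ g, if 1 = g then F g else 0 by simp,
    Finset.sum_filter, Finset.sum_filter, Finset.sum_filter,
    ← Finset.sum_add_distrib, ← Finset.sum_add_distrib, ← Finset.sum_add_distrib]
  refine Finset.sum_congr rfl fun g _ => ?_
  simp only [d.gen.mem_clSupp]
  by_cases h1 : 1 = g
  · subst h1; simp [Wd]
  by_cases h2 : Ap A g
  · rcases D.cases d h2 with h | h
    · simp [h1, h2, h, h.not D.qr]
    · simp [h1, h2, h, h.not D.qr.symm]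
  · simp [h1, Ne.symm h1, h2, mt (D.ap_q d) h2, mt (D.ap_r d) h2]

theorem counts : ({g : G | Wd q g}.ncard + 1 = q ^ 2) ∧
    ({g : G | Wd r g}.ncard : ℤ) = q * r * (Nat.card A - 1) + ε * q := by
  classical
  have := Fintype.ofFinite G
  have e : ∀ m, {g : G | Wd m g}.ncard = (Finset.univ.filter fun g : G => Wd m g).card := fun m => by
    rw [← Set.ncard_coe_finset]; simp
  rw [e, e]
  have h1 := D.sum_split d (F := fun _ => (1 : ℤ)) fun _ _ => rfl
  have h2 := D.sum_split d (F := χ.1) fun g x => irr_isClassFunction χ x g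
  have h3 := D.sum_split d (F := fun g => ‖χ.1 g‖ ^ 2) fun g x => by
    rw [irr_isClassFunction χ x g]
  have h4 := sum_sharp A fun _ => (1 : ℤ)
  have h5 := sum_sharp A χ.1
  have h6 : ∑ g, χ.1 g = 0 := by
    have := ip_irr_ne D.ne
    rw [ip_def, mul_eq_zero, or_iff_right (inv_ne_zero card_cast_ne_zero)] at this
    simpa using this
  rw [sum_res_eq_card_mul_mult (irr_isCharacter χ), irr_apply_one, D.dχ] at h5
  rw [h6, eq_sub_of_add_eq h5, irr_apply_one, D.dχ, Finset.sum_eq_zero fun g hg =>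
    D.χ_q d (Finset.mem_filter.1 hg).2, Finset.sum_congr rfl fun g hg =>
    D.χ_r d (Finset.mem_filter.1 hg).2] at h2
  rw [irr_sum_norm_sq, irr_apply_one, D.dχ, Finset.sum_congr
    (s₁ := Finset.univ.filter fun g : G => Wd r g) (g := fun _ => 1) rfl fun g hg => by
    rw [D.χ_r d (Finset.mem_filter.1 hg).2]; rcases D.eps with rfl | rfl <;> simp] at h3
  rw [eq_sub_of_add_eq h4] at h1
  simp only [Finset.sum_const, Finset.card_univ, ← Nat.card_eq_fintype_card, nsmul_eq_mul, mul_one,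
    D.card_G d] at h1 h2 h3
  generalize (Finset.univ.filter fun g : G => Wd q g).card = a at *
  generalize (Finset.univ.filter fun g : G => Wd r g).card = b at *
  generalize mult (res A χ.1) _ = m at *
  have h7 : (0 : ℤ) = q + q * r * (Nat.card A * m - q) + b * -ε := by
    exact_mod_cast (by simpa using h2 : (0 : ℂ) = q + q * r * (Nat.card A * m - q) + b * -ε)
  have h8 : (q : ℤ) ^ 2 + b ≤ 2 * Nat.card A * (q * r) := by
    have a1 : 0 ≤ ∑ a with a ∈ sharp A, ‖χ.1 a‖ ^ 2 := by positivity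
    have a2 : 0 ≤ ∑ g with Wd q g, ‖χ.1 g‖ ^ 2 := by positivity
    have : (q : ℝ) ^ 2 + b ≤ 2 * Nat.card A * (q * r) := by
      have a3 : (0 : ℝ) ≤ (q * r : ℕ) * ∑ a with a ∈ sharp A, ‖χ.1 a‖ ^ 2 := by positivity
      simp only [Complex.norm_natCast] at h3
      push_cast at h3 a3
      linarith
    exact_mod_cast this
  have h9 := D.hq
  have h10 := D.hr
  have h11 := d.four
  push_cast at h1
  generalize Nat.card A = k at *
  have h12 : (b : ℤ) = q * r * (k - 1) + ε * q := by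
    have q0 : (0 : ℤ) < q := by rcases D.eps with rfl | rfl <;> omega
    have b0 : (0 : ℤ) ≤ b := by positivity
    rcases D.eps with rfl | rfl
    · have a1 : (r : ℤ) * (k * m - q) + 1 ≥ 0 := by
        by_contra! h; nlinarith
      have a2 : 1 + r * (k * m - q) + q ≤ (2 : ℤ) * k * r := by
        by_contra! h; nlinarith
      have a3 : (3 : ℤ) ≤ m := by
        by_contra! h
        have : (k : ℤ) * m ≤ k * 2 := by gcongr; omega
        nlinarith
      have a4 : (m : ℤ) ≤ 3 := by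
        by_contra! h
        have : (k : ℤ) * 4 ≤ k * m := by gcongr; omega
        nlinarith
      rw [le_antisymm a4 a3] at h7
      linear_combination h7 - q * r * h9
    · have a1 : (r : ℤ) * (q - k * m) - 1 ≥ 0 := by
        by_contra! h; nlinarith
      have a2 : r * (q - k * m) - 1 + q ≤ (2 : ℤ) * k * r := by
        by_contra! h; nlinarith
      have a3 : (1 : ℤ) ≤ m := by
        by_contra! h
        have : (m : ℤ) = 0 := by omega
        rw [this] at a2
        nlinarith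
      have a4 : (m : ℤ) ≤ 1 := by
        by_contra! h
        have : (k : ℤ) * 2 ≤ k * m := by gcongr; omega
        nlinarith
      rw [le_antisymm a4 a3] at h7
      linear_combination -h7 + q * r * h9
  refine ⟨?_, h12⟩
  zify
  linear_combination -h1 - h12 - q * h9 + 2 * q * h10

theorem dich (h : ∀ g : G, Wd q g → ¬ Re g) :
    ε = -1 ∧ ∀ g : G, Wd r g → Re g ∧ Nat.card 𝐂[g] = r := by
  classical
  have := Fintype.ofFinite G
  choose f hf h1 h2 h3 using clMul_spec d.tt d.t1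
  have h4 := D.sum_split d (F := clMul t t) fun g x => isClassFunction_clMul t t x g
  have h5 : ∑ g, clMul t t g = (q * r : ℕ) ^ 2 := by
    have := congrArg conj (ip_irr_clMul d.tt (irrOne G))
    rw [conj_ip, ip_def, D.idx] at this
    simp only [irrOne_apply, map_one, mul_one, one_pow, div_one, map_div₀, map_pow, map_natCast]
      at this
    rw [div_eq_inv_mul] at this
    exact mul_left_cancel₀ (inv_ne_zero card_cast_ne_zero) this
  have h6 := sum_sharp A fun _ => (1 : ℤ)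
  rw [h5, Finset.sum_congr rfl fun g hg => Bs.clMul_A d (Finset.mem_filter.1 hg).2.1
    (Finset.mem_filter.1 hg).2.2, Finset.sum_eq_zero (s := Finset.univ.filter fun g : G => Wd q g)
    fun g hg => by
      rw [hf, by_contra fun e => h g (Finset.mem_filter.1 hg).2 (h1 g e), Nat.cast_zero]] at h4
  simp only [hf, Finset.sum_const, nsmul_eq_mul, mul_one, Finset.card_univ,
    ← Nat.card_eq_fintype_card] at h4 h6
  have h7 : ((q * r : ℕ) : ℤ) ^ 2 = f 1 + (q * r : ℕ) * ((Finset.univ.filter (· ∈ sharp A)).card *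
      Nat.card A) + 0 + ∑ g with Wd r g, (f g : ℤ) := by exact_mod_cast h4
  have h8 : (f 1 : ℤ) ≤ q * r := by exact_mod_cast D.idx ▸ h3 1 rfl
  have r0 : 0 < r := by
    have := D.hr
    have := d.four
    rcases D.eps with rfl | rfl <;> omega
  have h9 : ∀ g ∈ Finset.univ.filter fun g : G => Wd r g, (f g : ℤ) ≤ r := fun g hg => by
    exact_mod_cast (h2 g).trans (Nat.le_of_dvd r0 (D.cent_r d (Finset.mem_filter.1 hg).2))
  have h10 := (D.counts d).2
  rw [show {g : G | Wd r g}.ncard = (Finset.univ.filter fun g : G => Wd r g).card by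
    rw [← Set.ncard_coe_finset]; simp] at h10
  have h11 := Finset.sum_le_sum h9
  rw [eq_sub_of_add_eq h6] at h7
  have h12 := D.hq
  have h13 := D.hr
  have h14 := d.four
  push_cast at h7
  have h15 : (0 : ℤ) < q * r := by
    have : 0 < q := by rcases D.eps with rfl | rfl <;> omega
    positivity
  obtain rfl : ε = -1 := D.eps.resolve_left fun e => by
    subst e
    rw [Finset.sum_const, nsmul_eq_mul, h10] at h11
    have : (q * r : ℤ) * (q * r) ≤ q * r * (1 + (Nat.card A - 1) * Nat.card A +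
      (r * (Nat.card A - 1) + 1)) := by nlinarith
    have := le_of_mul_le_mul_left this h15
    rw [h12, h13] at this
    nlinarith
  refine ⟨rfl, fun g hg => ?_⟩
  have h16 := (Finset.sum_eq_sum_iff_of_le h9).1 (le_antisymm h11 (by
    rw [Finset.sum_const, nsmul_eq_mul, h10]
    have : (q : ℤ) * r = 1 + (Nat.card A - 1) * Nat.card A + (r * (Nat.card A - 1) - 1) := by
      rw [h12, h13]; ring
    nlinarith)) g (Finset.mem_filter.2 ⟨Finset.mem_univ _, hg⟩)
  have h17 : f g = r := by exact_mod_cast h16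
  exact ⟨h1 g (by omega), le_antisymm (Nat.le_of_dvd r0 (D.cent_r d hg)) (h17 ▸ h2 g)⟩

end BsData

end GW
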