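import Cfsg.Agent.Lib.Gag.Defs
import Cfsg.Agent.Lib.Block.DihedralB

/-!
# No strongly embedded subgroups for dihedral Sylow `2`-subgroups of order at least eight
-/

set_option autoImplicit false
set_option linter.unusedSectionVars false

namespace GW

open Cfsg CT GT BT FT Subgroup
open scoped Pointwise commutatorElement ComplexConjugate

variable {L : Type*} [Group L] [Finite L]

theorem card_dvd_sub_of_const {χ : L → ℂ} (hχ : IsCharacter L χ) {P : Subgroup L} {δ : ℤ}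
    (h : ∀ x ∈ P, x ≠ 1 → χ x = δ) : (Nat.card P : ℤ) ∣ charDegree χ - δ := by
  classical
  have := Fintype.ofFinite P
  obtain ⟨n, hn⟩ := (hχ.res P).exists_nat_ip isCharacter_one
  rw [ip_eq_sum_inv _ isCharacter_one] at hn
  have h1 : ∑ g : P, res P χ g * 1 = ∑ g : P, ((δ : ℂ) + if g = 1 then (charDegree χ : ℂ) - δ else 0) :=
    Finset.sum_congr rfl fun g _ => by
      by_cases e : g = 1
      · rw [if_pos e, e, mul_one, add_sub_cancel]; exact hχ.apply_one
      · rw [if_neg e, mul_one, add_zero]; exact h g g.2 fun e1 => e (Subtype.ext e1)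
  rw [h1, Finset.sum_add_distrib, Finset.sum_ite_eq' Finset.univ (1 : P), if_pos (Finset.mem_univ _),
    Finset.sum_const, Finset.card_univ, ← Nat.card_eq_fintype_card, nsmul_eq_mul,
    inv_mul_eq_iff_eq_mul₀ card_cast_ne_zero] at hn
  refine ⟨n - δ, Int.cast_injective (α := ℂ) ?_⟩
  push_cast
  linear_combination hn

variable {P : Subgroup L} {σ τ J : L} {k : ℕ}

theorem isConj_of_not_mem (D : DihSyl P σ τ J k) (hτ : IsConj J τ) (hστ : IsConj J (σ * τ)) {y : L}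
    (hy : y ∈ P) (h : y ∉ zpowers σ) : IsConj J y := by
  obtain ⟨s, hs, rfl | rfl⟩ := D.exists_conj_of_not_mem hy h
  · have := D.conj_mul_τ hs (one_mem _)
    rw [one_mul, mul_one] at this
    exact hτ.trans (isConj_iff.2 ⟨s, this⟩)
  · exact hστ.trans (isConj_iff.2 ⟨s, D.conj_mul_τ hs (mem_zpowers σ)⟩)

theorem dih_bounds (D : DihSyl P σ τ J k) (hk : 1 ≤ k) (hτ : IsConj J τ) (hστ : IsConj J (σ * τ)) :
    21 * (2 * (Nat.card 𝐂[J] : ℚ) ^ 3 * (1 / (Nat.card (centralizer ({J, τ} : Set L)) : ℚ) +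
        1 / (Nat.card (centralizer ({J, σ * τ} : Set L)) : ℚ)) ^ 2) ≤ 32 * Nat.card L ∧
    32 * (Nat.card L : ℚ) ≤ 45 * (2 * (Nat.card 𝐂[J] : ℚ) ^ 3 *
      (1 / (Nat.card (centralizer ({J, τ} : Set L)) : ℚ) +
        1 / (Nat.card (centralizer ({J, σ * τ} : Set L)) : ℚ)) ^ 2) := by
  classical
  obtain ⟨M, hM⟩ := exists_isPModular Nat.prime_two
  obtain ⟨χ, _, _, _, δ, _, _, hδ, -, -, -, h1, -, -, -, -, -, -, hB, hv, -⟩ :=
    D.exists_struct hM hk (Complex.isPrimitiveRoot_exp (2 ^ (k + 1)) (by positivity))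
  have h2 : ∀ u ∈ zpowers σ, u ≠ 1 → χ.1 u = δ := fun u hu hu1 => by
    obtain ⟨l, hl, rfl⟩ := Finset.mem_image.1 (mem_zpowers_iff_mem_range_orderOf.1 hu)
    exact (hv l (Nat.pos_of_ne_zero fun h => hu1 (by rw [h, pow_zero]))
      (D.ord ▸ Finset.mem_range.1 hl)).1
  obtain ⟨h3, h4⟩ := D.order_formula hM hk hτ hστ ((hB χ).2 (by simp)) h1 hδ h2
  have h5 := card_dvd_sub_of_const (irr_isCharacter χ) (P := P) (δ := δ) fun x hx hx1 => by
    by_cases h : x ∈ zpowers σ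
    · exact h2 x h hx1
    · rw [← (irr_isCharacter χ).isClassFunction.of_isConj (isConj_of_not_mem D hτ hστ hx h)]
      exact h2 J D.J_mem D.J_ne_one
  have h6 : (8 : ℤ) ∣ charDegree χ.1 - δ := dvd_trans (by
    rw [D.card_P]
    exact_mod_cast pow_dvd_pow 2 (show 3 ≤ k + 2 by omega)) h5
  have hc : ∀ K : Subgroup L, (0 : ℚ) < Nat.card K := fun K => by exact_mod_cast Nat.card_pos
  have hF : 0 < 2 * (Nat.card 𝐂[J] : ℚ) ^ 3 * (1 / (Nat.card (centralizer ({J, τ} : Set L)) : ℚ) +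
      1 / (Nat.card (centralizer ({J, σ * τ} : Set L)) : ℚ)) ^ 2 :=
    mul_pos (mul_pos two_pos (pow_pos (hc _) 3))
      (pow_pos (add_pos (one_div_pos.2 (hc _)) (one_div_pos.2 (hc _))) 2)
  have h7 : (Nat.card L : ℚ) * ((charDegree χ.1 : ℚ) - δ) ^ 2 =
      (charDegree χ.1 : ℚ) * ((charDegree χ.1 : ℚ) + δ) * (2 * (Nat.card 𝐂[J] : ℚ) ^ 3 *
      (1 / (Nat.card (centralizer ({J, τ} : Set L)) : ℚ) +
        1 / (Nat.card (centralizer ({J, σ * τ} : Set L)) : ℚ)) ^ 2) := by rw [h3]; ring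
  generalize 2 * (Nat.card 𝐂[J] : ℚ) ^ 3 * (1 / (Nat.card (centralizer ({J, τ} : Set L)) : ℚ) +
      1 / (Nat.card (centralizer ({J, σ * τ} : Set L)) : ℚ)) ^ 2 = F at hF h7 ⊢
  have hp : 0 < charDegree χ.1 := irr_degree_pos χ
  have hN : (0 : ℚ) < Nat.card L := by exact_mod_cast Nat.card_pos
  generalize (Nat.card L : ℚ) = N at hN h7 ⊢
  generalize charDegree χ.1 = x at hp h4 h6 h7
  rcases hδ with rfl | rfl
  · have h8 : x ≠ 1 := by
      rintro rfl
      norm_num at h7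
      exact hF.ne' h7
    have h9 : (9 : ℚ) ≤ x := by exact_mod_cast (show 9 ≤ x by omega)
    push_cast at h7
    have h10 : (0 : ℚ) < (x - 1) ^ 2 := by nlinarith
    constructor
    · refine le_of_mul_le_mul_right ?_ h10
      rw [mul_assoc 32, h7]
      nlinarith [mul_pos hF (show (0 : ℚ) < 11 * x ^ 2 + 74 * x - 21 by nlinarith)]
    · refine le_of_mul_le_mul_right ?_ h10
      rw [mul_assoc 32, h7]
      nlinarith [mul_nonneg hF.le (show (0 : ℚ) ≤ 13 * x ^ 2 - 122 * x + 45 by nlinarith)]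
  · have h9 : (7 : ℚ) ≤ x := by exact_mod_cast (show 7 ≤ x by omega)
    push_cast at h7
    have h10 : (0 : ℚ) < (x - -1) ^ 2 := by nlinarith
    constructor
    · refine le_of_mul_le_mul_right ?_ h10
      rw [mul_assoc 32, h7]
      nlinarith [mul_nonneg hF.le (show (0 : ℚ) ≤ 11 * x ^ 2 - 74 * x - 21 by nlinarith)]
    · refine le_of_mul_le_mul_right ?_ h10
      rw [mul_assoc 32, h7]
      nlinarith [mul_nonneg hF.le (show (0 : ℚ) ≤ 13 * x ^ 2 + 122 * x + 45 by nlinarith)]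

theorem dihSyl_subgroupOf (D : DihSyl P σ τ J k) {M : Subgroup L} (h : P ≤ M) :
    DihSyl (P.subgroupOf M) ⟨σ, h D.σ_mem⟩ ⟨τ, h D.τ_mem⟩ ⟨J, h (D.le D.J_mem)⟩ k := by
  have key : ∀ x : M, x ∈ zpowers (⟨σ, h D.σ_mem⟩ : M) ↔ (x : L) ∈ zpowers σ := fun x =>
    ⟨fun ⟨n, e⟩ => ⟨n, congrArg Subtype.val e⟩, fun ⟨n, e⟩ => ⟨n, Subtype.ext e⟩⟩
  exact ⟨(isSylowIn_subgroupOf_top_iff h).2 (D.syl.of_le h le_top), D.σ_mem, D.τ_mem,
    (Subgroup.orderOf_coe _).symm.trans D.ord, Subtype.ext D.τ_sq, Subtype.ext D.rel,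
    fun x hx => (D.cases x hx).imp (key _).2 (key _).2, fun e => D.not_mem ((key _).1 e),
    Subtype.ext D.J_eq⟩

theorem card_cent_of_le {M : Subgroup L} (s : Set M) (h : centralizer (Subtype.val '' s) ≤ M) :
    Nat.card (centralizer s) = Nat.card (centralizer (Subtype.val '' s)) := by
  rw [← card_subgroupOf_of_le h]
  congr 2
  ext x
  simp only [mem_subgroupOf, mem_centralizer_iff, Set.forall_mem_image, Subtype.ext_iff, coe_mul]

/-- A subgroup containing the centralizer of the central involution and fusing the involutions of a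
dihedral Sylow `2`-subgroup of order at least eight is the whole group. -/
theorem no_se_dih (D : DihSyl P σ τ J k) (hk : 1 ≤ k) {M : Subgroup L} (hC : 𝐂[J] ≤ M)
    (h1 : ∃ m ∈ M, m * J * m⁻¹ = τ) (h2 : ∃ m ∈ M, m * J * m⁻¹ = σ * τ) : M = ⊤ := by
  have hP := D.le_C.trans hC
  obtain ⟨m, hm, e⟩ := h1
  obtain ⟨m', hm', e'⟩ := h2
  have b1 := (dih_bounds D hk (isConj_iff.2 ⟨m, e⟩) (isConj_iff.2 ⟨m', e'⟩)).2
  have b2 := (dih_bounds (dihSyl_subgroupOf D hP) hk (isConj_iff.2 ⟨⟨m, hm⟩, Subtype.ext e⟩)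
    (isConj_iff.2 ⟨⟨m', hm'⟩, Subtype.ext e'⟩)).1
  have c : ∀ t : M, centralizer (Subtype.val '' ({⟨J, hP (D.le D.J_mem)⟩, t} : Set M)) ≤ M := fun t =>
    (Subgroup.centralizer_le (by simp)).trans hC
  rw [card_cent_of_le _ (by simpa using hC), card_cent_of_le _ (c _), card_cent_of_le _ (c _)] at b2
  simp only [Set.image_singleton, Set.image_insert_eq, coe_mul] at b2
  have h3 : (21 * Nat.card L : ℚ) ≤ 45 * Nat.card M := by linarith
  have h4 : 21 * Nat.card L ≤ 45 * Nat.card M := by exact_mod_cast h3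
  have h5 := M.card_mul_index
  have h6 : ¬ 2 ∣ M.index := by simpa using D.syl.not_dvd_relIndex_of_le hP
  have h7 : 0 < Nat.card M := Nat.card_pos
  refine index_eq_one.1 (by_contra fun h8 => ?_)
  have h9 : 3 ≤ M.index := by omega
  nlinarith

end GW
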