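import Cfsg.Agent.Lib.GW.Psl2
import Cfsg.Agent.Lib.Grp.NqDim
import Cfsg.Agent.Lib.Char.SadC

/-!
# Recognition of `PSL(2, q)` from a self-centralizing abelian subgroup of order `q`
-/

set_option autoImplicit false
set_option linter.unusedSectionVars false

namespace GW

open Cfsg GT FT Subgroup OnePoint
open scoped Pointwise commutatorElement

theorem exists_field_of_irr {L V : Type*} [Group L] [CommGroup V] [Finite V]
    [MulDistribMulAction L V] (hc : ∀ (a b : L) (v : V), a • b • v = b • a • v)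
    (hi : ∀ U : Subgroup V, InvS (⊤ : Subgroup L) U → U = ⊥ ∨ U = ⊤) {v : V} (hv : v ≠ 1) :
    ∃ (F : Type) (_ : Field F) (_ : Fintype F) (σ : V ≃ F),
      (∀ x y, σ (x * y) = σ x + σ y) ∧ σ v = 1 ∧ ∀ (e : L) x, σ (e • x) = σ (e • v) * σ x := by
  classical
  haveI : Nontrivial V := ⟨⟨v, 1, hv⟩⟩
  set ρ := Representation.ofMulDistribMulAction L V with hρ
  set K := Subring.centralizer (ρ '' (⊤ : Subgroup L))
  have hK : ∀ {a}, a ∈ K ↔ ∀ g, ρ g * a = a * ρ g := by
    intro a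
    simp [K, Subring.mem_centralizer_iff]
  letI : Field K := (isField_centralizer_image hi).toField
  let ι : L → K := fun e => ⟨ρ e, hK.2 fun g => LinearMap.ext fun x =>
    congrArg Additive.ofMul (hc g e x.toMul)⟩
  have hb : Function.Bijective fun k : K => (k.1 (.ofMul v)).toMul := by
    refine ⟨fun k l e => ?_, fun w => ?_⟩
    · have : (k - l) • Additive.ofMul v = 0 := by rw [sub_smul, sub_eq_zero]; exact e
      exact sub_eq_zero.1 ((smul_eq_zero.1 this).resolve_right hv)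
    · let U : Subgroup V :=
        { carrier := Set.range fun k : K => (k.1 (.ofMul v)).toMul
          mul_mem' := by rintro _ _ ⟨k, rfl⟩ ⟨l, rfl⟩; exact ⟨k + l, rfl⟩
          one_mem' := ⟨0, rfl⟩
          inv_mem' := by rintro _ ⟨k, rfl⟩; exact ⟨-k, rfl⟩ }
      refine ((hi U ?_).resolve_left fun e => hv (e.le ⟨1, rfl⟩)).ge (mem_top w)
      rintro g - _ ⟨k, rfl⟩
      exact ⟨ι g * k, rfl⟩
  let τ := Equiv.ofBijective _ hb
  haveI : Finite K := Finite.of_equiv V τ.symm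
  haveI := Fintype.ofFinite K
  obtain ⟨F, _, _, ⟨φ⟩⟩ := exists_small_field K
  refine ⟨F, inferInstance, inferInstance, τ.symm.trans φ.toEquiv, fun x y => ?_, ?_,
    fun e x => ?_⟩
  · obtain ⟨k, rfl⟩ := τ.surjective x
    obtain ⟨l, rfl⟩ := τ.surjective y
    have : τ.symm (τ k * τ l) = k + l := τ.symm_apply_eq.2 rfl
    simp [this]
  · have : τ.symm v = 1 := τ.symm_apply_eq.2 rfl
    simp [this]
  · obtain ⟨k, rfl⟩ := τ.surjective x
    have h1 : τ.symm (e • v) = ι e := τ.symm_apply_eq.2 rfl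
    have h2 : τ.symm (e • τ k) = ι e * k := τ.symm_apply_eq.2 rfl
    simp [h1, h2]

variable {G : Type*} [Group G] [Finite G]

theorem psl2_of_torus {Q : Subgroup G} (hQ : ∀ y ∈ Q, y ≠ 1 → 𝐂[y] = Q)
    (h3 : 3 < Nat.card Q) (he : 2 * Q.relIndex 𝐍(Q) + 1 = Nat.card Q)
    (hc : ⁅𝐍(Q), 𝐍(Q)⁆ ≤ Q) (hN : 𝐍(Q).index = Nat.card Q + 1) (hperf : commutator G = ⊤) :
    ∃ (F : Type) (_ : Field F) (_ : Fintype F), Fintype.card F = Nat.card Q ∧
      Nonempty (G ≃* Matrix.ProjectiveSpecialLinearGroup (Fin 2) F) := by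
  classical
  have hcomm : ∀ a ∈ Q, ∀ b ∈ Q, a * b = b * a := fun a ha b hb => by
    by_cases h : b = 1
    · simp [h]
    · exact mem_cent1.1 (hQ b hb h ▸ ha)
  letI : CommGroup Q := { (inferInstance : Group Q) with
    mul_comm := fun a b => Subtype.ext (hcomm a a.2 b b.2) }
  have hsm : ∀ (n : 𝐍(Q)) (x : Q), ((n • x : Q) : G) = n * x * (n : G)⁻¹ := fun _ _ => rfl
  have hfix : ∀ (n : 𝐍(Q)) (x : Q), x ≠ 1 → (n • x = x ↔ (n : G) ∈ Q) := fun n x hx => by
    rw [Subtype.ext_iff, hsm, mul_inv_eq_iff_eq_mul, ← mem_cent1,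
      hQ x x.2 fun h => hx (Subtype.ext h)]
  have horb : ∀ x : Q, x ≠ 1 → Nat.card (MulAction.orbit 𝐍(Q) x) = Q.relIndex 𝐍(Q) :=
    fun x hx => by
      rw [Nat.card_coe_set_eq, ← MulAction.index_stabilizer, relIndex]
      congr 1
      ext n
      rw [MulAction.mem_stabilizer_iff, hfix n x hx, mem_subgroupOf]
  obtain ⟨v, hv⟩ : ∃ v : Q, v ≠ 1 := by
    have := Finite.one_lt_card_iff_nontrivial.1 (show 1 < Nat.card Q by omega)
    exact exists_ne 1
  obtain ⟨F, _, _, σ, hadd, hσv, hmul⟩ := exists_field_of_irr (L := 𝐍(Q)) (V := Q)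
    (fun a b x => by
      by_cases hx : x = 1
      · simp [hx]
      rw [← mul_smul, ← mul_smul, ← inv_smul_eq_iff.trans eq_comm, ← mul_smul, hfix _ _ hx]
      have := hc (commutator_mem_commutator (inv_mem b.2) (inv_mem a.2))
      simpa [commutatorElement_def, mul_assoc] using this)
    (fun U hU => by
      refine or_iff_not_imp_left.2 fun h => ?_
      obtain ⟨⟨x, hxU⟩, hx⟩ := ne_bot_iff_exists_ne_one.1 h
      replace hx : x ≠ 1 := fun e => hx (Subtype.ext e)
      have h1 : (insert 1 (MulAction.orbit 𝐍(Q) x)).ncard ≤ (U : Set Q).ncard :=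
        Set.ncard_le_ncard (Set.insert_subset U.one_mem (by
          rintro _ ⟨n, rfl⟩; exact hU n (mem_top n) x hxU))
      rw [Set.ncard_insert_of_notMem (by
        rintro ⟨n, hn⟩; exact hx (by simpa using (eq_inv_smul_iff.2 hn : x = _))),
        ← Nat.card_coe_set_eq, horb x hx, ← Nat.card_coe_set_eq] at h1
      have h2 := U.card_mul_index
      have h4 : U.index ≠ 0 := index_ne_zero_of_finite
      change _ ≤ Nat.card U at h1
      rw [← index_eq_one]
      by_contra h5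
      have : Nat.card U * 2 ≤ Nat.card U * U.index := Nat.mul_le_mul_left _ (by omega)
      omega) hv
  have hq : Fintype.card F = Nat.card Q := by
    rw [← Nat.card_eq_fintype_card, Nat.card_congr σ]
  have hσ1 : σ 1 = 0 := by simpa using hadd 1 1
  have hι : ∀ a b, σ.symm (a + b) = σ.symm a * σ.symm b := fun a b => by
    rw [σ.symm_apply_eq, hadd]; simp
  have hodd : Odd (Fintype.card F) := hq ▸ he ▸ odd_two_mul_add_one _
  have hchar : ringChar F ≠ 2 := fun h => by
    have := FiniteField.even_card_of_char_two h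
    have := Nat.odd_iff.1 hodd
    omega
  refine ⟨F, inferInstance, inferInstance, hq, ?_⟩
  let P : G ⧸ 𝐍(Q) := ((1 : G) : G ⧸ 𝐍(Q))
  have hP : ∀ {g : G}, g • P = P ↔ g ∈ 𝐍(Q) := fun {g} => by
    change ((g * 1 : G) : G ⧸ 𝐍(Q)) = _ ↔ _
    rw [eq_comm, QuotientGroup.eq]; simp
  have hcard : Nat.card (G ⧸ 𝐍(Q)) = Fintype.card F + 1 := by rw [hq, ← hN]; rfl
  have hQP : ∀ u : Q, (u : G) • P = P := fun u => hP.2 (le_normalizer u.2)
  obtain ⟨w, hw⟩ : ∃ w, w ≠ P := by
    have := Finite.one_lt_card_iff_nontrivial.1 (show 1 < Nat.card (G ⧸ 𝐍(Q)) by omega)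
    exact exists_ne P
  have hfree : ∀ u : Q, (u : G) • w = w → u = 1 := fun u hu => by
    by_contra h1
    replace h1 : (u : G) ≠ 1 := fun e => h1 (Subtype.ext e)
    obtain ⟨g, rfl⟩ := MulAction.exists_smul_eq G P w
    have h2 : g⁻¹ * u * g⁻¹⁻¹ ∈ 𝐍(Q) := hP.1 (by rw [inv_inv, mul_smul, mul_smul, hu, inv_smul_smul])
    have h4 : g⁻¹ * u * g⁻¹⁻¹ ∈ Q := mem_of_coprime_orderOf_index (N := Q.subgroupOf 𝐍(Q))
      (x := ⟨_, h2⟩) (by
        rw [← Subgroup.orderOf_coe, orderOf_conj']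
        refine Nat.Coprime.coprime_dvd_left (Q.orderOf_dvd_natCard u.2) ?_
        rw [← he]
        exact (Nat.coprime_mul_right_add_left _ _ _).2 (Nat.coprime_one_left _))
    refine hw (hP.2 (inv_mem_iff.1 (conj_smul_eq_iff_mem_normalizer.1 ?_)))
    rw [← hQ u u.2 h1, conj_smul_centralizer_singleton, hQ _ h4 (mt conj_eq_one_iff.1 h1),
      hQ u u.2 h1]
  let f : OnePoint F → G ⧸ 𝐍(Q) := fun x => x.rec P fun j => (σ.symm j : G) • w
  have hf1 : ∀ j : F, f j ≠ f ∞ := fun j h =>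
    hw (MulAction.injective _ (h.trans (hQP (σ.symm j)).symm))
  have hf : Function.Injective f := by
    intro x y h
    cases x <;> cases y
    · rfl
    · exact (hf1 _ h.symm).elim
    · exact (hf1 _ h).elim
    rename_i i j
    have h1 := hfree ((σ.symm j)⁻¹ * σ.symm i) (by
      rw [coe_mul, coe_inv, mul_smul, inv_smul_eq_iff]; exact h)
    rw [σ.symm.injective (inv_mul_eq_one.1 h1)]
  let e := Equiv.ofBijective f (hf.bijective_of_nat_card_le (by rw [hcard, PF.card_omega]))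
  let _ := e.mulAction G
  have hs : ∀ (g : G) (x y : OnePoint F), g • x = y ↔ g • f x = f y := fun g x y =>
    e.symm_apply_eq
  let c : 𝐍(Q) → F := fun n => σ (n • v)
  have hc0 : ∀ n j, n • σ.symm j = σ.symm (c n * j) := fun n j => by
    rw [σ.eq_symm_apply, hmul, σ.apply_symm_apply]
  have hcm : ∀ n m, c (n * m) = c n * c m := fun n m => by
    change σ _ = _
    rw [mul_smul, hmul]
  have hc1 : ∀ n, c n ^ Q.relIndex 𝐍(Q) = 1 := fun n => by
    have h1 : ∀ k, c (n ^ k) = c n ^ k := fun k => by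
      induction k with
      | zero => simp [c, hσv]
      | succ k ih => rw [pow_succ, pow_succ, hcm, ih]
    rw [← h1]
    change σ _ = _
    rw [relIndex, (hfix _ v hv).2 (mem_subgroupOf.1 ((Q.subgroupOf 𝐍(Q)).pow_index_mem n)), hσv]
  have hpos : 0 < Q.relIndex 𝐍(Q) := by omega
  have hp2 : Fintype.card F / 2 = Q.relIndex 𝐍(Q) := by omega
  have hact : ∀ n : 𝐍(Q), ∃ b : F, (n : G) • w = (σ.symm b : G) • w ∧
        ∀ x : F, (n : G) • (x : OnePoint F) = (c n * x + b : F) := by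
    intro n
    obtain ⟨x, hx⟩ := e.surjective ((n : G) • w)
    cases x with
    | infty => exact (hw (MulAction.injective (n : G) (hx.symm.trans (hP.2 n.2).symm))).elim
    | coe b =>
      refine ⟨b, hx.symm, fun x => (hs _ _ _).2 ?_⟩
      change (n : G) • (σ.symm x : G) • w = (σ.symm (c n * x + b) : G) • w
      rw [hι, coe_mul, mul_smul, ← hc0, hsm, show (σ.symm b : G) • w = (n : G) • w from hx,
        ← mul_smul, ← mul_smul, inv_mul_cancel_right]
  refine PF.nonempty_mulEquiv ⟨hq ▸ h3, hodd, fun g hg => ?_, fun g hg => ?_, fun a b ha => ?_, ?_,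
    hperf, ?_⟩
  · have hn := hP.1 ((hs _ _ _).1 (hg ∞))
    obtain ⟨b, hb, h⟩ := hact ⟨g, hn⟩
    have h0 := h 0
    have h1 := h 1
    rw [hg, coe_eq_coe] at h0 h1
    have h2 : g ∈ Q := (hfix ⟨g, hn⟩ v hv).1 (σ.injective (by
      rw [hσv]; linear_combination h0 - h1))
    have h4 : g • (σ.symm 0 : G) • w = (σ.symm 0 : G) • w := (hs _ _ _).1 (hg (0 : F))
    rw [← hσ1, σ.symm_apply_apply, coe_one, one_smul] at h4
    exact congrArg Subtype.val (hfree ⟨g, h2⟩ h4)
  · have hn := hP.1 ((hs _ _ _).1 hg)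
    obtain ⟨b, -, h⟩ := hact ⟨g, hn⟩
    have h1 := hc1 ⟨g, hn⟩
    have h2 : c ⟨g, hn⟩ ≠ 0 := fun h => by
      rw [h, zero_pow hpos.ne'] at h1
      exact zero_ne_one h1
    obtain ⟨a, ha⟩ := (FiniteField.isSquare_iff hchar h2).2 (hp2 ▸ h1)
    exact ⟨a, b, left_ne_zero_of_mul (ha ▸ h2), fun x => by rw [h, ha, sq]⟩
  · have h1 : (σ '' MulAction.orbit 𝐍(Q) v) =
        (Polynomial.nthRootsFinset (Q.relIndex 𝐍(Q)) (1 : F) : Set F) := by
      refine Set.eq_of_subset_of_ncard_le ?_ ?_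
      · rintro _ ⟨_, ⟨n, rfl⟩, rfl⟩
        exact (Polynomial.mem_nthRootsFinset hpos _).2 (hc1 n)
      rw [Set.ncard_image_of_injective _ σ.injective, ← Nat.card_coe_set_eq (MulAction.orbit _ _),
        horb v hv, Set.ncard_coe_finset, Polynomial.nthRootsFinset_def]
      exact (Multiset.toFinset_card_le _).trans (Polynomial.card_nthRoots _ _)
    obtain ⟨_, ⟨t, rfl⟩, h2⟩ := h1.ge ((Polynomial.mem_nthRootsFinset hpos _).2 (hp2 ▸
        (FiniteField.isSquare_iff hchar (pow_ne_zero 2 ha)).1 (IsSquare.sq a)))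
    obtain ⟨b', -, h⟩ := hact t
    refine ⟨σ.symm (b - b') * t, (hs _ _ _).2 ?_, fun x => ?_⟩
    · exact hP.2 (mul_mem (le_normalizer (σ.symm (b - b')).2) t.2)
    · rw [mul_smul, h, hs, ← h2]
      change (σ.symm _ : G) • (σ.symm _ : G) • w = (σ.symm _ : G) • w
      rw [← mul_smul, ← coe_mul, ← hι]
      congr 3
      simp only [c]
      ring
  · obtain ⟨g, hg⟩ := MulAction.exists_smul_eq G P w
    exact ⟨g, fun h => hw (hg.symm.trans ((hs _ _ _).1 h))⟩
  · rw [← 𝐍(Q).card_mul_index, ← card_mul_relIndex (le_normalizer (H := Q)), hN, hq,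
      show Nat.card Q - 1 = 2 * Q.relIndex 𝐍(Q) by omega]
    ring

end GW
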