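import Cfsg.Agent.Lib.GW.BSW2
import Cfsg.Agent.Lib.GW.Zas
import Cfsg.Agent.Lib.Gag.Sig
import Cfsg.Agent.Lib.GW.NoSE
import Cfsg.Agent.Lib.Grp.TwoCover
import Cfsg.Agent.Lib.Char.Burnside

/-!
# The theorem of Brauer, Suzuki and Wall
-/

set_option autoImplicit false
set_option linter.unusedSectionVars false

namespace GW

open Cfsg CT GT BT FT SAD Subgroup
open scoped Pointwise commutatorElement

variable {G : Type*} [Group G] [Finite G]
variable {A : Subgroup G} {t s : G} {q r : ℕ} {ε : ℤ} {χ ψ : IrrCharacter G}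

theorem isPGroup_of_le_Op' {p : ℕ} [hp : Fact p.Prime] {J M : Subgroup G}
    (h : ∀ (l : ℕ) [Fact l.Prime], l ≠ p → J ≤ Op' l M) : IsPGroup p J :=
  isPGroup_iff_isPiNat.2 fun l hl hd => by_contra fun e =>
    haveI := Fact.mk hl
    not_dvd_card_Op' l M (hd.trans (card_dvd_of_le (h l e)))

theorem Bs.frob (d : Dih A t s) {y : G} (hy : Ap A y) (hr : Re y) : ∃ E : Subgroup G,
    Sdp 𝐂[y] E 𝐍(𝐂[y]) ∧ IsMulCommutative E ∧ Nat.card E ∣ Nat.card A ∧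
      Nat.card E ∣ Nat.card 𝐂[y] - 1 ∧ 𝐂[y].relIndex 𝐍(𝐂[y]) = Nat.card E := by
  obtain ⟨E, u, hf, hc, hu, huu, hu1, hE⟩ := d.gen.frob hy hr
  have hne : 𝐂[y] ≠ ⊥ := fun e => hy.1 (mem_bot.1 (e ▸ mem_cent1.2 rfl))
  have uniq : ∀ x ∈ E, x * x = 1 → x = 1 ∨ x = u := fun x hx e => or_iff_not_imp_left.2 fun h1 =>
    hf.involution_unique hne hx h1 (by rw [pow_two, e]) hu hu1 (by rw [pow_two, huu])
  obtain ⟨B, r, d', hB⟩ := d.exists_dih huu hu1
  have hEB : E ≤ B := fun x hx => by_contra fun hxB =>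
    (uniq x hx (d'.out (hE hx) hxB)).elim (fun e => hxB (e ▸ one_mem _)) fun e => hxB (e ▸ d'.tA)
  refine ⟨E, ⟨hf.norm, hf.disjoint, eq_of_le_of_card_ge (sup_le le_normalizer hf.norm) ?_⟩,
    isMulCommutative_iff_forall.2 fun a ha b hb =>
      isMulCommutative_iff_forall.1 d'.comm a (hEB ha) b (hEB hb),
    hB ▸ card_dvd_of_le hEB, hf.card_dvd_sub_one, ?_⟩
  · rw [hc, sup_comm, card_sup_of_disjoint_of_le_normalizer hf.norm hf.disjoint.symm]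
  · refine Nat.eq_of_mul_eq_mul_left (Nat.card_pos (α := 𝐂[y])) ?_
    rw [card_mul_relIndex le_normalizer, hc, mul_comm]

namespace BsData
variable (D : BsData A t q r ε χ ψ) (d : Dih A t s)
include D d

omit d in
theorem sq_eq : 2 * (2 * Nat.card A * r) + 1 = q ^ 2 := by
  have h1 := D.hq
  have h2 := D.hr
  zify
  rw [h1, h2]
  rcases D.eps with rfl | rfl <;> ring

theorem six_lt : 6 < q := by
  have h1 := D.hq
  have := d.four
  rcases D.eps with rfl | rfl <;> omega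

theorem class_sub {g : G} (h : Wd q g) :
    {v : G | ∃ x ∈ (⊤ : Subgroup G), x * g * x⁻¹ = v} ⊆ {g : G | Wd q g} := by
  rintro _ ⟨x, -, rfl⟩
  exact h.conj x

theorem card_cent {g : G} (h : Wd q g) : Nat.card 𝐂[g] = q ∧ 𝐂[g].index = 2 * Nat.card A * r := by
  obtain ⟨j, hj⟩ := D.cent_q d h
  have h1 := Set.ncard_le_ncard (D.class_sub d h)
  rw [ncard_conj_eq_relIndex, relIndex_top_right] at h1
  have h2 := (D.counts d).1
  have h3 := D.sq_eq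
  have h4 : 𝐂[g].index = 2 * Nat.card A * r * j := by
    refine Nat.eq_of_mul_eq_mul_left (Nat.card_pos (α := 𝐂[g])) ?_
    rw [card_mul_index, D.card_G d]
    nth_rw 1 [hj]
    ring
  have h5 := D.six_lt d
  have h6 : j ≠ 2 := by
    rintro rfl
    have := Nat.eq_one_of_dvd_coprimes (D.cop d).coprime_mul_right (Dvd.intro_left _ hj.symm)
      (dvd_mul_right 2 _)
    omega
  have h7 : j ≠ 0 := by rintro rfl; omega
  have h8 : ¬ 3 ≤ j := fun h => by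
    have := Nat.mul_le_mul_left (2 * Nat.card A * r) h
    have : 0 < 2 * Nat.card A * r := by nlinarith
    omega
  obtain rfl : j = 1 := by omega
  exact ⟨by omega, by omega⟩

theorem exists_prime : ∃ p a : ℕ, p.Prime ∧ q = p ^ a := by
  have h0 := D.six_lt d
  obtain ⟨p, hp, hd⟩ := Nat.exists_prime_and_dvd (show q ≠ 1 by omega)
  refine ⟨p, _, hp, Nat.eq_prime_pow_of_unique_prime_dvd (by omega) fun {l} hl hlq => ?_⟩
  by_contra hne
  obtain ⟨y, -, hy⟩ := exists_orderOf_eq (B := (⊤ : Subgroup G)) hp (by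
    rw [card_top, D.card_G d]; exact (hd.mul_right _).mul_left _)
  have w : ∀ {x : G} {m : ℕ}, orderOf x = m → 1 < m → m ∣ q → Wd q x := fun e h1 h2 =>
    ⟨fun e' => by rw [e', orderOf_one] at e; omega, e ▸ h2⟩
  have wy := w hy hp.one_lt hd
  obtain ⟨b, hb, ho⟩ := exists_orderOf_eq (B := 𝐂[y]) hl ((D.card_cent d wy).1.symm ▸ hlq)
  have hc := (Nat.coprime_primes hl hp).2 hne
  have h4 := (show Commute b y from mem_cent1.1 hb).orderOf_mul_eq_mul_orderOf_of_coprime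
    (by rwa [ho, hy])
  rw [ho, hy] at h4
  have wb := w ho hl.one_lt hlq
  have h5 := Nat.mul_le_mul hl.two_le (le_refl p)
  have h6 := Nat.mul_le_mul (le_refl l) hp.two_le
  have := hp.two_le
  have := hl.two_le
  have wc := w h4 (by omega) (hc.mul_dvd_of_dvd_of_dvd hlq hd)
  have dj : ∀ {x z : G}, orderOf x ≠ orderOf z →
      Disjoint {v : G | ∃ g ∈ (⊤ : Subgroup G), g * x * g⁻¹ = v}
        {v : G | ∃ g ∈ (⊤ : Subgroup G), g * z * g⁻¹ = v} := fun h =>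
    Set.disjoint_left.2 (by
      rintro _ ⟨g, -, rfl⟩ ⟨g', -, e⟩
      exact h (by rw [← orderOf_conj' _ g, ← e, orderOf_conj']))
  have h7 := Set.ncard_le_ncard (Set.union_subset (Set.union_subset (D.class_sub d wy)
    (D.class_sub d wb)) (D.class_sub d wc))
  rw [Set.ncard_union_eq (Set.disjoint_union_left.2 ⟨dj (by omega), dj (by omega)⟩),
    Set.ncard_union_eq (dj (by rw [hy, ho]; exact Ne.symm hne))] at h7
  simp only [ncard_conj_eq_relIndex, relIndex_top_right, (D.card_cent d wy).2, (D.card_cent d wb).2,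
    (D.card_cent d wc).2] at h7
  have h8 := (D.counts d).1
  have h9 := D.sq_eq
  nlinarith

section Prime
variable {p a : ℕ} [hp : Fact p.Prime] (hq : q = p ^ a)
include hq

theorem p_dvd : p ∣ q := by
  have := D.six_lt d
  rw [hq] at this ⊢
  exact dvd_pow_self p (by rintro rfl; simp at this)

theorem not_dvd : ¬ p ∣ 2 * Nat.card A * r := fun h => hp.out.one_lt.ne'
  (Nat.eq_one_of_dvd_coprimes ((D.cop d).coprime_mul_right.mul_right D.qr) (D.p_dvd d hq) h)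

theorem wd_iff {g : G} : Wd q g ↔ g ≠ 1 ∧ IsPElt p g := by
  refine and_congr_right fun _ => ⟨fun h => ?_, fun ⟨n, hn⟩ => ?_⟩
  · obtain ⟨i, -, hi⟩ := (Nat.dvd_prime_pow hp.out).1 (hq ▸ h)
    exact ⟨i, hi⟩
  · refine Nat.Coprime.dvd_of_dvd_mul_left (m := 2 * Nat.card A * r) (hn ▸
      ((hp.out.coprime_iff_not_dvd.2 (D.not_dvd d hq)).pow_left n)) ?_
    rw [mul_assoc, mul_comm r, ← D.card_G d]
    exact orderOf_dvd_natCard g

theorem sylow {g : G} (h : Wd q g) : IsSylowIn p 𝐂[g] ⊤ :=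
  ⟨le_top, IsPGroup.of_card ((D.card_cent d h).1.trans hq), by
    rw [relIndex_top_right, (D.card_cent d h).2]; exact D.not_dvd d hq⟩

variable (hn : ∀ g : G, Wd q g → ¬ Re g)
include hn

theorem tor {z : G} (h1 : z ≠ 1) (h2 : ¬ 2 ∣ orderOf z) (h3 : ¬ Wd q z) :
    IsMulCommutative 𝐂[z] ∧ ∀ g ∈ 𝐍(𝐂[z]), ¬ 2 ∣ orderOf g → g ∈ 𝐂[z] := by
  by_cases h : Ap A z
  · obtain ⟨rfl, h4⟩ := D.dich d hn
    obtain ⟨h5, h6⟩ := h4 z ((D.cases d h).resolve_left h3)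
    refine ⟨d.gen.re_comm h5 h, fun g hg ho => ?_⟩
    obtain ⟨E, -, -, h7, h8, h9⟩ := Bs.frob d h h5
    have h10 : Nat.card E ∣ 2 := by
      have := D.hr
      have := d.four
      rw [show 2 = Nat.card A - (Nat.card 𝐂[z] - 1) by omega]
      exact Nat.dvd_sub h7 h8
    exact mem_of_coprime_orderOf_index (N := 𝐂[z].subgroupOf 𝐍(𝐂[z])) (x := ⟨g, hg⟩) (by
      rw [← Subgroup.orderOf_coe]
      exact ((Nat.prime_two.coprime_iff_not_dvd.2 ho).symm).coprime_dvd_right (h9.dvd.trans h10))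
  · obtain ⟨x, hx, y, -, rfl⟩ := d.gen.mem_clSupp.2 ⟨h1, h⟩
    have d' := d.conj_dih y
    have h4 := conj_mem_conj_smul (g := y).2 hx.1
    have h5 := d'.cent _ h4 h1 fun e => h2 (by
      rw [e, orderOf_eq_prime (by rw [pow_two, d'.tt]) d'.t1])
    rw [h5]
    refine ⟨d'.comm, fun g hg ho => by_contra fun hA => hA ?_⟩
    rw [eq_one_of_odd (d'.out (Bs.ti d' h4 h1 (conj_mem_of_mem_normalizer hg h4)) hA) ho]
    exact one_mem _

theorem cent_of_norm {l : ℕ} [hl : Fact l.Prime] (h : l ≠ p) (h2 : l ≠ 2) {R : Subgroup G}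
    (hR : IsPGroup l R) : IsMulCommutative R ∧ ∀ g ∈ 𝐍(R), ¬ 2 ∣ orderOf g → g ∈ 𝐂(R) := by
  by_cases h0 : R = ⊥
  · subst h0
    exact ⟨inferInstance, fun g _ _ x hx => by rw [mem_bot.1 hx, one_mul, mul_one]⟩
  obtain ⟨⟨z, hz⟩, hz1⟩ := ne_bot_iff_exists_ne_one.1 (inf_centralizer_ne_bot_of_isPGroup hR hR h0
    le_normalizer)
  replace hz1 : z ≠ 1 := fun e => hz1 (Subtype.ext e)
  have hzl := isPElt_of_mem hR hz.1
  obtain ⟨h3, h4⟩ := D.tor d hq hn hz1 (fun e => h2 ((Nat.prime_dvd_prime_iff_eq Nat.prime_two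
    hl.out).1 (Nat.prime_two.dvd_of_dvd_pow (hzl.choose_spec ▸ e))).symm) fun e =>
      h ((Nat.prime_dvd_prime_iff_eq hl.out hp.out).1 (hl.out.dvd_of_dvd_pow
        (hq ▸ (hzl.dvd_orderOf hz1).trans e.2)))
  have h5 : R ≤ 𝐂[z] := le_cent1_iff.2 hz.2
  have h6 : 𝐂(R) = 𝐂[z] := le_antisymm (cent_le_cent1 hz.1)
    ((comm_iff_le_cent.1 h3).trans (centralizer_le h5))
  refine ⟨isMulCommutative_iff_forall.2 fun a ha b hb =>
    isMulCommutative_iff_forall.1 h3 a (h5 ha) b (h5 hb), fun g hg ho => ?_⟩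
  rw [h6]
  exact h4 g (h6 ▸ normalizer_le_normalizer_centralizer R hg) ho

theorem npc {M : Subgroup G} (hM : ¬ 2 ∣ Nat.card M) {l : ℕ} [hl : Fact l.Prime] (h : l ≠ p) :
    IsPiHallOf {l}ᶜ (Op' l M) M ∧ ⁅M, M⁆ ≤ Op' l M := by
  obtain ⟨P, hP⟩ := exists_isSylowIn (p := l) M
  have key : HasNormalPComplement l M ∧ IsMulCommutative P := by
    by_cases h2 : l = 2
    · subst h2
      rw [hP.eq_bot_iff.2 hM]
      exact ⟨hasNormalPComplement_of_not_dvd hM, inferInstance⟩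
    refine ⟨hP.hasNormalPComplement_of_forall_le fun R hR g hg hn' _ x hx => ?_,
      (D.cent_of_norm d hq hn h h2 hP.isPGroup).1⟩
    rw [mul_inv_eq_iff_eq_mul]
    exact ((D.cent_of_norm d hq hn h h2 (hP.isPGroup.to_le hR)).2 g (mem_normalizer_of_conj_mem hn')
      (fun e => hM (e.trans (M.orderOf_dvd_natCard hg))) x hx).symm
  have := key.2
  exact ⟨hall_Op'_iff.2 key.1, (sdp_Op'_of_hall (hall_Op'_iff.2 key.1) hP).der_le⟩

theorem odd_norm {R : Subgroup G} (hR : IsPGroup p R) (h0 : R ≠ ⊥) : ¬ 2 ∣ Nat.card 𝐍(R) := fun h => by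
  obtain ⟨u, hu, ho⟩ := exists_orderOf_eq Nat.prime_two h
  obtain ⟨⟨y, hy⟩, hy1⟩ := ne_bot_iff_exists_ne_one.1 h0
  obtain ⟨n, hn'⟩ := hR.exists_card_eq
  have h1 : u * u = 1 := by rw [← pow_two, ← ho, pow_orderOf_eq_one]
  have h2 : u ≠ 1 := fun e => by simp [e] at ho
  exact hn y ((D.wd_iff d hq).2 ⟨fun e => hy1 (Subtype.ext e), isPElt_of_mem hR hy⟩)
    ⟨u, h1, h2, d.gen.inv_of_norm (hn' ▸ (hp.out.coprime_iff_not_dvd.2 fun e =>
      D.not_dvd d hq ((e.mul_left 2).mul_right r)).pow_left n) h1 h2 hu hy⟩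

theorem cent_eq {y : G} (hy : Wd q y) (m : ℕ) : ∀ b ∈ 𝐂[y], b ≠ 1 →
    q - Nat.card ↥(𝐂[y] ⊓ 𝐂[b]) = m → 𝐂[b] = 𝐂[y] := by
  induction m using Nat.strong_induction_on with
  | _ m ih =>
  intro b hb b1 hm
  have hQ := D.sylow d hq hy
  have wb : Wd q b := (D.wd_iff d hq).2 ⟨b1, isPElt_of_mem hQ.isPGroup hb⟩
  have hB := D.sylow d hq wb
  by_contra hne
  have hR := hQ.isPGroup.to_le (inf_le_left : 𝐂[y] ⊓ 𝐂[b] ≤ _)
  have hbR : b ∈ 𝐂[y] ⊓ 𝐂[b] := ⟨hb, mem_cent1.2 rfl⟩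
  have hyR : y ∈ 𝐂[y] ⊓ 𝐂[b] := ⟨mem_cent1.2 rfl, mem_cent1_comm.1 hb⟩
  have h0 : 𝐂[y] ⊓ 𝐂[b] ≠ ⊥ := fun e => b1 (mem_bot.1 (e ▸ hbR))
  have l1 := lt_inf_normalizer_of_lt hQ.isPGroup (lt_of_le_of_ne
    (inf_le_left : 𝐂[y] ⊓ 𝐂[b] ≤ _) fun e => hne (hQ.eq_of_le hB.isPGroup le_top (inf_eq_left.1 e)))
  have l2 := lt_inf_normalizer_of_lt hB.isPGroup (lt_of_le_of_ne
    (inf_le_right : 𝐂[y] ⊓ 𝐂[b] ≤ _) fun e =>
      hne (hB.eq_of_le hQ.isPGroup le_top (inf_eq_right.1 e)).symm)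
  generalize hD : 𝐂[y] ⊓ 𝐂[b] = R at *
  have hJ : IsPGroup p ↥(𝐂[y] ⊓ 𝐍(R) ⊔ 𝐂[b] ⊓ 𝐍(R)) := isPGroup_of_le_Op' (M := 𝐍(R))
    fun l _ hl => by
      have key : ∀ {P}, IsSylowIn p P ⊤ → P ⊓ 𝐍(R) ≤ Op' l 𝐍(R) := fun hP x hx =>
        mem_Op'_of_hall (D.npc d hq hn (D.odd_norm d hq hn hR h0) hl).1 hx.2 fun e => by
          obtain ⟨n, hn'⟩ := isPElt_of_mem hP.isPGroup hx.1
          exact hl ((Nat.prime_dvd_prime_iff_eq Fact.out hp.out).1
            ((Fact.out : l.Prime).dvd_of_dvd_pow (hn' ▸ e)))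
      exact sup_le (key hQ) (key hB)
  obtain ⟨⟨z, hz⟩, hz1⟩ := ne_bot_iff_exists_ne_one.1 (inf_centralizer_ne_bot_of_isPGroup hJ hJ
    (fun e => h0 (eq_bot_iff.2 (e ▸ l1.le.trans le_sup_left))) le_normalizer)
  have h1 := le_cent1_iff.2 hz.2
  have h2 : z ∈ 𝐂[y] := mem_cent1_comm.1 (h1 (mem_sup_left (l1.le hyR)))
  have h3 : R < 𝐂[y] ⊓ 𝐂[z] := l1.trans_le (le_inf inf_le_left (le_sup_left.trans h1))
  have h4 := card_lt_of_lt h3
  have h5 : Nat.card ↥(𝐂[y] ⊓ 𝐂[z]) ≤ q :=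
    (D.card_cent d hy).1 ▸ card_le_of_le inf_le_left
  have h6 := ih _ (by omega) z h2 (fun e => hz1 (Subtype.ext e)) rfl
  have h7 := le_inf ((le_sup_right.trans h1).trans h6.le) (inf_le_left : 𝐂[b] ⊓ 𝐍(R) ≤ _)
  exact l2.not_ge (h7.trans hD.le)

end Prime

theorem psl (hperf : commutator G = ⊤) : ∃ (F : Type) (_ : Field F) (_ : Fintype F),
    Fintype.card F = q ∧ Nonempty (G ≃* Matrix.ProjectiveSpecialLinearGroup (Fin 2) F) := by
  obtain ⟨p, a, hp, hq⟩ := D.exists_prime d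
  haveI := Fact.mk hp
  obtain ⟨y, hy, h1, h2⟩ : ∃ y : G, Wd q y ∧ (∀ b ∈ 𝐂[y], b ≠ 1 → 𝐂[b] = 𝐂[y]) ∧
      ⁅𝐍(𝐂[y]), 𝐍(𝐂[y])⁆ ≤ 𝐂[y] := by
    by_cases hn : ∀ g : G, Wd q g → ¬ Re g
    · obtain ⟨y, -, hy⟩ := exists_orderOf_eq (B := (⊤ : Subgroup G)) hp (by
        rw [card_top, D.card_G d]; exact ((D.p_dvd d hq).mul_right _).mul_left _)
      have wy : Wd q y := ⟨fun e => hp.one_lt.ne (by rw [← hy, e, orderOf_one]), hy ▸ D.p_dvd d hq⟩
      have hQ := D.sylow d hq wy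
      exact ⟨y, wy, fun b hb b1 => D.cent_eq d hq hn wy _ b hb b1 rfl, hQ.le_of_le_normalizer
        (isPGroup_of_le_Op' fun l _ hl => (D.npc d hq hn (D.odd_norm d hq hn hQ.isPGroup
          fun e => wy.1 (mem_bot.1 (e ▸ mem_cent1.2 rfl))) hl).2) le_top (der_le _)⟩
    · push Not at hn
      obtain ⟨y, hy, hr⟩ := hn
      obtain ⟨E, hE, _, -⟩ := Bs.frob d (D.ap_q d hy) hr
      exact ⟨y, hy, fun b hb b1 => d.gen.re_cc hr (D.ap_q d hy) hb b1, hE.der_le⟩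
  have hQ := D.sylow d hq hy
  have hc := (D.card_cent d hy).1
  have h3 : clSupp (sharp 𝐂[y]) ⊤ = {g : G | Wd q g} := by
    ext z
    constructor
    · rintro ⟨b, hb, g, -, rfl⟩
      exact Wd.conj ⟨hb.2, hc ▸ Subgroup.orderOf_dvd_natCard _ hb.1⟩ g
    · intro hz
      obtain ⟨g, -, hg⟩ := hQ.exists_conj_mem ((D.wd_iff d hq).1 hz).2 (mem_top z)
      exact ⟨_, ⟨hg, mt conj_eq_one_iff.1 hz.1⟩, g⁻¹, mem_top _, by group⟩
  have h4 := SAD.ncard_clSupp (A := sharp 𝐂[y]) (L := 𝐍(𝐂[y])) (fun g hg a ha =>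
    ⟨conj_mem_of_mem_normalizer hg ha.1, mt conj_eq_one_iff.1 ha.2⟩)
    fun g a ha hga => conj_smul_eq_iff_mem_normalizer.1 (by
      rw [← h1 a ha.1 ha.2, conj_smul_centralizer_singleton, h1 _ hga.1 hga.2, h1 a ha.1 ha.2])
  have h5 := ncard_sharp_add_one 𝐂[y]
  have h6 := (D.counts d).1
  have h7 := D.six_lt d
  rw [h3] at h4
  rw [hc] at h5
  have h8 : 𝐍(𝐂[y]).index = q + 1 := by
    refine Nat.eq_of_mul_eq_mul_left (show 0 < (sharp 𝐂[y]).ncard by omega) ?_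
    rw [← h4]
    nlinarith
  have h9 := relIndex_mul_index (le_normalizer (H := 𝐂[y]))
  rw [(D.card_cent d hy).2, h8] at h9
  have h10 := D.sq_eq
  rw [← hc]
  refine psl2_of_torus h1 (by omega) ?_ h2 (by rw [hc, h8]) hperf
  rw [hc]
  refine Nat.eq_of_mul_eq_mul_left (show 0 < q + 1 by omega) ?_
  nlinarith

end BsData

/-- The theorem of Brauer, Suzuki and Wall. -/
theorem bsw (hperf : commutator G = ⊤) (d : Dih A t s) :
    ∃ (F : Type) (_ : Field F) (_ : Fintype F), Odd (Fintype.card F) ∧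
      (Fintype.card F = 2 * Nat.card A + 1 ∨ Fintype.card F + 1 = 2 * Nat.card A) ∧
      Nonempty (G ≃* Matrix.ProjectiveSpecialLinearGroup (Fin 2) F) := by
  obtain ⟨q, r, ε, χ, ψ, D⟩ := Bs.exists_data d
  obtain ⟨F, _, _, h, e⟩ := D.psl d hperf
  have h1 := D.hq
  refine ⟨F, inferInstance, inferInstance, Nat.odd_iff.2 ?_, ?_, e⟩ <;>
    rcases D.eps with rfl | rfl <;> omega

theorem card_eq_sixty [IsSimpleGroup G] (hns : ¬ Group.IsSolvable G) (tt : t * t = 1) (t1 : t ≠ 1)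
    (conj : ∀ u : G, u * u = 1 → u ≠ 1 → IsConj t u) (h4 : Nat.card 𝐂[t] = 4)
    (hs : ∀ u ∈ 𝐂[t], u * u = 1) : Nat.card G = 60 := by
  have hp : IsPGroup 2 𝐂[t] := IsPGroup.of_card (n := 2) h4
  obtain ⟨P, hP, hle⟩ := exists_isSylowIn_ge hp le_top
  have ht : t ∈ 𝐂[t] := mem_cent1.2 rfl
  obtain ⟨⟨z, hz⟩, hz1⟩ := ne_bot_iff_exists_ne_one.1 (inf_centralizer_ne_bot_of_isPGroup
    hP.isPGroup hP.isPGroup (fun e => t1 (mem_bot.1 (e ▸ hle ht))) le_normalizer)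
  obtain ⟨g, hg⟩ := isConj_iff.1 (conj z (hs z (cent_le_cent1 (hle ht) hz.2))
    fun e => hz1 (Subtype.ext e))
  have h1 := card_le_of_le (le_cent1_iff.2 hz.2)
  rw [← hg, ← conj_smul_centralizer_singleton, card_conj_smul] at h1
  have hV := hP.of_card_ge hp le_top h1
  obtain ⟨h2, h3⟩ := (GAG.sigma_le hV h4 ht t1 tt fun v hv h => conj v (hs v hv) h).2
    (GAG.commutator_eq_top_of_simple hns)
  have h5 : 𝐂(𝐂[t]) = 𝐂[t] := le_antisymm (cent_le_cent1 ht) (comm_iff_le_cent.1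
    (isMulCommutative_of_conj_eq_inv (N := 𝐂[t]) (x := 1) fun b hb => by
      rw [one_mul, inv_one, mul_one, inv_eq_of_mul_eq_one_right (hs b hb)]))
  rw [h5, h4] at h2 h3
  have h6 := 𝐂[t].card_mul_index
  have h7 := hV.not_dvd
  rw [relIndex_top_right] at h7
  rw [h4] at h6
  have key : ∀ p b : ℕ, p.Prime → 𝐂[t].index ≠ p ^ b := fun p b hp e =>
    hns (isSolvable_of_card_eq_pow_mul_pow Nat.prime_two hp (a := 2) (by rw [← h6, e]; rfl))
  have := key 5 1 (by norm_num)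
  have := key 7 1 (by norm_num)
  have := key 3 2 (by norm_num)
  have := key 11 1 (by norm_num)
  have := key 13 1 (by norm_num)
  omega

/-- Brauer–Suzuki–Wall: `C(t) = A ⟨s⟩` is generalized dihedral and contains `C(y)`, `y ∈ A#`. -/
theorem bsw_gen [IsSimpleGroup G] (hns : ¬ Group.IsSolvable G) (tt : t * t = 1) (t1 : t ≠ 1)
    (conj : ∀ u : G, u * u = 1 → u ≠ 1 → IsConj t u) (comm : IsMulCommutative A) (tA : t ∈ A)
    (uniq : ∀ u ∈ A, u * u = 1 → u = 1 ∨ u = t) (index : A.relIndex 𝐂[t] = 2) (sC : s ∈ 𝐂[t])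
    (sA : s ∉ A) (ss : s * s = 1) (inv : ∀ a ∈ A, s * a * s⁻¹ = a⁻¹)
    (cent : ∀ y ∈ A, y ≠ 1 → 𝐂[y] ≤ 𝐂[t]) :
    ∃ (F : Type) (_ : Field F) (_ : Fintype F), Odd (Fintype.card F) ∧
      Nonempty (G ≃* Matrix.ProjectiveSpecialLinearGroup (Fin 2) F) := by
  have hc := isMulCommutative_iff_forall.1 comm
  have le : A ≤ 𝐂[t] := fun a ha => mem_cent1.2 (hc a ha t tA)
  have out : ∀ g ∈ 𝐂[t], g ∉ A → g * s ∈ A := fun g hg hA =>
    (Subgroup.mul_mem_iff_of_index_two (H := A.subgroupOf 𝐂[t]) index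
      (a := ⟨g, hg⟩) (b := ⟨s, sC⟩)).2 (by simp [mem_subgroupOf, hA, sA])
  by_cases h4 : 4 ≤ Nat.card A
  · have h0 : ∀ y ∈ A, y ≠ 1 → y ≠ t → 𝐂[y] = A := fun y hy y1 yt => by
      refine le_antisymm (fun g hg => by_contra fun hA => (uniq y hy ?_).elim y1 yt)
        fun a ha => mem_cent1.2 (hc a ha y hy)
      have h1 := hc _ (out g (cent y hy y1 hg) hA) y hy
      have h2 : s * y = y * s := by
        refine mul_left_cancel (a := g) ?_
        rw [← mul_assoc, h1, ← mul_assoc, ← mul_assoc, mem_cent1.1 hg]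
      rw [← eq_inv_iff_mul_eq_one, ← inv y hy, h2, mul_inv_cancel_right]
    obtain ⟨F, _, _, h, -, e⟩ := bsw (GAG.commutator_eq_top_of_simple hns) (⟨tt, t1, conj, comm, tA,
      uniq, le, index, sC, sA, ss, inv, h0, h4⟩ : Dih A t s)
    exact ⟨F, inferInstance, inferInstance, h, e⟩
  have h2 : Nat.card A = 2 := by
    have h1 : 2 ∣ Nat.card A := orderOf_eq_prime (by rw [pow_two, tt]) t1 ▸ A.orderOf_dvd_natCard tA
    have : 0 < Nat.card A := Nat.card_pos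
    omega
  have h3 : zpowers t = A := zpowers_eq_of_card_prime (h2 ▸ Nat.prime_two) tA t1
  have h5 : ∀ a ∈ A, a * a = 1 := fun a ha => by
    rcases mem_zpowers_two tt (h3 ▸ ha) with rfl | rfl
    exacts [mul_one 1, tt]
  haveI : Fact (Nat.Prime 5) := ⟨by norm_num⟩
  refine ⟨ZMod 5, inferInstance, inferInstance, by rw [ZMod.card]; decide,
    nonempty_mulEquiv_PSL2_five (card_eq_sixty hns tt t1 conj
      (by rw [← card_mul_relIndex le, h2, index]) fun g hg => ?_)⟩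
  by_cases hA : g ∈ A
  · exact h5 g hA
  calc g * g = g * s * (s * (g * s) * s⁻¹) := by
        rw [show g * s * (s * (g * s) * s⁻¹) = g * (s * s) * g by group, ss, mul_one]
    _ = 1 := by rw [inv _ (out g hg hA), mul_inv_cancel]

/-- Brauer–Suzuki–Wall in terms of a dihedral Sylow `2`-subgroup and `U = O(C(J))`. -/
theorem bsw_dih [IsSimpleGroup G] (hns : ¬ Group.IsSolvable G) {P U : Subgroup G} {σ τ J : G}
    {k : ℕ} (D : DihSyl P σ τ J k) (hτ : IsConj J τ) (hστ : IsConj J (σ * τ))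
    (hU : U ⊔ P = 𝐂[J]) (ho : ¬ 2 ∣ Nat.card U) (hinv : ∀ u ∈ U, τ * u * τ⁻¹ = u⁻¹)
    (hσ : σ ∈ 𝐂(U)) (hC : ∀ y ∈ U, y ≠ 1 → 𝐂[y] ≤ 𝐂[J]) :
    ∃ (F : Type) (_ : Field F) (_ : Fintype F), Odd (Fintype.card F) ∧
      Nonempty (G ≃* Matrix.ProjectiveSpecialLinearGroup (Fin 2) F) := by
  have h1 : zpowers σ ≤ 𝐂(U) := zpowers_le.2 hσ
  have h2 : ∀ {a}, a ∈ U ⊔ zpowers σ → ∃ u ∈ U, ∃ x ∈ zpowers σ, u * x = a := fun h =>
    (mem_sup_of_le_normalizer_left (h1.trans (centralizer_le_normalizer _))).1 h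
  have h3 : ∀ {u x}, u ∈ U → x ∈ zpowers σ → Commute u x := fun hu hx => h1 hx _ hu
  have h4 : ∀ {u x}, u ∈ U → x ∈ zpowers σ → x ≠ 1 → (u * x) ^ Nat.card U ∈ zpowers σ ∧
      (u * x) ^ Nat.card U ≠ 1 := fun {u x} hu hx x1 => by
    rw [(h3 hu hx).mul_pow, orderOf_dvd_iff_pow_eq_one.1 (U.orderOf_dvd_natCard hu), one_mul]
    exact ⟨pow_mem hx _, fun e => ho (((D.isPElt (D.le hx)).dvd_orderOf x1).trans
      (orderOf_dvd_of_pow_eq_one e))⟩
  have h5 : ∀ a ∈ U ⊔ zpowers σ, τ * a * τ⁻¹ = a⁻¹ := fun a ha => by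
    obtain ⟨u, hu, x, hx, rfl⟩ := h2 ha
    rw [← conj_mul, hinv u hu, D.τ_conj hx, (h3 hu hx).eq, mul_inv_rev]
  have h6 : ∀ a ∈ U ⊔ zpowers σ, a * a = 1 → a = 1 ∨ a = J := fun a ha e => by
    obtain ⟨u, hu, x, hx, rfl⟩ := h2 ha
    by_cases x1 : x = 1
    · rw [x1, mul_one] at e ⊢
      exact Or.inl (eq_one_of_odd e fun h => ho (h.trans (U.orderOf_dvd_natCard hu)))
    obtain ⟨m, hm⟩ := Nat.odd_iff.2 (Nat.two_dvd_ne_zero.1 ho)
    have := h4 hu hx x1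
    rw [hm, pow_succ, pow_mul, pow_two, e, one_pow, one_mul] at this
    exact Or.inr (D.eq_J_of_sq this.1 this.2 e)
  have h7 : τ ∉ U ⊔ zpowers σ := fun h => (h6 τ h D.τ_sq).elim
    (fun e => D.not_mem (e ▸ one_mem _)) fun e => D.not_mem (e ▸ D.J_mem)
  have h8 : P ≤ 𝐍(U) := fun x hx => (D.cases x hx).elim
    (fun h => centralizer_le_normalizer _ (h1 h)) fun h => (mul_mem_cancel_right
      (mem_normalizer_of_conj_mem fun u hu => hinv u hu ▸ inv_mem hu)).1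
        (centralizer_le_normalizer _ (h1 h))
  refine bsw_gen hns D.J_sq D.J_ne_one (fun w hw w1 => ?_) (isMulCommutative_of_conj_eq_inv h5)
    (mem_sup_right D.J_mem) h6 (relIndex_eq_two_iff.2 ⟨τ, D.le_C D.τ_mem, fun b hb => ?_⟩)
    (D.le_C D.τ_mem) h7 D.τ_sq h5 fun y hy y1 => ?_
  · obtain ⟨g, -, hg⟩ := D.syl.exists_conj_mem (x := w)
      ⟨1, (orderOf_eq_prime (by rw [pow_two, hw]) w1).trans (pow_one 2).symm⟩ (mem_top w)
    refine IsConj.trans ?_ (isConj_iff.2 ⟨g, rfl⟩).symm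
    by_cases h : g * w * g⁻¹ ∈ zpowers σ
    · rw [D.eq_J_of_sq h (mt conj_eq_one_iff.1 w1) (by rw [conj_mul, hw]; group)]
    · exact isConj_of_not_mem D hτ hστ hg h
  · obtain ⟨u, hu, x, hx, rfl⟩ := (mem_sup_of_le_normalizer_left h8).1 (hU ▸ hb)
    by_cases h : u * x ∈ U ⊔ zpowers σ
    · exact Or.inr ⟨h, fun h' => h7 ((mul_mem_cancel_left h).1 h')⟩
    · refine Or.inl ⟨?_, h⟩
      rw [mul_assoc]
      exact mul_mem (mem_sup_left hu) (mem_sup_right ((D.cases x hx).resolve_left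
        fun h' => h (mul_mem (mem_sup_left hu) (mem_sup_right h'))))
  · obtain ⟨u, hu, x, hx, rfl⟩ := h2 hy
    by_cases x1 : x = 1
    · rw [x1, mul_one] at y1 ⊢
      exact hC u hu y1
    · exact (cent1_le_of_mem_zpowers (npow_mem_zpowers _ _)).trans
        (D.centralizer_le (h4 hu hx x1).1 (h4 hu hx x1).2)

end GW
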