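import Cfsg.Agent.Lib.Gag.D8B
import Mathlib.GroupTheory.SpecificGroups.Dihedral

/-!
# Transvections on an abelian `2`-subgroup, four-groups and dihedral groups
-/

set_option autoImplicit false
set_option linter.unusedSectionVars false
set_option linter.style.haveILetI false

namespace GW.Fu
open Cfsg GT FT Subgroup GAG.E8
open scoped Pointwise commutatorElement

variable {G : Type*} [Group G]

theorem dihedral_equiv {u t : G} {n : ℕ} (ho : orderOf u = n) (ht : t * t = 1)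
    (hr : t * u * t⁻¹ = u⁻¹) (hn : t ∉ zpowers u) :
    Nonempty ((zpowers u ⊔ zpowers t : Subgroup G) ≃* DihedralGroup n) := by
  have h0 : ∀ {i j : ℤ}, (i : ZMod n) = j → u ^ i = u ^ j := fun {i j} h => by
    rw [zpow_eq_zpow_iff_modEq, ho]
    exact (ZMod.intCast_eq_intCast_iff i j n).1 h
  let e : ZMod n → G := fun i => u ^ (i.cast : ℤ)
  have he : ∀ i : ℤ, e (i : ZMod n) = u ^ i := fun i => h0 (ZMod.intCast_zmod_cast _)
  have ht' : t⁻¹ = t := inv_eq_of_mul_eq_one_right ht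
  have h1 : ∀ i : ℤ, u ^ i * t = t * u ^ (-i) := fun i => by
    rw [zpow_neg, ← inv_zpow, ← hr, conj_zpow, ht', ← mul_assoc, ← mul_assoc, ht, one_mul]
  let f : DihedralGroup n →* G := MonoidHom.mk' (fun x => match x with
    | DihedralGroup.r i => e i
    | DihedralGroup.sr i => t * e i) (by
      rintro (i | i) (j | j) <;> obtain ⟨i, rfl⟩ := ZMod.intCast_surjective i <;>
        obtain ⟨j, rfl⟩ := ZMod.intCast_surjective j
      · change e (i + j) = e i * e j
        rw [← Int.cast_add, he, he, he, zpow_add]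
      · change t * e (j - i) = e i * (t * e j)
        rw [← Int.cast_sub, he, he, he, ← mul_assoc, h1, mul_assoc, ← zpow_add, neg_add_eq_sub]
      · change t * e (i + j) = t * e i * e j
        rw [← Int.cast_add, he, he, he, zpow_add, mul_assoc]
      · change e (j - i) = t * e i * (t * e j)
        rw [← Int.cast_sub, he, he, he, mul_assoc, ← mul_assoc (u ^ i), h1, ← mul_assoc,
          ← mul_assoc, ht, one_mul, ← zpow_add, neg_add_eq_sub])
  have hf : Function.Injective f := (injective_iff_map_eq_one f).2 (by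
    rintro (i | i) h <;> obtain ⟨i, rfl⟩ := ZMod.intCast_surjective i
    · change e i = 1 at h
      rw [he, ← orderOf_dvd_iff_zpow_eq_one, ho] at h
      rw [(ZMod.intCast_zmod_eq_zero_iff_dvd i n).2 h]; rfl
    · change t * e i = 1 at h
      rw [he] at h
      exact absurd (by rw [eq_inv_of_mul_eq_one_left h]; exact inv_mem ⟨i, rfl⟩) hn)
  have hr : f.range = zpowers u ⊔ zpowers t := by
    refine le_antisymm ?_ (sup_le (zpowers_le.2 ⟨DihedralGroup.r ((1 : ℤ) : ZMod n), ?_⟩)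
      (zpowers_le.2 ⟨DihedralGroup.sr ((0 : ℤ) : ZMod n), ?_⟩))
    · rintro _ ⟨i | i, rfl⟩
      · exact mem_sup_left ⟨_, rfl⟩
      · exact mul_mem (mem_sup_right (mem_zpowers t)) (mem_sup_left ⟨_, rfl⟩)
    · change e ((1 : ℤ) : ZMod n) = u
      rw [he, zpow_one]
    · change t * e ((0 : ℤ) : ZMod n) = t
      rw [he, zpow_zero, mul_one]
  exact ⟨((MonoidHom.ofInjective hf).trans (MulEquiv.subgroupCongr hr)).symm⟩

/-- the group generated by two commuting involutions -/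
def klein {z v : G} (hz : z * z = 1) (hv : v * v = 1) (hc : v * z = z * v) : Subgroup G where
  carrier := {x | x = 1 ∨ x = z ∨ x = v ∨ x = z * v}
  one_mem' := Or.inl rfl
  mul_mem' := by
    have e1 : z * (z * v) = v := by rw [← mul_assoc, hz, one_mul]
    have e2 : v * (z * v) = z := by rw [← hc, ← mul_assoc, hv, one_mul]
    have e3 : z * v * z = v := by rw [mul_assoc, hc, e1]
    have e4 : z * v * v = z := by rw [mul_assoc, hv, mul_one]
    have e5 : z * v * (z * v) = 1 := by rw [mul_assoc, e2, hz]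
    rintro a b (rfl | rfl | rfl | rfl) (rfl | rfl | rfl | rfl) <;> simp [*]
  inv_mem' := by
    have e5 : z * v * (z * v) = 1 := by
      rw [mul_assoc, ← mul_assoc v, hc, mul_assoc, hv, mul_one, hz]
    rintro a (rfl | rfl | rfl | rfl) <;>
      simp [inv_eq_of_mul_eq_one_right hz, inv_eq_of_mul_eq_one_right hv,
        inv_eq_of_mul_eq_one_right e5, hc]

theorem mem_klein {z v : G} {hz : z * z = 1} {hv : v * v = 1} {hc : v * z = z * v} {x : G} :
    x ∈ klein hz hv hc ↔ x = 1 ∨ x = z ∨ x = v ∨ x = z * v := Iff.rfl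

variable [Finite G]

theorem eq_of_pow_four {P R : Subgroup G} (hP : IsSylowIn 2 P R) (h2 : Nat.card P = 2) {a b : G}
    (ha : a ∈ R) (hb : b ∈ R) (ha2 : a * a = 1) (hb2 : b * b = 1) (ha1 : a ≠ 1) (hb1 : b ≠ 1)
    (h : (a * b) ^ 4 = 1) : a = b := by
  have p2 : ∀ x : G, x * x = 1 → IsPElt 2 x := fun x hx =>
    isPElt_of_pow_eq_one (k := 1) (by rwa [pow_one, sq])
  have h1 := hP.card_dvd (isPElt_of_pow_eq_one (p := 2) (k := 2) h).isPGroup_zpowers
    (zpowers_le.2 (mul_mem ha hb))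
  rw [h2, Nat.card_zpowers, orderOf_dvd_iff_pow_eq_one, sq] at h1
  have h3 : Commute a b := by
    change a * b = b * a
    rw [eq_inv_of_mul_eq_one_left h1, mul_inv_rev, inv_eq_of_mul_eq_one_right ha2,
      inv_eq_of_mul_eq_one_right hb2]
  have h4 := hP.card_le (IsPGroup.to_sup_of_normal_right' (p2 a ha2).isPGroup_zpowers
    (p2 b hb2).isPGroup_zpowers
    (zpowers_le.2 (mem_normalizer_of_conj_mem fun x hx => by
      rw [← (commute_of_mem_zpowers hx h3.symm).eq, mul_inv_cancel_right]; exact hx)))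
    (sup_le (zpowers_le.2 ha) (zpowers_le.2 hb))
  have h5 : orderOf a = 2 := orderOf_eq_prime (by rw [sq, ha2]) ha1
  have h6 : zpowers a = zpowers a ⊔ zpowers b :=
    eq_of_le_of_card_ge le_sup_left (by rwa [Nat.card_zpowers, h5, ← h2])
  have h7 : b ∈ zpowers a := h6 ▸ mem_sup_right (mem_zpowers b)
  classical
  obtain ⟨i, hi, rfl⟩ := Finset.mem_image.1 (mem_zpowers_iff_mem_range_orderOf.1 h7)
  rw [h5, Finset.mem_range] at hi
  interval_cases i
  · exact absurd (pow_zero a) hb1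
  · exact (pow_one a).symm

/-- `s` acts on `A` as a transvection with centre `c` and axis `H`. -/
structure Tv (A : Subgroup G) (s c : G) (H : Subgroup G) : Prop where
  norm : s ∈ 𝐍(A)
  le : H ≤ A
  mem : c ∈ H
  sq : c * c = 1
  ne : c ≠ 1
  idx : H.relIndex A = 2
  fix : ∀ x ∈ H, s * x * s⁻¹ = x
  mov : ∀ x ∈ A, x ∉ H → s * x * s⁻¹ = c * x

namespace Tv
variable {A H H' : Subgroup G} {s c s' c' : G}

theorem conj (h : Tv A s c H) {n : G} (hn : n ∈ 𝐍(A)) :
    Tv A (n * s * n⁻¹) (n * c * n⁻¹) (MulAut.conj n • H) where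
  norm := mul_mem (mul_mem hn h.norm) (inv_mem hn)
  le := conj_smul_le_iff.2 fun _ hx => conj_mem_of_mem_normalizer hn (h.le hx)
  mem := conj_mem_conj_smul.2 h.mem
  sq := by rw [show n * c * n⁻¹ * (n * c * n⁻¹) = n * (c * c) * n⁻¹ by group, h.sq]; group
  ne := fun e => h.ne (conj_eq_one_iff.1 e)
  idx := by rw [← conj_smul_eq_of_mem_normalizer hn, relIndex_conj_smul, h.idx]
  fix := fun x hx => by
    rw [show n * s * n⁻¹ * x * (n * s * n⁻¹)⁻¹ = n * (s * (n⁻¹ * x * n) * s⁻¹) * n⁻¹ by group,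
      h.fix _ (mem_conj_smul.1 hx)]
    group
  mov := fun x hx hx' => by
    rw [show n * s * n⁻¹ * x * (n * s * n⁻¹)⁻¹ = n * (s * (n⁻¹ * x * n) * s⁻¹) * n⁻¹ by group,
      h.mov _ (inv_conj_mem_of_mem_normalizer hn hx) fun e => hx' (mem_conj_smul.2 e)]
    group

theorem cases (h : Tv A s c H) {x : G} (hx : x ∈ A) : s * x * s⁻¹ = x ∨ s * x * s⁻¹ = c * x := by
  by_cases h1 : x ∈ H
  exacts [Or.inl (h.fix x h1), Or.inr (h.mov x hx h1)]

theorem mem_iff (h : Tv A s c H) {x : G} (hx : x ∈ A) : x ∈ H ↔ s * x * s⁻¹ = x :=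
  ⟨h.fix x, fun e => by_contra fun h1 => h.ne (by rwa [h.mov x hx h1, mul_eq_right] at e)⟩

theorem twice (h : Tv A s c H) {x : G} (hx : x ∈ A) : s * (s * x * s⁻¹) * s⁻¹ = x := by
  rcases h.cases hx with e | e
  · rw [e, e]
  · rw [e, show s * (c * x) * s⁻¹ = s * c * s⁻¹ * (s * x * s⁻¹) by group, e, h.fix c h.mem,
      ← mul_assoc, h.sq, one_mul]

theorem exists_not_mem (h : Tv A s c H) : ∃ x ∈ A, x ∉ H := by
  by_contra h1
  push Not at h1
  have := relIndex_eq_one.2 (show A ≤ H from h1)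
  have := h.idx
  omega

theorem act_eq {S : Subgroup G} (hS : IsSylowIn 2 S 𝐍(A)) (h2 : 𝐂(A).relIndex S = 2)
    (hA : A ≤ 𝐂(A)) (h : Tv A s c H) (h' : Tv A s' c' H') (hc : c ∈ H') {x : G} (hx : x ∈ A) :
    s * x * s⁻¹ = s' * x * s'⁻¹ := by
  let φ := A.normalizerMonoidHom
  have hφ : ∀ (n : 𝐍(A)) (x : A), ((φ n x : A) : G) = n * x * (n : G)⁻¹ := fun _ _ => rfl
  have h1 := ((isSylowIn_subgroupOf_top_iff hS.le).2 hS).map φ
  have h3 : Nat.card ((S.subgroupOf 𝐍(A)).map φ) = 2 := by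
    rw [← relIndex_ker, normalizerMonoidHom_ker, relIndex_subgroupOf hS.le, h2]
  have a2 : ∀ {s c : G} {H : Subgroup G} (h : Tv A s c H), φ ⟨s, h.norm⟩ * φ ⟨s, h.norm⟩ = 1 :=
    fun h => MulEquiv.ext fun x => Subtype.ext (h.twice x.2)
  have a1 : ∀ {s c : G} {H : Subgroup G} (h : Tv A s c H), φ ⟨s, h.norm⟩ ≠ 1 := fun h e => by
    obtain ⟨x, hx, hx'⟩ := h.exists_not_mem
    exact hx' ((h.mem_iff hx).2 ((hφ ⟨_, h.norm⟩ ⟨x, hx⟩).symm.trans (by rw [e]; rfl)))
  have cm : ∀ x ∈ A, ∀ y ∈ A, x * y = y * x := fun x hx y hy => (hA hy) x hx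
  have cA := h.le h.mem
  have cA' := h'.le h'.mem
  -- the square of `s * s'` moves elements by `1` or `c`
  have b1 : ∀ x ∈ A, s * (s' * (s * (s' * x * s'⁻¹) * s⁻¹) * s'⁻¹) * s⁻¹ = x ∨
      s * (s' * (s * (s' * x * s'⁻¹) * s⁻¹) * s'⁻¹) * s⁻¹ = c * x := fun x hx => by
    have y1 := conj_mem_of_mem_normalizer h'.norm hx
    rcases h.cases y1 with e | e
    · rw [e, h'.twice hx]; exact h.cases hx
    · rw [e, show s' * (c * (s' * x * s'⁻¹)) * s'⁻¹ =
        s' * c * s'⁻¹ * (s' * (s' * x * s'⁻¹) * s'⁻¹) by group, h'.twice hx, h'.fix c hc,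
        show s * (c * x) * s⁻¹ = s * c * s⁻¹ * (s * x * s⁻¹) by group, h.fix c h.mem]
      rcases h.cases hx with e' | e'
      · exact Or.inr (by rw [e'])
      · exact Or.inl (by rw [e', ← mul_assoc, h.sq, one_mul])
  have h4 := eq_of_pow_four h1 h3 (mem_map_of_mem φ (mem_top _)) (mem_map_of_mem φ (mem_top _))
    (a2 h) (a2 h') (a1 h) (a1 h') (MulEquiv.ext fun x => Subtype.ext (by
      rw [← map_mul, ← map_pow, hφ]
      change (s * s') ^ 4 * x * ((s * s') ^ 4)⁻¹ = x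
      have e0 : ∀ y : G, (s * s') ^ 2 * y * ((s * s') ^ 2)⁻¹ =
          s * (s' * (s * (s' * y * s'⁻¹) * s⁻¹) * s'⁻¹) * s⁻¹ := fun y => by rw [pow_two]; group
      have e1 : (s * s') ^ 2 * c * ((s * s') ^ 2)⁻¹ = c := by
        rw [e0, h'.fix c hc, h.fix c h.mem, h'.fix c hc, h.fix c h.mem]
      rw [show (s * s') ^ 4 * x * ((s * s') ^ 4)⁻¹ =
        (s * s') ^ 2 * ((s * s') ^ 2 * x * ((s * s') ^ 2)⁻¹) * ((s * s') ^ 2)⁻¹ by group]
      rcases b1 x x.2 with e | e <;> rw [← e0] at e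
      · rw [e, e]
      · rw [e, show (s * s') ^ 2 * (c * x) * ((s * s') ^ 2)⁻¹ = (s * s') ^ 2 * c *
          ((s * s') ^ 2)⁻¹ * ((s * s') ^ 2 * x * ((s * s') ^ 2)⁻¹) by group, e, e1, ← mul_assoc,
          h.sq, one_mul]))
  exact congrArg Subtype.val (DFunLike.congr_fun h4 ⟨x, hx⟩)

theorem eq {S : Subgroup G} (hS : IsSylowIn 2 S 𝐍(A)) (h2 : 𝐂(A).relIndex S = 2)
    (hA : A ≤ 𝐂(A)) (h : Tv A s c H) (h' : Tv A s' c' H') (hc : c ∈ H') : c = c' ∧ H = H' := by
  have h1 : H = H' := Subgroup.ext fun x => ⟨fun hx => (h'.mem_iff (h.le hx)).2 (by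
      rw [← act_eq hS h2 hA h h' hc (h.le hx), h.fix x hx]),
    fun hx => (h.mem_iff (h'.le hx)).2 (by
      rw [act_eq hS h2 hA h h' hc (h'.le hx), h'.fix x hx])⟩
  obtain ⟨x, hx, hx'⟩ := h.exists_not_mem
  have h3 := act_eq hS h2 hA h h' hc hx
  rw [h.mov x hx hx', h'.mov x hx (h1 ▸ hx')] at h3
  exact ⟨mul_right_cancel h3, h1⟩

end Tv

end GW.Fu
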