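import Cfsg.Agent.Lib.Gag.W3
import Cfsg.Agent.Lib.Block.BSuz

/-!
# Sylow `2`-subgroups that are products of two strongly closed subgroups: generalities
-/

set_option autoImplicit false
set_option linter.unusedSectionVars false

namespace GW

open Cfsg GT FT GAG Subgroup
open scoped Pointwise commutatorElement

universe u

variable {G : Type*} [Group G] {G' : Type*} [Group G']

/-- abelian groups of `2`-rank at most two, and the dihedral group of order eight -/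
def SmallD (D : Subgroup G) : Prop :=
  (D ≤ 𝐂(D) ∧ ¬ 8 ∣ Nat.card (omegaOne 2 D)) ∨ Nonempty (D ≃* DihedralGroup 4)

/-- strongly closed -/
def SCl (X S : Subgroup G) : Prop := ∀ x ∈ X, ∀ g : G, g * x * g⁻¹ ∈ S → g * x * g⁻¹ ∈ X

section Small

theorem card_omega_top (A : Type*) [Group A] [Finite A] [IsMulCommutative A] :
    Nat.card (omegaOne 2 (⊤ : Subgroup A)) = (mho 2 1 (⊤ : Subgroup A)).index := by
  let f : A →* A :=
    { toFun := fun a => a ^ 2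
      map_one' := by simp
      map_mul' := fun a b => Commute.mul_pow (mul_comm' a b) 2 }
  have h1 : omegaOne 2 (⊤ : Subgroup A) = f.ker := le_antisymm
    (omegaOne_le_iff.2 fun _ _ h => h) fun _ h => mem_omegaOne (mem_top _) h
  have h2 : mho 2 1 (⊤ : Subgroup A) = f.range := le_antisymm
    (mho_le_iff.2 fun x _ => ⟨x, by simp [f]⟩) (by
      rintro _ ⟨x, rfl⟩
      simpa [f] using pow_mem_mho (p := 2) (n := 1) (mem_top x))
  have h3 := f.ker.card_mul_index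
  have h4 := f.range.card_mul_index
  rw [index_ker, mul_comm] at h3
  rw [h1, h2]
  exact Nat.eq_of_mul_eq_mul_left Nat.card_pos (h3.trans h4.symm)

theorem card_omega_eq (D : Subgroup G) :
    Nat.card (omegaOne 2 D) = Nat.card (omegaOne 2 (⊤ : Subgroup D)) := by
  rw [← card_map_subtype, map_omegaOne_of_injective D.subtype_injective, ← MonoidHom.range_eq_map,
    range_subtype]

theorem card_omega_dvd [Finite G] {D : Subgroup G} {D' : Subgroup G'} (h : D ≤ 𝐂(D))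
    (φ : D →* D') (hφ : Function.Surjective φ) :
    D' ≤ 𝐂(D') ∧ Nat.card (omegaOne 2 D') ∣ Nat.card (omegaOne 2 D) := by
  have : Finite D' := Finite.of_surjective φ hφ
  have := comm_iff_le_cent.2 h
  have : IsMulCommutative D' := ⟨⟨fun a b => by
    obtain ⟨a, rfl⟩ := hφ a
    obtain ⟨b, rfl⟩ := hφ b
    rw [← map_mul, ← map_mul, mul_comm' a b]⟩⟩
  refine ⟨comm_iff_le_cent.1 this, ?_⟩
  rw [card_omega_eq D', card_omega_eq D, card_omega_top, card_omega_top]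
  have h4 := index_map_dvd (mho 2 1 (⊤ : Subgroup D)) hφ
  rwa [map_mho, map_top_of_surjective φ hφ] at h4

theorem SmallD.of_surj [Finite G] {D D₀ : Subgroup G} {D' : Subgroup G'} (h : SmallD D) (h0 : D₀ ≤ D)
    (φ : D₀ →* D') (hφ : Function.Surjective φ) : SmallD D' := by
  have : Finite D' := Finite.of_surjective φ hφ
  rcases h with ⟨h1, h2⟩ | ⟨⟨e⟩⟩
  · have := card_omega_dvd (h0.trans (h1.trans (centralizer_anti h0))) φ hφ
    exact Or.inl ⟨this.1, fun h3 => h2 (h3.trans (this.2.trans (card_dvd_of_le (omegaOne_mono 2 h0))))⟩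
  have h8 : Nat.card D = 8 := by rw [Nat.card_congr e.toEquiv, DihedralGroup.nat_card]
  have h1 := card_dvd_of_surjective φ hφ
  have h2 := card_dvd_of_le h0
  by_cases h3 : Nat.card D' = 8
  · have h4 : Nat.card D₀ = 8 := Nat.dvd_antisymm (h8 ▸ h2) (h3 ▸ h1)
    obtain rfl : D₀ = D := Subgroup.eq_of_le_of_card_ge h0 (by omega)
    exact Or.inr ⟨(MulEquiv.ofBijective φ
      ((Nat.bijective_iff_surjective_and_card φ).2 ⟨hφ, by omega⟩)).symm.trans e⟩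
  have h4 : Nat.card D' ∣ 2 ^ 3 := (h1.trans h2).trans (by rw [h8]; norm_num)
  obtain ⟨i, hi, h5⟩ := (Nat.dvd_prime_pow Nat.prime_two).1 h4
  have h6 : Nat.card D' ∣ 4 := by
    rw [h5] at h3 ⊢
    interval_cases i <;> simp_all
  refine Or.inl ⟨comm_iff_le_cent.1 ?_, fun h7 => absurd
    (Nat.le_of_dvd (by norm_num) (h7.trans ((card_dvd_of_le (omegaOne_le 2 D')).trans h6))) (by norm_num)⟩
  by_cases h7 : Nat.card D' = 2 ^ 2
  · exact IsPGroup.isMulCommutative_of_card_eq_prime_sq h7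
  · have : IsCyclic D' := isCyclic_of_card_dvd_prime (p := 2) (by
      rw [h5] at h3 h7 ⊢
      interval_cases i <;> simp_all)
    infer_instance

theorem SmallD.qim [Finite G] {D : Subgroup G} (h : SmallD D) (M N : Subgroup G)
    [(N.subgroupOf M).Normal] : SmallD (qim M N D) :=
  h.of_surj (inf_le_left (b := M)) (((qmk M N).comp (inclusion inf_le_right)).codRestrict _
    fun v => qmk_mem_qim v.2.1) fun y => by
      obtain ⟨x, hx, e⟩ := mem_qim.1 y.2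
      exact ⟨⟨x, hx, x.2⟩, Subtype.ext e⟩

end Small

theorem SCl.mem_of_conj {P S : Subgroup G} (h : SCl P S) {x g k : G} (h1 : g * x * g⁻¹ ∈ P)
    (h2 : k * x * k⁻¹ ∈ S) : k * x * k⁻¹ ∈ P := by
  have e : k * g⁻¹ * (g * x * g⁻¹) * (k * g⁻¹)⁻¹ = k * x * k⁻¹ := by group
  exact e ▸ h _ h1 _ (e ▸ h2)

/-- The subgroup generated by the elements of `H` conjugate to elements of `P`. -/
def Gen (P H : Subgroup G) : Subgroup G := closure {x | x ∈ H ∧ ∃ g : G, g * x * g⁻¹ ∈ P}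

section Gen

variable {P Q H K M S : Subgroup G}

theorem Gen_le_iff : Gen P H ≤ M ↔ ∀ x ∈ H, ∀ g : G, g * x * g⁻¹ ∈ P → x ∈ M := by
  rw [Gen, closure_le]
  exact ⟨fun h x h1 g h2 => h ⟨h1, g, h2⟩, fun h x ⟨h1, g, h2⟩ => h x h1 g h2⟩

theorem Gen_le (P H : Subgroup G) : Gen P H ≤ H := Gen_le_iff.2 fun _ h _ _ => h

theorem mem_Gen {x g : G} (h1 : x ∈ H) (h2 : g * x * g⁻¹ ∈ P) : x ∈ Gen P H :=
  Gen_le_iff.1 le_rfl x h1 g h2

theorem inf_le_Gen : P ⊓ H ≤ Gen P H := fun _ hx => mem_Gen (g := 1) hx.2 (by simpa using hx.1)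

theorem le_Gen (h : P ≤ H) : P ≤ Gen P H := fun _ hx => inf_le_Gen ⟨hx, h hx⟩

theorem Gen_le_Gen (h : Gen P H ≤ K) : Gen P H ≤ Gen P K :=
  Gen_le_iff.2 fun _ h1 _ h2 => mem_Gen (h (mem_Gen h1 h2)) h2

theorem Gen_mono (h : H ≤ K) : Gen P H ≤ Gen P K := Gen_le_Gen ((Gen_le P H).trans h)

theorem Gen_mono_left (h : P ≤ Q) : Gen P H ≤ Gen Q H :=
  Gen_le_iff.2 fun _ h1 _ h2 => mem_Gen h1 (h h2)

theorem conj_Gen_le (g : G) (P H : Subgroup G) :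
    MulAut.conj g • Gen P H ≤ Gen P (MulAut.conj g • H) := by
  rw [conj_smul_le_iff_le_inv, Gen_le_iff]
  intro x h1 k h2
  rw [mem_conj_smul, inv_inv]
  refine mem_Gen (g := k * g⁻¹) (conj_mem_conj_smul.2 h1) ?_
  convert h2 using 1; group

theorem conj_Gen (g : G) (P H : Subgroup G) :
    MulAut.conj g • Gen P H = Gen P (MulAut.conj g • H) := by
  refine le_antisymm (conj_Gen_le g P H) ?_
  have := conj_Gen_le g⁻¹ P (MulAut.conj g • H)
  rwa [conj_inv_smul_conj_smul, conj_smul_le_iff_le_inv, inv_inv] at this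

theorem norm_le_norm_Gen (P H : Subgroup G) : 𝐍(H) ≤ 𝐍(Gen P H) :=
  norm_le_norm_of_conj (F := Gen P) (fun g H => conj_Gen g P H) H

theorem le_norm_Gen (P H : Subgroup G) : H ≤ 𝐍(Gen P H) := le_normalizer.trans (norm_le_norm_Gen P H)

theorem isPElt_of_conj {p : ℕ} [Fact p.Prime] (hP : IsPGroup p P) {x g : G} (h : g * x * g⁻¹ ∈ P) : IsPElt p x := by
  have := (isPElt_of_mem hP h).conj g⁻¹
  rwa [show g⁻¹ * (g * x * g⁻¹) * g⁻¹⁻¹ = x by group] at this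

theorem Gen_le_Y2 (hP : IsPGroup 2 P) : Gen P H ≤ Y2 H :=
  Gen_le_iff.2 fun _ h1 _ h2 => mem_Y2 h1 (isPElt_of_conj hP h2)

theorem normalClosure_le_Gen : normalClosure (P : Set G) ≤ Gen P ⊤ :=
  have : (Gen P ⊤).Normal := normalizer_eq_top_iff.1 (top_le_iff.1 (le_norm_Gen P ⊤))
  normalClosure_le_normal (le_Gen le_top)

variable [Finite G]

theorem SCl.exists_conj (h : SCl P S) (hP : IsPGroup 2 P) {S₀ : Subgroup G} (hS : IsSylowIn 2 S₀ H)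
    (h0 : S₀ ≤ S) {x g : G} (h1 : x ∈ H) (h2 : g * x * g⁻¹ ∈ P) :
    ∃ k ∈ H, k * x * k⁻¹ ∈ P ⊓ S₀ := by
  obtain ⟨k, hk, h3⟩ := hS.exists_conj_mem (isPElt_of_conj hP h2) h1
  exact ⟨k, hk, h.mem_of_conj h2 (h0 h3), h3⟩

theorem SCl.Gen_le (h : SCl P S) (hP : IsPGroup 2 P) {S₀ : Subgroup G} (hS : IsSylowIn 2 S₀ H)
    (h0 : S₀ ≤ S) (hn : H ≤ 𝐍(K)) (hK : P ⊓ S₀ ≤ K) : Gen P H ≤ K :=
  Gen_le_iff.2 fun _ h1 _ h2 => by
    obtain ⟨k, hk, h3⟩ := h.exists_conj hP hS h0 h1 h2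
    exact (mem_normalizer_iff.1 (hn hk) _).2 (hK h3)

theorem SCl.norm_le (h : SCl P S) {T : Subgroup G} (h1 : P ≤ T) (h2 : T ≤ S) : 𝐍(T) ≤ 𝐍(P) :=
  fun g hg => mem_normalizer_of_conj_mem fun x hx =>
    h x hx g (h2 (conj_mem_of_mem_normalizer hg (h1 hx)))

/-- Frattini argument -/
theorem SCl.frattini (h : SCl P S) (h1 : P ≤ S) (hS : IsSylowIn 2 S H) (h2 : P ≤ K) (h3 : K ≤ H)
    (h4 : H ≤ 𝐍(K)) : H ≤ K ⊔ (𝐍(P) ⊓ H) :=
  ((hS.inf_of_le_normalizer h3 h4).frattini_sup h3 h4).symm.le.trans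
    (sup_le_sup_left (inf_le_inf_right _ (h.norm_le (le_inf h1 h2) inf_le_left)) _)

end Gen

section Lift

variable [Finite G] {B N S : Subgroup G} [(N.subgroupOf B).Normal]

theorem exists_lift_conj (hN : N ≤ B) (hS : IsSylowIn 2 S B) {x : B} (hx : IsPElt 2 (x : G))
    (h : qmk B N x ∈ qim B N S) : ∃ n ∈ N, n * x * n⁻¹ ∈ S := by
  have hn : B ≤ 𝐍(N) := le_norm_of_subgroupOf_normal hN inferInstance
  have h1 : (x : G) ∈ S ⊔ N := qpre_qim hN hS.le ▸ mem_qpre.2 ⟨x.2, h⟩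
  obtain ⟨k, hk, h2⟩ := (hS.of_le le_sup_left (sup_le hS.le hN)).exists_conj_mem hx h1
  obtain ⟨s, hs, n, hn', rfl⟩ := (mem_sup_of_le_normalizer_right (hS.le.trans hn)).1 hk
  refine ⟨n, hn', ?_⟩
  have := S.mul_mem (S.mul_mem (S.inv_mem hs) h2) hs
  convert this using 1; group

theorem SCl.qim {P : Subgroup G} (hP : IsPGroup 2 P) (hN : N ≤ B) (hS : IsSylowIn 2 S B)
    (h : ∀ x ∈ P, ∀ g ∈ B, g * x * g⁻¹ ∈ S → g * x * g⁻¹ ∈ P) : SCl (qim B N P) (qim B N S) := by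
  intro y hy g hg
  obtain ⟨x, hx, rfl⟩ := mem_qim.1 hy
  obtain ⟨g, rfl⟩ := qmk_surjective B N g
  rw [← map_inv, ← map_mul, ← map_mul] at hg ⊢
  obtain ⟨n, hn, h1⟩ := exists_lift_conj hN hS (x := g * x * g⁻¹) ((isPElt_of_mem hP hx).conj g) hg
  have e : n * (g * x * g⁻¹ : B) * n⁻¹ = n * g * x * (n * g)⁻¹ := by simp only [coe_mul, coe_inv]; group
  have h2 := h x hx (n * g) (B.mul_mem (hN hn) g.2) (e ▸ h1)
  have h3 : qmk B N ⟨n, hN hn⟩ = 1 := qmk_eq_one_iff.2 hn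
  have h4 := qmk_mem_qim (N := N) (x := ⟨n, hN hn⟩ * (g * x * g⁻¹) * ⟨n, hN hn⟩⁻¹) (e ▸ h2)
  rwa [map_mul, map_mul, map_inv, h3, one_mul, inv_one, mul_one] at h4

theorem exists_conj_pair {p : ℕ} [Fact p.Prime] {T : Subgroup G} (hT : IsSylowIn p T ⊤) {a b : G}
    (ha : IsPElt p a) (hb : IsPElt p b) (h : Commute a b) :
    ∃ k : G, k * a * k⁻¹ ∈ T ∧ k * b * k⁻¹ ∈ T := by
  have h1 : IsPGroup p (zpowers a ⊔ zpowers b : Subgroup G) :=
    ha.isPGroup_zpowers.to_sup_of_normal_right' hb.isPGroup_zpowers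
      (le_normalizer_of_le_centralizer (by rw [centralizer_zpowers]; exact zpowers_le.2 (mem_cent1.2 h)))
  obtain ⟨k, -, hk⟩ := hT.exists_conj_le h1 le_top
  exact ⟨k, conj_smul_le_iff.1 hk _ (mem_sup_left (mem_zpowers a)),
    conj_smul_le_iff.1 hk _ (mem_sup_right (mem_zpowers b))⟩

theorem isPElt_of_sq {y : G'} (h : y * y = 1) : IsPElt 2 y :=
  isPElt_of_pow_eq_one (k := 1) (by rw [pow_one, sq, h])

/-- The `Z*`-theorem modulo a normal subgroup. -/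
theorem zstar_mod (hN : N ≤ B) (hS : IsSylowIn 2 S B) (hO : Op' 2 (⊤ : Subgroup (Quo B N)) = ⊥) {y : G}
    (hy : y ∈ B) (hy2 : y * y = 1) (h : ∀ g ∈ B, g * y * g⁻¹ ∈ S → g * y * g⁻¹ * y⁻¹ ∈ N) {g : G}
    (hg : g ∈ B) : g * y * g⁻¹ * y⁻¹ ∈ N := by
  set t := qmk B N ⟨y, hy⟩ with ht
  have ht2 : t * t = 1 := by rw [← map_mul, show (⟨y, hy⟩ : B) * ⟨y, hy⟩ = 1 from Subtype.ext hy2, map_one]
  have key : ∀ k, k * t * k⁻¹ ∈ qim B N S → k * t * k⁻¹ = t := fun k hk => by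
    obtain ⟨k, rfl⟩ := qmk_surjective B N k
    rw [ht, ← map_inv, ← map_mul, ← map_mul] at hk
    obtain ⟨n, hn, h1⟩ := exists_lift_conj hN hS (x := k * ⟨y, hy⟩ * k⁻¹) ((isPElt_of_sq hy2).conj k) hk
    have e : n * (k * ⟨y, hy⟩ * k⁻¹ : B) * n⁻¹ = n * k * y * (n * k)⁻¹ := by
      simp only [coe_mul, coe_inv]; group
    have h2 := h (n * k) (B.mul_mem (hN hn) k.2) (e ▸ h1)
    have h3 : qmk B N ⟨n, hN hn⟩ = 1 := qmk_eq_one_iff.2 hn
    have h4 : qmk B N (⟨n, hN hn⟩ * k * ⟨y, hy⟩ * (⟨n, hN hn⟩ * k)⁻¹ * ⟨y, hy⟩⁻¹) = 1 := qmk_eq_one_iff.2 h2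
    simp only [map_mul, map_inv, h3, one_mul] at h4
    exact mul_inv_eq_one.1 h4
  have h1 := BT.zstar _ (BT.isol_of_forall_commute ht2 fun k hk => by
    obtain ⟨a, h1, h2⟩ := exists_conj_pair (sylow_qim_top (N := N) hS) (isPElt_of_sq ht2)
      ((isPElt_of_sq ht2).conj k) hk
    have e : a * (k * t * k⁻¹) * a⁻¹ = a * k * t * (a * k)⁻¹ := by group
    have h3 := (e.trans (key _ (e ▸ h2))).trans (key _ h1).symm
    simpa using h3) (qmk B N ⟨g, hg⟩)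
  rw [← Op'_top, hO, mem_bot] at h1
  refine (qmk_eq_one_iff (N := N) (x := ⟨g, hg⟩ * ⟨y, hy⟩ * ⟨g, hg⟩⁻¹ * ⟨y, hy⟩⁻¹)).1 ?_
  simp only [map_mul, map_inv]
  rw [mul_inv_eq_one]
  exact mul_left_cancel (h1.trans ht2.symm)

/-- no odd normal subgroup modulo `O(B) Z` for central `Z` -/
theorem core_quo_central {Z : Subgroup G} (hZ : IsPGroup 2 Z) (hB : B ≤ 𝐂(Z)) (hZB : Z ≤ B)
    (hN : N = Z ⊔ Op' 2 B) : Op' 2 (⊤ : Subgroup (Quo B N)) = ⊥ := by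
  have hNB : N ≤ B := hN ▸ sup_le hZB (piCoreOf_le _ _)
  set K := qpre B N (Op' 2 ⊤) with hK
  have h1 : N ≤ K := le_qpre hNB _
  have h2 : B ≤ 𝐍(K) := le_norm_qpre le_rfl (le_top.trans (le_norm_piCoreOf _ _))
  have hZN : Z ≤ N := hN ▸ le_sup_left
  have h3 : IsSylowIn 2 Z K := by
    refine ((isSylowIn_self hZ).trans hZN ?_).trans h1 ?_
    · rw [hN, sup_comm, relIndex_sup_of_le_normalizer ((piCoreOf_le _ _).trans (hB.trans (cent_le_norm Z)))]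
      exact fun h => not_dvd_card_Op' 2 B (h.trans (relIndex_dvd_card _ _))
    · rw [relIndex_qpre_self]; exact not_dvd_card_Op' 2 _
  obtain ⟨L, hL1, hL2, hL3, k, hk⟩ := hasNormalPComplement_subgroup_iff.1
    (h3.hasNormalPComplement_of_le_centralizer (inf_le_left.trans ((qpre_le _).trans hB)))
  have h4 : K ≤ N := by
    rw [← h3.sup_eq_of_relIndex_eq_pow hL1 hk, hN, sup_comm]
    exact sup_le_sup_left ((le_Op' hL1 hL2 hL3).trans (piCoreOf_le_of_normal _ (qpre_le _) h2)) _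
  rw [← qim_qpre (Op' 2 (⊤ : Subgroup (Quo B N))), qim_eq_bot_iff (qpre_le _)]
  exact h4

end Lift

section Odd

variable [Finite G] {B H L Q Y : Subgroup G}

theorem odd_of_le (h : ¬ 2 ∣ Nat.card H) (h1 : Y ≤ H) : ¬ 2 ∣ Nat.card Y :=
  fun h2 => h (h2.trans (card_dvd_of_le h1))

theorem odd_sup (h : ¬ 2 ∣ Nat.card Q) (h' : ¬ 2 ∣ Nat.card Y) (hn : Q ≤ 𝐍(Y)) :
    ¬ 2 ∣ Nat.card ↥(Q ⊔ Y) := fun h1 => by
  have h2 := card_sup_mul_card_inf_of_le_normalizer hn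
  exact (Nat.prime_two.dvd_mul.1 (h2 ▸ h1.mul_right _)).elim h h'

theorem cop_of_odd {A : Subgroup G} (hA : IsPGroup 2 A) (h : ¬ 2 ∣ Nat.card Y) :
    (Nat.card Y).Coprime (Nat.card A) := (hA.coprime_card h).symm

/-- an odd order subgroup of `P O` lies in `O` -/
theorem le_of_odd_of_le_sup {P O : Subgroup G} (hP : IsPGroup 2 P) (hn : P ≤ 𝐍(O)) (hY : ¬ 2 ∣ Nat.card Y)
    (h : Y ≤ P ⊔ O) : Y ≤ O := by
  refine le_of_coprime_card_relIndex h (sup_le hn le_normalizer) ?_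
  rw [relIndex_sup_of_le_normalizer hn]
  obtain ⟨k, hk⟩ := hP.exists_relIndex_eq_pow O
  rw [hk]
  exact Nat.Coprime.pow_right _ ((Nat.Prime.coprime_iff_not_dvd Nat.prime_two).2 hY).symm

theorem le_core_of_le_sup (hB : B ≤ H ⊔ Op' 2 B) (hQ : Q ≤ B) (hn : H ≤ 𝐍(Q)) (hH : H ≤ B)
    (ho : ¬ 2 ∣ Nat.card Q) : Q ≤ Op' 2 B :=
  le_sup_left.trans (le_Op' (sup_le hQ (piCoreOf_le _ _)) (hB.trans (sup_le
    (le_normalizer_sup hn (hH.trans (le_norm_piCoreOf _ _))) (le_sup_right.trans le_normalizer)))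
    (odd_sup ho (not_dvd_card_Op' 2 B) (hQ.trans (le_norm_piCoreOf _ _))))

theorem inf_le_core (hL : L ≤ B) (hBL : B ≤ 𝐍(L)) (h : L ≤ H ⊔ Op' 2 B) (hQ : Q ≤ B) (hn : H ≤ 𝐍(Q))
    (hH : H ≤ B) (ho : ¬ 2 ∣ Nat.card Q) : (Q ⊔ Op' 2 B) ⊓ L ≤ Op' 2 B :=
  (le_Op' inf_le_right (le_normalizer_inf (h.trans (sup_le
    (le_normalizer_sup hn (hH.trans (le_norm_piCoreOf _ _))) (le_sup_right.trans le_normalizer))) le_normalizer)
    (odd_of_le (odd_sup ho (not_dvd_card_Op' 2 B) (hQ.trans (le_norm_piCoreOf _ _))) inf_le_left)).trans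
    (piCoreOf_le_of_normal _ hL hBL)

theorem comm_le_core (hL : L ≤ B) (hBL : B ≤ 𝐍(L)) (h : L ≤ H ⊔ Op' 2 B) (hQ : Q ≤ B) (hn : H ≤ 𝐍(Q))
    (hH : H ≤ B) (ho : ¬ 2 ∣ Nat.card Q) : ⁅Q, L⁆ ≤ Op' 2 B := by
  refine le_trans (le_inf ?_ (le_normalizer_iff_commutator_le_right.1 (hQ.trans hBL)))
    (inf_le_core hL hBL h hQ hn hH ho)
  refine (commutator_mono le_sup_left le_rfl).trans (le_normalizer_iff_commutator_le_left.1 (h.trans ?_))
  exact sup_le (le_normalizer_sup hn (hH.trans (le_norm_piCoreOf _ _))) (le_sup_right.trans le_normalizer)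

/-- an odd order subgroup centralizing a normal subgroup of odd index -/
theorem eq_bot_of_cent {S M : Subgroup G} (hO : Op' 2 (⊤ : Subgroup G) = ⊥) (hS : IsSylowIn 2 S ⊤)
    (hM : S ≤ M) (hn : ⊤ ≤ 𝐍(M)) (hY : ¬ 2 ∣ Nat.card Y) (h : Y ≤ 𝐂(M)) : Y = ⊥ := by
  have h2 : (⊤ : Subgroup G) ≤ 𝐍(𝐂(M)) := le_normalizer_centralizer hn
  have h3 := hS.inf_of_le_normalizer le_top h2
  obtain ⟨K, hK1, hK2, hK3, k, hk⟩ := hasNormalPComplement_subgroup_iff.1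
    (h3.hasNormalPComplement_of_le_centralizer (inf_le_left.trans
      (centralizer_anti (inf_le_left.trans hM))))
  have h4 : Y ≤ K := le_of_coprime_card_relIndex h hK2 (by
    rw [hk]
    exact Nat.Coprime.pow_right _ ((Nat.Prime.coprime_iff_not_dvd Nat.prime_two).2 hY).symm)
  exact le_bot_iff.1 (hO ▸ h4.trans ((le_Op' hK1 hK2 hK3).trans (piCoreOf_le_of_normal _ le_top h2)))

theorem le_core_of_comm {S M : Subgroup G} (hS : IsSylowIn 2 S B) (hM : S ≤ M) (hMB : M ≤ B)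
    (hn : B ≤ 𝐍(M)) (hY : ¬ 2 ∣ Nat.card Y) (hYB : Y ≤ B) (h : ⁅Y, M⁆ ≤ Op' 2 B) : Y ≤ Op' 2 B :=
  (qim_eq_bot_iff hYB).1 (eq_bot_of_cent (piCoreOf_quo_piCoreOf _ _) (sylow_qim_top hS) (qim_mono hM)
    (top_le_norm_qim hn) (fun h1 => hY (h1.trans (card_qim_dvd hYB))) ((qim_le_cent_iff hYB hMB).2 h))

end Odd

theorem mem_zpowers_of_sq {t x : G} (h : t * t = 1) (hx : x ∈ zpowers t) : x = 1 ∨ x = t := by
  obtain ⟨k, rfl⟩ := mem_zpowers_iff.1 hx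
  have h2 : ∀ j : ℤ, t ^ (2 * j) = 1 := fun j => by rw [zpow_mul, zpow_two, h, one_zpow]
  obtain ⟨j, rfl | rfl⟩ := Int.even_or_odd' k
  · exact Or.inl (h2 j)
  · exact Or.inr (by rw [zpow_add, h2, one_mul, zpow_one])

theorem comm_zpowers_le {H O : Subgroup G} {t : G} (h : t * t = 1)
    (h1 : ∀ g ∈ H, g * t * g⁻¹ * t⁻¹ ∈ O) : ⁅H, zpowers t⁆ ≤ O :=
  commutator_le.2 fun g hg x hx => by
    rcases mem_zpowers_of_sq h hx with rfl | rfl
    · simp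
    · exact h1 g hg

theorem exists_invol [Finite G] {P : Subgroup G} (hP : IsPGroup 2 P) (h : P ≠ ⊥) :
    ∃ t ∈ P, t * t = 1 ∧ t ≠ 1 := by
  obtain ⟨t, ht⟩ := exists_prime_orderOf_dvd_card' 2 (dvd_card_of_isPGroup_of_ne_bot hP h)
  refine ⟨t, t.2, ?_, fun e => ?_⟩
  · rw [← coe_mul, ← sq, ← ht, pow_orderOf_eq_one, coe_one]
  · rw [OneMemClass.coe_eq_one.1 e, orderOf_one] at ht
    omega

theorem not_cyclic_of_two [Finite G] {B : Subgroup G} {a b : G} (ha : a ∈ B) (hb : b ∈ B) (h1 : a * a = 1)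
    (h2 : b * b = 1) (h3 : a ≠ 1) (h4 : b ≠ 1) (h5 : a ≠ b) : ¬ IsCyclic B := fun _ => by
  have h6 : zpowers a ≤ zpowers b := le_of_card_dvd_of_isCyclic (zpowers_le.2 ha) (zpowers_le.2 hb) (by
    rw [Nat.card_zpowers, Nat.card_zpowers, orderOf_eq_prime (p := 2) (by rwa [sq]) h3,
      orderOf_eq_prime (p := 2) (by rwa [sq]) h4])
  exact (mem_zpowers_of_sq h2 (h6 (mem_zpowers a))).elim h3 h5

/-- The `Z*`-theorem inside a subgroup. -/
theorem zstar_in [Finite G] {B : Subgroup G} {t : G} (ht : t ∈ B) (h2 : t * t = 1)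
    (h : ∀ g ∈ B, Commute t (g * t * g⁻¹) → g * t * g⁻¹ = t) : ⁅B, zpowers t⁆ ≤ Op' 2 B := by
  refine comm_zpowers_le h2 fun g hg => ?_
  have h1 := BT.zstar B (z := ⟨t, ht⟩) (BT.isol_of_forall_commute (Subtype.ext h2) fun k hk =>
    Subtype.ext (h k k.2 (congrArg Subtype.val hk))) ⟨g, hg⟩
  have h3 : t * (g * t * g⁻¹) ∈ Op' 2 B := Op'_eq_map 2 B ▸ ⟨_, h1, rfl⟩
  have h4 := inv_mem h3
  have h5 : t⁻¹ = t := inv_eq_of_mul_eq_one_right h2
  convert h4 using 1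
  simp only [mul_inv_rev, inv_inv, h5, mul_assoc]

theorem le_sup_of_comm [Finite G] {B A : Subgroup G} (hA : IsPGroup 2 A) (hAB : A ≤ B)
    (h : ⁅B, A⁆ ≤ Op' 2 B) : B ≤ (B ⊓ 𝐂(A)) ⊔ Op' 2 B :=
  (coprimeAct_of_isPGroup_left (hAB.trans (le_norm_piCoreOf _ _)) hA
    (not_dvd_card_Op' 2 B)).le_sup_inf_centralizer (piCoreOf_le _ _) h

end GW
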