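import Cfsg.Agent.Lib.GW.Ly
import Cfsg.Agent.Lib.GW.NoSE
import Cfsg.Agent.Lib.GW.ProdA
import Cfsg.Agent.Lib.GW.FusA
import Cfsg.Agent.Lib.FT.Main
import Cfsg.Agent.Lib.Gag.Sig
import Cfsg.Agent.Lib.Gag.D8A

/-!
# Involutions and four-groups in simple groups with dihedral Sylow `2`-subgroups
-/

set_option autoImplicit false
set_option linter.unusedSectionVars false

namespace GW

open Cfsg GT FT GAG Subgroup
open scoped Pointwise commutatorElement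

variable {G : Type*} [Group G]

namespace Inv
variable {t : G} (h : Inv t)
include h
theorem inv : t⁻¹ = t := inv_eq_of_mul_eq_one_right h.sq
theorem conj (g : G) : Inv (g * t * g⁻¹) :=
  ⟨fun e => h.ne (conj_eq_one_iff.1 e), by rw [conj_mul, h.sq, mul_one, mul_inv_cancel]⟩
theorem isPGroup : IsPGroup 2 (zpowers t) := (isPElt_of_sq h.sq).isPGroup_zpowers
theorem mem_zpowers_iff {x : G} : x ∈ zpowers t ↔ x = 1 ∨ x = t :=
  ⟨mem_zpowers_of_sq h.sq, fun e => e.elim (fun e => e ▸ one_mem _) fun e => e ▸ mem_zpowers _⟩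
theorem mul_mul (x : G) : t * (t * x) = x := by rw [← mul_assoc, h.sq, one_mul]
theorem mul_mul' (x : G) : x * t * t = x := by rw [mul_assoc, h.sq, mul_one]
theorem conj_conj (x : G) : t * (t * x * t⁻¹) * t⁻¹ = x := by
  rw [h.inv, mul_assoc t x, h.mul_mul, h.mul_mul']
end Inv

namespace Kl
variable {t s : G} (h : Kl t s)
include h
theorem symm : Kl s t := ⟨h.r, h.l, h.ne.symm, h.comm.symm⟩
theorem inv_mul : Inv (t * s) :=
  ⟨fun e => h.ne (by rw [← h.r.mul_mul' t, e, one_mul]), by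
    rw [mul_assoc, ← mul_assoc s, ← h.comm, h.r.mul_mul', h.l.sq]⟩
theorem mulR : Kl t (t * s) :=
  ⟨h.l, h.inv_mul, fun e => h.r.ne (left_eq_mul.1 e), by rw [mul_assoc, ← h.comm]⟩
theorem mulR' : Kl s (t * s) := h.comm ▸ h.symm.mulR
theorem conj (g : G) : Kl (g * t * g⁻¹) (g * s * g⁻¹) :=
  ⟨h.l.conj g, h.r.conj g, fun e => h.ne (mul_left_cancel (mul_right_cancel e)), by
    rw [conj_mul, conj_mul, h.comm]⟩
theorem mem_cent : s ∈ 𝐂[t] := mem_cent1.2 h.comm.symm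
theorem mem_cent' : t ∈ 𝐂[s] := mem_cent1.2 h.comm
theorem Vk_eq : Vk t s = Fu.klein h.l.sq h.r.sq h.comm.symm :=
  le_antisymm (sup_le (zpowers_le.2 (Fu.mem_klein.2 (by simp))) (zpowers_le.2 (Fu.mem_klein.2 (by simp))))
    fun x hx => by
      rcases Fu.mem_klein.1 hx with rfl | rfl | rfl | rfl
      exacts [one_mem _, mem_sup_left (mem_zpowers _), mem_sup_right (mem_zpowers _),
        mul_mem_sup (mem_zpowers _) (mem_zpowers _)]
theorem mem_Vk {x : G} : x ∈ Vk t s ↔ x = 1 ∨ x = t ∨ x = s ∨ x = t * s := by rw [h.Vk_eq, Fu.mem_klein]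
theorem Vk_comm : Vk t s = Vk s t := sup_comm _ _
theorem Vk_mul : Vk t (t * s) = Vk t s := Subgroup.ext fun x => by
  rw [h.mem_Vk, h.mulR.mem_Vk, h.l.mul_mul]; tauto
theorem sq {x : G} (hx : x ∈ Vk t s) : x * x = 1 := by
  rcases h.mem_Vk.1 hx with rfl | rfl | rfl | rfl
  exacts [mul_one _, h.l.sq, h.r.sq, h.inv_mul.sq]
theorem le_cent : Vk t s ≤ 𝐂(Vk t s) := fun x hx => mem_centralizer_iff.2 fun y hy => by
  have e : ∀ z ∈ Vk t s, z⁻¹ = z := fun z hz => inv_eq_of_mul_eq_one_right (h.sq hz)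
  rw [← e _ (mul_mem hy hx), mul_inv_rev, e x hx, e y hy]
theorem card : Nat.card (Vk t s) = 4 := by
  classical
  have : ((Vk t s : Subgroup G) : Set G) = ({1, t, s, t * s} : Finset G) := Set.ext fun x => by
    simp [h.mem_Vk]
  rw [← SetLike.coe_sort_coe, this, Finset.coe_sort_coe, Nat.card_eq_finsetCard,
    Finset.card_eq_four]
  exact ⟨1, t, s, t * s, h.l.ne.symm, h.r.ne.symm, h.inv_mul.ne.symm, h.ne, h.mulR.ne, h.mulR'.ne, rfl⟩
theorem isPGroup : IsPGroup 2 (Vk t s) := IsPGroup.of_card (n := 2) h.card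
theorem not_cyclic [Finite G] : ¬ IsCyclic (Vk t s) := not_isCyclic_of_four h.card fun _ => h.sq
theorem left_mem : t ∈ Vk t s := mem_sup_left (mem_zpowers t)
theorem right_mem : s ∈ Vk t s := mem_sup_right (mem_zpowers s)
theorem Vk_le {H : Subgroup G} : Vk t s ≤ H ↔ t ∈ H ∧ s ∈ H := by simp only [sup_le_iff, zpowers_le]
theorem cent_Vk : 𝐂(Vk t s) = 𝐂[t] ⊓ 𝐂[s] := by
  rw [centralizer_sup, centralizer_zpowers, centralizer_zpowers]
theorem mem_norm [Finite G] {g : G} (h1 : g * t * g⁻¹ ∈ Vk t s) (h2 : g * s * g⁻¹ ∈ Vk t s) : g ∈ 𝐍(Vk t s) :=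
  mem_normalizer_of_conj_mem fun x hx => by
    rcases h.mem_Vk.1 hx with rfl | rfl | rfl | rfl
    · simp
    · exact h1
    · exact h2
    · rw [← conj_mul]; exact mul_mem h1 h2
end Kl

variable [Finite G]

section Dih
variable {S : Subgroup G} {σ τ t : G} {k : ℕ} (D : DihSyl S σ τ t k)
include D

theorem _root_.GT.DihSyl.inv_J : Inv t := ⟨D.J_ne_one, D.J_sq⟩

theorem _root_.GT.DihSyl.conj' (g : G) :
    DihSyl (MulAut.conj g • S) (g * σ * g⁻¹) (g * τ * g⁻¹) (g * t * g⁻¹) k := by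
  have e : ∀ x, g * x * g⁻¹ ∈ zpowers (g * σ * g⁻¹) ↔ x ∈ zpowers σ := fun x => by
    simp only [mem_zpowers_iff, conj_zpow, mul_left_inj, mul_right_inj]
  refine ⟨by simpa using D.syl.conj g, conj_mem_conj_smul.2 D.σ_mem, conj_mem_conj_smul.2 D.τ_mem,
    by rw [GT.orderOf_conj', D.ord], by rw [conj_mul, D.τ_sq, mul_one, mul_inv_cancel], ?_, fun x hx => ?_,
    fun h => D.not_mem ((e _).1 h), by rw [conj_pow, D.J_eq]⟩
  · rw [conj_inv, conj_inv, ← D.rel]; group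
  · obtain ⟨y, hy, rfl⟩ := mem_conj_smul'.1 hx
    rw [conj_mul, e, e]
    exact D.cases y hy

theorem _root_.GT.DihSyl.change {s : G} (hs : s ∈ S) (h : s ∉ zpowers σ) : DihSyl S σ s t k :=
  ⟨D.syl, D.σ_mem, hs, D.ord, D.sq_of_not_mem hs h, D.conj_of_not_mem hs h (mem_zpowers σ),
    fun x hx => (em _).imp_right fun h' => D.mul_mem_of_not_mem hx h' hs h, h, D.J_eq⟩

theorem _root_.GT.DihSyl.eq_or_of_comm {y x : G} (hy : y ∈ S) (h : y ∉ zpowers σ) (hx : x ∈ zpowers σ)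
    (hc : y * x = x * y) : x = 1 ∨ x = t := by
  refine (em _).imp_right fun h1 => D.eq_J_of_sq hx h1 ?_
  have := D.conj_of_not_mem hy h hx
  rw [hc, mul_inv_cancel_right] at this
  exact mul_eq_one_iff_eq_inv.2 this

theorem _root_.GT.DihSyl.kl {y : G} (hy : y ∈ S) (h : y ∉ zpowers σ) : Kl t y :=
  ⟨D.inv_J, ⟨fun e => h (e ▸ one_mem _), D.sq_of_not_mem hy h⟩, fun e => h (e ▸ D.J_mem),
    (mem_cent1.1 (D.le_C hy)).symm⟩

theorem _root_.GT.DihSyl.kl_τ : Kl t τ := D.kl D.τ_mem D.not_mem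

theorem _root_.GT.DihSyl.kl_στ : Kl t (σ * τ) :=
  D.kl (mul_mem D.σ_mem D.τ_mem) (D.mul_τ_not_mem (mem_zpowers σ))

theorem _root_.GT.DihSyl.not_mem_of_kl {s : G} (h : Kl t s) : s ∉ zpowers σ :=
  fun h1 => h.ne (D.eq_J_of_sq h1 h.r.ne h.r.sq).symm

theorem _root_.GT.DihSyl.mem_Vk {y : G} (hy : y ∈ S) (hc : τ * y = y * τ) : y ∈ Vk t τ := by
  rw [D.kl_τ.mem_Vk]
  rcases D.cases y hy with h | h
  · rcases D.eq_or_of_comm D.τ_mem D.not_mem h hc with h | h <;> simp [h]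
  · rcases D.eq_or_of_comm D.τ_mem D.not_mem h (by rw [← mul_assoc, hc]) with h | h
    · exact .inr (.inr (.inl (by rw [← D.kl_τ.r.mul_mul' y, h, one_mul])))
    · exact .inr (.inr (.inr (by rw [← D.kl_τ.r.mul_mul' y, h])))

theorem _root_.GT.DihSyl.eq_sup : zpowers σ ⊔ zpowers τ = S :=
  le_antisymm (sup_le D.le (zpowers_le.2 D.τ_mem)) fun x hx => (D.cases x hx).elim mem_sup_left fun h =>
    D.kl_τ.r.mul_mul' x ▸ mul_mem_sup h (mem_zpowers τ)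

theorem _root_.GT.DihSyl.sdp : Sdp (Ut t) S 𝐂[t] := sdp_Op'_of_hall (hall_Op'_iff.2 D.nilp) D.isSylowIn_C

theorem _root_.GT.DihSyl.card_C : Nat.card 𝐂[t] = Nat.card (Ut t) * 2 ^ (k + 2) := by
  rw [← D.card_P, D.sdp.card]

/-- the element of order four, for `k ≥ 1` -/
theorem _root_.GT.DihSyl.exists_four (hk : 1 ≤ k) : ∃ ρ ∈ zpowers σ, ρ * ρ = t :=
  ⟨σ ^ 2 ^ (k - 1), npow_mem_zpowers _ _, by
    rw [← pow_add, ← mul_two, ← pow_succ, Nat.sub_add_cancel hk, D.J_eq]⟩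

theorem _root_.GT.DihSyl.exists_swap (hk : 1 ≤ k) : ∃ y ∈ S, Kl t y ∧ y * τ * y⁻¹ = t * τ := by
  obtain ⟨ρ, hρ, e⟩ := D.exists_four hk
  refine ⟨ρ * τ, mul_mem (D.le hρ) D.τ_mem, D.kl (mul_mem (D.le hρ) D.τ_mem) (D.mul_τ_not_mem hρ), ?_⟩
  rw [D.kl_τ.r.mul_mul', mul_inv_rev, ← mul_assoc, D.τ_inv, mul_assoc, D.τ_mul (inv_mem hρ), inv_inv,
    ← mul_assoc, e]

omit D in
theorem _root_.GT.DihSyl.eq_Vk_of_zero {S : Subgroup G} {σ τ t : G} (D : DihSyl S σ τ t 0) : σ = t ∧ S = Vk t τ := by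
  have : σ = t := by rw [D.J_eq, pow_zero, pow_one]
  exact ⟨this, by rw [← D.eq_sup, this]⟩

end Dih

namespace Sd
variable (h : Sd G)
include h

theorem perfect : commutator G = ⊤ := haveI := h.simple; commutator_eq_top_of_simple h.ns

theorem eq_bot_of_norm {N : Subgroup G} (h1 : 𝐍(N) = ⊤) (h2 : Group.IsSolvable N) : N = ⊥ := by
  haveI := h.simple
  haveI : N.Normal := normalizer_eq_top_iff.1 h1
  refine (IsSimpleGroup.eq_bot_or_eq_top_of_normal N this).resolve_right fun e => h.ns ?_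
  subst e
  exact solvable_of_surjective (f := (⊤ : Subgroup G).subtype) fun x => ⟨⟨x, trivial⟩, rfl⟩

theorem norm_ne_top {N : Subgroup G} (h1 : N ≠ ⊥) (h2 : Group.IsSolvable N) : 𝐍(N) ≠ ⊤ :=
  fun e => h1 (h.eq_bot_of_norm e h2)

theorem norm_ne_top' {N : Subgroup G} (h1 : N ≠ ⊥) (h2 : N ≠ ⊤) : 𝐍(N) ≠ ⊤ := fun e => by
  haveI := h.simple
  exact (IsSimpleGroup.eq_bot_or_eq_top_of_normal N (normalizer_eq_top_iff.1 e)).elim h1 h2

theorem cent1_ne_top {x : G} (hx : x ≠ 1) : 𝐂[x] ≠ ⊤ := fun e =>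
  h.norm_ne_top (zpowers_ne_bot.2 hx) inferInstance
    (eq_top_iff.2 (e.ge.trans ((centralizer_zpowers x).ge.trans (cent_le_norm _))))

theorem conj_J {S : Subgroup G} {σ τ t : G} {k : ℕ} (D : DihSyl S σ τ t k) {w : G} (hw : Inv w) :
    ∃ g, g * w * g⁻¹ = t := by
  obtain ⟨g, hg⟩ := E8.exists_conj_mem_of_index (R := zpowers σ) (m := S.index)
    (Nat.not_even_iff_odd.1 fun e => D.syl.not_dvd (by rwa [relIndex_top_right, ← even_iff_two_dvd]))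
    (by rw [← relIndex_mul_index D.le, D.relIndex_S]) hw.sq (h.perfect ▸ mem_top w)
  exact ⟨g, D.eq_J_of_sq hg (hw.conj g).ne (hw.conj g).sq⟩

theorem conj {t s : G} (ht : Inv t) (hs : Inv s) : ConjIn ⊤ t s := by
  obtain ⟨S, σ, τ, J, k, D⟩ := h.dih
  obtain ⟨a, ha⟩ := h.conj_J D ht
  obtain ⟨b, hb⟩ := h.conj_J D hs
  exact ⟨b⁻¹ * a, trivial, by rw [← ha] at hb; rw [← inv_mul_cancel_left b s, ← mul_inv_cancel_right s b⁻¹, inv_inv,
    ← mul_assoc b, ← mul_assoc b, hb]; group⟩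

theorem isConj {t s : G} (ht : Inv t) (hs : Inv s) : IsConj t s :=
  let ⟨g, _, e⟩ := h.conj ht hs; isConj_iff.2 ⟨g, e⟩

theorem exists_dih {t : G} (ht : Inv t) {T : Subgroup G} (hT : IsPGroup 2 T) (hC : T ≤ 𝐂[t]) :
    ∃ S σ τ k, DihSyl S σ τ t k ∧ T ≤ S := by
  obtain ⟨S, σ, τ, J, k, D⟩ := h.dih
  obtain ⟨a, -, rfl⟩ := h.conj D.inv_J ht
  obtain ⟨c, hc, e⟩ := (D.conj' a).isSylowIn_C.exists_conj_le hT hC
  have := (D.conj' a).conj' c⁻¹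
  rw [show c⁻¹ * (a * J * a⁻¹) * c⁻¹⁻¹ = a * J * a⁻¹ by
    rw [inv_inv, mul_assoc, ← mem_cent1.1 hc, inv_mul_cancel_left]] at this
  exact ⟨_, _, _, _, this, conj_smul_le_iff_le_inv.1 e⟩

theorem exists_dih_kl {t s : G} (hk : Kl t s) {T : Subgroup G} (hT : IsPGroup 2 T) (hC : T ≤ 𝐂[t])
    (hs : s ∈ T) : ∃ S σ k, DihSyl S σ s t k ∧ T ≤ S :=
  let ⟨S, σ, _, k, D, e⟩ := h.exists_dih hk.l hT hC
  ⟨S, σ, k, D.change (e hs) (D.not_mem_of_kl hk), e⟩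

theorem exists_dih' {t s : G} (hk : Kl t s) : ∃ S σ k, DihSyl S σ s t k :=
  let ⟨S, σ, k, D, _⟩ := h.exists_dih_kl hk hk.r.isPGroup (zpowers_le.2 hk.mem_cent) (mem_zpowers s)
  ⟨S, σ, k, D⟩

theorem exists_kl {t : G} (ht : Inv t) : ∃ s, Kl t s :=
  let ⟨_, _, τ, _, D, _⟩ := h.exists_dih ht IsPGroup.of_bot bot_le; ⟨τ, D.kl_τ⟩

theorem mem_Ut {t x : G} (ht : Inv t) (hx : x ∈ 𝐂[t]) (ho : Odd (orderOf x)) : x ∈ Ut t :=
  let ⟨_, _, _, _, D, _⟩ := h.exists_dih ht IsPGroup.of_bot bot_le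
  mem_Op'_of_hall (hall_Op'_iff.2 D.nilp) hx (by rwa [← even_iff_two_dvd, Nat.not_even_iff_odd])

theorem le_Ut {t : G} (ht : Inv t) {Y : Subgroup G} (hx : Y ≤ 𝐂[t]) (ho : Odd (Nat.card Y)) : Y ≤ Ut t :=
  fun _ hy => h.mem_Ut ht (hx hy) (ho.of_dvd_nat (orderOf_dvd_natCard _ hy))

end Sd

theorem odd_Od' (X : Subgroup G) : Odd (Nat.card (Od X)) := by
  rw [← Nat.not_even_iff_odd, even_iff_two_dvd]; exact not_dvd_card_Op' 2 X

theorem odd_of_le_Od {X Y : Subgroup G} (h : Y ≤ Od X) : Odd (Nat.card Y) :=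
  (odd_Od' X).of_dvd_nat (card_dvd_of_le h)

theorem odd_of_mem_Od {X : Subgroup G} {x : G} (h : x ∈ Od X) : Odd (orderOf x) :=
  (odd_Od' X).of_dvd_nat (orderOf_dvd_natCard _ h)

theorem not_two_dvd {n : ℕ} : ¬ 2 ∣ n ↔ Odd n := by rw [← Nat.not_even_iff_odd, even_iff_two_dvd]

instance solv_Od (X : Subgroup G) : Group.IsSolvable (Od X) := feit_thompson _ (odd_Od' X)

theorem Ut_le (t : G) : Ut t ≤ 𝐂[t] := piCoreOf_le _ _
theorem Ft_le (t : G) : Ft t ≤ Ut t := fittingOf_le _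
theorem norm_Ut (t : G) : 𝐂[t] ≤ 𝐍(Ut t) := le_norm_piCoreOf _ _
theorem norm_Ft (t : G) : 𝐂[t] ≤ 𝐍(Ft t) := (norm_Ut t).trans (norm_le_norm_fittingOf _)
theorem conj_cent1 (g t : G) : MulAut.conj g • 𝐂[t] = 𝐂[g * t * g⁻¹] := Subgroup.ext fun x => by
  rw [mem_conj_smul, mem_cent1, mem_cent1]
  constructor
  · intro e
    calc _ = g * (g⁻¹ * x * g * t) * g⁻¹ := by group
      _ = _ := by rw [e]; group
  · intro e
    calc _ = g⁻¹ * (x * (g * t * g⁻¹)) * g := by group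
      _ = _ := by rw [e]; group
theorem conj_Ut (g t : G) : MulAut.conj g • Ut t = Ut (g * t * g⁻¹) := by rw [conj_piCoreOf, conj_cent1]
theorem conj_Ft (g t : G) : MulAut.conj g • Ft t = Ft (g * t * g⁻¹) := by rw [conj_fittingOf, conj_Ut]
theorem conj_Wt (g t s : G) : MulAut.conj g • Wt t s = Wt (g * t * g⁻¹) (g * s * g⁻¹) := by
  rw [conj_smul_inf, conj_Ut, conj_cent1]

theorem Wt_mul {t s : G} (hk : Kl t s) : Wt t (t * s) = Wt t s := Subgroup.ext fun x =>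
  and_congr_right fun hx => by
    have := mem_cent1.1 (Ut_le t hx)
    change x ∈ 𝐂[t * s] ↔ x ∈ 𝐂[s]
    rw [mem_cent1, mem_cent1, ← mul_assoc, this, mul_assoc, mul_assoc, mul_right_inj]

namespace Sd
variable (h : Sd G)
include h

theorem Wt_comm {t s : G} (hk : Kl t s) : Wt t s = Wt s t :=
  le_antisymm (fun _ hx => ⟨h.mem_Ut hk.r hx.2 (odd_of_mem_Od hx.1), Ut_le t hx.1⟩)
    fun _ hx => ⟨h.mem_Ut hk.l hx.2 (odd_of_mem_Od hx.1), Ut_le s hx.1⟩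

theorem mem_Vk {t s y : G} (hk : Kl t s) (hy : IsPElt 2 y) (h1 : y ∈ 𝐂[t]) (h2 : y ∈ 𝐂[s]) : y ∈ Vk t s := by
  obtain ⟨S, σ, k, D, e⟩ := h.exists_dih_kl hk (T := zpowers s ⊔ zpowers y)
    (hk.r.isPGroup.to_sup_of_normal_left' hy.isPGroup_zpowers
      (zpowers_le.2 (cent_le_norm _ (by rwa [centralizer_zpowers]))))
    (sup_le (zpowers_le.2 hk.mem_cent) (zpowers_le.2 h1)) (mem_sup_left (mem_zpowers s))
  exact D.mem_Vk (e (mem_sup_right (mem_zpowers y))) (mem_cent1.1 h2).symm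

theorem cent_kl {t s : G} (hk : Kl t s) : 𝐂[t] ⊓ 𝐂[s] = Vk t s ⊔ Wt t s := by
  refine le_antisymm (fun x hx => ?_) (sup_le (hk.cent_Vk ▸ hk.le_cent) (inf_le_inf_right _ (Ut_le t)))
  have h1 := zpowers_le.2 hx (pPart_mem_zpowers 2 x)
  have h2 := zpowers_le.2 hx (pRegPart_mem_zpowers 2 x)
  rw [← pPart_mul_pRegPart 2 x]
  exact mul_mem_sup (h.mem_Vk hk (isPElt_pPart 2 x) h1.1 h1.2)
    ⟨h.mem_Ut hk.l h2.1 (not_two_dvd.1 (isPRegular_pRegPart 2 x)), h2.2⟩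

theorem le_of_kl {t s : G} (hk : Kl t s) {Y M : Subgroup G} (ho : Odd (Nat.card Y)) (ht : t ∈ 𝐍(Y))
    (hs : s ∈ 𝐍(Y)) (h1 : Y ⊓ Ut t ≤ M) (h2 : Y ⊓ Ut s ≤ M) (h3 : Y ⊓ Ut (t * s) ≤ M) : Y ≤ M := by
  haveI := comm_iff_le_cent.2 hk.le_cent
  have e : ∀ u, Inv u → Y ⊓ 𝐂[u] ≤ Y ⊓ Ut u := fun u hu =>
    le_inf inf_le_left (h.le_Ut hu inf_le_right (ho.of_dvd_nat (card_dvd_of_le inf_le_left)))
  refine le_of_forall_centralizer_le (hk.Vk_le.2 ⟨ht, hs⟩) (cop_of_odd hk.isPGroup (not_two_dvd.2 ho))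
    hk.not_cyclic fun a ha h0 => ?_
  rcases hk.mem_Vk.1 ha with rfl | rfl | rfl | rfl
  exacts [absurd rfl h0, (e _ hk.l).trans h1, (e _ hk.r).trans h2, (e _ hk.inv_mul).trans h3]

theorem swap' {t s : G} (hk : Kl t s) : IsSylowIn 2 (Vk t s) ⊤ ∨ ∃ y, Kl t y ∧ y * s * y⁻¹ = t * s := by
  obtain ⟨S, σ, k, D⟩ := h.exists_dih' hk
  rcases Nat.eq_zero_or_pos k with rfl | hk'
  · exact .inl (D.eq_Vk_of_zero.2 ▸ D.syl)
  · exact let ⟨y, _, e⟩ := D.exists_swap hk'; .inr ⟨y, e⟩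

theorem swap {t s : G} (hk : Kl t s) :
    IsSylowIn 2 (Vk t s) ⊤ ∨ ∃ y ∈ 𝐂[t], Inv y ∧ y * s * y⁻¹ = t * s :=
  (h.swap' hk).imp_right fun ⟨y, h1, h2⟩ => ⟨y, h1.mem_cent, h1.r, h2⟩

end Sd

theorem Kl.fused_of_sylow {t s : G} (hk : Kl t s) (hS : IsSylowIn 2 (Vk t s) ⊤) {n : G} (hn : n ∈ 𝐍(Vk t s))
    (e : n * t * n⁻¹ = s) : n * s * n⁻¹ = t * s := by
  obtain ⟨m, hm, h1⟩ := exists_odd_pow hS hk.le_cent hn
  have h2 : ∀ v ∈ Vk t s, v ≠ 1 → n * v * n⁻¹ ≠ v := fun v hv h0 e' => hk.ne (by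
    rw [← e, ← mem_centralizer_iff.1 (cent_of_fix hk.card (fun _ => hk.sq) hn hm h1 hv h0 e') t hk.left_mem,
      mul_inv_cancel_right])
  rcases hk.mem_Vk.1 (conj_mem_of_mem_normalizer hn hk.right_mem) with e' | e' | e' | e'
  · exact absurd e' (hk.r.conj n).ne
  · exact absurd (by rw [← conj_mul, e, e', hk.comm]) (h2 _ (mul_mem hk.left_mem hk.right_mem) hk.inv_mul.ne)
  · exact absurd e' (h2 _ hk.right_mem hk.r.ne)
  · exact e'

theorem Kl.fused_of_conjIn {t s : G} (hk : Kl t s) (hS : IsSylowIn 2 (Vk t s) ⊤) {H : Subgroup G} (ht : t ∈ H)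
    (hc : ConjIn H t s) : Fused H t s := by
  obtain ⟨g, hg, e⟩ := hc
  obtain ⟨n, hn, e'⟩ := burnside_fusion (hS.of_le (hk.Vk_le.2 ⟨ht, e ▸ mul_mem (mul_mem hg ht) (inv_mem hg)⟩) le_top)
    hk.le_cent hk.left_mem hg (e ▸ hk.right_mem)
  exact ⟨n, hn.1, e'.trans e, hk.fused_of_sylow hS hn.2 (e'.trans e)⟩

theorem fused_of_swap {t s y z : G} (hk : Kl t s) (hy : y ∈ 𝐂[t]) (hy2 : Inv y) (e1 : y * s * y⁻¹ = t * s)
    (hz : z ∈ 𝐂[s]) (e2 : z * t * z⁻¹ = s * t) :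
    y * z * t * (y * z)⁻¹ = s ∧ y * z * s * (y * z)⁻¹ = t * s := by
  constructor
  · calc _ = y * (z * t * z⁻¹) * y⁻¹ := by group
      _ = _ := by rw [e2, ← hk.comm, ← e1, hy2.conj_conj]
  · rw [mul_assoc y, mem_cent1.1 hz, ← e1]; group

theorem Fused.mul {X : Subgroup G} {t s : G} (hk : Kl t s) (h : Fused X t s) : Fused X t (t * s) := by
  obtain ⟨g, hg, e1, e2⟩ := h
  have e3 : g * (t * s) * g⁻¹ = t := by rw [← conj_mul, e1, e2, hk.comm, hk.r.mul_mul]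
  refine ⟨g * g, mul_mem hg hg, ?_, ?_⟩
  · rw [← e2, ← e1]; group
  · calc _ = g * (g * (t * s) * g⁻¹) * g⁻¹ := by group
      _ = _ := by rw [e3, e1, hk.l.mul_mul]

theorem Fused.conjIn {X : Subgroup G} {t s : G} (h : Fused X t s) : ConjIn X t s :=
  let ⟨g, hg, e, _⟩ := h; ⟨g, hg, e⟩

theorem Fused.mono {X Y : Subgroup G} {t s : G} (h : Fused X t s) (e : X ≤ Y) : Fused Y t s :=
  let ⟨g, hg, e'⟩ := h; ⟨g, e hg, e'⟩

namespace Sd
variable (h : Sd G)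
include h

theorem fused {t s : G} (hk : Kl t s) : Fused ⊤ t s := by
  rcases h.swap hk with hS | ⟨y, hy, hy2, e1⟩
  · exact hk.fused_of_conjIn hS trivial (h.conj hk.l hk.r)
  rcases h.swap hk.symm with hS | ⟨z, hz, -, e2⟩
  · exact hk.fused_of_conjIn (hk.Vk_comm ▸ hS) trivial (h.conj hk.l hk.r)
  · exact ⟨y * z, trivial, fused_of_swap hk hy hy2 e1 hz e2⟩

theorem conjIn_mul {t s : G} (hk : Kl t s) {H : Subgroup G} (hH : 𝐂[t] ≤ H) (hc : ConjIn H t (t * s)) :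
    ConjIn H t s := by
  rcases h.swap hk with hS | ⟨y, hy, hy2, e1⟩
  · have := ((hk.mulR.fused_of_conjIn (hk.Vk_mul ▸ hS) (hH (mem_cent1.2 rfl)) hc).mul hk.mulR).conjIn
    rwa [hk.l.mul_mul] at this
  · obtain ⟨g, hg, e⟩ := hc
    exact ⟨y * g, mul_mem (hH hy) hg, by rw [← hy2.conj_conj s, e1, ← e]; group⟩

end Sd

theorem stepA1 (h : Sd G) {t : G} (ht : Inv t) {H : Subgroup G} (hH : H ≠ ⊤) (hC : 𝐂[t] ≤ H)
    (h1 : ∀ s, Kl t s → ConjIn H t s) : Ut t = ⊥ ∧ Nat.card 𝐂[t] = 4 := by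
  obtain ⟨S, σ, τ, k, D, -⟩ := h.exists_dih ht IsPGroup.of_bot bot_le
  rcases Nat.eq_zero_or_pos k with rfl | hk
  swap
  · exact absurd (no_se_dih D hk hC (h1 _ D.kl_τ) (h1 _ D.kl_στ)) hH
  haveI := h.simple
  haveI : IsSimpleGroup (⊤ : Subgroup G) := topEquiv.isSimpleGroup
  have hU : Ut t = ⊥ := eq_bot_iff.2 fun d hd => by
    have := a5type (K := ⊤) (M := H) (fun _ => h.ns (solvable_of_surjective (f := (⊤ : Subgroup G).subtype)
      fun x => ⟨⟨x, trivial⟩, rfl⟩)) D.syl D.card_P (D.le D.J_mem) ht.ne (inf_le_right.trans hC) (fun n hn => ?_)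
      (fun e => hH (eq_top_iff.2 e)) (odd_of_mem_Od hd) (by rw [normalizer_eq_top]; trivial) (hC (Ut_le t hd)) (mem_cent1.1 (Ut_le t hd))
    · by_contra h0
      exact h.cent1_ne_top h0 (eq_top_iff.2 fun x _ => mem_cent1.2 (mem_centralizer_iff.1 this x trivial))
    · by_cases e : n * t * n⁻¹ = t
      · exact hC (mem_cent1.2 (mul_inv_eq_iff_eq_mul.1 e))
      have h2 := conj_mem_of_mem_normalizer hn.2 (D.le D.J_mem)
      obtain ⟨g, hg, e'⟩ := h1 _ ⟨ht, ht.conj n, Ne.symm e, (mem_cent1.1 (D.le_C h2)).symm⟩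
      have : g⁻¹ * n ∈ H := hC (mem_cent1.2 (by
        rw [← mul_right_inj g, ← mul_left_inj n⁻¹, mul_assoc g⁻¹, mul_inv_cancel_left, ← e']; group))
      simpa using mul_mem hg this
  exact ⟨hU, by rw [D.card_C, hU, card_bot]; rfl⟩

end GW
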