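import Cfsg.Agent.Lib.GW.CaseIC

/-!
# Step B, case I: `M` contains an involution outside its layer
-/

set_option autoImplicit false
set_option linter.unusedSectionVars false

namespace GW

open Cfsg GT FT Subgroup CI0
open scoped Pointwise commutatorElement

universe u

variable {G : Type u} [Group G] [Finite G]

theorem CI0.le_cent_of_cyclic {D L : Subgroup G} {v : G} (hD : IsCyclic D) (h1 : L ≤ 𝐍(D)) (h2 : v ∈ 𝐍(D))
    (ho : Odd (Nat.card L)) (hi : InvBy v L) : L ≤ 𝐂(D) := fun x hx =>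
  mem_cent_of_cyclic hD (h1 hx) h2 (ho.of_dvd_nat (orderOf_dvd_natCard L hx)) (hi x hx)

theorem CI0.cent_of_sq {p : ℕ} [hp : Fact p.Prime] {W L : Subgroup G} {v : G} (hW : Nat.card W ∣ p ^ 2)
    (h1 : L ≤ 𝐍(W)) (h2 : v ∈ 𝐍(W)) (ho : Odd (Nat.card L)) (hc : ¬ p ∣ Nat.card L) (hi : InvBy v L)
    (h0 : W ⊓ 𝐂(L) ≠ ⊥) : L ≤ 𝐂(W) := by
  have h3 := coprimeAct_of_isPGroup_right h1 (P4.isPGroup_of_card_dvd hW) hc
  have := P4.comm_of_card_dvd_sq hW
  have h4 := P4.card_dvd_of_lt (lt_of_le_of_ne h3.commutator_le fun e =>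
    h0 (e ▸ h3.disjoint_commutator_centralizer.eq_bot)) hW
  refine le_cent_comm.1 (h3.le_centralizer_of_commutator_le (le_cent_comm.1 (le_cent_of_cyclic
    (isCyclic_of_card_dvd_prime (p := p) (by rwa [pow_one] at h4)) (le_norm_commutator_right W L)
    (zpowers_le.1 (le_normalizer_commutator (zpowers_le.2 h2) (zpowers_le.2 (mem_normalizer_of_conj_mem fun x hx => ?_))))
    ho hi)))
  rw [hi x hx]
  exact inv_mem hx

namespace CL
variable {t s : G} {M K : Subgroup G} {q d k m e φ : ℕ} (c : CL t s M q d k m e φ K)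
include c

theorem exists_out {u : G} (h1 : u ∈ M) (h2 : Inv u) (h3 : u ∉ Ly M) : ∃ v ∈ M, v ∉ Ly M ∧ Kl t v := by
  obtain ⟨T, hT, h4⟩ := exists_isSylowIn_ge h2.isPGroup (zpowers_le.2 h1)
  have h5 := hT.inf_of_le_normalizer (Ly_le M) (le_norm_Ly M)
  have h6 := inf_centralizer_ne_bot_of_isPGroup h2.isPGroup h5.isPGroup
    (h5.ne_bot (c.kl.l.orderOf ▸ orderOf_dvd_natCard _ c.tE))
    (le_normalizer_inf (h4.trans le_normalizer) ((zpowers_le.2 h1).trans (le_norm_Ly M)))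
  obtain ⟨⟨z, hz⟩, h7⟩ := exists_prime_orderOf_dvd_card' 2
    (dvd_card_of_isPGroup_of_ne_bot (h5.isPGroup.to_le inf_le_left) h6)
  rw [orderOf_mk, orderOf_eq_prime_iff] at h7
  obtain ⟨g, hg, rfl⟩ := c.cp'.conj t c.tE z hz.1.2 c.kl.l ⟨h7.2, by rw [← pow_two, h7.1]⟩
  have h8 : g⁻¹ * u * g⁻¹⁻¹ ∉ Ly M := fun h => h3 (by
    simpa [mul_assoc] using mul_mem (mul_mem hg h) (inv_mem hg))
  refine ⟨_, conj_mem_of_mem_normalizer (le_normalizer (M.inv_mem (Ly_le M hg))) h1, h8, c.kl.l, h2.conj _,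
    fun e => h8 (e ▸ c.tE), ?_⟩
  calc _ = g⁻¹ * (g * t * g⁻¹ * u) * g := by group
    _ = _ := by rw [← mem_centralizer_iff.1 hz.2 u (mem_zpowers u)]; group

theorem cop_m : k.Coprime m := by
  refine Nat.coprime_of_dvd fun r hr h1 h2 => not_two_dvd.2 c.lt.odd_k ?_
  have h3 := h1.trans c.k_dvd
  have h4 : r ∣ 2 := by
    rcases c.lt.num with ⟨e, e'⟩ | ⟨e, e'⟩
    · exact (Nat.dvd_add_right h3).1 ((show 2 * m = d + 2 by omega) ▸ h2.mul_left 2)
    · exact (Nat.dvd_add_right (h2.mul_left 2)).1 ((show d = 2 * m + 2 by omega) ▸ h3)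
  exact (Nat.prime_dvd_prime_iff_eq hr Nat.prime_two).1 h4 ▸ h1

theorem exists_L {u : G} (h1 : u ∈ M) (h2 : Inv u) (h3 : u ∉ Ly M) :
    ∃ v ∈ M ⊓ 𝐂[t], ∃ L ≤ Ut t, InvBy v L ∧ Nat.card L = m ∧ M ⊓ L = ⊥ := by
  obtain ⟨v, h4, h5, hk⟩ := c.exists_out h1 h2 h3
  obtain ⟨L, h6, h7, -⟩ := c.lt.tor_out v h4 hk.r h5
  obtain ⟨g, -, e1, e2⟩ := c.sd.fused hk
  have e3 : g * (t * v) * g⁻¹ = t := by rw [← conj_mul, e1, e2, hk.comm, hk.r.mul_mul]
  have a1 : t * v ∈ M ⊓ 𝐂[t] := ⟨mul_mem c.t_mem h4, hk.mulR.mem_cent⟩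
  have a2 : MulAut.conj g⁻¹ • L ≤ Ut t := by
    rw [conj_smul_le_iff_le_inv, inv_inv, conj_Ut, e1]
    exact h6.le.trans inf_le_right
  have a3 : InvBy (t * v) (MulAut.conj g⁻¹ • L) := fun x hx => by
    obtain ⟨y, hy, rfl⟩ := mem_conj_smul'.1 hx
    calc _ = g⁻¹ * (g * (t * v) * g⁻¹ * y * (g * (t * v) * g⁻¹)⁻¹) * g := by group
      _ = _ := by rw [e3, h6.inv t c.t_mem hk.symm y hy]; group
  have a4 := (card_conj_smul g⁻¹ L).trans h7
  have a5 : ∀ D : Subgroup G, IsCyclic D → M ⊓ 𝐂[t] ≤ 𝐍(D) → D ≤ 𝐂((M ⊓ MulAut.conj g⁻¹ • L : Subgroup G)) :=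
    fun D hD hn => le_cent_comm.1 (le_cent_of_cyclic hD ((inf_le_inf_left _ (a2.trans (Ut_le t))).trans hn) (hn a1)
      (odd_of_le_Od (inf_le_right.trans a2)) fun x hx => a3 x hx.2)
  exact ⟨_, a1, _, a2, a3, a4, c.eq_bot_of_cop (inf_le_right.trans a2)
    (c.cop_m.coprime_dvd_right (a4 ▸ card_dvd_of_le inf_le_right)) (a5 _ c.B_cyc.1 c.norm_B) (a5 _ c.tor.cyc c.tor.norm)⟩

end CL

theorem CP.outer {t s b : G} {M K : Subgroup G} {q d k m e φ p : ℕ} [hp : Fact p.Prime]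
    (c : CP t s M q d k m e φ K p b) {u : G} (h1 : u ∈ M) (h2 : Inv u) (h3 : u ∉ Ly M) : False := by
  obtain ⟨v, hv, L, hL, hi, hm, h0⟩ := c.exists_L h1 h2 h3
  have hC := hL.trans (Ut_le t)
  have ho := odd_of_le_Od hL
  have hc : ¬ p ∣ Nat.card L := fun h => hp.out.ne_one (Nat.eq_one_of_dvd_coprimes c.cop_m c.p_dvd (hm ▸ h))
  have n1 : p + 2 ≤ m := by
    obtain ⟨a, h, e⟩ := c.lt.dk
    have := Nat.mul_le_mul_right k (Nat.pow_le_pow_right two_pos h)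
    have := Nat.le_of_dvd c.lt.odd_k.pos c.p_dvd
    have := c.three_le
    have := c.lt.num
    omega
  have n2 : ∀ H : Subgroup G, H ⊓ L ≤ M → H.relIndex L = m := fun H h => by
    rw [← hm, ← card_inf_mul_relIndex H L, eq_bot_iff.2 ((le_inf h inf_le_right).trans h0.le), card_bot, one_mul]
  by_cases hb : b ∈ 𝐂(Pp p t)
  · have := c.cj_Z hb hC
    rw [n2 M inf_le_left] at this
    omega
  have z1 : Dz p t ≤ 𝐂(L) :=
    le_cent_comm.1 (le_cent_of_cyclic (c.Dz_cyc hb) (hC.trans (norm_Dz p t)) (norm_Dz p t hv.2) ho hi)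
  have z2 : ∀ W L' : Subgroup G, Zz p t ≤ W → L' ≤ L → W ⊓ 𝐂(L') ≠ ⊥ := fun W L' a a' e => hp.out.ne_one (by
    rw [← c.cardZ hb, eq_bot_iff.2 ((le_inf a ((Zz_le' p t).trans (z1.trans (centralizer_anti a')))).trans e.le),
      card_bot])
  by_cases hA : b ∈ Az p t
  · have k1 : (Cj L (zpowers b ⊔ Zz p t)).ncard = m := (ncard_Cj _ _).trans (n2 _ ((cent_of_sq (c.cardYZ hb).dvd
      inf_le_left (zpowers_le.1 (le_normalizer_sup (zpowers_le.2 (c.normY.ge hv.1)) (zpowers_le.2 (norm_Zz p t hv.2))))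
      (ho.of_dvd_nat (card_dvd_of_le inf_le_right)) (fun h => hc (h.trans (card_dvd_of_le inf_le_right)))
      (fun x hx => hi x hx.2) (z2 _ _ le_sup_right inf_le_right)).trans
      ((cent_le_cent1 (mem_sup_left (mem_zpowers b))).trans c.centb)))
    have k2 : ∀ X ∈ Cj L (zpowers b ⊔ Zz p t), Zz p t ≤ X ∧ X ≤ Az p t ∧ Nat.card X = p ^ 2 := by
      rintro _ ⟨g, hg, rfl⟩
      refine ⟨?_, conj_smul_le_iff.2 fun x hx => conj_mem_of_mem_normalizer (norm_Az p t (hC hg))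
        ((sup_le (zpowers_le.2 hA) (Zz_le p t) : _ ≤ Az p t) hx), (card_conj_smul _ _).trans (c.cardYZ hb)⟩
      rw [conj_smul_sup, conj_smul_eq_iff_mem_normalizer.2 (norm_Zz p t (hC hg))]
      exact le_sup_right
    have k3 := (lines (Zz_le p t) k2 fun X hX X' hX' hne => (eq_of_le_of_card_ge (le_inf (k2 X hX).1 (k2 X' hX').1)
      (Nat.le_of_dvd Nat.card_pos (by
        rw [c.cardZ hb, ← pow_one p]
        exact P4.card_dvd_of_lt (lt_of_le_of_ne inf_le_left fun e => hne (eq_of_le_of_card_ge (inf_eq_left.1 e)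
          (by rw [(k2 X hX).2.2, (k2 X' hX').2.2]))) (k2 X hX).2.2.dvd))).ge).trans
      (Nat.le_of_dvd (pow_pos hp.out.pos 3) (c.cardA hb))
    rw [k1, c.cardZ hb] at k3
    obtain ⟨r, rfl⟩ : ∃ r, p = r + 3 := ⟨p - 3, by have := c.three_le; omega⟩
    rw [show (r + 3) ^ 2 - (r + 3) = (r + 3) * (r + 2) from Nat.sub_eq_of_eq_add (by ring)] at k3
    have := Nat.mul_le_mul_right ((r + 3) * (r + 2)) n1
    nlinarith
  obtain ⟨a1, a2, a3⟩ := c.cardA' hA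
  have a4 := cent_of_sq a1 (hC.trans (norm_Az p t)) (norm_Az p t hv.2) ho hc hi (z2 _ _ (Zz_le p t) le_rfl)
  have a5 := coprimeAct_of_isPGroup_right (hC.trans (norm_Pp p t)) (isPGroup_Op p _) hc
  have hP : Pp p t ≤ 𝐂[t] := (piCoreOf_le _ _).trans (Ut_le t)
  have a6 : ⁅Pp p t, L⁆ ≤ Pp p t ⊓ 𝐂(Az p t) := le_inf a5.commutator_le ((commutator_mono le_rfl a4).trans
    (commutator_le_right_of_norm (le_normalizer_centralizer (hP.trans (norm_Az p t)))))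
  have a7 := le_cent_of_invBy' (c.invBy (D := Pp p t ⊓ 𝐂(Az p t)) (inf_le_left.trans (Pp_le p t))
    ((eq_bot_iff_forall _).2 fun x hx => by_contra fun h => a3 ((le_cent1_iff.2 hx.1.2).trans (c.cent1_le h hx.2)))
    c.sE c.kl (le_normalizer_inf (norm_Pp p t) (le_normalizer_centralizer (norm_Az p t)) c.kl.mem_cent))
  have : IsMulCommutative ↥⁅Pp p t, L⁆ := comm_iff_le_cent.2 (a6.trans (a7.trans (centralizer_anti a6)))
  have a8 := a5.commutator.disjoint_commutator_centralizer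
  rw [a5.commutator_commutator_eq] at a8
  have := (isPGroup_Op p (Ut t)).isNilpotent
  have a9 : ⁅Pp p t, L⁆ = ⊥ := by_contra fun h => inf_Zc_ne_bot a5.commutator_le (le_norm_commutator_left _ _) h
    (a8.mono_right ((inf_le_inf_right _ (Pp_le p t)).trans z1)).eq_bot
  have a10 := n2 ⊤ (inf_le_right.trans ((le_cent1_iff.2 (commutator_eq_bot_iff_le_centralizer.1 a9 c.bP)).trans c.centb))
  rw [relIndex_top_left] at a10
  omega

end GW
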