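import Cfsg.Agent.Lib.GW.ChA

/-!
# The order formula in the case `|W₁| = 3 |W₂|`
-/

set_option autoImplicit false
set_option linter.unusedSectionVars false

namespace GW

open Cfsg CT GT BT FT GAG Subgroup
open scoped Pointwise commutatorElement ComplexConjugate IsMulCommutative

variable {G : Type*} [Group G] [Finite G]

/-- Brauer's class multiplication formula for the character of order two. -/
theorem _root_.GT.DihSyl.card_mul_sum_fw' {M : Ideal AlgInt} (hM : IsPModular 2 M)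
    {P : Subgroup G} {σ τ J : G} {k : ℕ} (D : DihSyl P σ τ J k) (hτ : IsConj J τ) (hστ : IsConj J (σ * τ))
    {l : zpowers σ →* ℂˣ} (hl : l ⟨σ, mem_zpowers σ⟩ = -1) :
    (Nat.card G : ℂ) * ∑ χ, fw (principalBlock M G) (zpowers σ).subtype l χ * (χ.1 J ^ 2 / χ.1 1) =
      -8 * (Nat.card (centralizer ({J} : Set G)) : ℂ) ^ 3 *
        (1 / Nat.card (centralizer ({J, τ} : Set G)) *
          (1 / Nat.card (centralizer ({J, σ * τ} : Set G)))) := by
  classical
  have := Fintype.ofFinite G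
  obtain ⟨φ, R⟩ := D.exists_retr
  have hτC := D.le_C D.τ_mem
  have hστP := mul_mem D.σ_mem D.τ_mem
  have hσC := D.le_C D.σ_mem
  let T : Finset (centralizer ({J} : Set G)) := {a | IsConj J a.1}
  let T' := T.filter (φ · ∉ zpowers σ)
  let T₀ : Finset (centralizer ({J} : Set G)) := {a | IsConj ⟨τ, hτC⟩ a}
  let T₁ : Finset (centralizer ({J} : Set G)) := {a | IsConj ⟨σ * τ, D.le_C hστP⟩ a}
  have hT : ∀ a ∈ T, IsConj a.1 (φ a) ∧ ∃ g ∈ centralizer {J}, g * a * g⁻¹ = φ a := fun a ha => by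
    have hp : IsPElt 2 a.1 := isPElt_of_pow_eq_one (k := 1)
      (by rw [pow_one, sq, D.sq_of_isConj (Finset.mem_filter.1 ha).2])
    exact ⟨R.isConj hp, R.conj a hp⟩
  have hJ : ∀ a ∈ T, φ a ∈ zpowers σ → φ a = J := fun a ha h => by
    have h1 := (Finset.mem_filter.1 ha).2.trans (hT a ha).1
    exact D.eq_J_of_sq h (fun h => D.J_ne_one (isConj_one_left.1 (h ▸ h1))) (D.sq_of_isConj h1)
  have hφc : ∀ (t : G) (ht : t ∈ P) a, IsConj (⟨t, D.le_C ht⟩ : centralizer ({J} : Set G)) a →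
      ∃ g ∈ P, φ a = g * t * g⁻¹ := fun t ht a h => by
    obtain ⟨g, rfl⟩ := isConj_iff.1 h
    exact ⟨φ g, R.mem g, by rw [map_mul, map_mul, map_inv, R.id ⟨t, _⟩ ht]⟩
  have hnS : ∀ t ∈ P, t ∉ zpowers σ → ∀ g ∈ P, g * t * g⁻¹ ∉ zpowers σ := fun t _ ht g hg h => by
    by_cases hs : g ∈ zpowers σ
    · exact ht ((mul_mem_cancel_left hs).1 ((mul_mem_cancel_right (inv_mem hs)).1 h))
    · have := D.conj_of_not_mem (inv_mem hg) (mt inv_mem_iff.1 hs) h
      have h2 := inv_mem h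
      rw [← this] at h2
      exact ht (by simpa [mul_assoc] using h2)
  have hcj : ∀ a b : centralizer ({J} : Set G), IsConj a b → IsConj a.1 b.1 := fun a b h =>
    (centralizer {J}).subtype.map_isConj h
  have hT' : T' = T₀ ∪ T₁ := by
    ext a
    simp only [T', T₀, T₁, Finset.mem_union, Finset.mem_filter, Finset.mem_univ, true_and]
    constructor
    · rintro ⟨ha, h⟩
      obtain ⟨g, hg, h1⟩ := (hT a ha).2
      obtain ⟨s, hs, h2⟩ := D.exists_conj_of_not_mem (R.mem a) h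
      have hsC := D.le_C (D.le hs)
      refine h2.imp (fun h2 => isConj_iff.2 ⟨⟨g⁻¹ * s, mul_mem (inv_mem hg) hsC⟩, Subtype.ext ?_⟩)
        fun h2 => isConj_iff.2 ⟨⟨g⁻¹ * s, mul_mem (inv_mem hg) hsC⟩, Subtype.ext ?_⟩
      · have := D.conj_mul_τ hs (one_mem _)
        rw [one_mul, mul_one, ← h2, ← h1] at this
        calc _ = g⁻¹ * (s * τ * s⁻¹) * g := by simp only [coe_mul, coe_inv]; group
          _ = _ := by rw [this]; group
      · have := D.conj_mul_τ hs (mem_zpowers σ)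
        rw [← h2, ← h1] at this
        calc _ = g⁻¹ * (s * (σ * τ) * s⁻¹) * g := by simp only [coe_mul, coe_inv]; group
          _ = _ := by rw [this]; group
    · rintro (h | h)
      · obtain ⟨g, hg, h1⟩ := hφc τ D.τ_mem a h
        exact ⟨Finset.mem_filter.2 ⟨Finset.mem_univ _, hτ.trans (hcj _ _ h)⟩,
          h1 ▸ hnS τ D.τ_mem D.not_mem g hg⟩
      · obtain ⟨g, hg, h1⟩ := hφc _ hστP a h
        exact ⟨Finset.mem_filter.2 ⟨Finset.mem_univ _, hστ.trans (hcj _ _ h)⟩,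
          h1 ▸ hnS _ hστP (D.mul_τ_not_mem (mem_zpowers σ)) g hg⟩
  have hdisj : Disjoint T₀ T₁ := Finset.disjoint_filter.2 fun a _ h0 h1 => by
    obtain ⟨g, hg, h⟩ := hφc τ D.τ_mem _ (h0.trans h1.symm)
    rw [R.id _ hστP] at h
    obtain ⟨s, hs, h2⟩ : ∃ s ∈ zpowers σ, g * τ * g⁻¹ = s * τ * s⁻¹ := by
      by_cases hs : g ∈ zpowers σ
      · exact ⟨g, hs, rfl⟩
      · obtain ⟨s, hs', rfl⟩ := D.exists_eq_mul hg hs
        exact ⟨s, hs', by group⟩
    have := D.conj_mul_τ hs (one_mem _)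
    rw [one_mul, mul_one, ← h2, ← h] at this
    exact D.σ_ne_mul_self hs (mul_right_cancel this).symm
  have hc : ∀ (t : G) (ht : t ∈ centralizer {J}),
      ((Finset.univ.filter (IsConj (⟨t, ht⟩ : centralizer ({J} : Set G)))).card : ℂ) =
        Nat.card (centralizer ({J} : Set G)) / Nat.card (centralizer ({J, t} : Set G)) :=
    fun t ht => by
    rw [← Nat.subtype_card _ (p := IsConj (⟨t, ht⟩ : centralizer ({J} : Set G)))
      fun _ => by rw [Finset.mem_filter_univ], card_conj_eq_index,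
      ← card_centralizer_pair ht, eq_div_iff card_cast_ne_zero, ← Nat.cast_mul, index_mul_card]
  let f : centralizer ({J} : Set G) → zpowers σ := fun a =>
    if h : φ a * τ ∈ zpowers σ then ⟨_, h⟩ else 1
  have hf : ∀ a ∈ T', (f a : G) = φ a * τ := fun a ha => by
    simp only [f, dif_pos ((D.cases _ (R.mem a)).resolve_left (Finset.mem_filter.1 ha).2)]
  have hl2 : ∀ s : zpowers σ, l (s * s) = 1 := fun s => by
    obtain ⟨n, hn⟩ := mem_zpowers_iff.1 s.2
    rw [show s = ⟨σ, mem_zpowers σ⟩ ^ n from Subtype.ext hn.symm, ← mul_zpow, map_zpow, map_mul, hl]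
    simp
  have hcm : ∀ x ∈ zpowers σ, ∀ g ∈ P, ∃ s ∈ zpowers σ, g * (x * τ) * g⁻¹ = s * s * x * τ :=
    fun x hx g hg => by
    by_cases hs : g ∈ zpowers σ
    · exact ⟨g, hs, D.conj_mul_τ hs hx⟩
    · obtain ⟨s, hs', rfl⟩ := D.exists_eq_mul hg hs
      refine ⟨s * x⁻¹, mul_mem hs' (inv_mem hx), ?_⟩
      have h1 := D.conj_mul_τ hs' (inv_mem hx)
      have h2 := DihSyl.comm hs' (inv_mem hx)
      calc _ = s * (τ * x * τ⁻¹ * τ) * s⁻¹ := by group
        _ = s * s * x⁻¹ * τ := by rw [D.τ_conj hx, h1]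
        _ = s * (x⁻¹ * s) * τ := by rw [mul_assoc s s, h2]
        _ = _ := by group
  have h0 : ∀ a ∈ T₀, (l (f a) : ℂ) = 1 := fun a ha => by
    obtain ⟨g, hg, h1⟩ := hφc τ D.τ_mem a (Finset.mem_filter.1 ha).2
    obtain ⟨s, hs, h2⟩ := hcm 1 (one_mem _) g hg
    rw [one_mul, mul_one] at h2
    rw [show f a = ⟨s, hs⟩ * ⟨s, hs⟩ from Subtype.ext (by
      rw [hf a (hT' ▸ Finset.mem_union_left _ ha), h1, h2, mul_assoc, D.τ_sq, mul_one]; rfl),
      hl2, Units.val_one]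
  have h1 : ∀ a ∈ T₁, (l (f a) : ℂ) = -1 := fun a ha => by
    obtain ⟨g, hg, h1⟩ := hφc _ hστP a (Finset.mem_filter.1 ha).2
    obtain ⟨s, hs, h2⟩ := hcm σ (mem_zpowers σ) g hg
    rw [show f a = ⟨s, hs⟩ * ⟨s, hs⟩ * ⟨σ, mem_zpowers σ⟩ from Subtype.ext (by
      rw [hf a (hT' ▸ Finset.mem_union_right _ ha), h1, h2, mul_assoc, D.τ_sq, mul_one]; rfl),
      map_mul, hl2, one_mul, hl]
    rfl
  have hX : ∑ a ∈ T', (l (f a) : ℂ) = T₀.card - T₁.card := by
    rw [hT', Finset.sum_union hdisj, Finset.sum_congr rfl h0, Finset.sum_congr rfl h1]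
    simp only [Finset.sum_const, nsmul_eq_mul]
    ring
  have hX' : ∑ a ∈ T', conj (l (f a) : ℂ) = T₀.card - T₁.card := by
    rw [← map_sum, hX, map_sub, map_natCast, map_natCast]
  have h1 := BT.card_mul_sum_fw (B := principalBlock M G) (zpowers σ).subtype l
    fun χ => χ.1 J ^ 2 / χ.1 1
  have h2 : ∀ u : zpowers σ, ((centralizer {J}).index * (centralizer {J}).index / Nat.card G : ℂ) *
      ((conj (l u : ℂ) - 1) * ∑ χ ∈ bset (principalBlock M G), χ.1 ((zpowers σ).subtype u) *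
      (χ.1 J ^ 2 / χ.1 1)) = (Nat.card (pPrimeCore 2 (centralizer ({J} : Set G))) : ℂ)⁻¹ *
      ∑ a ∈ T, ∑ b ∈ T, if φ a * φ b = u then conj (l u : ℂ) - 1 else 0 := fun u => by
    by_cases hu : u = 1
    · simp [hu]
    have h3 := D.blockPart_clMul_eq hM R u.2 (D.ne_one hu)
    rw [blockPart_clMul, Finset.sum_congr rfl (g := fun χ => χ.1 ((zpowers σ).subtype u) *
      (χ.1 J ^ 2 / χ.1 1)) fun χ _ => by rw [conj_irr_of_sq χ D.J_sq, coe_subtype]; ring] at h3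
    rw [mul_left_comm, h3, mul_left_comm]
    simp only [Finset.mul_sum, mul_ite, mul_one, mul_zero, T]
    congr!
  have h3 : ∑ u : zpowers σ, ∑ a ∈ T, ∑ b ∈ T, (if φ a * φ b = u then conj (l u : ℂ) - 1 else 0) =
      ∑ a ∈ T', ∑ b ∈ T', (conj (l (f a) : ℂ) * l (f b) - 1) := by
    simp only [← Finset.sum_product' T T, ← Finset.sum_product' T' T']
    rw [Finset.sum_comm, show T' ×ˢ T' = _ from (Finset.filter_product _ _).symm,
      Finset.sum_filter (s := T ×ˢ T)]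
    refine Finset.sum_congr rfl fun ⟨a, b⟩ hab => ?_
    obtain ⟨ha, hb⟩ := Finset.mem_product.1 hab
    dsimp only at ha hb ⊢
    by_cases h : φ a ∈ zpowers σ <;> by_cases h' : φ b ∈ zpowers σ
    · rw [if_neg fun h1 => h1.1 h, hJ a ha h, hJ b hb h', D.J_sq]
      exact Finset.sum_eq_zero fun u _ => by
        split_ifs with h
        · rw [show u = 1 from Subtype.ext h.symm]; simp
        · rfl
    · rw [if_neg fun h1 => h1.1 h]
      exact Finset.sum_eq_zero fun u _ => if_neg fun h1 : φ a * φ b = u =>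
        h' ((mul_mem_cancel_left h).1 (h1 ▸ u.2))
    · rw [if_neg fun h1 => h1.2 h']
      exact Finset.sum_eq_zero fun u _ => if_neg fun h1 : φ a * φ b = u =>
        h ((mul_mem_cancel_right h').1 (h1 ▸ u.2))
    · have h4 : φ a * φ b = (f a * (f b)⁻¹ : zpowers σ) := by
        rw [coe_mul, coe_inv, hf a (Finset.mem_filter.2 ⟨ha, h⟩), hf b (Finset.mem_filter.2 ⟨hb, h'⟩),
          mul_inv_rev, inv_eq_of_mul_eq_one_right (D.sq_of_not_mem (R.mem b) h')]
        group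
      rw [if_pos ⟨h, h'⟩, h4]
      simp only [Subtype.coe_inj, Finset.sum_ite_eq, Finset.mem_univ, if_true]
      rw [← hat_mul_conj, map_mul, Complex.conj_conj]
  have h4 := congrArg (((centralizer {J}).index * (centralizer {J}).index / Nat.card G : ℂ) * ·) h1
  rw [Finset.mul_sum (Finset.univ : Finset (zpowers σ)), Finset.sum_congr rfl fun u _ => h2 u,
    ← Finset.mul_sum, h3] at h4
  simp only [Finset.sum_sub_distrib, ← Finset.mul_sum, hX, ← Finset.sum_mul, hX',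
    Finset.sum_const, nsmul_eq_mul, mul_one] at h4
  rw [hT', Finset.card_union_of_disjoint hdisj, Nat.cast_add, hc, hc] at h4
  have h5 : (Nat.card (centralizer ({J} : Set G)) : ℂ) =
      Nat.card (pPrimeCore 2 (centralizer ({J} : Set G))) * (Nat.card (zpowers σ) * 2) := by
    rw [← R.card, D.card_P, D.card_S]; push_cast; ring
  have h6 : (Nat.card G : ℂ) = (centralizer {J}).index * Nat.card (centralizer ({J} : Set G)) := by
    rw [← Nat.cast_mul, index_mul_card]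
  have h7 : ((centralizer {J}).index : ℂ) ≠ 0 := Nat.cast_ne_zero.2 index_ne_zero_of_finite
  have h8 := card_cast_ne_zero (G := zpowers σ)
  have h9 := card_cast_ne_zero (G := pPrimeCore 2 (centralizer ({J} : Set G)))
  have h10 := card_cast_ne_zero (G := centralizer ({J, τ} : Set G))
  have h11 := card_cast_ne_zero (G := centralizer ({J, σ * τ} : Set G))
  rw [h6, h5] at h4 ⊢
  field_simp at h4 ⊢
  refine mul_left_cancel₀ (mul_ne_zero h10 h11) ?_
  linear_combination h4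


theorem sum_zpowers {σ : G} [Fintype (zpowers σ)] (F : zpowers σ → ℂ) :
    ∑ u, F u = ∑ j ∈ Finset.range (orderOf σ), F ⟨σ ^ j, npow_mem_zpowers σ j⟩ := by
  rw [Finset.sum_range, ← (finEquivZPowers (isOfFinOrder_of_finite σ)).sum_comp]
  rfl

theorem kappa_arith {x a b : ℤ} (h8 : 8 ∣ x - 1) (h1 : x ≠ 1) (h2 : a + b = x + 1)
    (h : a * b * (x ^ 2 + 14 * x + 1) = 4 * x * (x + 1) ^ 2) : x = -15 := by
  have h3 : x ^ 2 + 14 * x + 1 ∣ 48 := ⟨(4 * x - a * b) * (x + 14) ^ 2 +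
    48 * (1 - x ^ 2 - 14 * x), by linear_combination (x + 14) ^ 2 * h⟩
  have h4 := Int.le_of_dvd (by norm_num) h3
  obtain ⟨j, hj⟩ := h8
  obtain rfl : x = 8 * j + 1 := by omega
  have h5 : j ≤ 0 := by nlinarith
  have h6 : -2 ≤ j := by nlinarith
  interval_cases j
  · rfl
  · nlinarith [sq_nonneg (a - b)]
  · omega

theorem kappa_arith' {x a b : ℤ} {g c w : ℕ} {A : ℂ} (h8 : 8 ∣ x - 1) (h1 : x ≠ 1) (h2 : a + b = x + 1)
    (ha : a ≠ 0) (hb : b ≠ 0) (hw : w ≠ 0) (hg : g ≠ 0)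
    (h3 : (g : ℂ) * (x - 1) ^ 2 = 2 * x * (x + 1) * c ^ 3 * (1 / (12 * w) + 1 / (4 * w)) ^ 2)
    (h4 : g * A = -8 * c ^ 3 * (1 / (12 * w) * (1 / (4 * w)))) (h5 : A = -(1 + 1 / x - 1 / a - 1 / b)) :
    64 * g * (3 * w) ^ 2 = 105 * c ^ 3 := by
  have hx : x ≠ 0 := by omega
  have ex : (x : ℂ) ≠ 0 := Int.cast_ne_zero.2 hx
  have ea : (a : ℂ) ≠ 0 := Int.cast_ne_zero.2 ha
  have eb : (b : ℂ) ≠ 0 := Int.cast_ne_zero.2 hb
  have ew : (w : ℂ) ≠ 0 := Nat.cast_ne_zero.2 hw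
  have eg : (g : ℂ) ≠ 0 := Nat.cast_ne_zero.2 hg
  have h2' : (a : ℂ) + b = x + 1 := by exact_mod_cast h2
  have e3 : 9 * (g : ℂ) * w ^ 2 * (x - 1) ^ 2 = 2 * x * (x + 1) * c ^ 3 := by
    field_simp at h3
    linear_combination h3 / 256
  have e4 : 6 * (g : ℂ) * w ^ 2 * (x * a * b + a * b - x * b - x * a) = c ^ 3 * (x * a * b) := by
    rw [h5] at h4
    field_simp at h4
    linear_combination -h4 / 8
  obtain rfl := kappa_arith h8 h1 h2 (Int.cast_injective (α := ℂ) (by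
    push_cast
    refine mul_left_cancel₀ (mul_ne_zero eg (pow_ne_zero 2 ew)) ?_
    linear_combination (-(a * b) / 3 : ℂ) * e3 + (2 * (x + 1) / 3 : ℂ) * e4 +
      (4 * g * w ^ 2 * x * (x + 1) : ℂ) * h2'))
  refine Nat.cast_injective (R := ℂ) ?_
  push_cast at e3 ⊢
  linear_combination e3 / 4

theorem Sd.kappa (h : Sd G) {S : Subgroup G} {σ τ t : G} (D : DihSyl S σ τ t 1)
    (he : Nat.card (Wt t τ) = 3 * Nat.card (Wt t (σ * τ))) :
    64 * Nat.card G * Nat.card (Wt t τ) ^ 2 = 105 * Nat.card 𝐂[t] ^ 3 := by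
  classical
  have := Fintype.ofFinite (zpowers σ)
  obtain ⟨M, hM⟩ := exists_isPModular Nat.prime_two
  have hζ : IsPrimitiveRoot Complex.I (2 ^ (1 + 1)) := Complex.isPrimitiveRoot_I
  obtain ⟨χ₁, χ₂, χ₃, θ, δ₁, δ₂, δ₃, s1, s2, s3, -, n1, n2, n3, n12, n13, n23, nθ, hB, hv, hr⟩ :=
    D.exists_struct hM le_rfl hζ
  have c1 := h.isConj D.inv_J D.kl_τ.r
  have c2 := h.isConj D.inv_J D.kl_στ.r
  have h2 : ∀ u ∈ zpowers σ, u ≠ 1 → χ₁.1 u = δ₁ := fun u hu hu1 => by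
    obtain ⟨l, hl, rfl⟩ := Finset.mem_image.1 (mem_zpowers_iff_mem_range_orderOf.1 hu)
    exact (hv l (Nat.pos_of_ne_zero fun h => hu1 (by rw [h, pow_zero]))
      (D.ord ▸ Finset.mem_range.1 hl)).1
  obtain ⟨h3, -⟩ := D.order_formula hM le_rfl c1 c2 ((hB χ₁).2 (by simp)) n1 s1 h2
  obtain ⟨h5, h6⟩ := h.signed n1 (P := S) s1 fun x hx hx1 => by
    by_cases e : x ∈ zpowers σ
    · exact h2 x e hx1
    · rw [← (irr_isClassFunction χ₁).of_isConj (h.isConj_S D hx e)]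
      exact h2 t D.J_mem D.J_ne_one
  obtain ⟨l₀, hl, -⟩ := exists_hat_zpowers D.ord hζ
  have hl' : ∀ n : ℕ, ((l₀ ^ 2) ⟨σ ^ n, npow_mem_zpowers σ n⟩ : ℂ) = (-1) ^ n := fun n => by
    rw [MonoidHom.pow_apply, Units.val_pow_eq_pow_val, hl, ← pow_mul, mul_comm, pow_mul, Complex.I_sq]
  have h7 := D.card_mul_sum_fw' hM c1 c2 (l := l₀ ^ 2) (Units.ext (by simpa using hl' 1))
  have h8 := BT.card_mul_sum_fw (B := principalBlock M G) (zpowers σ).subtype (l₀ ^ 2)
    fun χ => χ.1 t ^ 2 / χ.1 1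
  let j₀ : Fin (2 ^ 1 - 1) := ⟨0, by norm_num⟩
  have hs : ∀ F : IrrCharacter G → ℂ, ∑ χ ∈ bset (principalBlock M G), F χ =
      F (irrOne G) + F χ₁ + F χ₂ + F χ₃ + F (θ j₀) := fun F => by
    have e := nθ j₀
    have e' : ∀ χ, (∃ j, χ = θ j) ↔ χ = θ j₀ := fun χ => ⟨by
      rintro ⟨⟨j, hj⟩, rfl⟩
      obtain rfl : j = 0 := by omega
      rfl, fun e => ⟨_, e⟩⟩
    simp only [e'] at hB
    generalize θ j₀ = ψ at e hB
    rw [show bset (principalBlock M G) = {irrOne G, χ₁, χ₂, χ₃, ψ} from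
      Finset.ext fun χ => by simp only [mem_bset, hB, Finset.mem_insert, Finset.mem_singleton],
      Finset.sum_insert (by simp [n1.symm, n2.symm, n3.symm, e.2.2.2.symm]),
      Finset.sum_insert (by simp [n12, n13, e.1.symm]),
      Finset.sum_insert (by simp [n23, e.2.1.symm]), Finset.sum_pair e.2.2.1.symm]
    ring
  have ht : t = σ ^ 2 := D.J_eq
  obtain ⟨a1, a2, a3, a4⟩ := hv 1 (by norm_num) (by norm_num)
  obtain ⟨b1, b2, b3, -⟩ := hv 2 (by norm_num) (by norm_num)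
  obtain ⟨d1, d2, d3, d4⟩ := hv 3 (by norm_num) (by norm_num)
  have a5 : (θ j₀).1 (σ ^ 1) = 0 := by rw [a4]; simp [j₀]
  have d5 : (θ j₀).1 (σ ^ 3) = 0 := by rw [d4]; simp [j₀, pow_succ]
  rw [← ht] at b1 b2 b3
  rw [sum_zpowers, D.ord, D.card_S] at h8
  generalize ∑ χ, (fw (principalBlock M G) (zpowers σ).subtype (l₀ ^ 2) χ : ℂ) *
    (χ.1 t ^ 2 / χ.1 1) = A at h7 h8
  simp only [Finset.sum_range_succ, Finset.sum_range_zero, hl', hs, coe_subtype, a1, a2, a3, a5, b1,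
    b2, b3, d1, d2, d3, d5, irrOne_apply, Nat.reducePow, Nat.reduceAdd] at h8
  simp only [irr_apply_one] at h8
  have h9 := (hr 1 not_dvd_orderOf_one j₀).1
  simp only [irr_apply_one] at h9
  rw [h.card_pair D.kl_τ, h.card_pair D.kl_στ, he] at h3 h7
  rw [he]
  rw [D.card_P] at h5
  have p : ∀ (χ : IrrCharacter G) {δ : ℤ}, δ = 1 ∨ δ = -1 → -δ * charDegree χ.1 ≠ 0 := fun χ δ hδ =>
    mul_ne_zero (by omega) (Nat.cast_ne_zero.2 (irr_degree_pos χ).ne')
  have h3' := congrArg (Rat.cast : ℚ → ℂ) h3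
  refine kappa_arith' (A := A) (a := -δ₂ * charDegree χ₂.1) (b := -δ₃ * charDegree χ₃.1) (by simpa using h5) h6
    (by exact_mod_cast (by linear_combination -h9 :
      (-δ₂ * charDegree χ₂.1 + -δ₃ * charDegree χ₃.1 : ℂ) = δ₁ * charDegree χ₁.1 + 1))
    (p _ s2) (p _ s3) Nat.card_pos.ne' Nat.card_pos.ne' ?_ (by
      rw [h7]; push_cast; ring) ?_
  · push_cast at h3' ⊢
    rcases s1 with rfl | rfl <;> push_cast at h3' ⊢ <;> linear_combination h3'
  · rcases s1 with rfl | rfl <;> rcases s2 with rfl | rfl <;> rcases s3 with rfl | rfl <;>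
      norm_num [div_neg] at h8 ⊢ <;> linear_combination h8 / 4

end GW
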