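import Cfsg.Agent.Lib.GW.ChP
import Cfsg.Agent.Lib.GW.ChK

/-!
# Stable linear characters of the centralizer of an involution
-/

set_option autoImplicit false
set_option linter.unusedSectionVars false

namespace GW

open Cfsg CT GT BT FT GAG Subgroup
open scoped Pointwise commutatorElement ComplexConjugate IsMulCommutative

/-! ### Lattice lemmas -/

section Lat
variable {X : Type*} [Fintype X] [DecidableEq X] {deg : X → ℤ} (hdeg : ∀ x, 0 < deg x)
include hdeg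

theorem supp_four {y : X → ℤ} (h : ∑ x, y x * y x = 4) (h0 : ∑ x, deg x * y x = 0) :
    ∃ s : Finset X, s.card = 4 ∧ (∀ x ∈ s, y x = 1 ∨ y x = -1) ∧ ∀ x ∉ s, y x = 0 := by
  let s := Finset.univ.filter (y · ≠ 0)
  have h1 : ∑ x ∈ s, y x * y x = (4 : ℕ) := by
    rw [Nat.cast_ofNat, ← h]; exact Finset.sum_filter_of_ne fun x _ hx h => hx (by simp [h])
  have h2 : ∑ x ∈ s, deg x * y x = 0 := by
    rw [← h0]; exact Finset.sum_filter_of_ne fun x _ hx h => hx (by simp [h])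
  have h3 : 1 < s.card := by
    by_contra hc
    obtain ⟨a, ha⟩ := Finset.card_eq_one.1 (show s.card = 1 by
      have : s.card ≠ 0 := fun e => by simp [Finset.card_eq_zero.1 e] at h1
      omega)
    rw [ha, Finset.sum_singleton] at h1 h2
    rw [(mul_eq_zero.1 h2).resolve_left (hdeg a).ne'] at h1
    simp at h1
  obtain ⟨h4, h5⟩ := sign_of_sum_mul_self (s := s) (f := y) (by simp [s]) h1 (by omega)
  exact ⟨s, h4, h5, by simp [s]⟩

omit hdeg in
theorem exists_four {s : Finset X} (h : s.card = 4) : ∃ p ∈ s, ∃ q ∈ s, ∃ r ∈ s, ∃ u ∈ s,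
    ∀ {A : Type} [AddCommMonoid A] (F : X → A), (∀ x ∉ s, F x = 0) → ∑ x, F x = F p + F q + F r + F u := by
  obtain ⟨p, s', hp, rfl, h'⟩ := Finset.card_eq_succ.1 h
  obtain ⟨q, r, u, h1, h2, h3, rfl⟩ := Finset.card_eq_three.1 h'
  refine ⟨p, by simp, q, by simp, r, by simp, u, by simp, fun F hF => ?_⟩
  rw [← Finset.sum_subset (Finset.subset_univ _) fun x _ hx => hF x hx, Finset.sum_insert hp,
    Finset.sum_insert (by simp [h1, h2]), Finset.sum_pair h3, add_assoc, add_assoc]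

theorem agree {v T : X → ℤ} (h2 : ∑ x, v x * v x = 2) (h0 : ∑ x, deg x * v x = 0)
    (h1 : ∑ x, v x * T x = -4) (h3 : ∑ x, (v x : ℂ) * (T x ^ 2 / deg x) = 0) {x : X} (hx : Odd (T x)) :
    v x = 0 := by
  obtain ⟨p, q, hpq, hv⟩ := exists_eq_dl_sub_dl deg hdeg v h2 h0
  simp only [hv, sub_mul, mul_sub, Finset.sum_sub_distrib, sum_dl_mul, sum_mul_dl] at h0 h1
  simp only [hv, dl, Int.cast_sub, Int.cast_ite, Int.cast_one, Int.cast_zero, sub_mul, ite_mul, one_mul,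
    zero_mul, Finset.sum_sub_distrib, Finset.sum_ite_eq', Finset.mem_univ, if_true] at h3
  rw [sub_eq_zero.1 h0, ← sub_div, div_eq_zero_iff, Int.cast_eq_zero] at h3
  have h4 : T p ^ 2 - T q ^ 2 = 0 := by exact_mod_cast h3.resolve_right (hdeg q).ne'
  have h5 : T q = 2 := by
    rw [show T p = T q - 4 by omega] at h4
    linarith
  obtain ⟨n, hn⟩ := hx
  rw [hv, dl_of_ne (by rintro rfl; omega), dl_of_ne (by rintro rfl; omega), sub_zero]

omit hdeg in
theorem tri {v y : X → ℤ} (h3 : ∑ x, v x * v x = 3) (h2 : ∑ x, v x * y x = 2)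
    (hy : ∀ x, y x = 0 ∨ y x = 1 ∨ y x = -1) : ∃ a b c, (y a = 1 ∨ y a = -1) ∧ (y b = 1 ∨ y b = -1) ∧
      y c = 0 ∧ (v c = 1 ∨ v c = -1) ∧ v a = y a ∧ v b = y b ∧
      ∀ {A : Type} [Ring A] (F : X → A), ∑ x, v x * F x = v a * F a + v b * F b + v c * F c := by
  let s := Finset.univ.filter (v · ≠ 0)
  have h1 : ∑ x ∈ s, v x * v x = (3 : ℕ) := by
    rw [Nat.cast_ofNat, ← h3]; exact Finset.sum_filter_of_ne fun x _ hx h => hx (by simp [h])
  obtain ⟨h4, h5⟩ := sign_of_sum_mul_self (s := s) (f := v) (by simp [s]) h1 (by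
    have : s.card ≠ 0 := fun e => by simp [Finset.card_eq_zero.1 e] at h1
    omega)
  obtain ⟨a, b, c, e1, e2, e3, hs⟩ := Finset.card_eq_three.1 h4
  have h6 : ∀ {A : Type} [Ring A] (F : X → A), ∑ x, v x * F x = v a * F a + v b * F b + v c * F c :=
    fun F => by
    rw [← Finset.sum_subset (Finset.subset_univ s) fun x _ hx => by
      simp [show v x = 0 by simpa [s] using hx], hs,
      Finset.sum_insert (by simp [e1, e2]), Finset.sum_pair e3, add_assoc]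
  have h7 := h6 y
  simp only [Int.cast_id, h2] at h7
  have ha := h5 a (by simp [hs])
  have hb := h5 b (by simp [hs])
  have hc := h5 c (by simp [hs])
  have k : ∀ {x}, (v x = 1 ∨ v x = -1) → y x = 0 ∧ v x * y x = 0 ∨
      (y x = 1 ∨ y x = -1) ∧ (v x = y x ∧ v x * y x = 1 ∨ v x * y x = -1) := fun {x} h => by
    rcases h with h | h <;> rcases hy x with h' | h' | h' <;> simp [h, h']
  rcases k ha with a1 | a1
  · have b1 := k hb
    have c1 := k hc
    exact ⟨b, c, a, by omega, by omega, a1.1, ha, by omega, by omega, fun F => by rw [h6]; abel⟩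
  rcases k hb with b1 | b1
  · have c1 := k hc
    exact ⟨a, c, b, by omega, by omega, b1.1, hb, by omega, by omega, fun F => by rw [h6]; abel⟩
  · have c1 := k hc
    exact ⟨a, b, c, by omega, by omega, by omega, hc, by omega, by omega, h6⟩

omit hdeg in
theorem pure_arith {x z y : ℤ} (hx : 8 ∣ x - 1) (hx' : x ≠ 1) (hz : 8 ∣ z - 1) (hz' : z ≠ 1)
    (hy : y = x + z) (h : (32 / 45 : ℚ) ≤ 1 / x + 1 / z - 4 / y) : (x = 9 ∨ z = 9) ∧ y = -6 := by
  have p : ∀ x : ℤ, 8 ∣ x - 1 → x ≠ 1 → (1 / x : ℚ) ≤ 1 / 9 := fun x h1 h2 => by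
    rcases (show 9 ≤ x ∨ x < 0 by omega) with e | e
    · exact one_div_le_one_div_of_le (by norm_num) (by exact_mod_cast e)
    · exact (one_div_nonpos.2 (by exact_mod_cast e.le)).trans (by norm_num)
  have h1 : (22 / 45 : ℚ) ≤ 4 / (-y) := by
    rw [div_neg]; linarith [p x hx hx', p z hz hz']
  have h2 : (0 : ℚ) < -y := by
    by_contra e
    linarith [div_nonpos_of_nonneg_of_nonpos (show (0 : ℚ) ≤ 4 by norm_num) (not_lt.1 e)]
  rw [le_div_iff₀ h2] at h1
  have h3 : 22 * -y ≤ 180 := by exact_mod_cast (by linarith : (22 * -y : ℚ) ≤ 180)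
  have h4 : 0 < -y := by exact_mod_cast h2
  obtain rfl : y = -6 := by omega
  refine ⟨by_contra fun e => ?_, rfl⟩
  have q : ∀ x z : ℤ, 17 ≤ x → -6 = x + z → (1 / x + 1 / z : ℚ) < 2 / 45 := fun x z h1 h2 => by
    have h3 : (17 : ℚ) ≤ x := by exact_mod_cast h1
    obtain rfl : z = -(x + 6) := by omega
    push_cast
    rw [div_neg, ← sub_eq_add_neg, div_sub_div _ _ (by linarith) (by linarith),
      div_lt_div_iff₀ (by nlinarith) (by norm_num)]
    nlinarith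
  rcases (show 17 ≤ x ∨ 17 ≤ z by omega) with e | e
  · have := q x z e hy
    push_cast at h
    linarith
  · have := q z x e (by omega)
    push_cast at h
    linarith

omit hdeg in
theorem four_arith {p q r u : ℤ} (hp : p % 4 = 1 ∧ p ≠ 1) (hq : q % 4 = 1 ∧ q ≠ 1) (hr : r % 4 = 1 ∧ r ≠ 1)
    (hu : u % 4 = 1 ∧ u ≠ 1) (h : p + q + r + u = 0) : (1 / p + 1 / q + 1 / r + 1 / u : ℚ) ≤ 3 / 5 := by
  have a : ∀ x : ℤ, x % 4 = 1 ∧ x ≠ 1 → (1 / x : ℚ) ≤ 1 / 5 := fun x h1 => by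
    rcases (show 5 ≤ x ∨ x < 0 by omega) with e | e
    · exact one_div_le_one_div_of_le (by norm_num) (by exact_mod_cast e)
    · exact (one_div_nonpos.2 (by exact_mod_cast e.le)).trans (by norm_num)
  have b : ∀ x : ℤ, x ≤ 0 → (1 / x : ℚ) ≤ 0 := fun x e => one_div_nonpos.2 (by exact_mod_cast e)
  have := a p hp
  have := a q hq
  have := a r hr
  have := a u hu
  rcases (show p ≤ 0 ∨ q ≤ 0 ∨ r ≤ 0 ∨ u ≤ 0 by omega) with e | e | e | e <;> linarith [b _ e]

end Lat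

variable {G : Type*} [Group G] [Finite G] {M : Ideal AlgInt}

theorem fw_congr {A : Type*} [CommGroup A] [Finite A] (ι : A →* G) (l : A →* ℂˣ)
    {B B' : Set (IrrCharacter G)} {F : IrrCharacter G → ℂ}
    (h : ∀ u ≠ 1, ∑ χ ∈ bset B, χ.1 (ι u) * F χ = ∑ χ ∈ bset B', χ.1 (ι u) * F χ) :
    ∑ χ, fw B ι l χ * F χ = ∑ χ, fw B' ι l χ * F χ := by
  have := Fintype.ofFinite A
  refine mul_left_cancel₀ (card_cast_ne_zero (G := A)) ?_
  rw [BT.card_mul_sum_fw, BT.card_mul_sum_fw]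
  refine Finset.sum_congr rfl fun u _ => ?_
  by_cases hu : u = 1
  · simp [hu]
  · rw [h u hu]

theorem sum_ite_mem {K S : Subgroup G} [Fintype K] [Fintype S] [DecidablePred (· ∈ K)] (h : K ≤ S)
    (F : G → ℂ) : ∑ u : S, (if (u : G) ∈ K then F u else 0) = ∑ u : K, F u := by
  rw [← Finset.sum_filter]
  exact (Finset.sum_bij (fun (u : K) _ => (⟨u, h u.2⟩ : S)) (fun u _ => by simp) (fun _ _ _ _ e =>
    Subtype.ext (congrArg (fun x : S => (x : G)) e))
    (fun u hu => ⟨⟨u, (Finset.mem_filter.1 hu).2⟩, Finset.mem_univ _, rfl⟩) fun _ _ => rfl).symm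

namespace Pure
variable {t u : G} {b : G → ℂ} {B : Set (IrrCharacter G)} (P : Pure M t b B) (hu : IsPElt 2 u)
  (ht : t ∈ zpowers u)
include P hu ht

theorem apply_mul (hb : Lin 𝐂[t] b) {χ : IrrCharacter G} (hχ : χ ∈ B) {w : G} (hw : w ∈ Ut u) :
    χ.1 (w * u) = b w * χ.1 u := by
  have h1 := P.mem u hu ht χ hχ 1 (one_mem _)
  rw [one_mul] at h1
  rw [P.mem u hu ht χ hχ w hw, (hb.mono ((Ut_le u).trans ((centralizer_zpowers_eq u).ge.trans
    (cent_le_of_mem ht)))).av_mul _ hw, ← h1]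

theorem blockPart_eq {F : G → ℂ} (hF : IsClassFunction G F) : blockPart B F u = av (Ut u) b F u := by
  rw [blockPart_apply_eq_sum_bset, av_eq_sum _ _ hF, ← sum_bset_eq_sum_univ B fun χ hχ => by
    rw [P.not_mem u hu ht χ hχ, mul_zero]]
  refine Finset.sum_congr rfl fun χ hχ => ?_
  simpa only [one_mul] using congrArg _ (P.mem u hu ht χ (mem_bset.1 hχ) 1 (one_mem _))

end Pure

section
variable (h : Sd G) (hM : IsPModular 2 M) {S : Subgroup G} {σ τ t : G} {k : ℕ} (D : DihSyl S σ τ t k)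
include h hM D

theorem Sd.pure_principal : Pure M t 1 (principalBlock M G) := by
  obtain ⟨B, P⟩ := h.exists_pure hM D (b := 1) ⟨fun _ _ _ _ => (one_mul _).symm, rfl⟩ fun s _ hk => by
    obtain ⟨g, -, g1, g2⟩ := h.fused hk
    exact ⟨g, g1, g2, fun _ _ => rfl⟩
  refine block_eq_of_mem hM P.block isPBlock_principalBlock (by_contra fun e => ?_)
    (irrOne_mem_principalBlock hM) ▸ P
  have := Fintype.ofFinite (Ut t)
  have h1 := P.not_mem t D.inv_J.isPElt (mem_zpowers t) _ e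
  rw [av_def] at h1
  simp at h1

theorem Sd.av_eq_principal {u : G} (hu : u ∈ zpowers σ) (h1 : u ≠ 1) {b F : G → ℂ}
    (hF : IsClassFunction G F) {c : ℂ} (hc : ∀ w ∈ Ut u, F (w * u) ≠ 0 → b w = c) :
    av (Ut u) b F u = conj c * blockPart (principalBlock M G) F u := by
  rw [av_of_const hc, (h.pure_principal hM D).blockPart_eq (D.isPElt (D.le hu)) (D.J_mem_zpowers hu h1) hF]

variable {b : G → ℂ} (hb : Lin 𝐂[t] b) (h2 : ∀ a ∈ 𝐂[t], IsPElt 2 a → b a = 1)
include hb h2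

theorem Sd.av_clMul {u : G} (hu : u ∈ zpowers σ) (h1 : u ≠ 1) :
    av (Ut u) b (clMul t t) u = blockPart (principalBlock M G) (clMul t t) u := by
  rw [h.av_eq_principal hM D hu h1 (isClassFunction_clMul t t) (c := 1) fun w hw hne => ?_, map_one,
    one_mul]
  obtain ⟨φ, R⟩ := D.exists_retr
  have hC := D.centralizer_le hu h1 (Ut_le u hw)
  have hu' := D.le_C (D.le hu)
  have e : φ (⟨w, hC⟩ * ⟨u, hu'⟩) = u := by
    rw [map_mul, (R.eq_one_iff _).2 (not_two_dvd.2 (odd_of_mem_Od hw)), one_mul, R.id _ (D.le hu)]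
  by_contra hc
  refine hne (clMul_eq_zero fun a a' ha ha' e' => hc ?_)
  have s1 := D.sq_of_isConj ha
  have s2 := D.sq_of_isConj ha'
  obtain ⟨h3, h4⟩ := D.mem_C_of_mul R (by rwa [e]) (by rwa [e]) s1 s2 e'
  have h5 := hb.mul _ hC _ hu'
  rw [← e', hb.mul _ h3 _ h4, h2 a h3 (isPElt_of_pow_eq_one (k := 1) (by rw [pow_one, sq, s1])),
    h2 a' h4 (isPElt_of_pow_eq_one (k := 1) (by rw [pow_one, sq, s2])), h2 u hu' (D.isPElt (D.le hu))] at h5
  simpa using h5.symm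

variable {B : Set (IrrCharacter G)} (P : Pure M t b B)
include P

omit h2 in
theorem Pure.bker_eq {u v : G} (hu : u ∈ zpowers σ) (h1 : u ≠ 1) (hv : IsPElt 2 v) :
    bker B u v = bker (principalBlock M G) u v := by
  have hp := D.isPElt (D.le hu)
  rw [← blockPart_deltaFun, ← blockPart_deltaFun, P.blockPart_eq hp (D.J_mem_zpowers hu h1)
    (isClassFunction_deltaFun v), h.av_eq_principal hM D hu h1 (isClassFunction_deltaFun v) (c := 1)
    fun w hw hne => ?_, map_one, one_mul]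
  have h3 := (hv.of_isConj (not_not.1 (mt deltaFun_apply_of_not_isConj hne)).symm).pPart_eq
  rw [pPart_Ut_mul hp hw] at h3
  rw [show w = 1 from mul_eq_right.1 h3.symm, hb.one]

theorem Pure.sum_clMul {u : G} (hu : u ∈ zpowers σ) (h1 : u ≠ 1) :
    ∑ χ ∈ bset B, χ.1 u * (χ.1 t ^ 2 / χ.1 1) =
      ∑ χ ∈ bset (principalBlock M G), χ.1 u * (χ.1 t ^ 2 / χ.1 1) := by
  have h3 := P.blockPart_eq (D.isPElt (D.le hu)) (D.J_mem_zpowers hu h1) (isClassFunction_clMul t t)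
  rw [h.av_clMul hM D hb h2 hu h1, blockPart_clMul, blockPart_clMul] at h3
  have h4 : ∀ χ : IrrCharacter G, χ.1 u * (χ.1 t ^ 2 / χ.1 1) =
      conj (χ.1 t) * conj (χ.1 t) * χ.1 u / χ.1 1 := fun χ => by rw [conj_irr_of_sq χ D.J_sq]; ring
  simp only [h4]
  have h5 : ((𝐂[t]).index : ℂ) ≠ 0 := Nat.cast_ne_zero.2 index_ne_zero_of_finite
  exact mul_left_cancel₀ (div_ne_zero (mul_ne_zero h5 h5) card_cast_ne_zero) h3

omit h2 in
theorem Pure.gram [DecidableEq (zpowers σ →* ℂˣ)] {l m : zpowers σ →* ℂˣ} (hl : l ≠ 1) (hm : m ≠ 1) :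
    ∑ χ, fw B (zpowers σ).subtype l χ * fw B (zpowers σ).subtype m χ =
      2 + ((if l = m then 1 else 0) + if l = m⁻¹ then 1 else 0) := by
  classical
  rw [gram_fw (zpowers σ).subtype (![1, MulEquiv.inv _] : Fin 2 → MulAut (zpowers σ))
    (fun u hu v _ => ?_) hl hm, Fin.sum_univ_two]
  · congr 3
    exact congrArg (l = ·) (MonoidHom.ext fun x => by simp)
  · rw [Subgroup.coe_subtype, P.bker_eq h hM D hb u.2 (D.ne_one hu) (D.isPElt (D.le v.2)),
      D.bker_eq hM u.2 (D.ne_one hu) v.2, Fin.sum_univ_two]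
    simp only [Subtype.ext_iff]
    rfl

omit h2 in
theorem Pure.sum_J {u : G} (hu : u ∈ zpowers σ) (h1 : u ≠ 1) :
    ∑ χ ∈ bset B, χ.1 u * χ.1 t = bker (principalBlock M G) u t := by
  rw [← P.bker_eq h hM D hb hu h1 D.inv_J.isPElt, bker_def]
  simp only [conj_irr_of_sq _ D.J_sq]

theorem Pure.struct (hk : 1 ≤ k) (hB : irrOne G ∉ B) :
    k = 1 ∧ ∃ c ∈ B, c.1 1 = 6 ∧ c.1 t = 2 ∧ c.1 σ + c.1 (σ ^ 3) = 0 := by
  classical
  have := Fintype.ofFinite (zpowers σ)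
  choose T hT using fun χ : IrrCharacter G => exists_int_apply_of_sq (irr_isCharacter χ) D.J_sq
  let s : zpowers σ := ⟨σ, mem_zpowers σ⟩
  let j : zpowers σ := ⟨t, D.J_mem⟩
  let f := fw B (zpowers σ).subtype
  let deg : IrrCharacter G → ℤ := fun χ => charDegree χ.1
  have hdeg : ∀ χ, 0 < deg χ := fun χ => Nat.cast_pos.2 (irr_degree_pos χ)
  have hj : j = s ^ 2 ^ k := Subtype.ext D.J_eq
  have hj1 : j ≠ 1 := fun e => D.J_ne_one (congrArg Subtype.val e)
  have pm : ∀ z : ℂˣ, z ^ 2 = 1 → z = 1 ∨ z = -1 := fun z e =>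
    (mul_self_eq_one_iff.1 (show (z : ℂ) * z = 1 by rw [← Units.val_mul, ← sq, e, Units.val_one])).imp
      Units.ext Units.ext
  have n1 : (-1 : ℂˣ) ≠ 1 := fun e => by have := congrArg Units.val e; norm_num at this
  have ext : ∀ l m : zpowers σ →* ℂˣ, l s = m s → l = m := fun l m e => MonoidHom.ext fun x => by
    obtain ⟨n, hn⟩ := mem_zpowers_iff.1 x.2
    rw [show x = s ^ n from Subtype.ext hn.symm, map_zpow, map_zpow, e]
  have hζ := Complex.isPrimitiveRoot_exp (2 ^ (k + 1)) (by positivity)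
  obtain ⟨l₁, hl₁, -⟩ := exists_hat_zpowers D.ord hζ
  have e1 : l₁ j = -1 := Units.ext (by
    rw [show j = ⟨σ ^ 2 ^ k, npow_mem_zpowers σ _⟩ from Subtype.ext D.J_eq, hl₁]
    exact (hζ.pow (by positivity) (pow_succ 2 k)).eq_neg_one_of_two_right)
  let l₀ := l₁ ^ 2 ^ k
  have e0 : l₀ s = -1 := by rw [← e1, hj, map_pow]; rfl
  have ev : ∀ l : zpowers σ →* ℂˣ, l s ^ 2 = 1 → l j = 1 := fun l e => by
    obtain ⟨k, rfl⟩ := Nat.exists_eq_add_of_le' hk
    rw [hj, map_pow, pow_succ', pow_mul, e, one_pow]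
  have od : ∀ l : zpowers σ →* ℂˣ, l j = -1 → l s ^ 2 ≠ 1 := fun l e e' => n1 (e.symm.trans (ev l e'))
  have two : ∀ l : zpowers σ →* ℂˣ, l s ^ 2 = 1 → l = 1 ∨ l = l₀ := fun l e =>
    (pm _ e).imp (ext _ _) fun e => ext _ _ (e.trans e0.symm)
  have ne1 : ∀ l : zpowers σ →* ℂˣ, l s ^ 2 ≠ 1 → l ≠ 1 := by rintro _ e rfl; simp at e
  have nei : ∀ l : zpowers σ →* ℂˣ, l = l⁻¹ ↔ l s ^ 2 = 1 := fun l => ⟨fun e => by
    rw [sq, ← eq_inv_iff_mul_eq_one, ← MonoidHom.inv_apply, ← e],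
    fun e => ext _ _ (by rwa [MonoidHom.inv_apply, eq_inv_iff_mul_eq_one, ← sq])⟩
  have s0 : l₀ s ^ 2 = 1 := by rw [e0]; simp
  have n0 : l₀ ≠ 1 := fun e => n1 (by rw [← e0, e]; rfl)
  have G3 : ∀ l, l s ^ 2 ≠ 1 → ∑ χ, f l χ * f l χ = 3 := fun l e => by
    rw [P.gram h hM D hb (ne1 l e) (ne1 l e), if_pos rfl, if_neg (mt (nei l).1 e)]; rfl
  have G2 : ∀ l m, l ≠ 1 → m ≠ 1 → l ≠ m → l ≠ m⁻¹ → ∑ χ, f l χ * f m χ = 2 := fun l m a b c d => by
    rw [P.gram h hM D hb a b, if_neg c, if_neg d]; rfl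
  have G4 : ∑ χ, f l₀ χ * f l₀ χ = 4 := by
    rw [P.gram h hM D hb n0 n0, if_pos rfl, if_pos ((nei _).2 s0)]; rfl
  have dg : ∀ l, ∑ χ, deg χ * f l χ = 0 := sum_degree_mul_fw hM _ P.block D.dvd_orderOf
  have T1 : ∀ l, l j = -1 → ∑ χ, f l χ * T χ = -4 := fun l e => by
    have h3 := D.sum_fw_J hM e
    rw [← fw_congr (B := B) _ l fun u hu => by
      rw [coe_subtype, P.sum_J h hM D hb u.2 (D.ne_one hu),
        (h.pure_principal hM D).sum_J h hM D ⟨fun _ _ _ _ => (one_mul _).symm, rfl⟩ u.2 (D.ne_one hu)]] at h3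
    simp only [hT] at h3
    exact_mod_cast h3
  have T0 : ∀ l, l j = 1 → ∑ χ, f l χ * T χ = 0 := fun l e => by
    have h3 := sum_fw_mul_eq_zero_of (B := B) (zpowers σ).subtype l (F := fun χ => χ.1 t) fun u hu => by
      have h4 : u ≠ 1 := fun e => hu (e ▸ map_one l)
      have h5 : (u : G) ≠ t := fun e' => hu (by rw [← e]; exact congrArg l (Subtype.ext e'))
      rw [coe_subtype, P.sum_J h hM D hb u.2 (D.ne_one h4), D.bker_eq hM u.2 (D.ne_one h4) D.J_mem,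
        if_neg h5, if_neg fun e' => h5 (by rw [← D.J_inv, ← e', inv_inv])]
      simp
    simp only [hT] at h3
    exact_mod_cast h3
  have c1 := h.isConj D.inv_J D.kl_τ.r
  have c2 := h.isConj D.inv_J D.kl_στ.r
  obtain ⟨Z, hZ, Φ⟩ : ∃ Z : ℚ, 32 / 45 ≤ Z ∧ ∀ l, l s ^ 2 ≠ 1 →
      ∑ χ, (f l χ : ℂ) * (T χ ^ 2 / deg χ) = -Z := by
    have h3 := (dih_bounds D hk c1 c2).2
    have h4 : (0 : ℚ) < Nat.card G := Nat.cast_pos.2 Nat.card_pos
    refine ⟨_ / Nat.card G, (div_le_div_iff₀ (by norm_num) h4).2 (h3.trans_eq (mul_comm _ _)), fun l e => ?_⟩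
    have h5 := D.card_mul_sum_fw hM c1 c2 (Or.inl e)
    rw [← fw_congr (B := B) _ l fun u hu => P.sum_clMul h hM D hb h2 u.2 (D.ne_one hu)] at h5
    simp only [hT, irr_apply_one] at h5
    push_cast
    rw [← neg_div, eq_div_iff card_cast_ne_zero]
    simp only [deg, Int.cast_natCast]
    linear_combination h5
  obtain ⟨s4, -, y1, y0⟩ := supp_four hdeg G4 (dg l₀)
  have hy : ∀ x, f l₀ x = 0 ∨ f l₀ x = 1 ∨ f l₀ x = -1 := fun x =>
    (em (x ∈ s4)).elim (fun e => Or.inr (y1 x e)) fun e => Or.inl (y0 x e)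
  have par : ∀ x, f l₀ x ≠ 0 → Odd (T x) := fun x hx => by
    have h3 := sum_fw_mul (zpowers σ).subtype (mem_of_fw_ne_zero _ hx) hj1
    have h4 : ∑ l, f l x * (if l j = 1 then 1 else -1) = T x := by
      refine Int.cast_injective (α := ℂ) ?_
      rw [← hT, show x.1 t = _ from h3.symm, Int.cast_sum]
      refine Finset.sum_congr rfl fun l _ => ?_
      rcases pm (l j) (by rw [← map_pow, sq, show j * j = 1 from Subtype.ext D.J_sq, map_one]) with e | e <;>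
        simp [e, f, n1]
    have h5 : ∑ l, ((f l x - if l = l₀ then f l₀ x else 0 : ℤ) : ZMod 2) = 0 :=
      Finset.sum_involution (fun l _ => l⁻¹) (fun l _ => by
        rw [if_congr (show l⁻¹ = l₀ ↔ l = l₀ from ⟨fun e => ext _ _ (by
            rw [← inv_inv (l s), ← MonoidHom.inv_apply, e, e0]; simp), fun e => e ▸ ((nei _).2 s0).symm⟩) rfl rfl,
          show f l⁻¹ x = f l x from D.fw_inv B l x, CharTwo.add_self_eq_zero]) (fun l _ hl e => hl (by
        rcases two l ((nei l).1 e.symm) with rfl | rfl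
        · simp [f, fw_one, n0.symm]
        · simp)) (fun _ _ => Finset.mem_univ _) fun _ _ => MonoidHom.ext fun _ => inv_inv _
    simp only [Int.cast_sub, Finset.sum_sub_distrib, Int.cast_ite, Int.cast_zero, Finset.sum_ite_eq',
      Finset.mem_univ, if_true] at h5
    have h6 : ((T x - f l₀ x : ℤ) : ZMod 2) = 0 := by
      rw [← h4, Int.cast_sub, ← h5, Int.cast_sum]
      refine congrArg (· - _) (Finset.sum_congr rfl fun l _ => ?_)
      split_ifs <;> simp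
    have h7 := (ZMod.intCast_zmod_eq_zero_iff_dvd _ 2).1 h6
    rw [Int.odd_iff]
    have := hy x
    omega
  have agr : ∀ l m, l j = -1 → m j = 1 → m s ^ 2 ≠ 1 → ∀ x, f l₀ x ≠ 0 → f l x = f m x :=
    fun l m el em hm x hx => by
    have hl := od l el
    refine sub_eq_zero.1 (agree hdeg (v := fun x => f l x - f m x) (T := T) ?_ ?_ ?_ ?_ (par x hx))
    · simp only [sub_mul, mul_sub, Finset.sum_sub_distrib, mul_comm (f m _) (f l _), G3 l hl, G3 m hm,
        G2 l m (ne1 l hl) (ne1 m hm) (fun e => n1 (by rw [← el, e, em]))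
          fun e => n1 (by rw [← el, e, MonoidHom.inv_apply, em, inv_one])]
      rfl
    · simp only [mul_sub, Finset.sum_sub_distrib, dg, sub_zero]
    · simp only [sub_mul, Finset.sum_sub_distrib, T1 l el, T0 m em, sub_zero]
    · simp only [Int.cast_sub, sub_mul, Finset.sum_sub_distrib, Φ l hl, Φ m hm, sub_self]
  have all : ∀ x, f l₀ x ≠ 0 → f l₁ x = f l₀ x → ∀ l ≠ 1, f l x = f l₀ x := fun x hx e l hl => by
    by_cases h3 : l s ^ 2 = 1
    · rw [(two l h3).resolve_left hl]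
    rw [← e]
    rcases pm (l j) (by rw [← map_pow, sq, show j * j = 1 from Subtype.ext D.J_sq, map_one]) with h4 | h4
    · exact (agr l₁ l e1 h4 h3 x hx).symm
    have h5 : (l * l₁) j = 1 := by simp [h4, e1]
    have h6 : (l * l₁⁻¹) j = 1 := by simp [h4, e1]
    by_cases h7 : (l * l₁) s ^ 2 = 1
    · by_cases h8 : (l * l₁⁻¹) s ^ 2 = 1
      · rcases two _ h7 with h9 | h9
        · rw [ext l l₁⁻¹ (eq_inv_of_mul_eq_one_left (DFunLike.congr_fun h9 s))]
          exact D.fw_inv B l₁ x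
        rcases two _ h8 with h10 | h10
        · rw [ext l l₁ (mul_inv_eq_one.1 (DFunLike.congr_fun h10 s))]
        · exact (od l₁ e1 ((nei _).1 (ext _ _ (mul_left_cancel
            (DFunLike.congr_fun (h9.trans h10.symm) s))))).elim
      · exact (agr l _ h4 h6 h8 x hx).trans (agr l₁ _ e1 h6 h8 x hx).symm
    · exact (agr l _ h4 h5 h7 x hx).trans (agr l₁ _ e1 h5 h7 x hx).symm
  have sg : ∀ x, (f l₀ x = 1 ∨ f l₀ x = -1) → f l₁ x = f l₀ x → T x = -f l₀ x ∧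
      (2 ^ (k + 2) : ℤ) ∣ -f l₀ x * deg x - 1 ∧ -f l₀ x * deg x ≠ 1 := fun x hx e => by
    have hx0 : f l₀ x ≠ 0 := by omega
    have hxB := mem_of_fw_ne_zero _ hx0
    have h3 : ∀ u ∈ zpowers σ, u ≠ 1 → x.1 u = (-f l₀ x : ℤ) := fun u hu hu1 => by
      have h4 : (⟨u, hu⟩ : zpowers σ) ≠ 1 := fun e => hu1 (congrArg Subtype.val e)
      have h5 := sum_hat_apply (⟨u, hu⟩ : zpowers σ)
      rw [if_neg h4, ← Finset.add_sum_erase _ _ (Finset.mem_univ 1)] at h5
      rw [show x.1 u = _ from (sum_fw_mul (zpowers σ).subtype hxB h4).symm,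
        ← Finset.add_sum_erase _ _ (Finset.mem_univ 1), fw_one, Finset.sum_congr rfl
          (g := fun l => (f l₀ x : ℂ) * l ⟨u, hu⟩) fun l hl => by
            rw [show fw B _ l x = _ from all x hx0 e l (Finset.ne_of_mem_erase hl)], ← Finset.mul_sum,
        eq_neg_of_add_eq_zero_right h5]
      simp
    have h4 := h.signed (χ := x) (fun e => hB (e ▸ hxB)) (P := S) (ε := -f l₀ x) (by omega)
      fun u hu hu1 => by
      by_cases e : u ∈ zpowers σ
      · exact h3 u e hu1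
      · rw [← (irr_isClassFunction x).of_isConj (h.isConj_S D hu e)]
        exact h3 t D.J_mem D.J_ne_one
    rw [D.card_P] at h4
    exact ⟨Int.cast_injective ((hT x).symm.trans (h3 t D.J_mem D.J_ne_one)), by exact_mod_cast h4⟩
  have o1 := od l₁ e1
  obtain ⟨a, a', c, ya, yb, yc, vc, va, vb, hs⟩ := tri (G3 l₁ o1) (G2 l₁ l₀ (ne1 _ o1) n0
    (fun e => o1 (e ▸ s0)) fun e => o1 (by rw [e, ← (nei _).2 s0, s0])) hy
  obtain ⟨a1, a2, a3⟩ := sg a ya va
  obtain ⟨b1, b2, b3⟩ := sg a' yb vb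
  have h3 := T1 l₁ e1
  have h4 := dg l₁
  have h5 := Φ l₁ o1
  simp only [mul_comm (deg _)] at h4
  have h6 := hs T
  have h7 := hs deg
  simp only [Int.cast_id] at h6 h7
  rw [h6, va, vb, a1, b1] at h3
  rw [h7, va, vb] at h4
  rw [hs, va, vb, a1, b1] at h5
  have h8 : (8 : ℤ) ∣ 2 ^ (k + 2) := pow_dvd_pow 2 (show 3 ≤ k + 2 by omega)
  have h9 : T c = -2 * f l₁ c := by
    rcases ya with e | e <;> rcases yb with e' | e' <;> rcases vc with e'' | e'' <;>
      rw [e, e', e''] at h3 <;> omega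
  obtain ⟨h10, h11⟩ := pure_arith (y := f l₁ c * deg c) (h8.trans a2) a3 (h8.trans b2) b3 (by linarith)
    (hZ.trans_eq (Rat.cast_injective (α := ℂ) (by
      rw [h9] at h5
      rcases ya with e | e <;> rcases yb with e' | e' <;> rcases vc with e'' | e'' <;>
        rw [e, e', e''] at h5 ⊢ <;> push_cast at h5 ⊢ <;> simp only [neg_mul, one_mul, neg_neg, div_neg] <;>
        linear_combination h5)))
  have h12 : f l₁ c = -1 ∧ deg c = 6 := by
    have := hdeg c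
    rcases vc with e | e <;> rw [e] at h11 <;> omega
  obtain rfl : k = 1 := by
    have h13 : (2 ^ (k + 2) : ℤ) ∣ 2 ^ 3 := by
      rcases h10 with e | e
      · rwa [e] at a2
      · rwa [e] at b2
    have := (pow_dvd_pow_iff (by norm_num) (by decide)).1 h13
    omega
  have hc : c ∈ B := mem_of_fw_ne_zero (l := l₁) _ (by rw [show fw B _ l₁ c = _ from h12.1]; norm_num)
  refine ⟨rfl, c, hc, ?_, by rw [hT, h9, h12.1]; norm_num, ?_⟩
  · rw [irr_apply_one]; exact_mod_cast (show (charDegree c.1 : ℤ) = 6 from h12.2)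
  · have h13 := card_mul_fw (zpowers σ).subtype l₀ hc
    have h14 : ∀ n : ℕ, (l₀ ⟨σ ^ n, npow_mem_zpowers σ n⟩ : ℂ) = (-1) ^ n := fun n => by
      rw [show (⟨σ ^ n, _⟩ : zpowers σ) = s ^ n from rfl, map_pow, e0]; simp
    rw [show fw B _ l₀ c = 0 from yc, sum_zpowers, D.ord] at h13
    simp only [Finset.sum_range_succ, Finset.sum_range_zero, h14, coe_subtype, Nat.reducePow,
      Nat.reduceAdd] at h13
    norm_num at h13
    linear_combination h13 / 2

end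

theorem Pure.false_of_zero (h : Sd G) (hM : IsPModular 2 M) {S : Subgroup G} {τ t : G}
    (D : DihSyl S t τ t 0) {b : G → ℂ} (hb : Lin 𝐂[t] b) (h2 : ∀ a ∈ 𝐂[t], IsPElt 2 a → b a = 1)
    {B : Set (IrrCharacter G)} (P : Pure M t b B) (hB : irrOne G ∉ B) : Wt t τ = ⊥ := by
  classical
  by_contra h1
  obtain ⟨x, y, z, hx, hy, hz, h3, h4, -⟩ := h.klein D h1 hM
  have h5 := sig_ge hx.2 hy.2 hz.2 h3
  choose T hT using fun χ : IrrCharacter G => exists_int_apply_of_sq (irr_isCharacter χ) D.J_sq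
  let v : IrrCharacter G → ℤ := fun χ => if χ ∈ B then T χ else 0
  let deg : IrrCharacter G → ℤ := fun χ => charDegree χ.1
  have hdeg : ∀ χ, 0 < deg χ := fun χ => Nat.cast_pos.2 (irr_degree_pos χ)
  have e : ∀ F : IrrCharacter G → ℂ, ∑ χ, v χ * F χ = ∑ χ ∈ bset B, χ.1 t * F χ := fun F => by
    rw [← sum_bset_eq_sum_univ B fun χ e => by simp [v, e]]
    exact Finset.sum_congr rfl fun χ e => by simp [v, mem_bset.1 e, hT]
  have h6 : ∑ χ, v χ * v χ = 4 := by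
    have h7 := P.sum_J h hM D hb D.J_mem D.J_ne_one
    rw [D.bker_eq hM D.J_mem D.J_ne_one D.J_mem, D.card_S, D.J_inv, if_pos rfl] at h7
    refine Int.cast_injective (α := ℂ) ?_
    push_cast
    rw [e, Finset.sum_congr rfl (g := fun χ => χ.1 t * χ.1 t) fun χ e => by
      simp [v, mem_bset.1 e, hT], h7]
    norm_num
  have h7 : ∑ χ, deg χ * v χ = 0 := by
    have h8 := bker_eq_zero_of_regular' hM P.block (x := t) (D.ord_J ▸ dvd_rfl) (y := 1) not_dvd_orderOf_one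
    refine Int.cast_injective (α := ℂ) ?_
    push_cast
    simp only [mul_comm (deg _ : ℂ), e]
    rw [← h8, bker_def]
    simp [deg, irr_apply_one]
  have h8 := P.sum_clMul h hM D hb h2 D.J_mem D.J_ne_one
  simp only [← mul_div_assoc, ← pow_succ', h4] at h8
  simp only [pow_succ' _ 2, mul_div_assoc, ← e] at h8
  obtain ⟨s, hs, s1, s0⟩ := supp_four hdeg h6 h7
  obtain ⟨p, hp, q, hq, r, hr, u, hu, hF⟩ := exists_four hs
  have key : ∀ χ ∈ s, ((v χ * deg χ) % 4 = 1 ∧ v χ * deg χ ≠ 1) ∧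
      (v χ : ℂ) * (χ.1 t ^ 2 / χ.1 1) = ((1 / (v χ * deg χ : ℤ) : ℚ) : ℂ) := fun χ hχ => by
    have h9 := s1 χ hχ
    have h10 : χ ∈ B := by_contra fun e => by simp [v, e] at h9
    have h11 : χ.1 t = v χ := by simp [v, h10, hT]
    obtain ⟨h12, h13⟩ := h.signed (χ := χ) (fun e => hB (e ▸ h10)) h9 (P := S) fun x hx h4 => by
      rw [← (irr_isClassFunction χ).of_isConj (h.isConj D.inv_J ⟨h4, D.kl_τ.sq (D.eq_Vk_of_zero.2 ▸ hx)⟩),
        h11]
    rw [D.card_P] at h12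
    norm_num at h12
    refine ⟨⟨by simp only [deg]; omega, h13⟩, ?_⟩
    rw [h11, irr_apply_one]
    rcases h9 with e | e <;> simp [e, deg, div_neg]
  rw [hF _ fun x hx => by simp [s0 x hx], (key p hp).2, (key q hq).2, (key r hr).2, (key u hu).2] at h8
  rw [hF _ fun x hx => by simp [s0 x hx]] at h7
  have h9 := four_arith (key p hp).1 (key q hq).1 (key r hr).1 (key u hu).1 (by linarith)
  have h10 : (1 / (v p * deg p : ℤ) + 1 / (v q * deg q : ℤ) + 1 / (v r * deg r : ℤ) +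
    1 / (v u * deg u : ℤ) : ℚ) = 1 + 1 / x + 1 / y + 1 / z := by exact_mod_cast h8
  linarith

/-- There is no non-trivial stable linear character. -/
theorem Sd.no_pure (h : Sd G) {S : Subgroup G} {σ τ t : G} {k : ℕ} (D : DihSyl S σ τ t k) {b : G → ℂ}
    (hb : Lin 𝐂[t] b) (h2 : ∀ a ∈ 𝐂[t], IsPElt 2 a → b a = 1)
    (h1 : ∀ s ∈ S, Kl t s → ∃ g, g * t * g⁻¹ = s ∧ g * s * g⁻¹ = t * s ∧
      ∀ w ∈ Wt t s, b (g * w * g⁻¹) = b w) : ∀ w ∈ Ut t, b w = 1 := by
  classical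
  obtain ⟨M, hM⟩ := exists_isPModular Nat.prime_two
  obtain ⟨B, P⟩ := h.exists_pure hM D hb h1
  by_contra hc
  have hB : irrOne G ∉ B := fun e => hc fun w hw => by
    simpa using (P.apply_mul D.inv_J.isPElt (mem_zpowers t) hb e hw).symm
  refine hc fun x hx => ?_
  obtain ⟨y, hy, w, ⟨hw, hS⟩, rfl⟩ := (coprimeAct_of_isPGroup_left (D.le_C.trans (norm_Ut t))
    D.syl.isPGroup (not_two_dvd.2 (odd_Od' _))).exists_commutator_mul_centralizer hx
  have h3 : ⁅Ut t, S⁆ ≤ hb.hom.ker.map (𝐂[t]).subtype := commutator_le.2 fun a ha c hc =>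
    ⟨⁅(⟨a, Ut_le t ha⟩ : 𝐂[t]), (⟨c, D.le_C hc⟩ : 𝐂[t])⁆, by
      rw [SetLike.mem_coe, MonoidHom.mem_ker, map_commutatorElement, commutatorElement_eq_one_iff_mul_comm,
        mul_comm], rfl⟩
  obtain ⟨y, h4, rfl⟩ := h3 hy
  rw [coe_subtype, hb.mul _ y.2 _ (Ut_le t hw), show b y = 1 from congrArg Units.val h4, one_mul]
  suffices w = 1 by rw [this, hb.one]
  rcases Nat.eq_zero_or_pos k with rfl | hk
  · obtain rfl := D.eq_Vk_of_zero.1
    exact (P.false_of_zero h hM D hb h2 hB).le ⟨hw, mem_centralizer_singleton_iff.2 (hS _ D.τ_mem).symm⟩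
  obtain ⟨rfl, c, hc, c1, c2, c3⟩ := P.struct h hM D hb h2 hk hB
  have := Fintype.ofFinite S
  have := Fintype.ofFinite (zpowers σ)
  let l : S →* ℂˣ := MonoidHom.mk' (fun x => if (x : G) ∈ zpowers σ then 1 else -1) fun x y => by
    by_cases e : (x : G) ∈ zpowers σ <;> by_cases e' : (y : G) ∈ zpowers σ
    · simp [e, e', mul_mem e e']
    · simp [e, e', mul_mem_cancel_left e]
    · simp [e, e', mul_mem_cancel_right e']
    · simp [e, e', D.mul_mem_of_not_mem x.2 e y.2 e']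
  refine h.miss (χ := c) (fun e => hB (e ▸ hc)) S.subtype S.subtype_injective l ?_
    (hb.norm (Ut_le t hw)) fun u hu => ?_
  · rw [Finset.sum_congr rfl (g := fun u : S => (if (u : G) ∈ zpowers σ then c.1 u + 2 else 0) - 2)
      fun u _ => ?_, Finset.sum_sub_distrib, sum_ite_mem D.le fun u => c.1 u + 2, sum_zpowers, D.ord,
      Finset.sum_const, Finset.card_univ, ← Nat.card_eq_fintype_card, D.card_P]
    · have ht : t = σ ^ 2 := D.J_eq
      simp only [Finset.sum_range_succ, Finset.sum_range_zero, Nat.reducePow, Nat.reduceAdd, ← ht,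
        pow_zero, pow_one, c1, c2, nsmul_eq_mul]
      linear_combination c3
    · simp only [l, MonoidHom.mk'_apply, coe_subtype]
      split_ifs with e
      · simp
      · rw [← (irr_isClassFunction c).of_isConj (h.isConj_S D u.2 e), c2]; simp
  · have h5 : (u : G) ≠ 1 := fun e => hu (Subtype.ext e)
    have h6 : w ∈ 𝐂[(u : G)] := mem_centralizer_singleton_iff.2 (hS _ u.2).symm
    rw [coe_subtype, hS _ u.2]
    by_cases e : (u : G) ∈ zpowers σ
    · exact P.apply_mul (D.isPElt u.2) (D.J_mem_zpowers e h5) hb hc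
        ((mem_Od_iff (D.nilp' e h5)).2 ⟨h6, odd_of_mem_Od hw⟩)
    · have hk := D.kl u.2 e
      obtain ⟨g, g1, g2, g3⟩ := h1 u u.2 hk
      have h7 : g⁻¹ * w * g ∈ Wt t u := by
        rw [← mem_conj_smul, conj_Wt, g1, g2, hk.comm, Wt_mul hk.symm, ← h.Wt_comm hk]
        exact ⟨hw, h6⟩
      have h8 := g3 _ h7
      rw [show g * (g⁻¹ * w * g) * g⁻¹ = w by group] at h8
      rw [h8, ← g1, irr_isClassFunction c, ← P.apply_mul D.inv_J.isPElt (mem_zpowers t) hb hc h7.1]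
      exact ((irr_isClassFunction c).of_isConj (isConj_iff.2 ⟨g, by group⟩)).symm

theorem Sd.no_stable (h : Sd G) {S : Subgroup G} {σ τ t : G} {k : ℕ} (D : DihSyl S σ τ t k) {N : Subgroup G}
    (hN : N ≤ Ut t) (h1 : ⁅Ut t, 𝐂[t]⁆ ≤ N)
    (h2 : ∀ s ∈ S, Kl t s → ∃ g, g * t * g⁻¹ = s ∧ g * s * g⁻¹ = t * s ∧ ∀ w ∈ Wt t s, ⁅g, w⁆ ∈ N) :
    N = Ut t := by
  classical
  refine hN.antisymm fun x hx => by_contra fun hxN => ?_
  have h3 : commutator (Ut t) ≤ N.subgroupOf (Ut t) := commutator_le.2 fun a _ c _ =>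
    h1 (commutator_mem_commutator a.2 (Ut_le t c.2))
  have := Normal.of_commutator_le _ h3
  obtain ⟨f, f1, f2⟩ := exists_units_hom_apply_ne_one h3 (g := ⟨x, hx⟩) hxN
  obtain ⟨φ, R⟩ := D.exists_retr
  have h4 : ∀ y : 𝐂[t], y * (φ y)⁻¹ ∈ Ut t := fun y => by
    have h5 : y * (⟨φ y, R.le (R.mem y)⟩ : 𝐂[t])⁻¹ ∈ φ.ker := by
      rw [MonoidHom.mem_ker, map_mul, map_inv, R.id ⟨φ y, _⟩ (R.mem y), mul_inv_cancel]
    rw [Ut, Od, Op'_eq_map]
    exact ⟨_, R.ker.le h5, rfl⟩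
  have h5 : ∀ (w : Ut t) (n : G) (hn : n ∈ N) (e : Ut t), n * w = e → f e = f w := fun w n hn e he => by
    rw [show e = ⟨n, hN hn⟩ * w from Subtype.ext he.symm, map_mul, show f ⟨n, hN hn⟩ = 1 from f1 hn, one_mul]
  let b : G → ℂ := fun y => if hy : y ∈ 𝐂[t] then f ⟨_, h4 ⟨y, hy⟩⟩ else 1
  have h6 : ∀ w : Ut t, b w = f w := fun w => by
    simp only [b, dif_pos (Ut_le t w.2), (R.eq_one_iff ⟨w, Ut_le t w.2⟩).2 (not_two_dvd.2 (odd_of_mem_Od w.2)),
      inv_one, mul_one]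
  have hb : Lin 𝐂[t] b := ⟨fun y hy z hz => by
    simp only [b, dif_pos hy, dif_pos hz, dif_pos (mul_mem hy hz)]
    have h7 := conj_mem_of_mem_normalizer (norm_Ut t (R.le (R.mem ⟨y, hy⟩))) (h4 ⟨z, hz⟩)
    rw [← h5 ⟨_, h4 ⟨z, hz⟩⟩ _ (h1 (commutator_comm 𝐂[t] _ ▸
      commutator_mem_commutator (R.le (R.mem ⟨y, hy⟩)) (h4 ⟨z, hz⟩))) ⟨_, h7⟩
      (by rw [commutatorElement_def, inv_mul_cancel_right]), ← Units.val_mul, ← map_mul]
    refine congrArg (fun x => (f x : ℂ)) (Subtype.ext ?_)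
    simp only [coe_mul, show φ ⟨y * z, mul_mem hy hz⟩ = φ ⟨y, hy⟩ * φ ⟨z, hz⟩ from map_mul φ ⟨y, hy⟩ ⟨z, hz⟩]
    group, by simpa using h6 1⟩
  refine f2 (Units.ext ((h6 ⟨x, hx⟩).symm.trans (h.no_pure D hb (fun a ha h7 => ?_) (fun s hs hk => ?_) x hx)))
  · obtain ⟨g, hg, e⟩ := R.conj ⟨a, ha⟩ h7
    have h8 := R.mem ⟨a, ha⟩
    rw [← hb.conj_eq ha hg, e]
    simp only [b, dif_pos (R.le h8), R.id ⟨_, R.le h8⟩ h8, mul_inv_cancel]
    exact congrArg Units.val (map_one f)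
  · obtain ⟨g, g1, g2, g3⟩ := h2 s hs hk
    refine ⟨g, g1, g2, fun w hw => ?_⟩
    have e : ⁅g, w⁆ * w = g * w * g⁻¹ := by simp [commutatorElement_def]
    have h8 : g * w * g⁻¹ ∈ Ut t := e ▸ mul_mem (hN (g3 w hw)) hw.1
    rw [h6 ⟨_, h8⟩, h6 ⟨w, hw.1⟩, h5 ⟨w, hw.1⟩ _ (g3 w hw) ⟨_, h8⟩ e]

end GW
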