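import Cfsg.Agent.Lib.GW.CaseID
import Cfsg.Agent.Lib.GW.CaseIE
import Cfsg.Agent.Lib.GW.ClaimB
import Cfsg.Agent.Lib.GW.ChS

/-!
# Step B, case I
-/

set_option autoImplicit false

namespace GW

open Cfsg GT FT Subgroup
open scoped Pointwise commutatorElement

universe u

theorem caseI {G : Type u} [Group G] [Finite G] (h : Min G) {t s : G} (hk : Kl t s) (hC : IsCoatom 𝐂[t]) :
    Ft t ⊓ Ft s ⊓ Ft (t * s) = ⊥ := by
  by_contra h0
  obtain ⟨M, h1⟩ := exists_fam h hk h0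
  obtain ⟨s, M, c⟩ := exists_CI ⟨h, hC, fun hk _ _ _ _ => claimB h hk hC, fun hU _ hk => not_cent_Ft h hk hC hU,
    fun D _ => h.toSd.no_stable D⟩ h1
  obtain ⟨q, d, k, m, e, φ, K, c⟩ := c.exists_CL
  obtain ⟨p, _, b, c⟩ := c.exists_CP
  rcases c.lt.e_eq with ⟨rfl, h2⟩ | ⟨-, u, h2, h3, h4⟩
  · exact CQ.inner ⟨c, h2⟩
  · exact c.outer h2 h3 h4

end GW
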