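import Cfsg.Agent.Lib.GW.DX
import Cfsg.Agent.Lib.GW.Base

/-!
# Step B, case I: the maximal subgroup `M = N(E)` and the subgroup `B = F_t ⊓ C(E)`
-/

set_option autoImplicit false
set_option linter.unusedSectionVars false

namespace GW

open Cfsg GT FT Subgroup
open scoped Pointwise commutatorElement

universe u

variable {G : Type u} [Group G] [Finite G]

theorem exists_Op_ne_bot' {H : Subgroup G} [Group.IsNilpotent H] (h : H ≠ ⊥) :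
    ∃ (p : ℕ) (_ : Fact p.Prime), Op p H ≠ ⊥ := by
  by_contra! hn
  exact h (eq_bot_iff.2 (fittingOf_eq_self (H := H) ▸ fittingOf_le_of_forall_Op fun p hp => (hn p hp).le))

theorem Cp.le_Ly {X M : Subgroup G} (h : Cp X) {t : G} (hi : Inv t) (ht : t ∈ Ly X) (hle : Ly X ≤ M)
    (hc : t ∈ 𝐂(Od M)) : Ly X ≤ Ly M := by
  rcases h.qs (Ly X ⊓ 𝐂(Od M)) inf_le_left
    (le_normalizer_inf le_normalizer (le_normalizer_centralizer (hle.trans (le_norm_Od M)))) with e | e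
  · exact absurd (odd_of_mem_Od (h.Zc_le (e ⟨ht, hc⟩))) (by rw [hi.orderOf]; decide)
  · exact GW.le_Ly hle (e.ge.trans inf_le_right) (Ly_perfect X)

/-- the facts about `C(t)` used in case I -/
structure Ext (t : G) : Prop where
  min : Min G
  coat : IsCoatom 𝐂[t]
  clB : ∀ {s : G}, Kl t s → ∀ {p : ℕ} [Fact p.Prime] {Y M : Subgroup G}, IsPGroup p Y → Y ≠ ⊥ →
    Y ≤ Ft t ⊓ 𝐂[s] → M ≠ ⊤ → Y ⊔ 𝐂(Y) ≤ M → M ≤ 𝐂[t] ∨ (Ly M ≠ ⊥ ∧ t ∈ 𝐂(Od M))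
  ncF : Ut t ≠ ⊥ → ∀ {s : G}, Kl t s → s ∉ 𝐂(Ft t)
  nst : ∀ {S : Subgroup G} {σ τ : G} {k : ℕ}, DihSyl S σ τ t k → ∀ {N : Subgroup G}, N ≤ Ut t →
    ⁅Ut t, 𝐂[t]⁆ ≤ N → (∀ s ∈ S, Kl t s → ∃ g, g * t * g⁻¹ = s ∧ g * s * g⁻¹ = t * s ∧
      ∀ w ∈ Wt t s, ⁅g, w⁆ ∈ N) → N = Ut t

/-- the family of subgroups considered in case I -/
structure Fam (t s : G) (M : Subgroup G) : Prop where
  kl : Kl t s
  ne : M ≠ ⊤
  fus : Fused M t s
  ex : ∃ (p : ℕ) (_ : Fact p.Prime) (Y : Subgroup G), IsPGroup p Y ∧ Y ≠ ⊥ ∧ Y ≤ Ft t ⊓ 𝐂[s] ∧ Y ⊔ 𝐂(Y) ≤ M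

namespace Fam
variable {t s : G} {M : Subgroup G} (h : Fam t s M)
include h

theorem t_mem : t ∈ M :=
  let ⟨_, _, _, _, _, h1, h2⟩ := h.ex
  h2 (mem_sup_right (le_cent1_iff.1 (h1.trans (inf_le_left.trans ((Ft_le t).trans (Ut_le t))))))

theorem s_mem : s ∈ M :=
  let ⟨_, _, _, _, _, h1, h2⟩ := h.ex
  h2 (mem_sup_right (le_cent1_iff.1 (h1.trans inf_le_right)))

theorem not_le : ¬ M ≤ 𝐂[t] := fun e => by
  obtain ⟨g, hg, e1, -⟩ := h.fus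
  rw [mem_cent1.1 (e hg), mul_inv_cancel_right] at e1
  exact h.kl.ne e1

theorem ly (x : Ext t) : Ly M ≠ ⊥ ∧ t ∈ 𝐂(Od M) :=
  let ⟨_, _, _, h0, h1, h2, h3⟩ := h.ex
  (x.clB h.kl h0 h1 h2 h.ne h3).resolve_left h.not_le

theorem cp (x : Ext t) : Cp M := x.min.cp h.ne (h.ly x).1

theorem t_Ly (x : Ext t) : t ∈ Ly M := by
  obtain ⟨g, hg, e1, e2⟩ := h.fus
  have e3 : g * (t * s) * g⁻¹ = t := by rw [← conj_mul, e1, e2, h.kl.comm, h.kl.r.mul_mul]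
  have hn := le_norm_Ly M hg
  rcases (h.cp x).kl h.t_mem h.s_mem h.kl with e | e | e
  · exact e
  · exact e3 ▸ conj_mem_of_mem_normalizer hn (e2 ▸ conj_mem_of_mem_normalizer hn e)
  · exact e3 ▸ conj_mem_of_mem_normalizer hn e

theorem s_Ly (x : Ext t) : s ∈ Ly M :=
  let ⟨_, hg, e1, _⟩ := h.fus
  e1 ▸ conj_mem_of_mem_normalizer (le_norm_Ly M hg) (h.t_Ly x)

theorem mono {M' : Subgroup G} (e : M ≤ M') (hM : M' ≠ ⊤) : Fam t s M' :=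
  let ⟨p, hp, Y, h0, h1, h2, h3⟩ := h.ex
  ⟨h.kl, hM, h.fus.mono e, p, hp, Y, h0, h1, h2, h3.trans e⟩

end Fam

theorem exists_fam (h : Min G) {t s : G} (hk : Kl t s) (h0 : Ft t ⊓ Ft s ⊓ Ft (t * s) ≠ ⊥) : ∃ M, Fam t s M := by
  have := isNilpotent_of_le (inf_le_left.trans inf_le_left : Ft t ⊓ Ft s ⊓ Ft (t * s) ≤ Ft t)
  obtain ⟨p, hp, h1⟩ := exists_Op_ne_bot' h0
  obtain ⟨g, -, e1, e2⟩ := h.fused hk
  have e3 : g * (t * s) * g⁻¹ = t := by rw [← conj_mul, e1, e2, hk.comm, hk.r.mul_mul]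
  refine ⟨_, hk, h.norm_ne_top h1 (IsPGroup.isSolvable' (isPGroup_Op p _)),
    ⟨g, norm_le_norm_piCoreOf _ _ (conj_smul_eq_iff_mem_normalizer.1 ?_), e1, e2⟩, p, hp, _, isPGroup_Op p _, h1,
    (piCoreOf_le _ _).trans (inf_le_left.trans (inf_le_inf_left _ ((Ft_le s).trans (Ut_le s)))),
    sup_le le_normalizer (cent_le_norm _)⟩
  rw [conj_smul_inf, conj_smul_inf, conj_Ft, conj_Ft, conj_Ft, e1, e2, e3, inf_comm, ← inf_assoc]

/-- a member of the family with a layer of maximal order -/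
structure CI (t s : G) (M : Subgroup G) : Prop extends Ext t, Fam t s M where
  max : ∀ s' M', Fam t s' M' → Nat.card (Ly M') ≤ Nat.card (Ly M)
  norm : 𝐍(Ly M) = M

theorem exists_CI {t s : G} (x : Ext t) {M : Subgroup G} (h : Fam t s M) : ∃ s M, CI t s M := by
  obtain ⟨⟨s, M⟩, h, hm⟩ := Set.exists_max_image {a : G × Subgroup G | Fam t a.1 a.2}
    (fun a => Nat.card (Ly a.2)) (Set.toFinite _) ⟨(s, M), h⟩
  replace h : Fam t s M := h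
  have h1 := h.mono (le_norm_Ly M) (x.min.norm_ne_top' (h.ly x).1 fun e => h.ne (eq_top_iff.2 (e.ge.trans (Ly_le M))))
  have h2 : Ly M = Ly 𝐍(Ly M) := eq_of_le_of_card_ge
    ((h.cp x).le_Ly h.kl.l (h.t_Ly x) le_normalizer (h1.ly x).2) (hm (s, _) h1)
  exact ⟨s, _, x, h1, fun s' M' h' => h2 ▸ hm (s', M') h', by rw [← h2]⟩

/-- `B = F_t ⊓ C(E)` -/
abbrev Bc (t : G) (M : Subgroup G) : Subgroup G := Ft t ⊓ 𝐂(Ly M)

namespace CI
variable {t s : G} {M : Subgroup G} (c : CI t s M)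
include c

theorem sd : Sd G := c.min.toSd
theorem cp' : Cp M := c.cp c.toExt
theorem tE : t ∈ Ly M := c.t_Ly c.toExt
theorem sE : s ∈ Ly M := c.s_Ly c.toExt
theorem centE_le : 𝐂(Ly M) ≤ M := (cent_le_norm _).trans c.norm.le
theorem centE : 𝐂(Ly M) = Od M := by rw [← c.cp'.cent, inf_eq_right.2 c.centE_le]
theorem B_le : Bc t M ≤ M := inf_le_right.trans c.centE_le
theorem B_le' : Bc t M ≤ Ft t ⊓ M := le_inf inf_le_left c.B_le
theorem J_le : Od M ≤ Ut t :=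
  c.sd.le_Ut c.kl.l (le_cent1_iff.2 (Ly_le_cent M c.tE)) (odd_Od' M)

theorem ly_norm {p : ℕ} [hp : Fact p.Prime] {Y : Subgroup G} (hY : IsPGroup p Y) (h0 : Y ≠ ⊥) (h1 : Y ≤ Bc t M) :
    Ly 𝐍(Y) = Ly M := by
  have h2 : Ly M ≤ 𝐍(Y) := (le_cent_comm.1 (h1.trans inf_le_right)).trans (cent_le_norm _)
  have h3 : Fam t s 𝐍(Y) := ⟨c.kl, c.sd.norm_ne_top h0 (IsPGroup.isSolvable' hY),
    (c.cp'.fused t c.tE s c.sE c.kl).mono h2, p, hp, Y, hY, h0,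
    h1.trans (inf_le_inf_left _ (cent_le_cent1 c.sE)), sup_le le_normalizer (cent_le_norm _)⟩
  exact (eq_of_le_of_card_ge (c.cp'.le_Ly c.kl.l c.tE h2 (h3.ly c.toExt).2) (c.max _ _ h3)).symm

theorem norm_le {D : Subgroup G} (h0 : D ≠ ⊥) (h1 : D ≤ Bc t M) : 𝐍(D) ≤ M := by
  have := isNilpotent_of_le (h1.trans inf_le_left)
  obtain ⟨p, hp, h2⟩ := exists_Op_ne_bot' h0
  have := c.ly_norm (isPGroup_Op p D) h2 ((piCoreOf_le _ _).trans h1)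
  exact (norm_le_norm_piCoreOf _ _).trans ((le_norm_Ly _).trans (this ▸ c.norm.le))

theorem cent1_le {b : G} (h0 : b ≠ 1) (h1 : b ∈ Bc t M) : 𝐂[b] ≤ M :=
  (centralizer_zpowers b).ge.trans ((cent_le_norm _).trans (c.norm_le (zpowers_ne_bot.2 h0) (zpowers_le.2 h1)))

theorem disj {u : G} (hu : u ∉ M) : Bc t M ⊓ MulAut.conj u • Bc t M = ⊥ := by
  by_contra h0
  have := isNilpotent_of_le (inf_le_left.trans inf_le_left : Bc t M ⊓ MulAut.conj u • Bc t M ≤ Ft t)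
  obtain ⟨p, hp, h2⟩ := exists_Op_ne_bot' h0
  have e1 := c.ly_norm (isPGroup_Op p _) h2 ((piCoreOf_le _ _).trans inf_le_left)
  have e2 := c.ly_norm (isPGroup_conj_smul u⁻¹ (isPGroup_Op p _)) (conj_smul_eq_bot_iff.not.2 h2)
    (conj_smul_le_iff_le_inv.2 (by rw [inv_inv]; exact (piCoreOf_le _ _).trans inf_le_right))
  rw [← conj_smul_normalizer, ← conj_Ly, e1] at e2
  exact hu (c.norm.le (inv_mem_iff.1 (conj_smul_eq_iff_mem_normalizer.1 e2)))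

theorem conj_not_mem {u b : G} (hu : u ∉ M) (h0 : b ≠ 1) (h1 : b ∈ Bc t M) : u * b * u⁻¹ ∉ Bc t M := fun e =>
  h0 (conj_eq_one_iff.1 (mem_bot.1 ((c.disj hu).le ⟨e, conj_mem_conj_smul.2 h1⟩)))

theorem C_not_le : ¬ 𝐂[t] ≤ M := fun e => c.not_le ((c.coat.le_iff.1 e).resolve_left c.ne).le

theorem sc : Ft t ⊓ 𝐂((Ft t ⊓ M : Subgroup G)) ≤ M :=
  let ⟨_, _, _, _, _, h2, h3⟩ := c.ex
  inf_le_right.trans ((centralizer_anti (le_inf (h2.trans inf_le_left) (le_sup_left.trans h3))).trans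
    (le_sup_right.trans h3))

theorem cent_F {A : Subgroup G} (hn : A ≤ 𝐍(Ft t)) (hc : (Nat.card (Ft t)).Coprime (Nat.card A))
    (h : Ft t ⊓ M ≤ 𝐂(A)) : A ≤ 𝐂(Ft t) :=
  coprime_nil_faithful_cent_stab hn hc inferInstance
    ((le_inf inf_le_left ((inf_le_inf_left _ (centralizer_anti (le_inf inf_le_left h))).trans c.sc)).trans h)

theorem U_ne : Ut t ≠ ⊥ := fun e =>
  let ⟨_, _, _, _, h1, h2, _⟩ := c.ex
  h1 (eq_bot_iff.2 (h2.trans (inf_le_left.trans ((Ft_le t).trans e.le))))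

theorem not_cent {v : G} (hv : Kl t v) : ¬ Ft t ⊓ M ≤ 𝐂[v] := fun e =>
  c.ncF c.U_ne hv (c.cent_F (zpowers_le.2 (norm_Ft t hv.mem_cent))
    (by rw [Nat.card_zpowers, hv.r.orderOf]; exact (odd_of_le_Od (Ft_le t)).coprime_two_right)
    (centralizer_zpowers v ▸ e) (mem_zpowers v))

theorem not_AT : ¬ AT M := fun a => by
  obtain ⟨z, -, -, h1, -, -, v, hv, -, -, hk, -, e, -⟩ := a.three t c.t_mem c.kl.l
  refine c.not_cent hk ((le_inf inf_le_right (inf_le_left.trans (Ft_le t))).trans (h1.le.trans (sup_le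
    (le_cent1_iff.2 (Ly_le_cent M hv)) (zpowers_le.2 (mem_cent1.2 (mul_inv_eq_iff_eq_mul.1 e).symm)))))

end CI

end GW
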