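import Cfsg.Agent.Lib.GW.CaseIA
import Cfsg.Agent.Lib.GW.CaseIG

/-!
# Step B, case I: the structure of `F_t ⊓ M` when the layer of `M` is of type `PSL(2, q)`
-/

set_option autoImplicit false
set_option linter.unusedSectionVars false

namespace GW

open Cfsg GT FT Subgroup
open scoped Pointwise commutatorElement

universe u

variable {G : Type u} [Group G] [Finite G]

namespace CI0

theorem eq_one_of_inv {x : G} (ho : Odd (orderOf x)) (e : x⁻¹ = x) : x = 1 := by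
  have := P4.mem_zpowers_sq ho
  rwa [mul_eq_one_iff_eq_inv.2 e.symm, zpowers_one_eq_bot, mem_bot] at this

theorem invBy_fpf {u : G} {D : Subgroup G} (hu : Inv u) (hn : u ∈ 𝐍(D)) (h : D ⊓ 𝐂[u] = ⊥) : InvBy u D :=
  fun x hx => by
    obtain ⟨k, -, rfl⟩ := exists_commutator_eq_of_fpf hn (fun n h1 h2 => mem_bot.1 (h.le ⟨h1, mem_cent1.2 h2⟩)) hx
    rw [commutatorElement_inv, commutatorElement_def, commutatorElement_def, hu.inv, mul_assoc u, hu.mul_mul']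
    simp only [mul_assoc]

theorem le_cent_of_invBy' {u : G} {D : Subgroup G} (h : InvBy u D) : D ≤ 𝐂(D) := fun x hx =>
  mem_centralizer_iff.2 fun y hy => inv_injective (by
    rw [← h _ (mul_mem hy hx), ← conj_mul, h y hy, h x hx, mul_inv_rev])

theorem comm_mem_of_invBy {u x : G} {D : Subgroup G} (h : InvBy u D) (hx : x ∈ 𝐍(D)) : ⁅x, u⁆ ∈ 𝐂(D) :=
  mem_centralizer_iff.2 fun d hd => by
    have h1 : u⁻¹ * d * u = d⁻¹ := by
      have := h _ (inv_mem hd)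
      rw [inv_inv] at this
      conv_lhs => rw [← this]
      group
    have h2 := h _ (conj_mem_of_mem_normalizer (inv_mem hx) (inv_mem hd))
    refine mul_inv_eq_iff_eq_mul.1 ?_ |>.symm
    calc ⁅x, u⁆ * d * ⁅x, u⁆⁻¹ = x * (u * (x⁻¹ * (u⁻¹ * d * u) * x⁻¹⁻¹) * u⁻¹) * x⁻¹ := by
          rw [commutatorElement_def]; group
      _ = d := by rw [h1, h2]; group

theorem comm_mem_of_cyclic {D : Subgroup G} (hD : IsCyclic D) {x y : G} (hx : x ∈ 𝐍(D)) (hy : y ∈ 𝐍(D)) :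
    ⁅x, y⁆ ∈ 𝐂(D) := by
  have : ⁅(⟨x, hx⟩ : 𝐍(D)), ⟨y, hy⟩⁆ ∈ D.normalizerMonoidHom.ker := by
    rw [MonoidHom.mem_ker, map_commutatorElement, commutatorElement_eq_one_iff_mul_comm]
    exact (IsCyclic.mulAutMulEquiv D).injective (by rw [map_mul, map_mul, mul_comm])
  rwa [normalizerMonoidHom_ker] at this

theorem mem_cent_of_cyclic {D : Subgroup G} (hD : IsCyclic D) {x y : G} (hx : x ∈ 𝐍(D)) (hy : y ∈ 𝐍(D))
    (ho : Odd (orderOf x)) (e : y * x * y⁻¹ = x⁻¹) : x ∈ 𝐂(D) := by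
  have := comm_mem_of_cyclic hD hy hx
  rw [commutatorElement_def, e, ← mul_inv_rev] at this
  exact zpowers_le.2 (inv_mem_iff.1 this) (P4.mem_zpowers_sq ho)

end CI0

open CI0

/-- case I with a layer of type `PSL(2, q)` -/
structure CL (t s : G) (M : Subgroup G) (q d k m e φ : ℕ) (K : Subgroup G) : Prop extends CI t s M where
  lt : LT M q d k m e φ
  tor : Tor M t K
  cardK : Nat.card K = k
  ti : ∀ a ∈ K, a ≠ 1 → ∀ v ∈ Ly M, Inv v → v * a = a * v → v = t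

theorem CI.exists_CL {t s : G} {M : Subgroup G} (c : CI t s M) : ∃ q d k m e φ K, CL t s M q d k m e φ K :=
  let ⟨q, d, k, m, e, φ, h⟩ := (c.min.types c.ne c.cp'.ne).resolve_left c.not_AT
  let ⟨K, h1, h2, h3⟩ := h.tor_in t c.tE c.kl.l
  ⟨q, d, k, m, e, φ, K, c, h, h1, h2, h3⟩

namespace CL
variable {t s : G} {M K : Subgroup G} {q d k m e φ : ℕ} (c : CL t s M q d k m e φ K)
include c

theorem KE : K ≤ Ly M := c.tor.le.trans inf_le_left
theorem KU : K ≤ Ut t := c.tor.le.trans inf_le_right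
theorem KM : K ≤ M := c.KE.trans (Ly_le M)
theorem K_comm : K ≤ 𝐂(K) := le_cent_of_invBy' (c.tor.inv s c.s_mem c.kl)
theorem B_cent : Bc t M ≤ 𝐂(K) := inf_le_right.trans (centralizer_anti c.KE)

/-- `p`-elements centralizing a four-group and `O_{p'}(K)` -/
theorem fld' {v : G} (hv : v ∈ M) (hk : Kl t v) {p : ℕ} [Fact p.Prime] {y : G} (hy : y ∈ M ⊓ Wt t v)
    (hp : IsPElt p y) (h : y ∈ 𝐂(Op' p K)) : y ∈ 𝐂(Ly M) := by
  rcases eq_or_ne p 2 with rfl | h2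
  · rw [hp.eq_one_of_isPRegular (not_two_dvd.2 (odd_of_mem_Od hy.2.1))]
    exact one_mem _
  have := c.tor.cyc
  have : Group.IsNilpotent K := (IsCyclic.commGroup (α := K)).isNilpotent
  exact c.centE.ge (c.tor.fld v hv hk p h2 y ⟨⟨hy.1, Ut_le t hy.2.1⟩, hy.2.2⟩ hp fun x hx hd =>
    mem_centralizer_iff.1 h x (le_piCoreOf_of_nilpotent (zpowers_le.2 hx)
      ((isPiNat_compl_singleton_iff Fact.out).2 (by rwa [Nat.card_zpowers])) (mem_zpowers x)))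

theorem fldF {v : G} (hv : v ∈ M) (hk : Kl t v) : Ft t ⊓ M ⊓ 𝐂[v] ≤ Bc t M :=
  le_inf (inf_le_left.trans inf_le_left) (le_of_forall_isPElt_mem fun p _ x hx hp => by
    refine c.fld' hv hk ⟨hx.1.2, Ft_le t hx.1.1, hx.2⟩ hp (commute_of_normal_of_disjoint'
      (H := Op p (Ut t) ⊓ M) (le_normalizer_inf ((piCoreOf_le _ _).trans (c.KU.trans (le_norm_piCoreOf _ _)))
        ((piCoreOf_le _ _).trans (c.KM.trans le_normalizer)))
      ((le_inf inf_le_right (inf_le_left.trans ((piCoreOf_le _ _).trans (Ut_le t)))).trans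
        (c.tor.norm.trans (norm_le_norm_piCoreOf _ _)))
      (disjoint_of_isPGroup_of_not_dvd ((isPGroup_Op p _).to_le inf_le_left) (not_dvd_card_Op' p K))
      ⟨le_Op_of_le_fittingOf hp.isPGroup_zpowers (zpowers_le.2 hx.1.1) (mem_zpowers x), hx.1.2⟩))

theorem B_ne : Bc t M ≠ ⊥ := fun h =>
  let ⟨_, _, _, _, h1, h2, h3⟩ := c.ex
  h1 (eq_bot_iff.2 ((le_inf (le_inf (h2.trans inf_le_left) (le_sup_left.trans h3)) (h2.trans inf_le_right)).trans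
    ((c.fldF c.s_mem c.kl).trans h.le)))

theorem B_eq {v : G} (hv : v ∈ Ly M) (hk : Kl t v) : Ft t ⊓ 𝐂[v] = Bc t M := by
  have h1 : Bc t M ≤ Ft t ⊓ 𝐂[v] := inf_le_inf_left _ (cent_le_cent1 hv)
  by_contra h
  have := isNilpotent_of_le (inf_le_left : Ft t ⊓ 𝐂[v] ≤ Ft t)
  exact (lt_inf_normalizer_of_isNilpotent (lt_of_le_of_ne h1 (Ne.symm h))).not_ge
    ((le_inf (le_inf (inf_le_left.trans inf_le_left) (inf_le_right.trans (c.norm_le c.B_ne le_rfl)))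
      (inf_le_left.trans inf_le_right)).trans (c.fldF (Ly_le M hv) hk))

theorem W_le {v : G} (hv : v ∈ Ly M) (hk : Kl t v) : Wt t v ≤ M := by
  refine le_trans ?_ (c.norm_le c.B_ne le_rfl)
  rw [← c.B_eq hv hk]
  exact le_normalizer_inf (inf_le_left.trans (le_norm_fittingOf _)) (inf_le_right.trans le_normalizer)

theorem norm_B : M ⊓ 𝐂[t] ≤ 𝐍(Bc t M) :=
  le_normalizer_inf (inf_le_right.trans (norm_Ft t)) (le_normalizer_centralizer (inf_le_left.trans (le_norm_Ly M)))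

theorem invBy {D : Subgroup G} (h1 : D ≤ Ft t) (h2 : D ⊓ Bc t M = ⊥) {v : G} (hv : v ∈ Ly M) (hk : Kl t v)
    (hn : v ∈ 𝐍(D)) : InvBy v D :=
  invBy_fpf hk.r hn (eq_bot_iff.2 ((le_inf inf_le_left ((inf_le_inf_right _ h1).trans (c.B_eq hv hk).le)).trans h2.le))

theorem comm_mem {x : G} (hx : x ∈ M ⊓ Ut t) : ⁅x, s⁆ ∈ K :=
  c.tor.comm' s c.sE c.kl (commutator_mem_commutator hx (mem_zpowers s))

theorem decomp {x : G} (hx : x ∈ Ft t ⊓ M) : ∃ b ∈ Bc t M, ∃ y ∈ K, b * y = x := by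
  have h : CoprimeAct (zpowers s) (Ft t ⊓ M) := coprimeAct_zpowers
    (le_normalizer_inf (zpowers_le.2 (norm_Ft t c.kl.mem_cent)) (zpowers_le.2 (le_normalizer c.s_mem)) (mem_zpowers s))
    (by rw [c.kl.r.orderOf]; exact (odd_of_le_Od (inf_le_left.trans (Ft_le t))).coprime_two_right)
  obtain ⟨y, hy, b, hb, rfl⟩ := h.exists_commutator_mul_centralizer hx
  have h1 := c.fldF c.s_mem c.kl ⟨hb.1, centralizer_zpowers s ▸ hb.2⟩
  have h2 := c.tor.comm' s c.sE c.kl (commutator_mono (le_inf inf_le_right (inf_le_left.trans (Ft_le t))) le_rfl hy)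
  exact ⟨b, h1, y, h2, (mem_centralizer_iff.1 (c.B_cent h1) y h2).symm⟩

theorem FM_cent : Ft t ⊓ M ≤ 𝐂(K) := fun _ hx =>
  let ⟨_, hb, _, hy, e⟩ := c.decomp hx
  e ▸ mul_mem (c.B_cent hb) (c.K_comm hy)

/-- `F_t ⊓ M` modulo `B` embeds into `K` -/
theorem emb {D : Subgroup G} (h : D ≤ Ft t ⊓ M) :
    ∃ f : D →* G, f.range ≤ K ∧ f.ker = (Bc t M).subgroupOf D := by
  have h1 : ∀ x : D, ⁅(x : G), s⁆ ∈ K := fun x => c.comm_mem ⟨(h x.2).2, Ft_le t (h x.2).1⟩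
  refine ⟨MonoidHom.mk' (fun x => ⁅(x : G), s⁆) fun x y => ?_, by rintro _ ⟨x, rfl⟩; exact h1 x,
    Subgroup.ext fun x => ?_⟩
  · have e1 := mem_centralizer_iff.1 (c.FM_cent (h x.2)) _ (h1 y)
    have e2 := mem_centralizer_iff.1 (c.K_comm (h1 x)) _ (h1 y)
    calc ⁅((x * y : D) : G), s⁆ = x * ⁅(y : G), s⁆ * (x : G)⁻¹ * ⁅(x : G), s⁆ := by
          simp only [commutatorElement_def, coe_mul]; group
      _ = _ := by rw [← e1, mul_inv_cancel_right, e2]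
  · rw [MonoidHom.mem_ker, mem_subgroupOf, ← c.B_eq c.sE c.kl]
    exact commutatorElement_eq_one_iff_mul_comm.trans ⟨fun e => ⟨(h x.2).1, mem_cent1.2 e⟩, fun e => mem_cent1.1 e.2⟩

theorem card_eq {D : Subgroup G} (h : D ≤ Ft t ⊓ M) : ∃ L ≤ K, Nat.card D = Nat.card ↥(Bc t M ⊓ D) * Nat.card L ∧
    (∀ n : ℕ, (∀ x ∈ D, x ^ n = 1) → ∀ x ∈ L, x ^ n = 1) ∧ (D ⊓ Bc t M = ⊥ → IsCyclic D) := by
  obtain ⟨f, h1, h2⟩ := c.emb h
  refine ⟨_, h1, by rw [← card_subgroupOf, ← h2, ← index_ker, card_mul_index], ?_, fun e => ?_⟩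
  · rintro n hn _ ⟨x, rfl⟩
    rw [← map_pow, show x ^ n = 1 from Subtype.ext (hn x x.2), map_one]
  · have := c.tor.cyc
    have := GT.isCyclic_of_le h1
    refine isCyclic_of_injective f.rangeRestrict (MonoidHom.rangeRestrict_injective_iff.2
      ((MonoidHom.ker_eq_bot_iff f).1 ?_))
    rw [h2, subgroupOf_eq_bot, disjoint_iff, inf_comm, e]

theorem exists_u : ∃ u ∈ 𝐂[t], u ∉ M ∧ u ∈ 𝐍((Ft t ⊓ M : Subgroup G)) := by
  by_cases h : Ft t ≤ M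
  · obtain ⟨u, h1, h2⟩ := SetLike.not_le_iff_exists.1 c.C_not_le
    exact ⟨u, h1, h2, by rw [inf_eq_left.2 h]; exact norm_Ft t h1⟩
  · obtain ⟨u, h1, h2⟩ := SetLike.exists_of_lt (lt_inf_normalizer_of_isNilpotent (inf_lt_left.2 h))
    exact ⟨u, Ut_le t (Ft_le t h1.1), fun e => h2 ⟨h1.1, e⟩, h1.2⟩

theorem B_cyc : IsCyclic (Bc t M) ∧ Nat.card (Bc t M) ∣ k := by
  obtain ⟨u, -, h2, h3⟩ := c.exists_u
  have h4 : MulAut.conj u • Bc t M ⊓ Bc t M = ⊥ := inf_comm (Bc t M) _ ▸ c.disj h2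
  obtain ⟨L, h5, h6, -, h7⟩ := c.card_eq (D := MulAut.conj u • Bc t M)
    (conj_smul_le_iff.2 fun x hx => conj_mem_of_mem_normalizer h3 (c.B_le' hx))
  rw [c.disj h2, card_bot, one_mul, card_conj_smul] at h6
  exact ⟨conj_inv_smul_conj_smul u (Bc t M) ▸ isCyclic_conj (h7 h4) u⁻¹, h6 ▸ c.cardK ▸ card_dvd_of_le h5⟩

theorem cop_F {n : ℕ} (h : k.Coprime n) : (Nat.card (Ft t)).Coprime n := by
  refine Nat.coprime_of_dvd fun r hr h1 h2 => ?_
  have := Fact.mk hr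
  obtain ⟨L, h5, h6, -⟩ := c.card_eq le_rfl
  have h3 : ¬ r ∣ Nat.card ↥(Ft t ⊓ M) := fun e => hr.ne_one (Nat.eq_one_of_dvd_coprimes h
    (((hr.dvd_mul.1 (h6 ▸ e)).elim (fun e => e.trans ((card_dvd_of_le inf_le_left).trans c.B_cyc.2))
      fun e => e.trans (c.cardK ▸ card_dvd_of_le h5))) h2)
  have h4 := sylow_Op_of_nilpotent (H := Ft t) r
  refine h3 ((dvd_card_of_isPGroup_of_ne_bot h4.isPGroup (h4.ne_bot h1)).trans
    (card_dvd_of_le (le_inf h4.le ((le_inf h4.le ?_).trans c.sc))))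
  exact le_centralizer_of_coprime_of_isNilpotent h4.le inf_le_left (h4.isPGroup.coprime_card h3)

theorem eq_bot_of_cop {A : Subgroup G} (h1 : A ≤ Ut t) (h2 : k.Coprime (Nat.card A)) (h3 : Bc t M ≤ 𝐂(A))
    (h4 : K ≤ 𝐂(A)) : A = ⊥ :=
  (disjoint_of_coprime (c.cop_F h2)).eq_bot_of_ge ((le_inf h1 (c.cent_F (h1.trans (le_norm_fittingOf _)) (c.cop_F h2)
    fun _ hx => let ⟨_, hb, _, hy, e⟩ := c.decomp hx; e ▸ mul_mem (h3 hb) (h4 hy))).trans cent_fittingOf_le)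

theorem k_dvd : k ∣ d := let ⟨_, _, e⟩ := c.lt.dk; e ▸ Dvd.intro_left _ rfl

theorem Z_eq : Zc (Ly M) = ⊥ :=
  c.eq_bot_of_cop (c.cp'.Zc_le.trans c.J_le)
    (c.lt.copZ.coprime_dvd_right (c.k_dvd.trans (Dvd.intro _ rfl))).symm
    (inf_le_right.trans (centralizer_anti inf_le_left)) (c.KE.trans (le_cent_comm.1 inf_le_right))

theorem relIndex_E : (𝐂[t]).relIndex (Ly M) = q * m := by
  rw [← ncard_conj, ← c.lt.card_inv]
  congr 1
  ext v
  exact ⟨by rintro ⟨g, hg, rfl⟩; exact ⟨mul_mem (mul_mem hg c.tE) (inv_mem hg), c.kl.l.conj g⟩,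
    fun h => c.cp'.conj t c.tE v h.1 c.kl.l h.2⟩

theorem qm_pos : 0 < q * m := c.relIndex_E ▸ relIndex_pos _ _

theorem EU_eq : Ly M ⊓ Ut t = K := by
  have h1 := card_inf_mul_relIndex 𝐂[t] (Ly M)
  rw [c.relIndex_E, c.lt.card_E, c.Z_eq, card_bot, one_mul, mul_right_comm, mul_comm (q * m)] at h1
  obtain ⟨a, -, e⟩ := c.lt.dk
  refine (eq_of_le_of_card_ge c.tor.le (Nat.le_of_dvd Nat.card_pos ?_)).symm
  refine Nat.Coprime.dvd_of_dvd_mul_left (m := 2 ^ a) ((odd_of_le_Od inf_le_right).coprime_two_right.pow_right a) ?_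
  rw [c.cardK, ← e, ← Nat.eq_of_mul_eq_mul_right c.qm_pos h1]
  exact card_dvd_of_le (le_inf (inf_le_right.trans (Ut_le t)) inf_le_left)

theorem eq_one_of_W {v x : G} (hv : v ∈ M) (hk : Kl t v) (h1 : x ∈ Ly M) (h2 : x ∈ Wt t v) : x = 1 :=
  eq_one_of_inv (odd_of_mem_Od h2.1) (by
    rw [← c.tor.inv v hv hk x (c.EU_eq.le ⟨h1, h2.1⟩), ← mem_cent1.1 h2.2, mul_inv_cancel_right])

end CL

end GW
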