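import Cfsg.Agent.Lib.GW.CaseIB
import Cfsg.Agent.Lib.FT.Pf.BG4a

/-!
# Step B, case I: an element `b` of prime order in `B` and the group `P = O_p(U)`
-/

set_option autoImplicit false
set_option linter.unusedSectionVars false

namespace GW

open Cfsg GT FT Subgroup CI0
open scoped Pointwise commutatorElement

universe u

variable {G : Type u} [Group G] [Finite G]

namespace CI0

theorem norm_cyc {H K : Subgroup G} (hH : IsCyclic H) (h : K ≤ H) : 𝐍(H) ≤ 𝐍(K) := fun _ hg =>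
  conj_smul_eq_iff_mem_normalizer.1 (eq_of_card_eq_of_isCyclic
    (conj_smul_le_iff.2 fun _ hx => conj_mem_of_mem_normalizer hg (h hx)) h (card_conj_smul _ _))

theorem card_dvd_of_exp {H : Subgroup G} (hH : IsCyclic H) {n : ℕ} (h : ∀ x ∈ H, x ^ n = 1) : Nat.card H ∣ n :=
  (card_dvd_of_le (K := powKer H n) fun x hx => mem_powKer.2 ⟨hx, h x hx⟩).trans (card_powKer_dvd_of_isCyclic _ n)

theorem comm_mem' {H : Subgroup G} {x y : G} (hx : x ∈ H) (hy : y ∈ H) : ⁅x, y⁆ ∈ H :=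
  mul_mem (mul_mem (mul_mem hx hy) (inv_mem hx)) (inv_mem hy)

theorem le_of_lines {p n : ℕ} (hp : 2 ≤ p) (h : n * (p - 1) + 1 ≤ p ^ 2) : n ≤ p + 1 := by
  obtain ⟨r, rfl⟩ : ∃ r, p = r + 2 := ⟨p - 2, by omega⟩
  by_contra! h5
  rw [show r + 2 - 1 = r + 1 from rfl] at h
  nlinarith

theorem le_of_lines' {p n : ℕ} (hp : 2 ≤ p) (h : n * (p - 1) + 1 ≤ p ^ 3) : n ≤ p ^ 2 + p + 1 := by
  obtain ⟨r, rfl⟩ : ∃ r, p = r + 2 := ⟨p - 2, by omega⟩
  by_contra! h5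
  rw [show r + 2 - 1 = r + 1 from rfl] at h
  nlinarith

end CI0

/-- `P = O_p(U)` -/
abbrev Pp (p : ℕ) (t : G) : Subgroup G := Op p (Ut t)
/-- `C_F(P)` -/
abbrev Dz (p : ℕ) (t : G) : Subgroup G := Ft t ⊓ 𝐂(Pp p t)
/-- `Ω₁(Z₂(P))` -/
abbrev Az (p : ℕ) (t : G) : Subgroup G := omegaOne p (Z2 (Pp p t))
/-- `Ω₁(Z(P))` -/
abbrev Zz (p : ℕ) (t : G) : Subgroup G := omegaOne p (Zc (Pp p t))

section
variable (p : ℕ) (t : G)
theorem norm_Pp : 𝐂[t] ≤ 𝐍(Pp p t) := (norm_Ut t).trans (norm_le_norm_piCoreOf _ _)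
theorem norm_Dz : 𝐂[t] ≤ 𝐍(Dz p t) := le_normalizer_inf (norm_Ft t) (le_normalizer_centralizer (norm_Pp p t))
theorem norm_Az : 𝐂[t] ≤ 𝐍(Az p t) :=
  (norm_Pp p t).trans ((P4.norm_le_norm_Z2 _).trans (norm_le_norm_omegaOne p _))
theorem norm_Zz : 𝐂[t] ≤ 𝐍(Zz p t) := (le_normalizer_inf (norm_Pp p t)
  (le_normalizer_centralizer (norm_Pp p t))).trans (norm_le_norm_omegaOne p _)
theorem Pp_le [Fact p.Prime] : Pp p t ≤ Ft t := Op_le_fittingOf p _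
theorem Az_le : Az p t ≤ Pp p t := (omegaOne_le p _).trans (P4.Z2_le _)
theorem Zz_le : Zz p t ≤ Az p t := omegaOne_mono p fun x hx => ⟨hx.1, fun y hy => by
  rw [commutatorElement_eq_one_iff_mul_comm.2 (mem_centralizer_iff.1 hx.2 y hy).symm]; exact one_mem _⟩
theorem Zz_le' [Fact p.Prime] : Zz p t ≤ Dz p t := (omegaOne_le p _).trans (inf_le_inf_right _ (Pp_le p t))
theorem Zz_exp : ∀ x ∈ Zz p t, x ^ p = 1 := (elem_omegaOne_Zc p _).2
end

namespace CL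
variable {t s : G} {M K : Subgroup G} {q d k m e φ : ℕ} (c : CL t s M q d k m e φ K)
include c

theorem FM_comm : Ft t ⊓ M ≤ 𝐂((Ft t ⊓ M : Subgroup G)) := fun _ hx => by
  obtain ⟨b, hb, y, hy, rfl⟩ := c.decomp hx
  have := c.B_cyc.1
  refine mul_mem (le_cent_comm.1 (fun _ hx' => ?_ : _ ≤ 𝐂(Bc t M)) hb) (le_cent_comm.1 c.FM_cent hy)
  obtain ⟨b', hb', y', hy', rfl⟩ := c.decomp hx'
  exact mul_mem ((comm_iff_le_cent.1 inferInstance : Bc t M ≤ _) hb') (le_cent_comm.1 c.B_cent hy')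

theorem mem_K {x : G} (hx : x ∈ Ft t ⊓ M) (h : s * x * s⁻¹ = x⁻¹) : x ∈ K := by
  obtain ⟨b, hb, y, hy, rfl⟩ := c.decomp hx
  rw [← conj_mul, c.tor.inv s c.s_mem c.kl y hy, mem_centralizer_iff.1 hb.2 s c.sE, mul_inv_cancel_right,
    ← mem_centralizer_iff.1 (c.B_cent hb) y hy, mul_inv_rev, mul_left_inj] at h
  rwa [eq_one_of_inv (odd_of_mem_Od (Ft_le t hb.1)) h.symm, one_mul]

theorem M_le {H : Subgroup G} (h1 : Ly M ≤ H) (h2 : M ⊓ 𝐂[t] ≤ H) : M ≤ H := fun x hx => by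
  obtain ⟨g, hg, e1⟩ := c.cp'.conj t c.tE _ (conj_mem_of_mem_normalizer (le_norm_Ly M hx) c.tE) c.kl.l (c.kl.l.conj x)
  rw [← mul_inv_cancel_left g x]
  refine mul_mem (h1 hg) (h2 ⟨M.mul_mem (M.inv_mem (Ly_le M hg)) hx, mem_cent1.2 ?_⟩)
  calc g⁻¹ * x * t = g⁻¹ * (x * t * x⁻¹) * x := by group
    _ = _ := by rw [← e1]; group

/-- an involution of `E` centralizing a conjugate of `b` outside `B` -/
theorem uniq {b x v : G} (hb : b ∈ Bc t M) (h0 : b ≠ 1) (hx : x ∈ Ft t) (hx' : x ∉ Bc t M) (h : ⁅x, b⁆ ∈ K)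
    (hv : v ∈ Ly M) (hi : Inv v) (e1 : v * x = x * v) : v = t := by
  by_cases h1 : ⁅x, b⁆ = 1
  · obtain ⟨b', hb', y, hy, rfl⟩ := c.decomp ⟨hx, c.cent1_le h0 hb
      (mem_cent1.2 (commutatorElement_eq_one_iff_mul_comm.1 h1))⟩
    refine c.ti y hy (fun e => hx' (by rwa [e, mul_one])) v hv hi (mul_left_cancel (a := b') ?_)
    rw [← mul_assoc, ← mem_centralizer_iff.1 hb'.2 v hv, mul_assoc, ← mul_assoc b', ← e1]
  · refine c.ti _ h h1 v hv hi (mul_inv_eq_iff_eq_mul.1 ?_)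
    rw [conjugate_commutatorElement, e1, mem_centralizer_iff.1 hb.2 v hv, mul_inv_cancel_right, mul_inv_cancel_right]

end CL

/-- case I with an element `b ∈ B` of prime order -/
structure CP (t s : G) (M : Subgroup G) (q d k m e φ : ℕ) (K : Subgroup G) (p : ℕ) (b : G) : Prop
    extends CL t s M q d k m e φ K where
  bB : b ∈ Bc t M
  ord : orderOf b = p

theorem CL.exists_CP {t s : G} {M K : Subgroup G} {q d k m e φ : ℕ} (c : CL t s M q d k m e φ K) :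
    ∃ (p : ℕ) (_ : Fact p.Prime) (b : G), CP t s M q d k m e φ K p b := by
  obtain ⟨p, hp, h⟩ := Nat.exists_prime_and_dvd (card_eq_one.not.2 c.B_ne)
  have := Fact.mk hp
  obtain ⟨b, hb⟩ := exists_prime_orderOf_dvd_card' p h
  exact ⟨p, this, b, c, b.2, by rw [Subgroup.orderOf_coe, hb]⟩

namespace CP
variable {t s b : G} {M K : Subgroup G} {q d k m e φ p : ℕ} [hp : Fact p.Prime] (c : CP t s M q d k m e φ K p b)
include c

theorem cardY : Nat.card (zpowers b) = p := by rw [Nat.card_zpowers, c.ord]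
theorem YB : zpowers b ≤ Bc t M := zpowers_le.2 c.bB
theorem p_dvd : p ∣ k := c.cardY ▸ (card_dvd_of_le c.YB).trans c.B_cyc.2
theorem three_le : 3 ≤ p := lt_of_le_of_ne hp.out.two_le fun h => not_two_dvd.2 c.lt.odd_k (h ▸ c.p_dvd)
theorem b_ne : b ≠ 1 := fun h => hp.out.ne_one (by rw [← c.ord, h, orderOf_one])
theorem b_pow : b ^ p = 1 := c.ord ▸ pow_orderOf_eq_one b
theorem pY : IsPGroup p (zpowers b) := IsPGroup.of_card (n := 1) (by rw [c.cardY, pow_one])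
theorem bP : b ∈ Pp p t := le_Op_of_le_fittingOf c.pY (c.YB.trans inf_le_left) (mem_zpowers b)
theorem centb : 𝐂[b] ≤ M := c.cent1_le c.b_ne c.bB
theorem E_cent : Ly M ≤ 𝐂(zpowers b) := le_cent_comm.1 (c.YB.trans inf_le_right)
theorem normY : 𝐍(zpowers b) = M := le_antisymm (c.norm_le (zpowers_ne_bot.2 c.b_ne) c.YB)
  (c.M_le (c.E_cent.trans (cent_le_norm _)) (c.norm_B.trans (norm_cyc c.B_cyc.1 c.YB)))
theorem FM_le : Ft t ⊓ M ≤ 𝐂[b] := c.FM_comm.trans (cent_le_cent1 (c.B_le' c.bB))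

theorem card_exp {D : Subgroup G} (h : D ≤ Ft t ⊓ M) (he : ∀ x ∈ D, x ^ p = 1) : Nat.card D ∣ p ^ 2 := by
  obtain ⟨L, h1, h2, h3, -⟩ := c.card_eq h
  have := c.tor.cyc
  have := c.B_cyc.1
  rw [h2, pow_two]
  exact mul_dvd_mul (card_dvd_of_exp (GT.isCyclic_of_le inf_le_left) fun x hx => he x hx.2)
    (card_dvd_of_exp (GT.isCyclic_of_le h1) (h3 p he))

theorem inf_B {D : Subgroup G} (he : ∀ x ∈ D, x ^ p = 1) (hb : b ∉ D) : D ⊓ Bc t M = ⊥ := by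
  have := c.B_cyc.1
  rcases (Nat.dvd_prime hp.out).1 (card_dvd_of_exp (GT.isCyclic_of_le (inf_le_right : D ⊓ Bc t M ≤ _))
    fun x hx => he x hx.1) with h | h
  · exact card_eq_one.1 h
  · exact absurd ((eq_of_card_eq_of_isCyclic c.YB inf_le_right (c.cardY.trans h.symm)).le (mem_zpowers b)).1 hb

/-- the conjugates of `⟨b⟩` lie in every invariant subgroup containing `b` -/
theorem cj_le {H A : Subgroup G} (hH : H ≤ 𝐍(A)) (hb : b ∈ A) : M.relIndex H * (p - 1) + 1 ≤ Nat.card A := by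
  rw [← c.normY, ← ncard_Cj]
  refine lines_prime hp.out ?_
  rintro _ ⟨g, hg, rfl⟩
  exact ⟨conj_smul_le_iff.2 fun x hx => conj_mem_of_mem_normalizer (hH hg) (zpowers_le.2 hb hx),
    (card_conj_smul _ _).trans c.cardY⟩

theorem Dz_le' : Dz p t ≤ Ft t ⊓ M := inf_le_inf_left _ ((cent_le_cent1 c.bP).trans c.centb)

theorem cj_Z (hb : b ∈ 𝐂(Pp p t)) {H : Subgroup G} (hH : H ≤ 𝐂[t]) : M.relIndex H ≤ p + 1 :=
  le_of_lines hp.out.two_le ((c.cj_le (hH.trans (norm_Zz p t)) (mem_omegaOne ⟨c.bP, hb⟩ c.b_pow)).trans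
    (Nat.le_of_dvd (pow_pos hp.out.pos 2) (c.card_exp ((Zz_le' p t).trans c.Dz_le') (Zz_exp p t))))

theorem not_cent_of (hb : b ∉ Az p t) : b ∉ 𝐂(Pp p t) := fun h => hb (Zz_le p t (mem_omegaOne ⟨c.bP, h⟩ c.b_pow))

section
variable (hb : b ∉ 𝐂(Pp p t))
include hb

theorem P_not_le : ¬ Pp p t ≤ M := fun h => hb (le_cent1_iff.1 ((le_inf (Pp_le p t) h).trans c.FM_le))

theorem Dz_inf : Dz p t ⊓ Bc t M = ⊥ := eq_bot_iff_forall _ |>.2 fun _ hx => by_contra fun h =>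
  c.P_not_le hb ((le_cent1_iff.2 hx.1.2).trans (c.cent1_le h hx.2))

theorem Dz_le : Dz p t ≤ K := fun x hx => c.mem_K (c.Dz_le' hx)
  (c.invBy inf_le_left (c.Dz_inf hb) c.sE c.kl (norm_Dz p t c.kl.mem_cent) x hx)

theorem Dz_cyc : IsCyclic (Dz p t) := have := c.tor.cyc; GT.isCyclic_of_le (c.Dz_le hb)

theorem A_exp : ¬ IsCyclic (Az p t) ∧ ∀ x ∈ Az p t, x ^ p = 1 :=
  Ohm1_odd_ucn2 (isPGroup_Op p _) (odd_of_le_Od (piCoreOf_le _ _)) fun _ =>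
    hb ((comm_iff_le_cent.1 inferInstance : Pp p t ≤ _) c.bP)

theorem relIndex_dvd {H : Subgroup G} (h : H ≤ Pp p t) (h' : ∀ x ∈ H, ⁅x, b⁆ ∈ 𝐂(Pp p t)) : M.relIndex H ∣ p := by
  let f : H →* G := MonoidHom.mk' (fun x => ⁅(x : G), b⁆) fun x y => by
    have e1 := mem_centralizer_iff.1 (h' _ y.2)
    calc ⁅((x * y : H) : G), b⁆ = x * ⁅(y : G), b⁆ * (x : G)⁻¹ * ⁅(x : G), b⁆ := by
          simp only [commutatorElement_def, coe_mul]; group
      _ = _ := by rw [e1 _ (h x.2), mul_inv_cancel_right, e1 _ (comm_mem' (h x.2) c.bP)]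
  have h1 : f.range ≤ Dz p t := by
    rintro _ ⟨x, rfl⟩
    exact ⟨Pp_le p t (comm_mem' (h x.2) c.bP), h' _ x.2⟩
  have := c.Dz_cyc hb
  refine (index_dvd_of_le (H := f.ker) fun x hx => c.centb (mem_cent1.2
    (commutatorElement_eq_one_iff_mul_comm.1 hx))).trans ?_
  rw [index_ker]
  refine card_dvd_of_exp (GT.isCyclic_of_le h1) ?_
  rintro _ ⟨x, rfl⟩
  change ⁅(x : G), b⁆ ^ p = 1
  rw [← P4.comm_pow_right (mem_centralizer_iff.1 (h' _ x.2) b c.bP).symm, c.b_pow, commutatorElement_one_right]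

theorem relIndex_A : M.relIndex (Az p t) ∣ p :=
  c.relIndex_dvd hb (Az_le p t) fun _ hx => (omegaOne_le p _ hx).2 b c.bP

theorem MA_le : M ⊓ Az p t ≤ Ft t ⊓ M := le_inf (inf_le_right.trans ((Az_le p t).trans (Pp_le p t))) inf_le_left

theorem cardA : Nat.card (Az p t) ∣ p ^ 3 := by
  rw [← card_inf_mul_relIndex M, pow_succ]
  exact mul_dvd_mul (c.card_exp (c.MA_le hb) fun x hx => (c.A_exp hb).2 x hx.2) (c.relIndex_A hb)

theorem cardZ : Nat.card (Zz p t) = p := by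
  have := c.Dz_cyc hb
  refine ((Nat.dvd_prime hp.out).1 (card_dvd_of_exp (GT.isCyclic_of_le (Zz_le' p t)) (Zz_exp p t))).resolve_left
    (card_eq_one.not.2 (omegaOne_Zc_ne_bot (isPGroup_Op p _) fun h => c.P_not_le hb (h.le.trans bot_le)))

theorem cardYZ : Nat.card ↥(zpowers b ⊔ Zz p t) = p ^ 2 := by
  rw [card_sup_of_disjoint_of_le_normalizer ((c.YB.trans (inf_le_left.trans ((Ft_le t).trans (Ut_le t)))).trans
    (norm_Zz p t)) ((disjoint_iff.2 (c.Dz_inf hb)).symm.mono c.YB (Zz_le' p t)), c.cardY, c.cardZ hb, pow_two]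

end

theorem cardA' (hb : b ∉ Az p t) : Nat.card (Az p t) ∣ p ^ 2 ∧ Az p t ⊓ Bc t M = ⊥ ∧ ¬ Az p t ≤ M := by
  have h0 := c.not_cent_of hb
  have h1 := c.inf_B (c.A_exp h0).2 hb
  obtain ⟨-, -, -, -, h2⟩ := c.card_eq (c.MA_le h0)
  have h3 := h2 (eq_bot_iff.2 ((inf_le_inf_right _ inf_le_right).trans h1.le))
  refine ⟨?_, h1, fun h => (c.A_exp h0).1 (inf_eq_right.2 h ▸ h3)⟩
  rw [← card_inf_mul_relIndex M, pow_two]
  exact mul_dvd_mul (card_dvd_of_exp h3 fun x hx => (c.A_exp h0).2 x hx.2) (c.relIndex_A h0)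

end CP

end GW
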