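import Cfsg.Agent.Lib.GW.CaseIC
import Cfsg.Agent.Lib.GW.ChA
import Cfsg.Agent.Lib.FT.Pf.BG4b

/-!
# Step B, case I: all `2`-elements of `M` lie in the layer
-/

set_option autoImplicit false
set_option linter.unusedSectionVars false

namespace GW

open Cfsg GT FT Subgroup CI0
open scoped Pointwise commutatorElement

universe u

variable {G : Type u} [Group G] [Finite G]

theorem CI0.le_of_sup_der {X U : Subgroup G} (hs : Group.IsSolvable U) (hn : U ≤ 𝐍(X)) (h : U ≤ X ⊔ ⁅U, U⁆) :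
    U ≤ X := by
  suffices ∀ H : Subgroup G, H ≤ U → U ≤ X ⊔ H → U ≤ X from this U le_rfl le_sup_right
  intro H
  induction H using WellFoundedLT.induction with
  | ind H ih =>
  intro h1 h2
  by_cases h0 : H = ⊥
  · rwa [h0, sup_bot_eq] at h2
  have := isSolvable_of_le h1
  have n1 : X ≤ 𝐍((X ⊔ ⁅H, H⁆ : Subgroup G)) := le_sup_left.trans le_normalizer
  have n2 : H ≤ 𝐍((X ⊔ ⁅H, H⁆ : Subgroup G)) := le_normalizer_sup (h1.trans hn) (le_norm_commutator_left H H)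
  exact ih _ (der_lt_of_solvable h0) ((der_le H).trans h1) (h.trans (sup_le le_sup_left
    ((commutator_mono h2 h2).trans (commutator_sup_left_le
      ((commutator_le_left_of_norm (sup_le le_normalizer (h1.trans hn))).trans le_sup_left)
      (commutator_sup_right_le ((commutator_le_right_of_norm (h1.trans hn)).trans le_sup_left) le_sup_right n1 n2)
      n1 n2))))

theorem CI0.ncard_Cj' (H Y : Subgroup G) : (Cj H Y \ {Y}).ncard = (𝐍(Y)).relIndex H - 1 := by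
  rw [← ncard_Cj]
  exact Set.ncard_sdiff_singleton_of_mem ⟨1, one_mem H, by simp⟩

theorem CI0.dvd_of_not_sq {p n k : ℕ} (h : ¬ p ^ 2 ∣ k) (h1 : ∃ j, n = p ^ j) (h2 : n ∣ k) : n ∣ p := by
  obtain ⟨j, rfl⟩ := h1
  exact (pow_dvd_pow p (by by_contra! e; exact h ((pow_dvd_pow p e).trans h2))).trans (pow_one p).dvd

/-- case I with `e = 1` -/
structure CQ (t s : G) (M : Subgroup G) (q d k m φ : ℕ) (K : Subgroup G) (p : ℕ) (b : G) : Prop
    extends CP t s M q d k m 1 φ K p b where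
  two : ∀ x ∈ M, IsPElt 2 x → x ∈ Ly M

namespace CQ
variable {t s b : G} {M K : Subgroup G} {q d k m φ p : ℕ} [hp : Fact p.Prime] (c : CQ t s M q d k m φ K p b)
include c

theorem S_le {S : Subgroup G} {σ : G} {j : ℕ} (D : DihSyl S σ s t j) : S ≤ Ly M := by
  refine le_trans ?_ (fun x hx => c.two x hx.2 (D.isPElt hx.1) : S ⊓ M ≤ Ly M)
  by_contra h
  have := D.syl.isPGroup.isNilpotent
  refine (lt_inf_normalizer_of_isNilpotent (lt_of_le_not_ge inf_le_left h)).not_ge fun y hy =>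
    ⟨hy.1, c.norm_le c.B_ne le_rfl (conj_smul_eq_iff_mem_normalizer.1 ?_)⟩
  have e1 : y * t * y⁻¹ = t := mul_inv_eq_iff_eq_mul.2 (mem_cent1.1 (D.le_C hy.1))
  have h1 := conj_mem_of_mem_normalizer hy.2 (⟨D.τ_mem, c.s_mem⟩ : s ∈ S ⊓ M)
  conv_lhs => rw [← c.B_eq c.sE c.kl, conj_smul_inf, conj_Ft, conj_cent1, e1]
  exact c.B_eq (c.two _ h1.2 (D.isPElt h1.1)) (e1 ▸ c.kl.conj y)

theorem card_W {v : G} (hv : v ∈ Ly M) (hk : Kl t v) : Nat.card (Wt t v) = Nat.card (Od M) * φ := by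
  rw [← c.lt.card_W t c.tE v hv hk, inf_eq_right.2 (c.W_le hv hk)]

theorem bound : 64 * M.index * (q * m) ≤ 45 * M.relIndex 𝐂[t] ^ 3 * d ^ 2 := by
  obtain ⟨S, σ, j, D⟩ := c.sd.exists_dih' c.kl
  have h1 := c.sd.bound D ((c.card_W c.sE c.kl).trans (c.card_W (c.S_le D (mul_mem D.σ_mem D.τ_mem)) D.kl_στ).symm)
    fun h => c.B_ne (eq_bot_iff.2 ((inf_le_inf (Ft_le t) (cent_le_cent1 c.sE)).trans h.le))
  have h2 : 0 < Nat.card (Od M) * φ := c.card_W c.sE c.kl ▸ Nat.card_pos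
  have h3 : 0 < d := by have := c.lt.five; have := c.lt.num; omega
  rw [← M.card_mul_index, ← card_inf_mul_relIndex M 𝐂[t], c.lt.card_in t c.tE c.kl.l, c.lt.card_X,
    c.card_W c.sE c.kl] at h1
  generalize Nat.card (Od M) * φ = w at *
  refine Nat.le_of_mul_le_mul_left (c := w ^ 3 * d) ?_ (by positivity)
  calc _ = 64 * (w * 1 * (q * d * m) * M.index) * w ^ 2 := by ring
    _ ≤ _ := h1
    _ = _ := by ring

theorem ns {D : Subgroup G} (h1 : D ≤ Ft t) (h2 : 𝐂[t] ≤ 𝐍(D)) (h3 : D ⊓ Bc t M = ⊥) : Ut t ≤ 𝐂(D) := by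
  obtain ⟨S, σ, j, X⟩ := c.sd.exists_dih' c.kl
  have n1 : 𝐂[t] ≤ 𝐍((Ut t ⊓ 𝐂(D) : Subgroup G)) := le_normalizer_inf (norm_Ut t) (le_normalizer_centralizer h2)
  have n2 : 𝐂[t] ≤ 𝐍((Ut t ⊓ 𝐂(D) ⊔ ⁅Ut t, Ut t⁆ : Subgroup G)) :=
    le_normalizer_sup n1 (le_normalizer_commutator (norm_Ut t) (norm_Ut t))
  have k1 : ∀ v ∈ S, Kl t v → ⁅Ut t, zpowers v⁆ ≤ Ut t ⊓ 𝐂(D) ⊔ ⁅Ut t, Ut t⁆ := fun v hv hk =>
    le_sup_of_le_left (le_inf (commutator_le_left_of_norm (zpowers_le.2 (norm_Ut t hk.mem_cent)))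
      (commutator_le.2 fun x hx y hy => by
        rcases hk.r.mem_zpowers_iff.1 hy with rfl | rfl
        · rw [commutatorElement_one_right]; exact one_mem _
        · exact comm_mem_of_invBy (c.invBy h1 h3 (c.S_le X hv) hk (h2 hk.mem_cent)) (h2 (Ut_le t hx))))
  have k2 : S ≤ zpowers (σ * s) ⊔ zpowers s := X.eq_sup.ge.trans (sup_le (zpowers_le.2 (by
    nth_rewrite 2 [← c.kl.r.mul_mul' σ]
    exact mul_mem_sup (mem_zpowers _) (mem_zpowers _))) le_sup_right)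
  refine (le_of_sup_der (GAG.odd_solv (odd_Od _)) ((Ut_le t).trans n1) (c.nst X (sup_le inf_le_left (der_le _))
    ((commutator_mono le_rfl (X.sdp.sup.ge.trans (sup_le_sup_left k2 _))).trans (commutator_sup_right_le le_sup_right
      (commutator_sup_right_le (k1 _ (mul_mem X.σ_mem X.τ_mem) X.kl_στ) (k1 s X.τ_mem c.kl)
        (zpowers_le.2 (n2 X.kl_στ.mem_cent)) (zpowers_le.2 (n2 c.kl.mem_cent))) ((Ut_le t).trans n2)
      (sup_le (zpowers_le.2 (n2 X.kl_στ.mem_cent)) (zpowers_le.2 (n2 c.kl.mem_cent)))))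
    fun v hv hk => ?_).ge).trans inf_le_right
  obtain ⟨g, hg, e1, e2⟩ := c.cp'.fused t c.tE v (c.S_le X hv) hk
  refine ⟨g, e1, e2, fun w hw => ?_⟩
  have e3 : MulAut.conj g • Wt t v = Wt t v := by rw [conj_Wt, e1, e2, hk.comm, Wt_mul hk.symm, c.sd.Wt_comm hk]
  rw [c.eq_one_of_W (Ly_le M (c.S_le X hv)) hk (commutator_le_left_of_norm (le_norm_Ly M)
    (commutator_mem_commutator hg (c.W_le (c.S_le X hv) hk hw)))
    (mul_mem (e3.le (conj_mem_conj_smul.2 hw)) (inv_mem hw))]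
  exact one_mem _

theorem transl (h : ∀ x ∈ Pp p t, ⁅x, b⁆ ∈ K) {H : Subgroup G} (hH : H ≤ 𝐂[t]) {R : Set (Subgroup G)}
    (hR : ∀ X ∈ Cj H (zpowers b), X ≠ zpowers b → ∀ g ∈ Ly M, MulAut.conj g • X ≠ zpowers b →
      MulAut.conj g • X ∈ R) : q * m * (M.relIndex H - 1) ≤ R.ncard := by
  rw [← c.lt.card_inv, ← congrArg (relIndex · H) c.normY, ← ncard_Cj']
  refine translate (fun v hv hi => c.cp'.conj t c.tE v hv c.kl.l hi) ?_ fun X hX g hg => hR X hX.1 hX.2 g hg fun e =>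
    hX.2 ?_
  · rintro _ ⟨⟨g, hg, rfl⟩, h1⟩
    have h2 : g * b * g⁻¹ ∈ Pp p t := conj_mem_of_mem_normalizer (norm_Pp p t (hH hg)) c.bP
    refine ⟨le_cent1_iff.1 (conj_smul_le_iff.2 fun x hx => Ut_le t (conj_mem_of_mem_normalizer (norm_Ut t (hH hg))
      (Ft_le t (c.YB hx).1))), fun v hv hi e => c.uniq c.bB c.b_ne (Pp_le p t h2) (c.conj_not_mem (fun hM => h1 ?_)
        c.b_ne c.bB) (h _ h2) hv hi
        (mem_centralizer_iff.1 e _ (conj_mem_conj_smul.2 (mem_zpowers b))).symm⟩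
    exact conj_smul_eq_iff_mem_normalizer.2 (c.normY.ge hM)
  · rw [← conj_inv_smul_conj_smul g X, e]
    exact conj_smul_eq_iff_mem_normalizer.2 (c.normY.ge (M.inv_mem (Ly_le M hg)))

theorem four_le : 4 * k ≤ d :=
  let ⟨_, h, e⟩ := c.lt.dk
  e ▸ Nat.mul_le_mul_right k (Nat.pow_le_pow_right two_pos h)

theorem p_le : p ≤ k := Nat.le_of_dvd c.lt.odd_k.pos c.p_dvd

theorem count (h : ∀ x ∈ Pp p t, ⁅x, b⁆ ∈ K)
    (h1 : 3 * M.relIndex 𝐂[t] ≤ 4 * k ∨ (9 ≤ k ∧ 9 * M.relIndex 𝐂[t] ≤ 13 * k)) : False := by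
  have h2 := c.transl h le_rfl (R := Cj ⊤ (zpowers b) \ {zpowers b}) (by
    rintro _ ⟨x, -, rfl⟩ - g - e
    exact ⟨⟨g * x, mem_top _, (conj_smul_conj_smul _ _ _).symm⟩, e⟩)
  rw [ncard_Cj', c.normY, relIndex_top_right] at h2
  have h3 := relIndex_pos M 𝐂[t]
  have h4 : M.relIndex 𝐂[t] ≠ 1 := relIndex_eq_one.not.2 c.C_not_le
  have h5 := Nat.pos_of_ne_zero (index_ne_zero_of_finite (H := M))
  exact num_count c.lt.num c.four_le (c.three_le.trans c.p_le) (by omega) h1 (by omega) c.bound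

section
variable (hb : b ∉ 𝐂(Pp p t))
include hb

theorem U_cent : Ut t ≤ 𝐂(Dz p t) := c.ns inf_le_left (norm_Dz p t) (c.Dz_inf hb)

theorem mem_Dz {y : G} (h1 : y ∈ Ut t) (h2 : y ∈ 𝐂(Pp p t)) : y ∈ Dz p t := by
  have := GAG.odd_solv (odd_Od 𝐂[t])
  refine ⟨cent_fittingOf_le ⟨h1, le_cent1_iff.1 (fittingOf_le_of_forall_Op fun r _ => le_cent1_iff.2 ?_)⟩, h2⟩
  rcases eq_or_ne r p with rfl | h
  · exact h2
  · exact centralizer_anti (le_inf (Pp_le r t) (le_centralizer_of_coprime_of_isNilpotent (Pp_le r t) (Pp_le p t)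
      (IsPGroup.coprime_card_of_ne r p h _ _ (isPGroup_Op r _) (isPGroup_Op p _)))) (c.U_cent hb h1)

theorem mem_A : b ∈ Az p t := by_contra fun h =>
  let ⟨_, h1, h2⟩ := c.cardA' h
  h2 ((le_cent1_iff.2 (c.ns ((Az_le p t).trans (Pp_le p t)) (norm_Az p t) h1 (Ft_le t c.bB.1))).trans c.centb)

theorem comm_Dz {x : G} (hx : x ∈ Pp p t) : ⁅x, b⁆ ∈ Dz p t :=
  ⟨Pp_le p t (comm_mem' hx c.bP), by
    rw [← commutatorElement_inv]; exact Subgroup.inv_mem _ ((omegaOne_le p _ (c.mem_A hb)).2 x hx)⟩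

theorem count' (h1 : 3 * M.relIndex 𝐂[t] ≤ 4 * k ∨ (9 ≤ k ∧ 9 * M.relIndex 𝐂[t] ≤ 13 * k)) : False :=
  c.count (fun _ hx => c.Dz_le hb (c.comm_Dz hb hx)) h1

theorem rho_le : M.relIndex 𝐂[t] ≤ p ^ 2 + p + 1 := le_of_lines' hp.out.two_le
  ((c.cj_le (norm_Az p t) (c.mem_A hb)).trans (Nat.le_of_dvd (pow_pos hp.out.pos 3) (c.cardA hb)))

theorem not_sq : ¬ p ^ 2 ∣ k := fun h => by
  have h1 := Nat.le_of_dvd c.lt.odd_k.pos h
  have h2 := c.rho_le hb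
  have h3 := c.three_le
  exact c.count' hb (Or.inr ⟨by nlinarith, by nlinarith⟩)

theorem idxP : M.relIndex (Pp p t) = p :=
  ((Nat.dvd_prime hp.out).1 (c.relIndex_dvd hb le_rfl fun _ hx => (c.comm_Dz hb hx).2)).resolve_left
    (relIndex_eq_one.not.2 (c.P_not_le hb))

theorem cardMP : Nat.card ↥(M ⊓ Pp p t) ∣ p ^ 2 := by
  obtain ⟨L, h1, h2, -⟩ := c.card_eq (le_inf (inf_le_right.trans (Pp_le p t)) inf_le_left : M ⊓ Pp p t ≤ _)
  obtain ⟨j, hj⟩ := ((isPGroup_Op p (Ut t)).to_le (inf_le_right : M ⊓ Pp p t ≤ _)).exists_card_eq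
  have h3 : ∀ n, n ∣ p ^ j → n ∣ k → n ∣ p := fun n a b => dvd_of_not_sq (c.not_sq hb)
    (((Nat.dvd_prime_pow hp.out).1 a).imp fun _ h => h.2) b
  rw [h2, pow_two]
  exact mul_dvd_mul (h3 _ (Dvd.intro _ (h2.symm.trans hj)) ((card_dvd_of_le inf_le_left).trans c.B_cyc.2))
    (h3 _ (Dvd.intro_left _ (h2.symm.trans hj)) (c.cardK ▸ card_dvd_of_le h1))

theorem cardP : Nat.card (Pp p t) ∣ p ^ 3 := by
  rw [← card_inf_mul_relIndex M, c.idxP hb, pow_succ]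
  exact mul_dvd_mul_right (c.cardMP hb) p

theorem three (h3 : p = 3) : False := by
  subst h3
  have h1 : ∀ (r : ℕ) [Fact r.Prime], r ≠ 3 → ∀ R, IsSylowIn r R (Ut t) → R ≤ Dz 3 t := fun r hr h R hR x hx => by
    have h2 := hR.isPGroup.to_le (zpowers_le.2 hx)
    have h4 := P4.card_modEq_card_inf_cent h2 (zpowers_le.2 (norm_Pp 3 t (Ut_le t (hR.le hx))))
    refine c.mem_Dz hb (hR.le hx) (le_cent_comm.1 (inf_eq_left.1 (by_contra fun h5 => ?_)) (mem_zpowers x))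
    have h6 : Nat.card (Zz 3 t) ∣ Nat.card ↥(Pp 3 t ⊓ 𝐂(zpowers x)) :=
      card_dvd_of_le (le_inf ((Zz_le 3 t).trans (Az_le 3 t)) ((Zz_le' 3 t).trans
        (le_cent_comm.1 ((zpowers_le.2 (hR.le hx)).trans (c.U_cent hb)))))
    have h7 := Nat.card_pos (α := ↥(Pp 3 t ⊓ 𝐂(zpowers x)))
    have h8 := card_lt_of_lt (lt_of_le_of_ne inf_le_left h5)
    have h9 := card_dvd_of_le (inf_le_left : Pp 3 t ⊓ 𝐂(zpowers x) ≤ _)
    have h10 : Odd r := (odd_of_mem_Od (hR.le hx)).of_dvd_nat (by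
      rw [← Nat.card_zpowers]
      exact dvd_card_of_isPGroup_of_ne_bot h2 fun e => h5 (inf_eq_left.2 (le_cent_comm.1 (e.le.trans bot_le))))
    have h11 := c.cardP hb
    rw [c.cardZ hb] at h6
    have h12 := (Nat.modEq_iff_dvd' h8.le).1 h4.symm
    generalize Nat.card (Pp 3 t) = a at *
    generalize Nat.card ↥(Pp 3 t ⊓ 𝐂(zpowers x)) = n at *
    have h13 : r ∣ 2 ^ 3 * 3 ^ 2 := h12.trans (by
      have := Nat.le_of_dvd (by decide) h11
      obtain ⟨i, hi, rfl⟩ := (Nat.dvd_prime_pow Nat.prime_three).1 h11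
      obtain ⟨j, hj, rfl⟩ := (Nat.dvd_prime_pow Nat.prime_three).1 h9
      interval_cases i <;> interval_cases j <;> simp_all)
    rcases (hr.out.dvd_mul).1 h13 with e | e
    · exact not_two_dvd.2 h10 ((Nat.prime_dvd_prime_iff_eq hr.out Nat.prime_two).1 (hr.out.dvd_of_dvd_pow e)).symm.dvd
    · exact h ((Nat.prime_dvd_prime_iff_eq hr.out Nat.prime_three).1 (hr.out.dvd_of_dvd_pow e))
  obtain ⟨T, hT⟩ := exists_isSylowIn (p := 3) (Ut t)
  have h2 : ∀ N : Subgroup G, T ≤ N → Dz 3 t ≤ N → Ut t ≤ N := fun N a b =>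
    le_of_forall_exists_isSylowIn_le fun r _ => by
      rcases eq_or_ne r 3 with rfl | h
      · exact ⟨T, hT, a⟩
      · obtain ⟨R, hR⟩ := exists_isSylowIn (p := r) (Ut t)
        exact ⟨R, hR, (h1 r h R hR).trans b⟩
  have h4 : T ≤ Pp 3 t := le_Op hT.le (h2 _ le_normalizer
    ((le_cent_comm.1 (hT.le.trans (c.U_cent hb))).trans (cent_le_norm _))) hT.isPGroup
  obtain ⟨S, σ, j, X⟩ := c.sd.exists_dih' c.kl
  have h5 := c.cj_le (H := 𝐂[t]) (A := M ⊓ Pp 3 t) (X.sdp.sup.ge.trans (sup_le (h2 _ (h4.trans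
    (le_normalizer_of_relIndex_eq (isPGroup_Op 3 _) inf_le_right (by rw [inf_relIndex_right, c.idxP hb])))
    (inf_le_right.trans ((centralizer_anti inf_le_right).trans (cent_le_norm _))))
    (le_normalizer_inf ((c.S_le X).trans ((Ly_le M).trans le_normalizer)) (X.le_C.trans (norm_Pp 3 t)))))
    ⟨c.B_le c.bB, c.bP⟩
  have h6 := Nat.le_of_dvd (by decide) (c.cardMP hb)
  have h7 := c.p_le
  exact c.count' hb (Or.inl (by omega))

theorem cardW_lt : Nat.card (Wt t s) < p ^ 2 := by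
  have hs := norm_Pp p t c.kl.mem_cent
  obtain ⟨a, ha, h1⟩ : ∃ a ∈ Pp p t, ⁅a, s⁆ ∉ M := by
    by_contra! h
    have h2 : CoprimeAct (zpowers s) (Pp p t) := coprimeAct_zpowers hs
      (by rw [c.kl.r.orderOf]; exact (odd_of_le_Od (piCoreOf_le _ _)).coprime_two_right)
    refine c.P_not_le hb (h2.commutator_sup_inf_centralizer.ge.trans (sup_le (commutator_le.2 fun x hx y hy => ?_) ?_))
    · rcases c.kl.r.mem_zpowers_iff.1 hy with rfl | rfl
      · rw [commutatorElement_one_right]; exact one_mem _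
      · exact h x hx
    · rw [centralizer_zpowers]
      exact (inf_le_inf_right _ (Pp_le p t)).trans ((c.B_eq c.sE c.kl).le.trans c.B_le)
  have h2 : ⁅a, s⁆ ∈ Pp p t := commutator_le_left_of_norm (zpowers_le.2 hs) (commutator_mem_commutator ha (mem_zpowers s))
  have h3 : 𝐂[a * s * a⁻¹] ⊓ Wt t s = ⊥ := (eq_bot_iff_forall _).2 fun y hy => by
    have e1 : y * ⁅a, s⁆ * y⁻¹ = ⁅a, s⁆ := by
      rw [commutatorElement_def, mul_inv_eq_iff_eq_mul, ← mul_assoc, mem_cent1.1 hy.1, mul_assoc, mul_assoc _ s⁻¹,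
        (Commute.inv_right (mem_cent1.1 hy.2.2)).eq]
    have e2 := mem_centralizer_iff.1 (c.U_cent hb hy.2.1) _ (c.comm_Dz hb h2)
    have e3 : b⁻¹ * (y * b * y⁻¹) = 1 := by_contra fun e => h1 (c.cent1_le e (mul_mem (inv_mem c.bB)
      (conj_mem_of_mem_normalizer (c.norm_B ⟨c.W_le c.sE c.kl hy.2, Ut_le t hy.2.1⟩) c.bB)) (mem_cent1.2 (by
        rw [eq_comm, ← mul_inv_eq_iff_eq_mul, conjugate_commutatorElement, e1] at e2
        generalize ⁅a, s⁆ = x at *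
        generalize y * b * y⁻¹ = z at *
        calc _ = x * b⁻¹ * x⁻¹ * ⁅x, z⁆ * z * x := by rw [commutatorElement_def]; group
          _ = _ := by rw [e2, commutatorElement_def]; group)))
    have e4 : zpowers b ⊔ Zz p t < Pp p t ⊓ 𝐂[y] := SetLike.lt_iff_le_and_exists.2 ⟨sup_le
      (zpowers_le.2 ⟨c.bP, mem_cent1.2 (mul_inv_eq_iff_eq_mul.1 (inv_mul_eq_one.1 e3).symm).symm⟩)
      (le_inf ((Zz_le p t).trans (Az_le p t)) ((Zz_le' p t).trans (le_cent1_iff.2 (c.U_cent hb hy.2.1)))), ⁅a, s⁆,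
      mem_inf.2 ⟨h2, mem_cent1.2 (mul_inv_eq_iff_eq_mul.1 e1).symm⟩, fun e => h1 ((sup_le (c.YB.trans c.B_le)
        ((Zz_le' p t).trans (c.Dz_le'.trans inf_le_right)) : _ ≤ M) e)⟩
    refine c.eq_one_of_W c.s_mem c.kl (c.KE (c.Dz_le hb (c.mem_Dz hb hy.2.1
      (le_cent1_iff.1 (inf_eq_left.1 (by_contra fun e => ?_)))))) hy.2
    have e5 := P4.card_dvd_of_lt e4 (P4.card_dvd_of_lt (lt_of_le_of_ne inf_le_left e) (c.cardP hb))
    rw [c.cardYZ hb] at e5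
    exact absurd ((Nat.pow_dvd_pow_iff_le_right hp.out.one_lt).1 e5) (by decide)
  have h4 : (𝐂[s]).relIndex (Pp p t) ∣ p ^ 2 := by
    refine Nat.dvd_of_mul_dvd_mul_left hp.out.pos ((mul_dvd_mul_right (c.cardY.symm.dvd.trans (card_dvd_of_le
      (K := 𝐂[s] ⊓ Pp p t) (zpowers_le.2 ⟨cent_le_cent1 c.sE c.bB.2, c.bP⟩))) _).trans ?_)
    rw [card_inf_mul_relIndex, ← pow_succ']
    exact c.cardP hb
  rw [← card_inf_mul_relIndex 𝐂[a * s * a⁻¹], h3, card_bot, one_mul, ← ncard_conj]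
  refine lt_of_lt_of_le (Set.ncard_lt_ncard ((Set.ssubset_iff_of_subset (t := {v | ∃ g ∈ Pp p t, g * s * g⁻¹ = v})
    ?_).2 ⟨s, ⟨1, one_mem _, by simp⟩, ?_⟩))
    ((ncard_conj (Pp p t) s).trans_le (Nat.le_of_dvd (pow_pos hp.out.pos 2) h4))
  · rintro _ ⟨y, hy, rfl⟩
    refine ⟨_, conj_mem_of_mem_normalizer (norm_Pp p t (Ut_le t hy.1)) ha, ?_⟩
    calc _ = y * a * (y⁻¹ * (s * y)) * a⁻¹ * y⁻¹ := by group
      _ = _ := by rw [← mem_cent1.1 hy.2]; group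
  · rintro ⟨y, hy, e⟩
    refine h1 ?_
    rw [mul_inv_eq_iff_eq_mul, ← mem_cent1.1 hy.2, mul_right_inj] at e
    rw [commutatorElement_def, e, mul_inv_cancel]
    exact one_mem _

theorem card_le {R : Subgroup G} (h1 : R ≤ M) (h2 : IsPGroup p R) : Nat.card R ≤ p ^ 2 := by
  obtain ⟨j, hj⟩ := h2.exists_card_eq
  rw [hj]
  refine Nat.pow_le_pow_right hp.out.pos (not_lt.1 fun h => ?_)
  have h3 := (pow_dvd_pow p h).trans (hj ▸ card_dvd_of_le h1)
  obtain ⟨a, -, e⟩ := c.lt.dk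
  have h4 : p.Coprime (q * 2 ^ a * m) := (Nat.Prime.coprime_iff_not_dvd hp.out).2 fun h => by
    have h5 := c.p_dvd.trans c.k_dvd
    have h6 : p ∣ 2 := by
      rcases hp.out.dvd_mul.1 h with h | h
      · rcases hp.out.dvd_mul.1 h with h | h
        · rcases c.lt.num with ⟨e, -⟩ | ⟨e, -⟩
          · exact ((Nat.dvd_add_right h5).1 (e ▸ h)).trans (one_dvd 2)
          · exact ((Nat.dvd_add_right h).1 (e ▸ h5)).trans (one_dvd 2)
        · exact hp.out.dvd_of_dvd_pow h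
      · rcases c.lt.num with ⟨e, e'⟩ | ⟨e, e'⟩
        · exact (Nat.dvd_add_right h5).1 ((show 2 * m = d + 2 by omega) ▸ h.mul_left 2)
        · exact (Nat.dvd_add_right (h.mul_left 2)).1 ((show d = 2 * m + 2 by omega) ▸ h5)
    exact absurd (Nat.le_of_dvd two_pos h6) (not_le.2 c.three_le)
  rw [c.lt.card_X, ← c.card_W c.sE c.kl, e, show Nat.card (Wt t s) * 1 * (q * (2 ^ a * k) * m) =
    Nat.card (Wt t s) * k * (q * 2 ^ a * m) by ring] at h3
  replace h3 := (h4.pow_left _).dvd_of_dvd_mul_right h3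
  by_cases h5 : p ∣ Nat.card (Wt t s)
  · exact (Nat.succ_dvd_or_succ_dvd_of_succ_sum_dvd_mul hp.out ((pow_one p).symm ▸ h5) ((pow_one p).symm ▸ c.p_dvd)
      h3).elim (fun h => (c.cardW_lt hb).not_ge (Nat.le_of_dvd Nat.card_pos h)) (c.not_sq hb)
  · exact c.not_sq hb ((pow_dvd_pow p (Nat.le_succ 2)).trans
      ((((Nat.Prime.coprime_iff_not_dvd hp.out).2 h5).pow_left _).dvd_of_dvd_mul_left h3))

theorem beta {X : Subgroup G} (hX : X ∈ Nb (zpowers b)) : (𝐍(X)).relIndex 𝐂(zpowers b) ≤ 2 * (q * m) := by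
  obtain ⟨S, σ, j, D⟩ := c.sd.exists_dih' c.kl
  have h0 : 𝐂(zpowers b) ≤ M := (cent_le_norm _).trans c.normY.le
  have h1 : zpowers σ ⊔ Ut t ≤ 𝐂(Dz p t) := sup_le (zpowers_le.2 (mem_centralizer_iff.2 fun x hx => by
    have e := c.tor.inv _ (Ly_le M (c.S_le D (mul_mem D.σ_mem D.τ_mem))) D.kl_στ _ (inv_mem (c.Dz_le hb hx))
    rw [inv_inv, ← c.tor.inv s c.s_mem c.kl x (c.Dz_le hb hx)] at e
    refine (mul_inv_eq_iff_eq_mul.1 (Eq.trans ?_ e)).symm
    rw [← c.kl.r.conj_conj x, c.kl.r.conj_conj (s * x * s⁻¹)]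
    group)) (c.U_cent hb)
  have h2 : (zpowers σ ⊔ Ut t).relIndex 𝐂[t] = 2 := by
    have e := card_mul_relIndex (sup_le (D.le.trans D.le_C) (Ut_le t) : zpowers σ ⊔ Ut t ≤ _)
    rw [card_sup_of_disjoint_of_le_normalizer (D.le.trans D.sdp.norm) (D.sdp.disj.symm.mono_left D.le), D.card_C,
      D.card_S, mul_comm (2 ^ _), pow_succ 2 (j + 1), ← mul_assoc] at e
    exact Nat.eq_of_mul_eq_mul_left (Nat.mul_pos Nat.card_pos (by positivity)) e
  have h3 : (𝐂[t]).relIndex M = q * m := by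
    have e := card_inf_mul_relIndex 𝐂[t] M
    have e1 := Nat.card_pos (α := ↥(𝐂[t] ⊓ M))
    rw [inf_comm, c.lt.card_in t c.tE c.kl.l] at e e1
    exact Nat.eq_of_mul_eq_mul_left e1 (by rw [e, c.lt.card_X]; ring)
  have h4 : Zz p t ≤ 𝐂(zpowers b) := (Zz_le' p t).trans (inf_le_right.trans (centralizer_anti (zpowers_le.2 c.bP)))
  have h5 : zpowers b ≤ 𝐂(zpowers b) := comm_iff_le_cent.1 inferInstance
  obtain ⟨T, hT⟩ := exists_isSylowIn (p := p) 𝐂(zpowers b)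
  obtain ⟨g, hg, h6⟩ := (hT.of_card_ge (IsPGroup.of_card (c.cardYZ hb)) (sup_le h5 h4)
    (c.cardYZ hb ▸ c.card_le hb (hT.le.trans h0) hT.isPGroup)).exists_conj_le
    (IsPGroup.of_card (n := 1) (by rw [card_of_Nb hX, c.cardY, pow_one])) hX.2.2
  rw [← relIndex_pointwise_smul (MulAut.conj g), conj_smul_normalizer,
    conj_smul_eq_iff_mem_normalizer.2 (le_normalizer hg)]
  calc _ ≤ ((zpowers σ ⊔ Ut t) ⊓ 𝐂(zpowers b)).relIndex 𝐂(zpowers b) := relIndex_le_of_le_left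
        (le_trans (le_cent_comm.1 (h6.trans (sup_le (le_cent_comm.1 inf_le_right)
          ((Zz_le' p t).trans (le_cent_comm.1 (inf_le_left.trans h1)))))) (cent_le_norm _)) (relIndex_pos _ _).ne'
    _ ≤ (zpowers σ ⊔ Ut t).relIndex M := by
        rw [inf_relIndex_right]; exact relIndex_le_of_le_right h0 (relIndex_pos _ _).ne'
    _ ≤ _ := by
        rw [← inf_eq_left.2 (sup_le (D.le.trans D.le_C) (Ut_le t)), ← relIndex_inf_mul_relIndex, h3, ← h2]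
        exact Nat.mul_le_mul_right _ (relIndex_le_of_le_right inf_le_left (relIndex_pos _ _).ne')

theorem five (h5 : 5 ≤ p) : False := by
  have h1 := c.transl (fun _ hx => c.Dz_le hb (c.comm_Dz hb hx)) ((piCoreOf_le {p} _).trans (Ut_le t))
    (R := Nb (zpowers b)) (by
    rintro _ ⟨x, hx, rfl⟩ - g hg e
    refine ⟨⟨g * x, mem_top _, (conj_smul_conj_smul _ _ _).symm⟩, e, conj_smul_le_iff.2 fun y hy =>
      conj_mem_of_mem_normalizer (le_normalizer (c.E_cent hg)) ?_⟩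
    obtain ⟨_, ⟨n, rfl⟩, rfl⟩ := mem_conj_smul'.1 hy
    rw [← conj_zpow, ← inv_mul_cancel_right (x * b * x⁻¹) b]
    exact zpow_mem (mul_mem (centralizer_anti (zpowers_le.2 c.bP) (c.comm_Dz hb hx).2)
      ((comm_iff_le_cent.1 inferInstance : zpowers b ≤ _) (mem_zpowers b))) n)
  have h2 := dist_two c.cardY (fun R h => c.card_le hb (h.trans ((cent_le_norm _).trans c.normY.le))) fun _ => c.beta hb
  rw [c.idxP hb] at h1
  rw [c.normY] at h2
  exact num_dist c.lt.num ((Nat.mul_le_mul_left 4 c.p_le).trans c.four_le) h5 (c.rho_le hb) h1 h2 c.bound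

end

theorem inner : False := by
  by_cases hb : b ∈ 𝐂(Pp p t)
  · have h1 := c.cj_Z hb le_rfl
    have h2 := c.three_le
    have h3 := c.p_le
    refine c.count (fun x hx => ?_) (Or.inl (by omega))
    rw [commutatorElement_eq_one_iff_mul_comm.2 (mem_centralizer_iff.1 hb x hx)]
    exact one_mem _
  · exact (eq_or_ne p 3).elim (c.three hb) fun h => c.five hb (hp.out.five_le_of_ne_two_of_ne_three
      (by have := c.three_le; omega) h)

end CQ

end GW
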