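import Cfsg.Agent.Lib.GW.CaseIIb

/-!
# Case II: `O(C(V)) = 1` for every four-group `V`
-/

set_option autoImplicit false
set_option linter.unusedSectionVars false

namespace GW

open Cfsg GT FT Subgroup
open scoped Pointwise commutatorElement

universe u

variable {G : Type u} [Group G] [Finite G]

namespace B2
variable (h : B2 G) {t a b : G} (m : D8p t a b)
include h m

/-- the swap of `⟨t, b⟩` centralizes `O(C(t, b))` -/
theorem mem_cent_W {p : ℕ} [Fact p.Prime] (p0 : Op p (Ut t) ≠ ⊥) (p1 : a ∈ 𝐂(Op p (Ut t)))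
    (p2 : InvBy b (Op p (Ut t))) : a ∈ 𝐂(Wt t b) := by
  have h1 : ⁅Ut t, zpowers a⁆ ⊓ 𝐂[b] = ⊥ := by
    by_contra e
    obtain ⟨q, _, h0⟩ := exists_inf_Op_ne_bot (inf_le_left.trans (h.K_le m.l)) e
    have q0 : Op q (Ut t) ≠ ⊥ := FT.ne_bot_of_le_ne_bot h0 inf_le_right
    rcases h.pm m.r q with q1 | q1
    · rcases h.pm m.l q with q2 | q2
      · exact h0 (eq_bot_iff.2 ((inf_le_inf inf_le_left (le_cent1_iff.2 q2)).trans (h.K_inf m.l).le))
      · exact h.nomix m p0 p1 p2 q0 q1 q2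
    · exact h0 (eq_bot_iff.2 ((le_inf inf_le_right (inf_le_left.trans inf_le_right)).trans
        (q1.inf_eq_bot (odd_of_le_Od (piCoreOf_le _ _))).le))
  exact le_cent_comm.1 (le_cent_of_commutator_le ((le_inf (commutator_mono inf_le_left le_rfl)
    ((commutator_le_left_of_norm (zpowers_le.2 m.symm.normW)).trans inf_le_right)).trans h1.le)) (mem_zpowers a)

variable (hi : InvBy b (Ft t))
include hi

theorem sup_eq {S : Subgroup G} {σ : G} {k : ℕ} (D : DihSyl S σ a t k) (hb : b = σ * a) (hc : a ∈ 𝐂(Wt t b)) :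
    Ft t ⊔ Ph Ft t a a = Ut t := by
  have F := fam_Ft (G := G)
  have hW := F.ph_le h.toSd m.l a
  have hK : ∀ s, Kl t s → ⁅Ut t, zpowers s⁆ ≤ Ft t ⊔ Ph Ft t a a := fun s hk => (h.K_le hk).trans le_sup_left
  refine h.no_stable' D (sup_le (Ft_le t) (hW.trans inf_le_left)) ?_ hK ?_
  · rw [← (h.sdp m.l).sup]
    exact sup_le ((hK a m.l).trans le_normalizer) (le_normalizer_sup (inf_le_left.trans (le_norm_fittingOf _))
      (F.W_norm m.l m.l.right_mem))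
  rintro s (rfl | rfl)
  · obtain ⟨g, e1, e2, e3, e4⟩ := h.exists_fuse m.l m.r m.e
    refine ⟨_, e3, e4, fun w hw => ?_⟩
    have h1 : ∀ w ∈ Ut t, ⁅b, w⁆ ∈ Ft t := fun w hw => by
      rw [← commutatorElement_inv]; exact inv_mem (h.K_le m.r (commutator_mem_commutator hw (mem_zpowers b)))
    have hn := conj_smul_eq_iff_mem_normalizer.1 (conj_Wt_of_fused h.toSd m.l e1 e2)
    have hw' := inv_conj_mem_of_mem_normalizer hn hw
    have h2 : ⁅g * b * g⁻¹, w⁆ ∈ Ph Ft t s s := by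
      have e := F.conj_ph (m.l.norm_of_fuse e1 e2) t
      rw [e1] at e
      rw [← e, mem_conj_smul']
      refine ⟨⁅b, g⁻¹ * w * g⁆, ⟨h1 _ hw'.1, Wt_le_cent m.l ?_⟩, by simp only [commutatorElement_def]; group⟩
      exact mul_mem (conj_mem_of_mem_normalizer m.normW hw') (inv_mem hw')
    have := mul_mem (mul_mem_sup (h1 _ (hW h2).1) h2) (mem_sup_left (h1 w hw.1))
    convert this using 1
    simp only [commutatorElement_def]; group
  · obtain ⟨g, hg, e1, e2⟩ := h.cent_fuse m.r m.l m.symm.e hc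
    subst hb
    refine ⟨g, e1, e2, fun w hw => ?_⟩
    rw [commutatorElement_eq_one_iff_mul_comm.2 (mem_centralizer_iff.1 hg w hw).symm]; exact one_mem _

variable (hs : Ft t ⊔ Ph Ft t a a = Ut t)
include hs

theorem W_eq : Ph Ft t a a ⊔ Ph Ft t a t = Wt t a := by
  have hW := fam_Ft.ph_le h.toSd m.l a
  rw [fam_Ft.ph_eq m.l, ← sup_inf_assoc_of_le_normalizer (hW.trans inf_le_right)
    (.inl (hW.trans (inf_le_left.trans (le_norm_fittingOf _)))), sup_comm, hs]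

theorem W_comm : Wt t a ≤ 𝐂(Wt t a) := by
  have hi' : InvBy b (Ph Ft t a t) := hi.mono inf_le_left
  have c := h.comm1 m fam_Ft hi'
  obtain ⟨g, -, e1, e2⟩ := h.fused m.l
  have e := fam_Ft.conj_ph (m.l.norm_of_fuse e1 e2) t
  rw [e1] at e
  rw [← h.W_eq m hi hs, centralizer_sup]
  exact sup_le (le_inf (e ▸ (hi'.conj g).le_cent) (le_cent_comm.1 c)) (le_inf c hi'.le_cent)

theorem card_U : Nat.card (Ut t) = Nat.card (Ft t) * Nat.card (Ph Ft t a t) := by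
  have hW := fam_Ft.ph_le h.toSd m.l a
  rw [← hs, sup_comm, card_sup_of_disjoint_of_le_normalizer (hW.trans (inf_le_left.trans (le_norm_fittingOf _)))
    (disjoint_iff.2 (eq_bot_iff.2 ((le_inf (le_inf inf_le_right (inf_le_left.trans inf_le_right)) inf_le_left).trans
      (h.disj1 m fam_Ft (hi.mono inf_le_left)).le))), h.card_ph m fam_Ft, mul_comm]

theorem card_W2 : Nat.card (Wt t b) = Nat.card (Ph Ft t a t) := by
  have e := (h.sdp m.r).card
  rw [le_antisymm (h.K_le m.r) fun x hx => mem_comm_of_inv (odd_Od' _) (Ft_le t hx) (hi x hx), h.card_U m hi hs] at e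
  exact Nat.eq_of_mul_eq_mul_left Nat.card_pos e

theorem card_W1 : Nat.card (Wt t a) = Nat.card (Ph Ft t a t) * Nat.card (Ph Ft t a t) := by
  have hi' : InvBy b (Ph Ft t a t) := hi.mono inf_le_left
  rw [← h.W_eq m hi hs, card_sup_of_disjoint_of_le_normalizer ((le_cent_comm.1 (h.comm1 m fam_Ft hi')).trans
    (cent_le_norm _)) (disjoint_iff.2 (h.disj1 m fam_Ft hi')).symm, h.card_ph m fam_Ft]

theorem cent_inf_le {g z : G} (hg : g ∈ 𝐍(Vk t a)) (hz : z ∈ Wt t a) (h1 : z ∉ Ph Ft t a (g * t * g⁻¹)) :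
    𝐂[z] ⊓ Ut (g * t * g⁻¹) ≤ Wt t a := by
  have hi' : InvBy b (Ph Ft t a t) := hi.mono inf_le_left
  have hn : g ∈ 𝐍(Wt t a) := by
    refine mem_normalizer_of_conj_mem fun w hw => ?_
    have h2 := conj_mem_of_mem_normalizer (norm_le_norm_cent _ hg) (Wt_le_cent m.l hw)
    rw [m.l.cent_Vk] at h2
    exact ⟨h.mem_Ut m.l.l h2.1 (by rw [← MulAut.conj_apply, MulEquiv.orderOf_eq]; exact odd_of_mem_Od hw.1), h2.2⟩
  rw [← conj_smul_eq_of_mem_normalizer hn] at hz ⊢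
  obtain ⟨z, hz', rfl⟩ := mem_conj_smul'.1 hz
  replace hz := hz'
  rw [← fam_Ft.conj_ph hg, conj_mem_conj_smul] at h1
  rw [← conj_cent1, ← conj_Ut, ← conj_smul_inf]
  refine conj_smul_mono g fun u hu => ?_
  obtain ⟨k, hk, w, hw, rfl⟩ := (h.sdp m.l).mem_iff.1 hu.2
  have h2 : k ∈ 𝐂[z] := (mul_mem_cancel_right (cent_le_cent1 hz (h.W_comm m hi hs hw))).1 hu.1
  rw [← h.W_eq m hi hs] at hz
  obtain ⟨x, hx, y, hy, rfl⟩ := (mem_sup_of_le_normalizer_left ((h.comm1 m fam_Ft hi').trans (cent_le_norm _))).1 hz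
  have h3 : k ∈ 𝐂[x] := mem_cent1_comm.1 ((mul_mem_cancel_right
    (mem_cent1_comm.1 (cent_le_cent1 hy.1 (h.K_le_cent m.l hk)))).1 (mem_cent1_comm.1 h2))
  have h4 := h.cent_le m fam_Ft hi' hx (fun e => h1 (by rwa [e, one_mul])) h3
  rw [mem_bot.1 ((h.K_inf m.l).le ⟨hk, h4⟩), one_mul]; exact hw

theorem card_three (h0 : Ph Ft t a t ≠ ⊥) (hc : a ∈ 𝐂(Wt t b)) : Nat.card (Ph Ft t a t) = 3 := by
  have F := fam_Ft (G := G)
  have hi' : InvBy b (Ph Ft t a t) := hi.mono inf_le_left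
  have h1 : Nat.card (Ph Ft t a t) ≠ 1 := mt card_eq_one.1 h0
  obtain ⟨z, hz, z1⟩ := exists_ne_one_of_ne_bot (A := Wt t b) fun e => h1 (by rw [← h.card_W2 m hi hs, e, card_bot])
  have hz' : z ∈ Wt t a := ⟨hz.1, mem_cent1_comm.1 (cent_le_cent1 hz hc)⟩
  have ez : b * z * b⁻¹ = z := by rw [← mem_cent1.1 hz.2, mul_inv_cancel_right]
  have n2 : z ∉ Ph Ft t a a := fun e => z1 ((h.disj2 m F hi').le ⟨e, ez ▸ conj_mem m F e⟩)
  have n3 : z ∉ Ph Ft t a (t * a) := fun e => n2 (by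
    have := (conj_mem_conj_smul (g := b)).2 e
    rwa [F.conj_ph m.norm, m.e', ez] at this)
  obtain ⟨g, -, e1, e2⟩ := h.fused m.l
  have hg := m.l.norm_of_fuse e1 e2
  have c1 : 𝐂[z] ⊓ Ut t ≤ Wt t a := by
    simpa using h.cent_inf_le m hi hs (one_mem _) hz' (by simpa using fun e => z1 (hi'.eq_one F.odd e hz.2))
  have c2 := h.cent_inf_le m hi hs hg hz' (by rwa [e1])
  have e3 : b * g * t * (b * g)⁻¹ = t * a := by rw [← m.e, ← e1]; group
  have c3 := h.cent_inf_le m hi hs (mul_mem m.norm hg) hz' (by rwa [e3])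
  rw [e1] at c2
  rw [e3] at c3
  have ht : t ∈ 𝐂[z] := mem_cent1_comm.1 (Ut_le t hz.1)
  have ha : a ∈ 𝐂[z] := mem_cent1_comm.1 hz'.2
  have hb : b ∈ 𝐂[z] := mem_cent1_comm.1 hz.2
  have o1 : Od 𝐂[z] ≤ Wt t a := h.le_of_kl m.l (odd_Od' _) (le_norm_Od _ ht) (le_norm_Od _ ha)
    ((inf_le_inf_right _ (Od_le _)).trans c1) ((inf_le_inf_right _ (Od_le _)).trans c2)
    ((inf_le_inf_right _ (Od_le _)).trans c3)
  have o2 : Od 𝐂[z] ≤ Wt t b := by
    obtain ⟨g, hg, e1, -⟩ := h.cent_fuse m.r m.l m.symm.e hc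
    refine le_inf (o1.trans inf_le_left) ?_
    rw [← e1, ← conj_cent1]
    exact le_conj_of_mem_norm (o1.trans (inf_le_left.trans (Ut_le t))) (le_norm_Od _ (cent_le_cent1 hz hg))
  have eU : 𝐂[z] ⊓ Ut t = Wt t a := le_antisymm c1 (le_inf ((h.W_comm m hi hs).trans (cent_le_cent1 hz')) inf_le_left)
  have hΦ := F.ph_le h.toSd m.l t
  have nle : ¬ Ph Ft t a t ≤ Od 𝐂[z] := fun e =>
    h0 ((inf_eq_left.2 (e.trans (o2.trans inf_le_right))).symm.trans (hi'.inf_eq_bot F.odd))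
  have hX := h.cent1_ne_top z1
  have hns : ¬ Group.IsSolvable 𝐂[z] := fun e => nle (hΦ.trans (eU.ge.trans ((h.solv e).1 t ht m.l.l)))
  rcases h.types hX (h.ly_ne_bot hX hns m.l.l ht (le_cent1_iff.1 (o1.trans (inf_le_left.trans (Ut_le t))))) with
    A | ⟨q, d, k, n, e, φ, L⟩
  · obtain ⟨c, hc, c3, e, -⟩ := A.three t ht m.l.l
    have hd := card_sup_dvd_of_le_normalizer (H := zpowers c) (N := Od 𝐂[z])
      (zpowers_le.2 (le_norm_Od _ (Ly_le _ hc.1)))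
    rw [sup_comm, ← e, eU, h.card_W1 m hi hs, Nat.card_zpowers, c3] at hd
    have hd2 := hd.trans (Nat.mul_dvd_mul_left 3 (card_dvd_of_le o2))
    rw [h.card_W2 m hi hs] at hd2
    exact ((Nat.dvd_prime Nat.prime_three).1 (Nat.dvd_of_mul_dvd_mul_right Nat.card_pos hd2)).resolve_left h1
  · obtain ⟨K, T⟩ : ∃ K, Tor 𝐂[z] t K := by
      by_cases e : t ∈ Ly 𝐂[z]
      · exact (L.tor_in t e m.l.l).imp fun _ h => h.1
      · exact (L.tor_out t ht m.l.l e).imp fun _ h => h.1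
    have hK : K ≤ Wt t a := (T.le.trans (inf_le_inf_right _ (Ly_le _))).trans c1
    have hK0 : K = ⊥ := (inf_eq_left.2 (hK.trans inf_le_right)).symm.trans
      ((T.inv a ha m.l).inf_eq_bot (odd_of_le_Od (hK.trans inf_le_left)))
    have := T.comm b hb m.r
    rw [hK0, sup_bot_eq, eU] at this
    exact (nle fun x hx => this (mem_comm_of_inv (odd_of_le_Od inf_le_left) (hΦ hx) (hi' x hx))).elim

end B2

theorem B2.mixed (h : B2 G) {S : Subgroup G} {σ a t : G} (D : DihSyl S σ a t 1) {p : ℕ} [Fact p.Prime]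
    (p0 : Op p (Ut t) ≠ ⊥) (p1 : a ∈ 𝐂(Op p (Ut t))) (p2 : InvBy (σ * a) (Op p (Ut t))) : False := by
  have m : D8p t a (σ * a) := ⟨D.kl_τ, D.kl_στ, by
    rw [mul_inv_rev, mul_assoc (σ * a), mul_inv_cancel_left, mul_assoc, D.τ_mul (inv_mem (mem_zpowers σ)),
      inv_inv, D.J_eq, ← mul_assoc, ← pow_two, pow_one]⟩
  have F := fam_Ft (G := G)
  have hc := h.mem_cent_W m p0 p1 p2
  have hi : InvBy (σ * a) (Ft t) := by
    obtain ⟨g, hg, e1, e2⟩ := h.cent_fuse m.r m.l m.symm.e hc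
    exact invBy_of_fpf m.r.r (norm_Ft t m.r.mem_cent) (h.eq_bot_of_fuse m.r inf_le_left
      (cent_le_norm _ (centralizer_anti (inf_le_inf_right _ (Ft_le t)) hg)) e1 e2)
  have hs := h.sup_eq m hi D rfl hc
  have h0 : Ph Ft t a t ≠ ⊥ := FT.ne_bot_of_le_ne_bot p0 ((le_inf (Op_Ut_le t) (le_cent1_iff.2 p1)).trans (F.ph_eq m.l).ge)
  have h3 := h.card_three m hi hs h0 hc
  have hκ := h.kappa D (by rw [h.card_W1 m hi hs, h.card_W2 m hi hs, h3])
  rw [h.card_W1 m hi hs, h3] at hκ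
  obtain ⟨r, hr, r0⟩ := exists_inf_Op_ne_bot (h.K_le m.l) fun e => h.toSd.not_cent_Ft m.l (h.max t m.l.l)
    (FT.ne_bot_of_le_ne_bot p0 (piCoreOf_le _ _))
    (le_cent1_iff.1 ((Ft_le t).trans ((le_cent_of_commutator_le e.le).trans (centralizer_zpowers a).le)))
  have hR := isPGroup_Op r (Ut t)
  have r1 : Op r (Ut t) ≠ ⊥ := FT.ne_bot_of_le_ne_bot r0 inf_le_right
  have ho : Odd (Nat.card (Op r (Ut t))) := odd_of_le_Od (piCoreOf_le _ _)
  have r2 : r ≠ 2 := by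
    rintro rfl
    exact r1 (eq_bot_of_isPGroup_of_not_dvd hR (not_two_dvd.2 ho))
  have r3 : r ≠ 3 := by
    rintro rfl
    rcases h.pm m.l 3 with e | e
    · exact r0 (eq_bot_iff.2 ((inf_le_inf_left _ (le_cent1_iff.2 e)).trans (h.K_inf m.l).le))
    · exact h0 (eq_bot_iff.2 ((le_inf (le_Op_of_le_fittingOf (IsPGroup.of_card (n := 1) h3) inf_le_left)
        ((F.ph_eq m.l).le.trans inf_le_right)).trans (e.inf_eq_bot ho).le))
  have c6 : ∀ i j, ¬ r ∣ 2 ^ i * 3 ^ j := fun i j e => (hr.out.dvd_mul.1 e).elim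
    (fun e => r2 ((Nat.prime_dvd_prime_iff_eq hr.out Nat.prime_two).1 (hr.out.dvd_of_dvd_pow e)))
    fun e => r3 ((Nat.prime_dvd_prime_iff_eq hr.out Nat.prime_three).1 (hr.out.dvd_of_dvd_pow e))
  have hle := (Ft_le t).trans (Ut_le t)
  have i24 : (Ft t).relIndex 𝐂[t] = 2 ^ 3 * 3 ^ 1 := by
    have e := card_mul_relIndex hle
    rw [D.card_C, h.card_U m hi hs, h3, mul_assoc] at e
    exact (Nat.eq_of_mul_eq_mul_left Nat.card_pos e).trans (by norm_num)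
  have hS := sylow_top_of_norm_le ((sylow_Op_fittingOf r (Ut t)).trans hle (i24 ▸ c6 3 1))
    (h.norm_eq (h.max t m.l.l) r1 hR.isSolvable' (norm_Op_Ut r t)).le
  obtain ⟨j, hj⟩ := IsPGroup.iff_card.1 hR
  have d1 : (r ^ j) ^ 3 ∣ 105 * Nat.card 𝐂[t] ^ 3 :=
    (pow_dvd_pow_of_dvd (hj ▸ card_dvd_of_le ((Op_Ut_le t).trans hle)) 3).mul_left _
  rw [← hκ, ← (Op r (Ut t)).card_mul_index, hj,
    show 64 * (r ^ j * (Op r (Ut t)).index) * (3 * 3) ^ 2 = r ^ j * ((Op r (Ut t)).index * (2 ^ 6 * 3 ^ 4)) by ring,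
    ← pow_mul] at d1
  have d2 := (Nat.Coprime.pow_left _ ((Nat.Prime.coprime_iff_not_dvd hr.out).2 fun e => (hr.out.dvd_mul.1 e).elim
    (isSylowIn_top_iff'.1 hS).2 (c6 6 4))).dvd_of_dvd_mul_right d1
  have d3 := (Nat.pow_dvd_pow_iff_le_right hr.out.one_lt).1 d2
  exact r1 (card_eq_one.1 (by rw [hj, show j = 0 by omega, pow_zero]))

theorem caseII (h : Min G) {t : G} (hC : IsCoatom 𝐂[t]) (hB : ∀ s, Kl t s → Ft t ⊓ Ft s ⊓ Ft (t * s) = ⊥)
    {s : G} (hk : Kl t s) : Wt t s = ⊥ := by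
  have h : B2 G := ⟨h, fun u hu => by
    obtain ⟨g, -, rfl⟩ := h.conj hk.l hu
    exact conj_cent1 g t ▸ isCoatom_conj hC g, fun u v huv => by
    obtain ⟨g, -, e⟩ := h.conj huv.l hk.l
    have := hB _ (e ▸ huv.conj g)
    rwa [← e, conj_mul, ← conj_Ft, ← conj_Ft, ← conj_Ft, ← conj_smul_inf, ← conj_smul_inf, conj_smul_eq_bot_iff] at this⟩
  obtain ⟨S, σ, k, D⟩ := h.exists_dih' hk
  obtain rfl | h1 := k.eq_zero_or_pos
  · obtain rfl := D.eq_Vk_of_zero.1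
    exact h.no_compl D (h.sdp hk).disj
  have key : ∀ x ∈ zpowers σ, (∀ (p : ℕ) [Fact p.Prime], x ∈ 𝐂(Op p (Ut t))) → x ∈ 𝐂(Ut t) := fun x hx e =>
    coprime_cent_Fitting (zpowers_le.2 (norm_Ut t (D.le_C (D.le hx))))
      (cop_of_odd (D.isPElt (D.le hx)).isPGroup_zpowers (odd_Od _)) (solv_Od _)
      ⟨mem_zpowers x, le_cent1_iff.1 (fittingOf_le_of_forall_Op fun p _ => le_cent1_iff.2 (e p))⟩
  have eσ : σ * s * s = σ := hk.r.mul_mul' σ
  obtain rfl | h2 := Nat.eq_or_lt_of_le h1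
  · refine h.caseA D (mem_zpowers σ) (by rw [D.J_eq, ← pow_two]; rfl) (key σ (mem_zpowers σ) fun p _ => ?_)
    by_cases p0 : Op p (Ut t) = ⊥
    · exact le_cent1_iff.1 (p0.le.trans bot_le)
    rcases h.pm hk p with p1 | p1 <;> rcases h.pm D.kl_στ p with p2 | p2
    · exact eσ ▸ mul_mem p2 p1
    · exact (h.mixed D p0 p1 p2).elim
    · refine (h.mixed (D.change (mul_mem D.σ_mem D.τ_mem) (D.mul_τ_not_mem (mem_zpowers σ))) p0 p2 ?_).elim
      rw [← mul_assoc, show σ * σ = t by rw [D.J_eq, ← pow_two]; rfl]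
      exact p1.mul_cent (le_cent1_iff.1 ((piCoreOf_le _ _).trans (Ut_le t)))
    · exact eσ ▸ p2.mul p1
  · obtain ⟨j, rfl⟩ := Nat.exists_eq_add_of_lt h2
    refine h.caseA D (ρ := (σ * σ) ^ 2 ^ j) (pow_mem (mul_mem (mem_zpowers σ) (mem_zpowers σ)) _)
      (by rw [D.J_eq, ← pow_two, ← pow_two, ← pow_mul, ← pow_mul]; congr 1; ring)
      (pow_mem (key _ (mul_mem (mem_zpowers σ) (mem_zpowers σ)) fun p _ => ?_) _)
    have hc : ∀ x y, x ∈ 𝐂(Op p (Ut t)) → InvBy y (Op p (Ut t)) → x * y * (x * y) ∈ 𝐂(Op p (Ut t)) := fun x y hx hy =>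
      (hy.mul_cent hx).mul (hy.mul_cent hx)
    rcases h.pm hk p with p1 | p1 <;> rcases h.pm D.kl_στ p with p2 | p2
    · exact eσ ▸ mul_mem (mul_mem p2 p1) (mul_mem p2 p1)
    · have := inv_mem (hc _ _ p1 p2)
      rwa [mul_inv_rev, mul_inv_rev, hk.r.inv, D.kl_στ.r.inv, eσ] at this
    · exact eσ ▸ hc _ _ p2 p1
    · exact eσ ▸ mul_mem (p2.mul p1) (p2.mul p1)

end GW
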