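import Cfsg.Agent.Lib.GW.ChS
import Cfsg.Agent.Lib.FT.CApi3

/-!
# The case of three linear characters
-/

set_option autoImplicit false
set_option linter.unusedSectionVars false

namespace GW

open Cfsg CT GT BT FT GAG Subgroup
open scoped Pointwise commutatorElement ComplexConjugate IsMulCommutative

theorem had_arith {b₁ b₂ b₃ b₄ c₁ c₂ c₃ c₄ e₁ e₂ e₃ e₄ : ℤ} (h1 : b₁ = 1 ∨ b₁ = -1) (h2 : b₂ = 1 ∨ b₂ = -1)
    (h3 : b₃ = 1 ∨ b₃ = -1) (h4 : b₄ = 1 ∨ b₄ = -1) (k1 : c₁ = 1 ∨ c₁ = -1) (k2 : c₂ = 1 ∨ c₂ = -1)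
    (k3 : c₃ = 1 ∨ c₃ = -1) (k4 : c₄ = 1 ∨ c₄ = -1) (hb : b₁ + b₂ + b₃ + b₄ = 0)
    (hc : c₁ + c₂ + c₃ + c₄ = 0) (hbc : b₁ * c₁ + b₂ * c₂ + b₃ * c₃ + b₄ * c₄ = 0)
    (he : e₁ + e₂ + e₃ + e₄ = 0) (hbe : b₁ * e₁ + b₂ * e₂ + b₃ * e₃ + b₄ * e₄ = 0)
    (hce : c₁ * e₁ + c₂ * e₂ + c₃ * e₃ + c₄ * e₄ = 0) (hm : 4 ∣ e₁ - (1 + b₁ + c₁)) :
    ∃ E : ℤ, E % 4 = 3 ∧ ((1 + b₁ + c₁) ^ 2 / e₁ + (1 + b₂ + c₂) ^ 2 / e₂ + (1 + b₃ + c₃) ^ 2 / e₃ +
      (1 + b₄ + c₄) ^ 2 / e₄ : ℂ) = 8 / E := by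
  obtain ⟨E, rfl, rfl, rfl, rfl⟩ : ∃ E, e₁ = b₁ * c₁ * E ∧ e₂ = b₂ * c₂ * E ∧ e₃ = b₃ * c₃ * E ∧
      e₄ = b₄ * c₄ * E := by
    refine ⟨b₁ * c₁ * e₁, ?_⟩
    rcases h1 with rfl | rfl <;> rcases h2 with rfl | rfl <;> rcases h3 with rfl | rfl <;>
      rcases h4 with rfl | rfl <;> first | omega | skip
    all_goals rcases k1 with rfl | rfl <;> rcases k2 with rfl | rfl <;> rcases k3 with rfl | rfl <;>
      rcases k4 with rfl | rfl <;> omega
  have p : ∀ {b c : ℤ}, b = 1 ∨ b = -1 → c = 1 ∨ c = -1 → ((1 + b + c) ^ 2 / (b * c * E : ℤ) : ℂ) =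
      (3 * (b * c) + 2 * b + 2 * c + 2 : ℤ) / E := by
    rintro _ _ (rfl | rfl) (rfl | rfl) <;> push_cast <;> ring
  refine ⟨E, by rcases h1 with rfl | rfl <;> rcases k1 with rfl | rfl <;> omega, ?_⟩
  rw [p h1 k1, p h2 k2, p h3 k3, p h4 k4, ← add_div, ← add_div, ← add_div, ← Int.cast_add, ← Int.cast_add,
    ← Int.cast_add]
  exact congrArg (· / _) (by exact_mod_cast (by linarith))

theorem hadamard {X : Type*} [Fintype X] [DecidableEq X] {deg : X → ℤ} (hdeg : ∀ x, 0 < deg x)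
    {a b c : X → ℤ} (ha : ∑ x, a x * a x = 4) (hb : ∑ x, b x * b x = 4) (hc : ∑ x, c x * c x = 4)
    (hab : ∑ x, a x * b x = 0) (hac : ∑ x, a x * c x = 0) (hbc : ∑ x, b x * c x = 0)
    (da : ∑ x, deg x * a x = 0) (db : ∑ x, deg x * b x = 0) (dc : ∑ x, deg x * c x = 0)
    (pb : ∀ x, b x % 2 = a x % 2) (pc : ∀ x, c x % 2 = a x % 2)
    (h4 : ∀ x, a x ≠ 0 → 4 ∣ deg x - (a x + b x + c x)) :
    ∃ E : ℤ, E % 4 = 3 ∧ ∑ x, (a x : ℂ) * ((a x + b x + c x) ^ 2 / deg x) = 8 / E := by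
  obtain ⟨s, hs, a1, a0⟩ := supp_four hdeg ha da
  have k : ∀ {v : X → ℤ}, ∑ x, v x * v x = 4 → ∑ x, deg x * v x = 0 → (∀ x, v x % 2 = a x % 2) →
      (∀ x ∈ s, a x * v x = 1 ∨ a x * v x = -1) ∧ ∀ x ∉ s, v x = 0 := fun {v} h1 h2 h3 => by
    obtain ⟨s', -, b1, b0⟩ := supp_four hdeg h1 h2
    have h5 : ∀ x, v x = 0 ∨ v x = 1 ∨ v x = -1 := fun x =>
      (em (x ∈ s')).elim (fun e => Or.inr (b1 x e)) fun e => Or.inl (b0 x e)
    refine ⟨fun x hx => ?_, fun x hx => ?_⟩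
    · have h6 := h3 x
      have := h5 x
      rcases a1 x hx with e | e <;> rw [e] at h6 ⊢ <;> omega
    · have := h3 x
      have := h5 x
      have := a0 x hx
      omega
  obtain ⟨b1, b0⟩ := k hb db pb
  obtain ⟨c1, c0⟩ := k hc dc pc
  obtain ⟨p, hp, q, hq, r, hr, u, hu, hF⟩ := exists_four hs
  have e : ∀ x ∈ s, ∀ v w : ℤ, a x * v * (a x * w) = v * w := fun x hx v w => by
    rcases a1 x hx with e | e <;> rw [e] <;> ring
  have e' : ∀ x ∈ s, (a x : ℂ) * ((a x + b x + c x) ^ 2 / deg x) =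
      (1 + (a x * b x : ℤ) + (a x * c x : ℤ)) ^ 2 / (a x * deg x : ℤ) := fun x hx => by
    rcases a1 x hx with e | e <;> rw [e] <;> push_cast <;> ring
  rw [hF _ fun x hx => by simp [a0 x hx]] at hab hac da ⊢
  rw [hF _ fun x hx => by simp [b0 x hx]] at hbc db
  rw [hF _ fun x hx => by simp [c0 x hx]] at dc
  rw [e' p hp, e' q hq, e' r hr, e' u hu]
  refine had_arith (b1 p hp) (b1 q hq) (b1 r hr) (b1 u hu) (c1 p hp) (c1 q hq) (c1 r hr) (c1 u hu) hab hac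
    ?_ (by linarith) ?_ ?_ ?_
  iterate 3 rw [e p hp, e q hq, e r hr, e u hu]; linarith
  have := h4 p (by have := a1 p hp; omega)
  rcases a1 p hp with e | e <;> rw [e] at this ⊢ <;> omega

theorem sig_two {x y : ℤ} (hx : x % 4 = 1) (hy : y % 4 = 1) (h1 : 5 ≤ x) (h2 : x ≤ y) :
    7 * (x + y + 1) * (x + y) - 7 * x * y ≠ x * y * (x + y + 1) := fun h => by
  have h3 : x < 14 := by
    by_contra e
    nlinarith [mul_nonneg (show 0 ≤ x - 14 by omega) (mul_nonneg (show 0 ≤ y by omega)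
      (show 0 ≤ x + y + 1 by omega)),
      mul_nonneg (show 0 ≤ y - x by omega) (show 0 ≤ x + y + 1 by omega),
      mul_pos (show 0 < x by omega) (show 0 < y by omega)]
  rcases (show x = 5 ∨ x = 9 ∨ x = 13 by omega) with rfl | rfl | rfl
  · nlinarith
  · have : y < 14 := by nlinarith
    rcases (show y = 9 ∨ y = 13 by omega) with rfl | rfl <;> omega
  · nlinarith

theorem sig_ne {x y z E : ℤ} (hx : x % 4 = 1 ∧ (5 ≤ x ∨ x ≤ -7)) (hy : y % 4 = 1 ∧ (5 ≤ y ∨ y ≤ -7))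
    (hz : z % 4 = 1 ∧ (5 ≤ z ∨ z ≤ -7)) (h : x + y + z = -1) (hE : E % 4 = 3) :
    (1 + 1 / x + 1 / y + 1 / z : ℚ) ≠ 8 / E := fun e => by
  have h1 := sig_ge hx.2 hy.2 hz.2 h
  rw [e] at h1
  have h2 : (0 : ℚ) < E := by
    by_contra e
    linarith [div_nonpos_of_nonneg_of_nonpos (show (0 : ℚ) ≤ 8 by norm_num) (not_lt.1 e)]
  rw [lt_div_iff₀ h2] at h1
  have h3 : 5 * E < 56 := by exact_mod_cast (by linarith : (5 * E : ℚ) < 56)
  have h4 : 0 < E := by exact_mod_cast h2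
  have p : ∀ x : ℤ, ∀ n : ℕ, 0 < n → n ≤ x → (0 : ℚ) < 1 / x ∧ (1 / x : ℚ) ≤ 1 / n := fun x n h0 h => by
    have h5 : (0 : ℚ) < n := Nat.cast_pos.2 h0
    have h6 : (n : ℚ) ≤ x := by exact_mod_cast h
    exact ⟨one_div_pos.2 (h5.trans_le h6), one_div_le_one_div_of_le h5 h6⟩
  have q : ∀ x : ℤ, ∀ n : ℕ, 0 < n → x ≤ -n → -(1 / n : ℚ) ≤ 1 / x ∧ (1 / x : ℚ) < 0 := fun x n h0 h => by
    have := p (-x) n h0 (by omega)
    push_cast at this
    rw [div_neg] at this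
    constructor <;> linarith [this.1, this.2]
  have A : ∀ x y z : ℤ, x % 4 = 1 → y % 4 = 1 → 5 ≤ x → 5 ≤ y → x + y + z = -1 →
      (1 + 1 / x + 1 / y + 1 / z : ℚ) ≠ 8 / E := fun x y z hx hy h5 h6 h7 e => by
    have a := p x 5 (by norm_num) h5
    have b := p y 5 (by norm_num) h6
    have c := q z 11 (by norm_num) (by omega)
    rcases (show E = 3 ∨ E = 7 ∨ E = 11 by omega) with rfl | rfl | rfl
    · push_cast at *; linarith [a.2, b.2, c.2]
    · obtain rfl : z = -(x + y + 1) := by omega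
      have ex : (0 : ℚ) < x := by exact_mod_cast (by omega : 0 < x)
      have ey : (0 : ℚ) < y := by exact_mod_cast (by omega : 0 < y)
      have h8 : 7 * (x + y + 1) * (x + y) - 7 * x * y = x * y * (x + y + 1) := by
        refine Int.cast_injective (α := ℚ) ?_
        push_cast at e ⊢
        rw [div_neg] at e
        field_simp at e
        linear_combination e
      rcases le_total x y with l | l
      · exact sig_two hx hy h5 l h8
      · exact sig_two hy hx h6 l (by linarith)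
    · push_cast at *; linarith [a.1, b.1, c.1]
  have B : ∀ x y z : ℤ, x % 4 = 1 → y % 4 = 1 → x ≤ -7 → y ≤ -7 → x + y + z = -1 →
      (1 + 1 / x + 1 / y + 1 / z : ℚ) ≠ 8 / E := fun x y z hx hy h5 h6 h7 e => by
    have a := q x 7 (by norm_num) h5
    have b := q y 7 (by norm_num) h6
    have c := p z 13 (by norm_num) (by omega)
    rcases (show E = 3 ∨ E = 7 ∨ E = 11 by omega) with rfl | rfl | rfl
    · push_cast at *; linarith [a.2, b.2, c.2]
    · push_cast at *; linarith [a.2, b.2, c.2]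
    · rcases (show x ≤ -11 ∨ y ≤ -11 ∨ x = -7 ∧ y = -7 ∧ z = 13 by omega) with l | l | ⟨rfl, rfl, rfl⟩
      · have := (q x 11 (by norm_num) l).1
        push_cast at *; linarith [b.1, c.1]
      · have := (q y 11 (by norm_num) l).1
        push_cast at *; linarith [a.1, c.1]
      · norm_num at e
  rcases hx.2 with a | a <;> rcases hy.2 with b | b <;> rcases hz.2 with c | c
  · omega
  · exact A x y z hx.1 hy.1 a b h e
  · exact A x z y hx.1 hz.1 a c (by omega) (by linarith)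
  · exact B y z x hy.1 hz.1 b c (by omega) (by linarith)
  · exact A y z x hy.1 hz.1 b c (by omega) (by linarith)
  · exact B x z y hx.1 hz.1 a c (by omega) (by linarith)
  · exact B x y z hx.1 hy.1 a b h e
  · omega

variable {G : Type*} [Group G] [Finite G]

theorem Lin.av_int {O : Subgroup G} {b : G → ℂ} (hb : Lin O b) {t : G} (ht : Inv t) (hO : O ≤ 𝐂[t])
    (χ : IrrCharacter G) : ∃ m n : ℤ, av O b χ.1 1 = m ∧ av O b χ.1 t = 2 * n - m := by
  have := Fintype.ofFinite O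
  have := Fintype.ofFinite (zpowers t)
  obtain ⟨m, hm⟩ := ((irr_isCharacter χ).res O).exists_nat_ip (irr_isCharacter (linChar hb.hom))
  obtain ⟨ι, hι⟩ : ∃ ι : O × zpowers t →* G, ∀ x y, ι (x, y) = x * y :=
    ⟨O.subtype.noncommCoprod (zpowers t).subtype fun x y =>
      ((centralizer_zpowers_eq t).ge (hO x.2) y y.2).symm, fun _ _ => rfl⟩
  obtain ⟨n, hn⟩ := ((irr_isCharacter χ).comp ι).exists_nat_ip
    (irr_isCharacter (linChar (hb.hom.comp (MonoidHom.fst O (zpowers t)))))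
  have h1 : av O b χ.1 1 = m := by
    rw [← hm, av_def, ip_def]
    exact congrArg _ (Finset.sum_congr rfl fun w _ => by rw [mul_one, mul_comm]; rfl)
  refine ⟨m, n, h1, ?_⟩
  have ho : orderOf t = 2 := orderOf_eq_prime (by rw [sq, ht.sq]) ht.ne
  rw [ip_def, Fintype.sum_prod_type, Nat.card_prod, Nat.card_zpowers, ho] at hn
  simp only [sum_zpowers, ho, Finset.sum_range_succ, Finset.sum_range_zero, zero_add, pow_zero, pow_one,
    Finset.sum_add_distrib, hι, linChar_apply, MonoidHom.comp_apply,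
    MonoidHom.coe_fst, hb.hom_apply] at hn
  rw [Int.cast_natCast, Int.cast_natCast, ← h1, ← hn, av_def, av_def]
  simp only [mul_comm (conj _)]
  push_cast
  ring

theorem Lin.sum_conj_mul {O : Subgroup G} [Fintype O] {b b' : G → ℂ} (hb : Lin O b) (hb' : Lin O b')
    [Decidable (∀ w ∈ O, b w = b' w)] :
    ∑ w : O, conj (b w) * b' w = if ∀ w ∈ O, b w = b' w then (Nat.card O : ℂ) else 0 := by
  classical
  rw [← if_congr (show hb'.hom / hb.hom = 1 ↔ ∀ w ∈ O, b w = b' w from ⟨fun e w hw => (congrArg Units.val (div_eq_one.1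
    (DFunLike.congr_fun e (⟨w, hw⟩ : O)))).symm, fun e => MonoidHom.ext fun w => div_eq_one.2 (Units.ext
      (e w w.2).symm)⟩) rfl rfl, ← sum_apply_units_hom]
  refine Finset.sum_congr rfl fun w _ => ?_
  rw [MonoidHom.div_apply, Units.val_div_eq_div_val, hb.hom_apply, hb'.hom_apply,
    eq_div_iff (left_ne_zero_of_mul_eq_one (hb.mul_conj w.2))]
  linear_combination b' w * hb.mul_conj w.2

theorem av_conj {O : Subgroup G} {b b' : G → ℂ} {g : G} (hg : g ∈ 𝐍(O))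
    (h : ∀ w ∈ O, b (g * w * g⁻¹) = b' w) {θ : G → ℂ} (hθ : IsClassFunction G θ) :
    av O b' θ 1 = av O b θ 1 := by
  have := Fintype.ofFinite O
  rw [av_def, av_def]
  refine congrArg _ (Fintype.sum_bijective (fun w => ⟨_, conj_mem_of_mem_normalizer hg w.2⟩)
    (Finite.injective_iff_bijective.1 fun x y e => Subtype.ext
      ((MulAut.conj g).injective (congrArg Subtype.val e))) _ _ fun w => ?_)
  rw [h w w.2, mul_one, mul_one, hθ.of_isConj (isConj_iff.2 ⟨g, rfl⟩)]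

theorem Sd.no_three (h : Sd G) {S : Subgroup G} {τ t g : G} (D : DihSyl S t τ t 0) (g1 : g * t * g⁻¹ = τ)
    (g2 : g * τ * g⁻¹ = t * τ) (hg : g ∈ 𝐍(Wt t τ)) {b : Fin 3 → G → ℂ} (hb : ∀ i, Lin 𝐂[t] (b i))
    (hb2 : ∀ i, ∀ a ∈ 𝐂[t], IsPElt 2 a → b i a = 1) (h1 : ∀ w ∈ Wt t τ, b 0 (g * w * g⁻¹) = b 1 w)
    (h2 : ∀ w ∈ Wt t τ, b 0 (g⁻¹ * w * g) = b 2 w) (h3 : ∀ i j, (∀ w ∈ Wt t τ, b i w = b j w) → i = j) :
    False := by
  classical
  have := Fintype.ofFinite (Ut t)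
  have := Fintype.ofFinite (Wt t τ)
  obtain ⟨M, hM⟩ := exists_isPModular Nat.prime_two
  have h3' : ∀ i j, (∀ w ∈ Ut t, b i w = b j w) → i = j := fun i j e => h3 i j fun w hw => e w hw.1
  obtain ⟨B, -, hB, hB'⟩ := h.exists_three hM D g1 g2 hb h1 h2 h3'
  have hU := fun i => (hb i).mono (Ut_le t)
  have hW := fun i => (hU i).mono (inf_le_left : Wt t τ ≤ _)
  obtain ⟨x, y, z, hx, hy, hz, h4, h5, -⟩ := h.klein D (fun e => absurd (h3 0 1 fun w hw => by
    rw [e.le hw, (hb 0).one, (hb 1).one]) (by decide)) hM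
  have hd : ∀ χ : IrrCharacter G, ∃ d : Fin 3 → ℤ, (∀ i, av (Ut t) (b i) χ.1 t = d i) ∧
      ∀ i, d i % 2 = d 0 % 2 := fun χ => by
    by_cases hχ : χ ∈ B
    swap
    · exact ⟨0, fun i => by simp [hB' χ hχ], fun _ => rfl⟩
    choose m n hm hn using fun i => (hW i).av_int D.inv_J (inf_le_left.trans (Ut_le t)) χ
    have h6 : ∀ i, m i = m 0 := fun i => Int.cast_injective (α := ℂ) (by
      rw [← hm, ← hm]
      fin_cases i
      exacts [rfl, av_conj hg h1 (irr_isClassFunction χ),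
        av_conj (inv_mem hg) (by simpa using h2) (irr_isClassFunction χ)])
    refine ⟨fun i => 2 * n i - m i, fun j => ?_, fun i => by have := h6 i; dsimp only; omega⟩
    push_cast
    rw [← hn, av_def (Wt t τ), Finset.sum_congr rfl (g := fun w : Wt t τ =>
      ∑ i, conj (b j w) * b i w * av (Ut t) (b i) χ.1 t) fun w _ => by
        simp only [hB χ hχ w w.2.1, (hU _).av_mul _ w.2.1, Finset.mul_sum, mul_assoc], Finset.sum_comm]
    simp only [← Finset.sum_mul, (hW _).sum_conj_mul (hW _)]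
    rw [Finset.sum_eq_single j (fun i _ e => by rw [if_neg (mt (h3 _ _) e.symm), zero_mul]) (by simp),
      if_pos fun _ _ => rfl, inv_mul_cancel_left₀ card_cast_ne_zero]
  choose d hd hp using hd
  let deg : IrrCharacter G → ℤ := fun χ => charDegree χ.1
  have hT : ∀ χ : IrrCharacter G, d χ 0 ≠ 0 → χ.1 t = (d χ 0 + d χ 1 + d χ 2 : ℤ) := fun χ e => by
    have h6 := hB χ (by_contra fun e' => e (Int.cast_injective (α := ℂ) (by
      rw [← hd, hB' χ e', Int.cast_zero]))) 1 (one_mem _)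
    simpa [Fin.sum_univ_three, hd] using h6
  have hδ : ∀ i v, av (Ut t) (b i) (deltaFun v) t = ∑ χ : IrrCharacter G, conj (χ.1 v) * d χ i := fun i v => by
    simp only [av_eq_sum _ _ (isClassFunction_deltaFun v), ip_deltaFun_irr, hd]
  have h6 : ∀ i, ∀ v ∈ Ut t, ∑ χ : IrrCharacter G, conj (χ.1 (v * t)) * d χ i = conj (b i v) * 4 :=
    fun i v hv => by
    have h7 := D.bker_eq hM D.J_mem D.J_ne_one D.J_mem
    rw [D.card_S, D.J_inv, if_pos rfl, bker_def] at h7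
    rw [← hδ, h.av_eq_principal hM D D.J_mem D.J_ne_one (isClassFunction_deltaFun _) (c := b i v)
      fun w hw e => ?_, blockPart_deltaFun, bker_def, Finset.sum_congr rfl fun χ hχ => by
        rw [(h.pure_principal hM D).apply_mul D.inv_J.isPElt (mem_zpowers t)
          ⟨fun _ _ _ _ => (one_mul _).symm, rfl⟩ (mem_bset.1 hχ) hv, Pi.one_apply, one_mul], h7]
    · norm_num
    obtain ⟨c, hc⟩ := isConj_iff.1 (not_not.1 (mt deltaFun_apply_of_not_isConj e))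
    have h8 := congrArg (pPart 2) hc
    rw [pPart_conj, pPart_Ut_mul D.inv_J.isPElt hw, pPart_Ut_mul D.inv_J.isPElt hv] at h8
    rw [← conj_mul, h8, mul_left_inj] at hc
    rw [← hc, (hb i).conj_eq (Ut_le t hw) (mem_centralizer_singleton_iff.2 (mul_inv_eq_iff_eq_mul.1 h8))]
  have hG : ∀ i j, ∑ χ, d χ i * d χ j = if i = j then 4 else 0 := fun i j => Int.cast_injective (α := ℂ) (by
    push_cast
    rw [Finset.sum_congr rfl (g := fun χ => conj (av (Ut t) (b i) χ.1 t) * d χ j) fun χ _ => by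
      rw [hd, map_intCast]]
    simp only [av_def, map_mul, map_sum, Complex.conj_conj, Finset.sum_mul, mul_assoc, ← Finset.mul_sum]
    rw [Finset.sum_comm]
    simp only [← Finset.mul_sum, fun w : Ut t => h6 j w w.2]
    simp only [← mul_assoc, ← Finset.sum_mul]
    simp only [mul_comm (b i _), (hU j).sum_conj_mul (hU i), map_inv₀, map_natCast]
    by_cases e : i = j
    · rw [if_pos e, if_pos fun _ _ => e ▸ rfl, inv_mul_cancel₀ card_cast_ne_zero, one_mul]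
    · rw [if_neg e, if_neg fun e' => e (h3' _ _ e').symm, mul_zero, zero_mul])
  have hD : ∀ i, ∑ χ, deg χ * d χ i = 0 := fun i => Int.cast_injective (α := ℂ) (by
    have h7 := hδ i 1
    rw [av_def, Finset.sum_eq_zero fun w _ => by
      rw [deltaFun_apply_of_not_isConj fun e => D.J_ne_one ?_, mul_zero]
      rw [← pPart_Ut_mul D.inv_J.isPElt w.2, isConj_one_left.1 e, pPart_one], mul_zero] at h7
    simpa [deg, irr_apply_one] using h7.symm)
  obtain ⟨E, hE, h7⟩ := hadamard (deg := deg) (fun χ => Nat.cast_pos.2 (irr_degree_pos χ)) (hG 0 0) (hG 1 1)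
    (hG 2 2) (hG 0 1) (hG 0 2) (hG 1 2) (hD 0) (hD 1) (hD 2) (hp · 1) (hp · 2) fun χ e => by
    have h8 := card_dvd_sub_of_const (irr_isCharacter χ) (P := S) fun x hx h4 => by
      rw [← (irr_isClassFunction χ).of_isConj (h.isConj D.inv_J ⟨h4, D.kl_τ.sq (D.eq_Vk_of_zero.2 ▸ hx)⟩),
        hT χ e]
    rwa [D.card_P] at h8
  have h8 := h.av_clMul hM D (hb 0) (hb2 0) D.J_mem D.J_ne_one
  rw [av_eq_sum _ _ (isClassFunction_clMul t t), blockPart_clMul] at h8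
  simp only [clMul_eq_sum, ip_sum_irr_left, conj_irr_of_sq _ D.J_sq, mul_assoc, ← Finset.mul_sum,
    ← pow_three, h5] at h8
  have h9 : ((𝐂[t]).index : ℂ) ≠ 0 := Nat.cast_ne_zero.2 index_ne_zero_of_finite
  refine sig_ne hx hy hz h4 hE (Rat.cast_injective (α := ℂ) ?_)
  rw [← mul_left_cancel₀ (div_ne_zero (mul_ne_zero h9 h9) card_cast_ne_zero) h8]
  push_cast
  rw [← h7]
  refine Finset.sum_congr rfl fun χ _ => ?_
  by_cases e : d χ 0 = 0
  · simp [hd, e]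
  · rw [hd, hT χ e, irr_apply_one]
    simp only [deg]
    push_cast
    ring

theorem Sd.no_compl (h : Sd G) {S : Subgroup G} {τ t : G} (D : DihSyl S t τ t 0)
    (h1 : Disjoint ⁅Ut t, zpowers τ⁆ (Wt t τ)) : Wt t τ = ⊥ := by
  classical
  by_contra hW
  have hk := D.kl_τ
  have hS := D.eq_Vk_of_zero.2
  have ca := coprimeAct_of_isPGroup_left (zpowers_le.2 (norm_Ut t hk.mem_cent)) hk.r.isPGroup
    (not_two_dvd.2 (odd_Od' _))
  have hV : Wt t τ ≤ 𝐂(S) := by rw [hS, hk.cent_Vk]; exact inf_le_inf_right _ (Ut_le t)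
  have hτ : 𝐂[τ] ≤ 𝐍(zpowers τ) := (centralizer_zpowers_eq τ).ge.trans (cent_le_norm _)
  have hK : S ≤ 𝐍(⁅Ut t, zpowers τ⁆) := le_normalizer_commutator (D.le_C.trans (norm_Ut t))
    (((hS.le.trans hk.le_cent).trans (hk.cent_Vk.le.trans inf_le_right)).trans hτ)
  have sd : Sdp (⁅Ut t, zpowers τ⁆ ⊔ S) (Wt t τ) 𝐂[t] := by
    refine ⟨le_normalizer_sup (le_normalizer_commutator (inf_le_left.trans le_normalizer)
      (inf_le_right.trans hτ)) (hV.trans (cent_le_norm _)), disjoint_def.2 fun {x} hx hx' => ?_,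
      le_antisymm (sup_le (sup_le (ca.commutator_le.trans (Ut_le t)) D.le_C)
        (inf_le_left.trans (Ut_le t))) ?_⟩
    · obtain ⟨n, hn, v, hv, rfl⟩ := (mem_sup_of_le_normalizer_left hK).1 hx
      obtain rfl := disjoint_def.1 D.sdp.disj ((mul_mem_cancel_left (ca.commutator_le hn)).1 hx'.1) hv
      rw [mul_one] at hx' ⊢
      exact disjoint_def.1 h1 hn hx'
    · rw [← D.sdp.sup, sup_right_comm]
      refine sup_le_sup_right (ca.commutator_sup_inf_centralizer.ge.trans_eq ?_) _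
      rw [centralizer_zpowers_eq]
  obtain ⟨p, hp⟩ := sd.exists_proj
  have ext : ∀ β, Lin (Wt t τ) β → ∃ b, Lin 𝐂[t] b ∧ (∀ a ∈ 𝐂[t], IsPElt 2 a → b a = 1) ∧
      ∀ w ∈ Wt t τ, b w = β w := fun β hβ => by
    refine ⟨fun x => if hx : x ∈ 𝐂[t] then β (p ⟨x, hx⟩) else 1, ⟨fun x hx y hy => ?_, ?_⟩,
      fun a ha h2 => ?_, fun w hw => ?_⟩ <;> try dsimp only
    · rw [dif_pos hx, dif_pos hy, dif_pos (mul_mem hx hy), ← hβ.mul _ (p _).2 _ (p _).2, ← coe_mul, ← map_mul]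
      rfl
    · rw [dif_pos (one_mem _), show p ⟨1, _⟩ = 1 from map_one p]
      exact hβ.one
    · rw [dif_pos ha, show (p ⟨a, ha⟩ : G) = 1 from ((isPElt_coe.1 (show IsPElt 2 ((⟨a, ha⟩ : 𝐂[t]) : G)
        from h2)).map ((Wt t τ).subtype.comp p)).eq_one_of_isPRegular
        (not_two_dvd.2 (odd_of_mem_Od (p _).2.1)), hβ.one]
    · rw [dif_pos (Ut_le t hw.1), hp ⟨w, _⟩ 1 ⟨w, hw⟩ (one_mem _) (one_mul _)]
  have := (Wt t τ).nontrivial_iff_ne_bot.2 hW
  have : Group.IsSolvable (Wt t τ) := isSolvable_of_le (inf_le_left : Wt t τ ≤ Ut t)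
  obtain ⟨x, -, hx⟩ := SetLike.exists_of_lt (Group.IsSolvable.commutator_lt_top_of_nontrivial (Wt t τ))
  obtain ⟨f, -, hf⟩ := exists_units_hom_apply_ne_one le_rfl hx
  obtain ⟨b₀, l0, t0, e0⟩ := ext (fun y => if hy : y ∈ Wt t τ then f ⟨y, hy⟩ else 1)
    ⟨fun x hx y hy => by
      rw [dif_pos hx, dif_pos hy, dif_pos (mul_mem hx hy), ← Units.val_mul, ← map_mul]
      rfl, by rw [dif_pos (one_mem _)]; exact congrArg Units.val (map_one f)⟩
  obtain ⟨g, -, g1, g2⟩ := h.fused hk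
  have hg : g ∈ 𝐍(Wt t τ) := conj_smul_eq_iff_mem_normalizer.1 (by
    rw [conj_Wt, g1, g2, hk.comm, Wt_mul hk.symm, ← h.Wt_comm hk])
  have cj : ∀ c ∈ 𝐍(Wt t τ), Lin (Wt t τ) fun y => b₀ (c * y * c⁻¹) := fun c hc =>
    ⟨fun x hx y hy => by rw [← conj_mul, l0.mul _ (Ut_le t (conj_mem_of_mem_normalizer hc hx).1) _
      (Ut_le t (conj_mem_of_mem_normalizer hc hy).1)], by simpa using l0.one⟩
  obtain ⟨b₁, l1, t1, e1⟩ := ext _ (cj g hg)
  obtain ⟨b₂, l2, t2, e2⟩ := ext _ (cj _ (inv_mem hg))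
  have g3 : g * (t * τ) * g⁻¹ = t := by rw [← conj_mul, g1, g2, ← mul_assoc, ← hk.comm, hk.r.mul_mul']
  have hi : ∀ w ∈ Wt t τ, g⁻¹ * w * g⁻¹⁻¹ ∈ Wt t τ := fun w => conj_mem_of_mem_normalizer (inv_mem hg)
  have ns : ¬ ∀ w ∈ Wt t τ, b₀ (g * w * g⁻¹) = b₀ w := fun e => hf (Units.ext (by
    have h2 := h.no_pure D l0 t0 (fun s hs hk' => ?_) x x.2.1
    · rwa [e0 x x.2, dif_pos x.2] at h2
    rcases D.cases_of_zero hs hk'.r.ne with rfl | rfl | rfl
    · exact (hk'.ne rfl).elim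
    · exact ⟨g, g1, g2, e⟩
    · refine ⟨g⁻¹, by rw [inv_inv, mul_assoc, inv_mul_eq_iff_eq_mul, ← mul_inv_eq_iff_eq_mul.1 g3], by
        rw [hk.l.mul_mul, ← g2]; group, fun w hw => ?_⟩
      rw [← e _ (hi w (Wt_mul hk ▸ hw))]
      congr 1
      group))
  have n1 : ¬ ∀ w ∈ Wt t τ, b₀ w = b₁ w := fun e => ns fun w hw => ((e w hw).trans (e1 w hw)).symm
  have n2 : ¬ ∀ w ∈ Wt t τ, b₀ w = b₂ w := fun e => ns fun w hw => by
    have h2 := conj_mem_of_mem_normalizer hg hw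
    rw [e _ h2, e2 _ h2]
    congr 1
    group
  have n3 : ¬ ∀ w ∈ Wt t τ, b₁ w = b₂ w := fun e => ns fun w hw => by
    have h2 := e _ (hi w hw)
    have h3 : g * (g * g) ∈ 𝐂[t] := mem_centralizer_singleton_iff.2 (mul_inv_eq_iff_eq_mul.1 (by
      calc _ = g * (g * (g * t * g⁻¹) * g⁻¹) * g⁻¹ := by group
        _ = t := by rw [g1, g2, g3]))
    rw [e1 _ (hi w hw), e2 _ (hi w hw), ← l0.conj_eq (Ut_le t (hi _ (hi w hw)).1) h3] at h2
    convert h2.symm using 2 <;> group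
  refine h.no_three D g1 g2 hg (b := ![b₀, b₁, b₂]) (fun i => by fin_cases i; exacts [l0, l1, l2])
    (fun i => by fin_cases i; exacts [t0, t1, t2]) (fun w hw => (e1 w hw).symm)
    (fun w hw => by simpa using (e2 w hw).symm) fun i j e => ?_
  fin_cases i <;> fin_cases j
  exacts [rfl, (n1 e).elim, (n2 e).elim, (n1 fun w hw => (e w hw).symm).elim, rfl, (n3 e).elim,
    (n2 fun w hw => (e w hw).symm).elim, (n3 fun w hw => (e w hw).symm).elim, rfl]

end GW
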