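import Cfsg.Agent.Lib.GW.Gen
import Cfsg.Agent.Lib.GW.ClaimB
import Cfsg.Agent.Lib.GW.DX
import Cfsg.Agent.Lib.GW.ChN
import Cfsg.Agent.Lib.FT.St.BG6

/-!
# The centralizer of an involution is maximal and `F_t ∩ F_s ∩ F_ts = 1`: first reductions
-/

set_option autoImplicit false
set_option linter.unusedSectionVars false

namespace GW

open Cfsg GT FT Subgroup
open scoped Pointwise commutatorElement

universe u

section
variable {G : Type*} [Group G] [Finite G]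

theorem Sd.no_stable' (h : Sd G) {S : Subgroup G} {σ τ t : G} {k : ℕ} (D : DihSyl S σ τ t k) {N : Subgroup G}
    (hN : N ≤ Ut t) (hn : Ut t ≤ 𝐍(N)) (hK : ∀ s, Kl t s → ⁅Ut t, zpowers s⁆ ≤ N)
    (h2 : ∀ s, s = τ ∨ s = σ * τ → ∃ g, g * t * g⁻¹ = s ∧ g * s * g⁻¹ = t * s ∧ ∀ w ∈ Wt t s, ⁅g, w⁆ ∈ N) :
    N = Ut t := by
  have hN' : N ⊔ ⁅Ut t, Ut t⁆ ≤ Ut t := sup_le hN (der_le _)
  have h3 : ∀ s, Kl t s → zpowers s ≤ 𝐍((N ⊔ ⁅Ut t, Ut t⁆ : Subgroup G)) := fun s hk =>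
    le_normalizer_iff_commutator_le_left.2 ((commutator_mono hN' le_rfl).trans ((hK s hk).trans le_sup_left))
  have e : 𝐂[t] ≤ Ut t ⊔ (zpowers (σ * τ) ⊔ zpowers τ) := by
    rw [← D.sdp.sup, ← D.eq_sup]
    refine sup_le_sup_left (sup_le (zpowers_le.2 ?_) le_sup_right) _
    have := mul_mem_sup (mem_zpowers (σ * τ)) (mem_zpowers τ)
    rwa [D.kl_τ.r.mul_mul'] at this
  have h4 := le_norm_of_der_le le_sup_right hN'
  have h5 := sup_le (h3 _ D.kl_στ) (h3 _ D.kl_τ)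
  refine eq_of_sup_der (solv_Od _) hn (h.no_stable D hN' ?_ fun s hs hk => ?_)
  · exact (commutator_mono le_rfl e).trans (commutator_sup_right_le le_sup_right (commutator_sup_right_le
      ((hK _ D.kl_στ).trans le_sup_left) ((hK _ D.kl_τ).trans le_sup_left) (h3 _ D.kl_στ) (h3 _ D.kl_τ)) h4 h5)
  obtain ⟨ρ, s', hρ, hs', rfl⟩ : ∃ ρ s', ρ ∈ 𝐂[t] ∧ (s' = τ ∨ s' = σ * τ) ∧ s = ρ * s' * ρ⁻¹ := by
    obtain ⟨ρ, hρ, e | e⟩ := D.exists_conj_of_not_mem hs (D.not_mem_of_kl hk)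
    · exact ⟨ρ, τ, D.le_C (D.le hρ), .inl rfl, by simpa [e] using (D.conj_mul_τ hρ (one_mem _)).symm⟩
    · exact ⟨ρ, _, D.le_C (D.le hρ), .inr rfl, by rw [D.conj_mul_τ hρ (mem_zpowers σ), e]⟩
  obtain ⟨g, e1, e2, e3⟩ := h2 s' hs'
  have et : ρ * t * ρ⁻¹ = t := by rw [mem_cent1.1 hρ, mul_inv_cancel_right]
  refine ⟨ρ * g * ρ⁻¹, ?_, ?_, fun w hw => ?_⟩
  · conv_lhs => rw [← et, conj_inv, conj_mul, conj_mul, e1]
  · rw [conj_inv, conj_mul, conj_mul, e2, ← conj_mul, et]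
  · rw [← et, ← conj_Wt] at hw
    obtain ⟨w, hw', rfl⟩ := mem_conj_smul'.1 hw
    have := conj_mem_of_mem_normalizer ((e.trans (sup_le h4 h5)) hρ) (mem_sup_left (e3 w hw'))
    convert this using 1
    simp only [commutatorElement_def]; group

end

/-- The situation of case II. -/
structure B2 (G : Type u) [Group G] : Prop extends Min G where
  max : ∀ t : G, Inv t → IsCoatom 𝐂[t]
  triv : ∀ t s : G, Kl t s → Ft t ⊓ Ft s ⊓ Ft (t * s) = ⊥

variable {G : Type u} [Group G] [Finite G]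

namespace B2
variable (h : B2 G) {t s : G}
include h

theorem eq_bot_of_fuse (hk : Kl t s) {Y : Subgroup G} (hY : Y ≤ Ft t) {g : G} (hg : g ∈ 𝐍(Y)) (e1 : g * t * g⁻¹ = s)
    (e2 : g * s * g⁻¹ = t * s) : Y = ⊥ := by
  have h1 : Y ≤ Ft s := by rw [← e1, ← conj_Ft]; exact le_conj_of_mem_norm hY hg
  have h2 : Y ≤ Ft (t * s) := by rw [← e2, ← conj_Ft]; exact le_conj_of_mem_norm h1 hg
  exact eq_bot_iff.2 (h.triv t s hk ▸ le_inf (le_inf hY h1) h2)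

theorem norm_le (hk : Kl t s) {p : ℕ} [Fact p.Prime] {Y : Subgroup G} (hY : IsPGroup p Y) (h0 : Y ≠ ⊥)
    (h1 : Y ≤ Ft t ⊓ 𝐂[s]) (hs : IsSylowIn 2 (Vk t s) ⊤ ∨ ∃ y ∈ 𝐍(Y), y * s * y⁻¹ = t * s) : 𝐍(Y) ≤ 𝐂[t] := by
  have hYF := h1.trans inf_le_left
  have hM := h.norm_ne_top h0 hY.isSolvable'
  refine (h.toSd.claimB hk (h.max t hk.l) hY h0 h1 (sup_le le_normalizer (cent_le_norm Y))).resolve_right
    fun ⟨hE, _⟩ => h0 ?_
  have c := h.cp hM hE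
  have ht := cent_le_norm Y (le_cent1_iff.1 (hYF.trans ((Ft_le t).trans (Ut_le t))))
  have hs' := cent_le_norm Y (le_cent1_iff.1 (h1.trans inf_le_right))
  have htE : t ∈ Ly 𝐍(Y) := by
    rcases hs with hs | ⟨y, hy, e⟩
    · exact c.mem_of_sylow (hs.of_le (hk.Vk_le.2 ⟨ht, hs'⟩) le_top) hk.card hk.left_mem
    · exact c.mem_of_swap hk ht hs' hy e
  obtain ⟨v, hv, hk'⟩ := c.ex t htE hk.l
  obtain ⟨g, hg, e1, e2⟩ := c.fused t htE v hv hk'
  exact h.eq_bot_of_fuse hk' hYF (Ly_le _ hg) e1 e2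

theorem pm (hk : Kl t s) (p : ℕ) [hp : Fact p.Prime] : s ∈ 𝐂(Op p (Ut t)) ∨ InvBy s (Op p (Ut t)) := by
  by_cases h0 : Op p (Ut t) ⊓ 𝐂[s] = ⊥
  · exact .inr (invBy_of_fpf hk.r (norm_Op_Ut p t hk.mem_cent) h0)
  have hP := isPGroup_Op p (Ut t)
  have hU : Op p (Ut t) ≤ Ut t := piCoreOf_le _ _
  have hN := h.norm_le hk (hP.to_le inf_le_left) h0 (inf_le_inf_right _ (Op_Ut_le t))
    ((h.swap' hk).imp id fun ⟨y, hy, e⟩ => ⟨y, swap_norm (hU.trans (Ut_le t)) (norm_Op_Ut p t hy.mem_cent) e, e⟩)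
  obtain ⟨g, -, e1, e2⟩ := h.fused hk
  have hW : MulAut.conj g • (Op p (Ut t) ⊓ 𝐂[s]) ≤ Wt t s :=
    conj_Wt_of_fused h.toSd hk e1 e2 ▸ conj_smul_mono g (inf_le_inf_right _ hU)
  have hp2 : ¬ p ∣ Nat.card (zpowers s) := fun hd => by
    rw [Nat.card_zpowers, hk.r.orderOf, Nat.prime_dvd_prime_iff_eq hp.out Nat.prime_two] at hd
    subst hd
    exact h0 (eq_bot_of_isPGroup_of_not_dvd (hP.to_le inf_le_left) (not_two_dvd.2 (odd_of_le_Od (inf_le_left.trans hU))))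
  refine .inl (le_cent1_iff.1 ((le_centralizer_of_pxq (isPGroup_conj_smul g (hP.to_le inf_le_left)) hp2 hP
    (hW.trans (inf_le_left.trans (le_norm_piCoreOf _ _))) (zpowers_le.2 (norm_Op_Ut p t hk.mem_cent))
    (hW.trans (inf_le_right.trans (centralizer_zpowers s).ge)) ?_).trans (centralizer_zpowers s).le))
  rw [centralizer_zpowers, ← conj_smul_centralizer]
  exact inf_le_right.trans ((conj_smul_mono g ((cent_le_norm _).trans hN)).trans (by rw [conj_cent1, e1]))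

theorem K_le_cent (hk : Kl t s) : ⁅Ut t, zpowers s⁆ ≤ 𝐂(Ft t) :=
  le_cent_comm.1 (fittingOf_le_of_forall_Op fun p _ => le_cent_comm.1 ((h.pm hk p).elim
    (fun e => (commutator_mono le_rfl (zpowers_le.2 e)).trans (commutator_le_right_of_norm
      (le_normalizer_centralizer (le_norm_piCoreOf _ _)))) fun e => e.comm_le_cent hk.r (le_norm_piCoreOf _ _)))

theorem K_le (hk : Kl t s) : ⁅Ut t, zpowers s⁆ ≤ Ft t :=
  (le_inf (commutator_le_left_of_norm (zpowers_le.2 (norm_Ut t hk.mem_cent))) (h.K_le_cent hk)).trans (cent_Ft_le t)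

theorem K_inf (hk : Kl t s) : ⁅Ut t, zpowers s⁆ ⊓ 𝐂[s] = ⊥ := by
  have H := hk.r.copAct (odd_Od' 𝐂[t]) (norm_Ut t hk.mem_cent)
  have := comm_iff_le_cent.2 ((h.K_le_cent hk).trans (centralizer_anti (h.K_le hk)))
  have e := H.commutator.disjoint_commutator_centralizer
  rwa [H.commutator_commutator_eq, centralizer_zpowers, disjoint_iff] at e

theorem K_inv (hk : Kl t s) : InvBy s ⁅Ut t, zpowers s⁆ :=
  invBy_of_fpf hk.r (le_normalizer_commutator (zpowers_le.2 (norm_Ut t hk.mem_cent)) le_normalizer (mem_zpowers s))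
    (h.K_inf hk)

theorem sdp (hk : Kl t s) : Sdp ⁅Ut t, zpowers s⁆ (Wt t s) (Ut t) := by
  have e := (hk.r.copAct (odd_Od' 𝐂[t]) (norm_Ut t hk.mem_cent)).commutator_sup_inf_centralizer
  rw [centralizer_zpowers] at e
  have := sdp_sup (K := ⁅Ut t, zpowers s⁆) (H := Wt t s) (le_normalizer_commutator (inf_le_left.trans le_normalizer)
    (inf_le_right.trans ((centralizer_zpowers s).ge.trans (cent_le_norm _))))
    (disjoint_iff.2 (eq_bot_iff.2 ((inf_le_inf_left _ inf_le_right).trans (h.K_inf hk).le)))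
  rwa [e] at this

theorem caseA {S : Subgroup G} {σ τ ρ : G} {k : ℕ} (D : DihSyl S σ τ t k) (h1 : ρ ∈ zpowers σ) (h2 : ρ * ρ = t)
    (h3 : ρ ∈ 𝐂(Ut t)) : Wt t τ = ⊥ := by
  have key : ∀ s ∈ S, Kl t s → ∃ g ∈ 𝐂(Wt t s), g * t * g⁻¹ = s ∧ g * s * g⁻¹ = t * s := fun s hs hk => by
    have hn := D.not_mem_of_kl hk
    refine h.cent_fuse hk (y := ρ * s) (D.kl (mul_mem (D.le h1) hs) fun e => hn ((mul_mem_cancel_left h1).1 e)) ?_
      (mul_mem (centralizer_anti inf_le_left h3) (le_cent1_iff.1 inf_le_right))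
    rw [← h2, mul_inv_rev, ← D.conj_of_not_mem hs hn h1, hk.r.inv]
    simp only [mul_assoc, hk.r.mul_mul]
  have e := h.no_stable' D (Ft_le t) (le_norm_fittingOf _) (fun s hk => h.K_le hk) fun s hs => by
    obtain ⟨g, hg, e1, e2⟩ := hs.elim (fun e => key s (e ▸ D.τ_mem) (e ▸ D.kl_τ)) fun e =>
      key s (e ▸ mul_mem D.σ_mem D.τ_mem) (e ▸ D.kl_στ)
    refine ⟨g, e1, e2, fun w hw => ?_⟩
    rw [commutatorElement_eq_one_iff_mul_comm.2 (mem_centralizer_iff.1 hg w hw).symm]; exact one_mem _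
  obtain ⟨g, hg, e1, e2⟩ := key τ D.τ_mem D.kl_τ
  exact h.eq_bot_of_fuse D.kl_τ (inf_le_left.trans e.ge) (cent_le_norm _ hg) e1 e2

end B2

end GW
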