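import Cfsg.Agent.Lib.GW.CaseIIa

/-!
# Case II: Sylow `2`-subgroups of order `8`, the two four-groups act differently on `F_t`
-/

set_option autoImplicit false
set_option linter.unusedSectionVars false

namespace GW

open Cfsg GT FT Subgroup
open scoped Pointwise commutatorElement

universe u

variable {G : Type u} [Group G] [Finite G]

/-- `a` and `b` generate a dihedral group of order `8` with centre `t` -/
structure D8p (t a b : G) : Prop where
  l : Kl t a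
  r : Kl t b
  e : b * a * b⁻¹ = t * a

theorem D8p.symm {t a b : G} (m : D8p t a b) : D8p t b a := ⟨m.r, m.l, by
  have e := m.e
  rw [m.r.r.inv] at e
  rw [m.l.r.inv, ← m.r.r.mul_mul (a * b * a), ← mul_assoc b (a * b), ← mul_assoc b a, e, m.l.r.mul_mul', m.r.comm]⟩

theorem D8p.et {t a b : G} (m : D8p t a b) : b * t * b⁻¹ = t := by rw [← m.r.comm, mul_inv_cancel_right]

theorem D8p.e' {t a b : G} (m : D8p t a b) : b * (t * a) * b⁻¹ = a := by rw [← m.e, m.r.r.conj_conj]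

theorem D8p.norm {t a b : G} (m : D8p t a b) : b ∈ 𝐍(Vk t a) :=
  m.l.mem_norm (by rw [m.et]; exact m.l.left_mem) (by rw [m.e]; exact mul_mem m.l.left_mem m.l.right_mem)

theorem D8p.normW {t a b : G} (m : D8p t a b) : b ∈ 𝐍(Wt t a) := swap_norm (Ut_le t) (norm_Ut t m.r.mem_cent) m.e

theorem Kl.norm_of_fuse {t s g : G} (hk : Kl t s) (e1 : g * t * g⁻¹ = s) (e2 : g * s * g⁻¹ = t * s) : g ∈ 𝐍(Vk t s) :=
  hk.mem_norm (e1 ▸ hk.right_mem) (e2 ▸ mul_mem hk.left_mem hk.right_mem)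

/-- an equivariant family of subgroups of the `F_u` -/
structure EqFam (P : G → Subgroup G) : Prop where
  conj : ∀ g u, MulAut.conj g • P u = P (g * u * g⁻¹)
  le : ∀ u, P u ≤ Ft u

theorem fam_Ft : EqFam (Ft : G → Subgroup G) := ⟨conj_Ft, fun _ => le_rfl⟩

theorem fam_Op (p : ℕ) [Fact p.Prime] : EqFam fun u : G => Op p (Ut u) := ⟨conj_Op_Ut p, Op_Ut_le⟩

/-- `C_{P_u}(⟨t, a⟩)` -/
abbrev Ph (P : G → Subgroup G) (t a u : G) : Subgroup G := P u ⊓ 𝐂(Vk t a)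

section
variable {P : G → Subgroup G} {t a b u g : G}

theorem EqFam.conj_ph (F : EqFam P) (hg : g ∈ 𝐍(Vk t a)) (u : G) : MulAut.conj g • Ph P t a u = Ph P t a (g * u * g⁻¹) := by
  rw [conj_smul_inf, F.conj, conj_smul_centralizer, conj_smul_eq_of_mem_normalizer hg]

theorem EqFam.odd (F : EqFam P) : Odd (Nat.card (Ph P t a u)) := odd_of_le_Od (inf_le_left.trans ((F.le u).trans (Ft_le u)))

theorem EqFam.ph_le (F : EqFam P) (h : Sd G) (hk : Kl t a) (u : G) : Ph P t a u ≤ Wt t a :=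
  le_inf (h.le_Ut hk.l (inf_le_right.trans (hk.cent_Vk.le.trans inf_le_left)) F.odd)
    (inf_le_right.trans (hk.cent_Vk.le.trans inf_le_right))

theorem Wt_le_cent (hk : Kl t a) : Wt t a ≤ 𝐂(Vk t a) := hk.cent_Vk ▸ inf_le_inf_right _ (Ut_le t)

theorem EqFam.W_norm (F : EqFam P) (hk : Kl t a) (hu : u ∈ Vk t a) : Wt t a ≤ 𝐍(Ph P t a u) := fun w hw => by
  rw [← conj_smul_eq_iff_mem_normalizer, F.conj_ph (cent_le_norm _ (Wt_le_cent hk hw)),
    ← mem_centralizer_iff.1 (Wt_le_cent hk hw) u hu, mul_inv_cancel_right]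

theorem EqFam.ph_eq (F : EqFam P) (hk : Kl t a) : Ph P t a t = P t ⊓ 𝐂[a] := by
  rw [Ph, hk.cent_Vk, ← inf_assoc, inf_eq_left.2 ((F.le t).trans ((Ft_le t).trans (Ut_le t)))]

theorem D8p.mem_W (m : D8p t a b) {x : G} (hx : x ∈ Wt t a) (hc : x * (b * x * b⁻¹) = b * x * b⁻¹ * x) :
    x * (b * x * b⁻¹) ∈ Wt t a ⊓ Wt t b ∧ x⁻¹ * (b * x * b⁻¹) ∈ ⁅Ut t, zpowers b⁆ := by
  have h1 := conj_mem_of_mem_normalizer m.normW hx
  refine ⟨⟨mul_mem hx h1, (mul_mem hx h1).1, mem_cent1.2 ?_⟩, ?_⟩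
  · rw [eq_comm, ← mul_inv_eq_iff_eq_mul, ← conj_mul, m.r.r.conj_conj, hc]
  · simpa only [commutatorElement_def, inv_inv, mul_assoc] using
      commutator_mem_commutator (inv_mem hx.1) (mem_zpowers b)

namespace B2
variable (h : B2 G) (m : D8p t a b) (F : EqFam P) (hi : InvBy b (Ph P t a t))
include h m F hi

theorem disj1 : Ph P t a t ⊓ Ph P t a a = ⊥ := by
  have h1 : Ph P t a t ⊓ Ph P t a a ≤ Ft a := inf_le_right.trans (inf_le_left.trans (F.le a))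
  have h2 : Ph P t a t ⊓ Ph P t a a ≤ Ft (t * a) := by
    rw [← m.e, ← conj_Ft]; exact le_conj_of_mem_norm h1 (hi.mono inf_le_left).mem_norm
  exact eq_bot_iff.2 (h.triv t a m.l ▸ le_inf (le_inf (inf_le_left.trans (inf_le_left.trans (F.le t))) h1) h2)

theorem disj2 : Ph P t a a ⊓ Ph P t a (t * a) = ⊥ := by
  obtain ⟨g, -, e1, e2⟩ := h.fused m.l
  have := (conj_smul_eq_bot_iff (g := g)).2 (h.disj1 m F hi)
  rwa [conj_smul_inf, F.conj_ph (m.l.norm_of_fuse e1 e2), F.conj_ph (m.l.norm_of_fuse e1 e2), e1, e2] at this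

theorem comm1 : Ph P t a t ≤ 𝐂(Ph P t a a) :=
  commute_of_normal_of_disjoint' ((F.ph_le h.toSd m.l _).trans (F.W_norm m.l m.l.left_mem))
    ((F.ph_le h.toSd m.l _).trans (F.W_norm m.l m.l.right_mem)) (disjoint_iff.2 (h.disj1 m F hi))

theorem comm2 : Ph P t a a ≤ 𝐂(Ph P t a (t * a)) :=
  commute_of_normal_of_disjoint' ((F.ph_le h.toSd m.l _).trans (F.W_norm m.l m.l.right_mem))
    ((F.ph_le h.toSd m.l _).trans (F.W_norm m.l (mul_mem m.l.left_mem m.l.right_mem))) (disjoint_iff.2 (h.disj2 m F hi))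

omit h hi in
theorem conj_mem {x : G} (hx : x ∈ Ph P t a a) : b * x * b⁻¹ ∈ Ph P t a (t * a) := by
  have := F.conj_ph m.norm a
  rw [m.e] at this
  exact this ▸ conj_mem_conj_smul.2 hx

theorem cent_le {x : G} (hx : x ∈ Ph P t a a) (h1 : x ≠ 1) : 𝐂[x] ≤ 𝐂[a] := by
  obtain ⟨g, -, e1, e2⟩ := h.fused m.l
  have e := F.conj_ph (m.l.norm_of_fuse e1 e2) t
  rw [e1] at e
  obtain ⟨y, hy, rfl⟩ := mem_conj_smul'.1 (e ▸ hx)
  have hz : zpowers y ≤ Ph P t a t := zpowers_le.2 hy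
  obtain ⟨q, _, h0⟩ := exists_inf_Op_ne_bot (hz.trans (inf_le_left.trans (F.le t)))
    (mt zpowers_eq_bot.1 fun e => h1 (conj_eq_one_iff.2 e))
  have := h.norm_le m.l ((isPGroup_Op q _).to_le inf_le_right) h0 (inf_le_left.trans (hz.trans
    ((F.ph_eq m.l).le.trans (inf_le_inf_right _ (F.le t))))) (.inr ⟨b, (hi.mono (inf_le_left.trans hz)).mem_norm, m.e⟩)
  rw [← conj_cent1]
  refine (conj_smul_mono g ((centralizer_zpowers y).ge.trans ((centralizer_anti inf_le_left).trans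
    ((cent_le_norm _).trans this)))).trans ?_
  rw [conj_cent1, e1]

omit hi in
theorem card_ph : Nat.card (Ph P t a a) = Nat.card (Ph P t a t) := by
  obtain ⟨g, -, e1, e2⟩ := h.fused m.l
  have e := F.conj_ph (m.l.norm_of_fuse e1 e2) t
  rw [e1] at e
  rw [← e, card_conj_smul]

end B2

end

namespace B2
variable (h : B2 G) {t a b : G} (m : D8p t a b)
include h m

theorem nomix {p q : ℕ} [Fact p.Prime] [Fact q.Prime] (p0 : Op p (Ut t) ≠ ⊥) (p1 : a ∈ 𝐂(Op p (Ut t)))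
    (p2 : InvBy b (Op p (Ut t))) (q0 : Op q (Ut t) ≠ ⊥) (q1 : b ∈ 𝐂(Op q (Ut t))) (q2 : InvBy a (Op q (Ut t))) :
    False := by
  have hpq : p ≠ q := by
    rintro rfl
    exact p0 ((inf_eq_left.2 (le_cent1_iff.2 p1)).symm.trans (q2.inf_eq_bot (odd_of_le_Od (piCoreOf_le _ _))))
  have P := fam_Op (G := G) p
  have Q := fam_Op (G := G) q
  have ip : InvBy b (Ph (fun u => Op p (Ut u)) t a t) := p2.mono inf_le_left
  have iq : InvBy a (Ph (fun u => Op q (Ut u)) t b t) := q2.mono inf_le_left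
  obtain ⟨x, hx, x1⟩ := exists_ne_one_of_ne_bot (A := Ph (fun u => Op p (Ut u)) t a a) fun e => p0 (by
    rw [← card_eq_one, h.card_ph m P, P.ph_eq m.l, inf_eq_left.2 (le_cent1_iff.2 p1), card_eq_one] at e; exact e)
  obtain ⟨y, hy, y1⟩ := exists_ne_one_of_ne_bot (A := Ph (fun u => Op q (Ut u)) t b b) fun e => q0 (by
    rw [← card_eq_one, h.card_ph m.symm Q, Q.ph_eq m.r, inf_eq_left.2 (le_cent1_iff.2 q1), card_eq_one] at e; exact e)
  have hx' := conj_mem m P hx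
  have hy' := conj_mem m.symm Q hy
  obtain ⟨hα, hδ⟩ := m.mem_W (P.ph_le h.toSd m.l _ hx) (mem_centralizer_iff.1 (h.comm2 m P ip hx) _ hx').symm
  obtain ⟨hβ, hε⟩ := m.symm.mem_W (Q.ph_le h.toSd m.r _ hy) (mem_centralizer_iff.1 (h.comm2 m.symm Q iq hy) _ hy').symm
  have nP := P.W_norm m.l m.l.right_mem
  have nP' := P.W_norm m.l (mul_mem m.l.left_mem m.l.right_mem)
  have nQ := Q.W_norm m.r m.r.right_mem
  have nQ' := Q.W_norm m.r (mul_mem m.r.left_mem m.r.right_mem)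
  have hc : ⁅x * (b * x * b⁻¹), y * (a * y * a⁻¹)⁆ = 1 := by
    refine (disjoint_iff.1 (disjoint_of_coprime_natCard (coprime_card_of_ne
      (isPGroup_sup ((isPGroup_Op p _).to_le inf_le_left) ((isPGroup_Op p _).to_le inf_le_left)
        ((P.ph_le h.toSd m.l a).trans nP'))
      (isPGroup_sup ((isPGroup_Op q _).to_le inf_le_left) ((isPGroup_Op q _).to_le inf_le_left)
        ((Q.ph_le h.toSd m.r b).trans nQ')) hpq))).le ⟨?_, ?_⟩
    · exact commutator_le_left_of_norm (le_normalizer_sup nP nP') (commutator_mem_commutator (mul_mem_sup hx hx') hβ.2)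
    · exact commutator_le_right_of_norm (le_normalizer_sup nQ nQ') (commutator_mem_commutator hα.2 (mul_mem_sup hy hy'))
  have e0 : y * (a * y * a⁻¹) = y * y * (y⁻¹ * (a * y * a⁻¹)) := by group
  generalize y * (a * y * a⁻¹) = β at hβ hc e0
  have hβb := mem_cent1.1 hβ.1.2
  have e1 : β * x * β⁻¹ = x := by
    have h1 := conj_mem_of_mem_normalizer (nP hβ.2) hx
    have h2 := conj_mem_of_mem_normalizer (nP' hβ.2) hx'
    have e := commutatorElement_eq_one_iff_mul_comm.1 hc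
    have h3 : x⁻¹ * (β * x * β⁻¹) = b * x * b⁻¹ * (β * (b * x * b⁻¹) * β⁻¹)⁻¹ := by
      rw [eq_mul_inv_iff_mul_eq, mul_assoc, conj_mul, ← e]; group
    exact (inv_mul_eq_one.1 ((h.disj2 m P ip).le (mem_inf.2 ⟨mul_mem (inv_mem hx) h1, h3 ▸ mul_mem hx' (inv_mem h2)⟩))).symm
  have h4 : β ∈ 𝐂[x⁻¹ * (b * x * b⁻¹)] := by
    have hxβ : x ∈ 𝐂[β] := mem_cent1.2 (mul_inv_eq_iff_eq_mul.1 e1).symm
    have hbβ : b ∈ 𝐂[β] := mem_cent1.2 hβb.symm
    exact mem_cent1_comm.1 (mul_mem (inv_mem hxβ) (mul_mem (mul_mem hbβ hxβ) (inv_mem hbβ)))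
  rw [e0, mul_mem_cancel_right (cent_le_cent1 (h.K_le m.r hδ) (h.K_le_cent m.l hε))] at h4
  have h5 := h.cent_le m.symm Q iq (mul_mem hy hy) (fun e => y1 (mem_of_sq_mem_odd Q.odd hy (M := ⊥) e))
    (mem_cent1_comm.1 h4)
  have h6 := inv_mul_eq_one.1 ((h.K_inf m.r).le ⟨hδ, h5⟩)
  exact x1 ((h.disj2 m P ip).le ⟨hx, h6 ▸ hx'⟩)

end B2

end GW
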