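import Cfsg.Agent.Lib.GW.Base
import Cfsg.Agent.Lib.GW.BSW1
import Cfsg.Agent.Lib.Char.Prod
import Cfsg.Agent.Lib.Char.Mackey
import Cfsg.Agent.Lib.Char.SimpleGrp

/-!
# Character values near an involution
-/

set_option autoImplicit false
set_option linter.unusedSectionVars false

namespace GW

open Cfsg CT GT BT FT Subgroup
open scoped Pointwise ComplexConjugate commutatorElement

section Slice
variable {P Q : Type*} [Group P] [Group Q] [Finite P] [Finite Q]

theorem ip_slice (θ : P × Q → ℂ) (α : P → ℂ) (β : Q → ℂ) :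
    ip (fun p => ip (fun q => θ (p, q)) β) α = ip θ (prodFun α β) := by
  have := Fintype.ofFinite P
  have := Fintype.ofFinite Q
  simp only [ip_def, Fintype.sum_prod_type, prodFun_apply, Nat.card_prod, Nat.cast_mul, mul_inv,
    Finset.mul_sum, Finset.sum_mul, map_mul]
  exact Finset.sum_congr rfl fun _ _ => Finset.sum_congr rfl fun _ _ => by ring

theorem isClassFunction_slice {θ : P × Q → ℂ} (hθ : IsClassFunction (P × Q) θ) (β : Q → ℂ) :
    IsClassFunction P fun p => ip (fun q => θ (p, q)) β := fun g h =>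
  congrArg (ip · β) (funext fun q => by
    have := hθ (g, q) (h, 1)
    simpa using this)

theorem isClassFunction_slice' {θ : P × Q → ℂ} (hθ : IsClassFunction (P × Q) θ) (p : P) :
    IsClassFunction Q fun q => θ (p, q) := fun g h => by
  have := hθ (p, g) (1, h)
  simpa using this

theorem isCharacter_slice {θ : P × Q → ℂ} (hθ : IsCharacter (P × Q) θ) {β : Q → ℂ}
    (hβ : IsCharacter Q β) : IsCharacter P fun p => ip (fun q => θ (p, q)) β :=
  (isCharacter_iff_ip_nat (isClassFunction_slice hθ.isClassFunction β)).2 fun χ => by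
    rw [ip_slice]
    exact hθ.exists_nat_ip ((irr_isCharacter χ).prodFun hβ)

theorem abs_sum_le {ι : Type*} [Fintype ι] [Nonempty ι] (m s : ι → ℤ) (hs : ∀ i, |s i| = 1)
    (h0 : ∑ i, s i = 0) : Fintype.card ι * |∑ i, m i * s i| ≤
      2 * (Fintype.card ι * ∑ i, m i ^ 2 - (∑ i, m i) ^ 2) := by
  have hn : (0 : ℤ) < Fintype.card ι := by exact_mod_cast Fintype.card_pos
  generalize hN : (Fintype.card ι : ℤ) = n at hn
  obtain ⟨c, hc⟩ : ∃ c, |2 * (∑ i, m i - n * c)| ≤ n := by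
    have h1 := Int.emod_add_mul_ediv (2 * ∑ i, m i + n) (2 * n)
    have h2 := Int.emod_nonneg (2 * ∑ i, m i + n) (show 2 * n ≠ 0 by omega)
    have h3 := Int.emod_lt_of_pos (2 * ∑ i, m i + n) (show 0 < 2 * n by omega)
    exact ⟨(2 * ∑ i, m i + n) / (2 * n), abs_le.2 ⟨by linarith, by linarith⟩⟩
  have e1 : ∑ i, (m i - c) = ∑ i, m i - n * c := by simp [hN]
  have e2 : ∑ i, (m i - c) * s i = ∑ i, m i * s i := by
    simp [sub_mul, ← Finset.mul_sum, h0]
  have e3 : ∑ i, (m i - c) ^ 2 = ∑ i, m i ^ 2 - 2 * c * ∑ i, m i + n * c ^ 2 := by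
    simp only [sub_sq, Finset.sum_add_distrib, Finset.sum_sub_distrib, Finset.mul_sum]
    simp [hN, mul_comm, mul_left_comm]
  have key : ∀ r : ι → ℤ, (∀ i, |r i| = 1) → |∑ i, (m i - c) * r i| ≤ ∑ i, (m i - c) ^ 2 :=
    fun r hr => (Finset.abs_sum_le_sum_abs _ _).trans (Finset.sum_le_sum fun i _ => by
      rw [abs_mul, hr, mul_one, ← sq_abs]
      exact Int.le_self_sq _)
  have k1 := key s hs
  have k2 := key (fun _ => 1) fun _ => abs_one
  simp only [mul_one] at k2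
  rw [e2] at k1
  rw [← e1, abs_mul, abs_two] at hc
  have k3 : (∑ i, (m i - c)) ^ 2 = |∑ i, (m i - c)| * |∑ i, (m i - c)| := by rw [← sq, sq_abs]
  have k4 : n * ∑ i, m i ^ 2 - (∑ i, m i) ^ 2 =
      n * ∑ i, (m i - c) ^ 2 - (∑ i, (m i - c)) ^ 2 := by rw [e1, e3]; ring
  rw [k4, k3]
  nlinarith [abs_nonneg (∑ i, (m i - c))]

theorem sum_norm_sq [Fintype Q] {θ : Q → ℂ} (hθ : IsClassFunction Q θ) :
    ∑ q, ‖θ q‖ ^ 2 = Nat.card Q * ∑ β : IrrCharacter Q, ‖ip θ β.1‖ ^ 2 := by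
  have h := ip_self_eq θ
  rw [ip_eq_sum_irr hθ hθ] at h
  simp only [Complex.mul_conj, Complex.normSq_eq_norm_sq] at h
  have h2 : ∑ β : IrrCharacter Q, ‖ip θ β.1‖ ^ 2 = (Nat.card Q : ℝ)⁻¹ * ∑ q, ‖θ q‖ ^ 2 := by
    exact_mod_cast h
  rw [h2, mul_inv_cancel_left₀ (Nat.cast_ne_zero.2 Nat.card_pos.ne')]

/-- The values of a generalized character of `P × Q` on `t × Q`, `P` abelian. -/
theorem exists_coef [IsMulCommutative P] [Fintype P] [Fintype Q] [DecidableEq P] {θ : P × Q → ℂ}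
    (hθ : IsGeneralizedCharacter (P × Q) θ) {t : P} (ht : t * t = 1) (h1 : t ≠ 1) :
    ∃ d : IrrCharacter Q → ℤ, (∀ β, ip (fun q => θ (t, q)) β.1 = d β) ∧
      (Nat.card P * Nat.card Q * ∑ β, |d β| : ℝ) ≤ 2 * ∑ x with x.1 ≠ 1, ‖θ x‖ ^ 2 := by
  choose m hm using fun (β : IrrCharacter Q) (l : IrrCharacter P) =>
    hθ.exists_int_ip (irr_isCharacter (irrProd l β)).isGen
  choose s hs using fun l : IrrCharacter P => exists_int_apply_of_sq (irr_isCharacter l) ht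
  have hc := isClassFunction_slice hθ.isClassFunction
  have h2 : ∀ (β : IrrCharacter Q) u, ip (fun q => θ (u, q)) β.1 = ∑ l, m β l * l.1 u :=
    fun β u => ((hc β.1).apply_eq_sum_irr u).trans
      (Finset.sum_congr rfl fun l _ => by rw [ip_slice, ← hm, irrProd_val])
  have hd := irr_degree_eq_one_of_isMulCommutative (G := P)
  have h3 : ∀ l, |s l| = 1 := fun l => by
    have := (irr_isCharacter l).norm_eq_one_of_degree_one (hd l) t
    rw [hs, Complex.norm_intCast] at this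
    exact_mod_cast this
  have h4 : ∑ l, s l = 0 := by
    have := sum_irr_degree_mul t
    simp only [irr_apply_one, hd, hs, if_neg h1, Nat.cast_one, one_mul] at this
    exact_mod_cast this
  refine ⟨fun β => ∑ l, m β l * s l, fun β => by simp [h2, hs], ?_⟩
  have h5 : ∑ x with x.1 ≠ 1, ‖θ x‖ ^ 2 = Nat.card Q * ∑ β : IrrCharacter Q,
      (Nat.card P * ∑ l, (m β l : ℝ) ^ 2 - (∑ l, (m β l : ℝ)) ^ 2) := by
    rw [Finset.sum_filter, Fintype.sum_prod_type, Finset.sum_congr rfl (g := fun u =>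
      Nat.card Q * ∑ β : IrrCharacter Q, if u ≠ 1 then ‖ip (fun q => θ (u, q)) β.1‖ ^ 2 else 0)
      fun u _ => by
        split_ifs
        · exact sum_norm_sq (isClassFunction_slice' hθ.isClassFunction u)
        · simp, ← Finset.mul_sum, Finset.sum_comm]
    refine congrArg _ (Finset.sum_congr rfl fun β _ => ?_)
    have h6 := sum_norm_sq (hc β.1)
    simp only [ip_slice, ← irrProd_val, hm, Complex.norm_intCast, sq_abs] at h6
    rw [← h6, ← Finset.sum_filter, Finset.filter_ne', eq_sub_iff_add_eq,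
      ← Finset.sum_erase_add _ _ (Finset.mem_univ (1 : P)), h2]
    simp only [irr_apply_one, hd, Nat.cast_one, mul_one]
    norm_cast
    rw [sq_abs]
  rw [h5, mul_left_comm, mul_comm (Nat.card P : ℝ), mul_assoc]
  refine mul_le_mul_of_nonneg_left ?_ (Nat.cast_nonneg _)
  push_cast
  rw [Finset.mul_sum, Finset.mul_sum]
  refine Finset.sum_le_sum fun β _ => ?_
  have := abs_sum_le (m β) s h3 h4
  rw [← Nat.card_eq_fintype_card, card_irr_of_isMulCommutative] at this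
  exact_mod_cast this

end Slice

variable {G : Type*} [Group G] [Finite G]

theorem blockPart_eq_zero {B : Set (IrrCharacter G)} {θ : G → ℂ} {x : G}
    (h : ∀ y, θ y ≠ 0 → bker B x y = 0) : blockPart B θ x = 0 := by
  have := Fintype.ofFinite G
  simp only [blockPart_apply_eq_sum_bset, ip_def, mul_assoc, ← Finset.mul_sum, Finset.sum_mul]
  rw [Finset.sum_comm, Finset.sum_eq_zero fun y _ => ?_, mul_zero]
  rw [← Finset.mul_sum]
  refine mul_eq_zero.2 (or_iff_not_imp_left.2 fun hy => ?_)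
  rw [← h y hy, bker_def]
  exact Finset.sum_congr rfl fun _ _ => mul_comm _ _

open Classical in
theorem blockPart_irr (B : Set (IrrCharacter G)) (χ : IrrCharacter G) :
    blockPart B χ.1 = if χ ∈ B then χ.1 else 0 := by
  rw [blockPart_eq_sum_bset]
  simp only [ip_irr, ite_smul, one_smul, zero_smul, Finset.sum_ite_eq, mem_bset]

theorem indHom_apply_of_TI {H : Type*} [Group H] [Finite H] {f : H →* G}
    (hf : Function.Injective f) {θ : H → ℂ} (hθ : IsClassFunction H θ) (x : H)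
    (h : ∀ g y, θ y ≠ 0 → f y = g⁻¹ * f x * g → g ∈ f.range) : indHom f θ (f x) = θ x := by
  rw [indHom_eq_ind_range hf]
  refine (ind_apply_of_TI_aux (hθ.comp (MonoidHom.ofInjective hf).symm.toMonoidHom)
    (MonoidHom.ofInjective hf x) fun g hg => by_contra fun h0 => hg ?_).trans (by simp)
  by_cases h1 : g⁻¹ * (MonoidHom.ofInjective hf x : G) * g ∈ f.range
  · rw [extendByZero_of_mem _ _ h1] at h0
    exact h g _ h0 (MonoidHom.apply_ofInjective_symm hf _)
  · exact absurd (extendByZero_of_notMem _ _ h1) h0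

theorem sum_zpowers_inv {t : G} (ht : Inv t) [Fintype (zpowers t)] (F : zpowers t → ℂ) :
    ∑ v, F v = F 1 + F ⟨t, mem_zpowers t⟩ :=
  Fintype.sum_eq_add _ _ (fun e => ht.ne (congrArg Subtype.val e).symm) fun v hv =>
    ((ht.mem_zpowers_iff.1 v.2).elim (fun e => hv.1 (Subtype.ext e))
      fun e => hv.2 (Subtype.ext e)).elim

/-- If `χ(a t) = χ(a)` for `a ∈ A#` then `2 |A|` divides `χ(1) - χ(t)`. -/
theorem exists_sub_eq {χ : G → ℂ} (hχ : IsCharacter G χ) {t : G} (ht : Inv t) {A : Subgroup G}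
    (hA : A ≤ 𝐂[t]) (h : ∀ a ∈ A, a ≠ 1 → χ (a * t) = χ a) :
    ∃ n : ℕ, χ 1 - χ t = 2 * Nat.card A * n := by
  classical
  have := Fintype.ofFinite A
  have := Fintype.ofFinite (zpowers t)
  have hc : ∀ a ∈ A, ∀ v ∈ zpowers t, a * v = v * a := fun a ha v hv =>
    (zpowers_le.2 (le_cent1_iff.1 hA) hv : v ∈ 𝐂(A)) a ha
  obtain ⟨l, hl⟩ := exists_units_hom_ne_one_of_comm (g := (⟨t, mem_zpowers t⟩ : zpowers t))
    fun e => ht.ne (congrArg Subtype.val e)
  have h1 : (l ⟨t, mem_zpowers t⟩ : ℂ) = -1 := (mul_self_eq_one_iff.1 (by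
    rw [← Units.val_mul, ← map_mul, show (⟨t, mem_zpowers t⟩ * ⟨t, mem_zpowers t⟩ : zpowers t) = 1
      from Subtype.ext ht.sq]; simp)).resolve_left fun e => hl (Units.ext e)
  obtain ⟨n, hn⟩ := (isCharacter_slice (hχ.comp (mulHomOfCommute hc))
    (isCharacter_units_hom l)).exists_nat_ip isCharacter_one
  simp only [ip_def, sum_zpowers_inv ht, h1, mulHomOfCommute_apply, Nat.card_zpowers,
    ht.orderOf] at hn
  rw [Finset.sum_eq_single 1 (fun a _ ha => by simp [h a a.2 (by simpa using ha)]) (by simp),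
    inv_mul_eq_iff_eq_mul₀ card_cast_ne_zero] at hn
  refine ⟨n, ?_⟩
  simp only [coe_one, map_one, map_neg, one_mul, mul_one, Units.val_one, Nat.cast_ofNat] at hn
  linear_combination 2 * hn

section Dih
variable {S : Subgroup G} {σ τ t : G} {k : ℕ} (D : DihSyl S σ τ t k) (hσ : σ ∈ 𝐂(Ut t))
include hσ

theorem comm_σ : ∀ u ∈ zpowers σ, ∀ w ∈ Ut t, u * w = w * u := fun _ hu w hw =>
  ((zpowers_le.2 hσ hu : _ ∈ 𝐂(Ut t)) w hw).symm

include D

theorem J_mem_of_mul {u w : G} (hu : u ∈ zpowers σ) (h1 : u ≠ 1) (hw : w ∈ Ut t) :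
    t ∈ zpowers (u * w) := by
  have h2 : (u * w) ^ Nat.card (Ut t) = u ^ Nat.card (Ut t) := by
    rw [Commute.mul_pow (comm_σ hσ u hu w hw),
      orderOf_dvd_iff_pow_eq_one.1 ((Ut t).orderOf_dvd_natCard hw), mul_one]
  refine zpowers_le.2 (h2 ▸ npow_mem_zpowers _ _) (D.J_mem_zpowers (pow_mem hu _) fun e => ?_)
  exact odd_Od _ (((D.isPElt (D.le hu)).dvd_orderOf h1).trans (orderOf_dvd_of_pow_eq_one e))

theorem sum_T_le [Fintype G] [Fintype (zpowers σ)] [Fintype (Ut t)] [DecidableEq (zpowers σ)]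
    {θ : G → ℂ} (hθ : IsClassFunction G θ) :
    𝐂[t].index * ∑ x : zpowers σ × Ut t with x.1 ≠ 1, ‖θ (x.1 * x.2)‖ ^ 2 + ‖θ 1‖ ^ 2 ≤
      ∑ g, ‖θ g‖ ^ 2 := by
  classical
  let T : Set G := {c | ∃ u ∈ zpowers σ, u ≠ 1 ∧ ∃ w ∈ Ut t, c = u * w}
  have h1 := sum_clSupp (A := T) (L := 𝐂[t]) (F := fun g => ‖θ g‖ ^ 2) ?_ ?_ fun g x => by rw [hθ]
  · have h2 : ∑ x : zpowers σ × Ut t with x.1 ≠ 1, ‖θ (x.1 * x.2)‖ ^ 2 =
        ∑ a with a ∈ T, ‖θ a‖ ^ 2 := by
      refine Finset.sum_nbij (mulHomOfCommute (comm_σ hσ)) (fun x hx => ?_)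
        (mulHomOfCommute_injective _ (disjoint_iff.1
          (D.sdp.disj.symm.mono_left D.le))).injOn (fun a ha => ?_) fun _ _ => rfl
      · exact Finset.mem_filter.2 ⟨Finset.mem_univ _, _, x.1.2,
          by simpa using (Finset.mem_filter.1 hx).2, _, x.2.2, rfl⟩
      · obtain ⟨u, hu, u1, w, hw, rfl⟩ := (Finset.mem_filter.1 ha).2
        exact ⟨(⟨u, hu⟩, ⟨w, hw⟩), by simpa using u1, rfl⟩
    rw [h2, ← nsmul_eq_mul, ← h1, ← Finset.sum_erase_add _ _ (Finset.mem_univ (1 : G)),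
      add_le_add_iff_right]
    refine Finset.sum_le_sum_of_subset_of_nonneg (fun g hg => Finset.mem_erase.2
      ⟨?_, Finset.mem_univ _⟩) fun _ _ _ => by positivity
    obtain ⟨_, ⟨u, hu, u1, w, hw, rfl⟩, x, -, rfl⟩ := (Finset.mem_filter.1 hg).2
    refine mt conj_eq_one_iff.1 fun e => D.J_ne_one ?_
    simpa [e] using J_mem_of_mul D hσ hu u1 hw
  · rintro g hg _ ⟨u, hu, u1, w, hw, rfl⟩
    refine ⟨g * u * g⁻¹, ?_, mt conj_eq_one_iff.1 u1, _,
      conj_mem_of_mem_normalizer (norm_Ut t hg) hw, (conj_mul ..).symm⟩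
    obtain ⟨v, hv, y, hy, rfl⟩ := (mem_sup_of_le_normalizer_left D.sdp.norm).1 (D.sdp.sup ▸ hg)
    have h2 : y * u * y⁻¹ ∈ zpowers σ := by
      by_cases h : y ∈ zpowers σ
      · exact mul_mem (mul_mem h hu) (inv_mem h)
      · exact D.conj_of_not_mem hy h hu ▸ inv_mem hu
    rwa [show v * y * u * (v * y)⁻¹ = v * (y * u * y⁻¹) * v⁻¹ by group, ← comm_σ hσ _ h2 v hv,
      mul_inv_cancel_right]
  · rintro g _ ⟨u, hu, u1, w, hw, rfl⟩ ⟨u', hu', u1', w', hw', e⟩
    obtain ⟨n, hn⟩ := mem_zpowers_iff.1 (J_mem_of_mul D hσ hu u1 hw)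
    obtain ⟨m, hm⟩ := mem_zpowers_iff.1 (J_mem_of_mul D hσ hu' u1' hw')
    have h2 : g * t * g⁻¹ ∈ zpowers (u' * w') := by
      rw [← hn, ← conj_zpow, e]; exact zpow_mem_zpowers _ _
    have h3 : zpowers (g * t * g⁻¹) = zpowers t :=
      eq_of_card_eq_of_isCyclic (zpowers_le.2 h2) (zpowers_le.2 ⟨m, hm⟩)
        (by rw [Nat.card_zpowers, Nat.card_zpowers, GT.orderOf_conj'])
    exact mem_cent1.2 (mul_inv_eq_iff_eq_mul.1 ((D.inv_J.mem_zpowers_iff.1
      (h3 ▸ mem_zpowers _)).resolve_left (D.inv_J.conj g).ne))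

theorem coef_bound {Θ Δ : G → ℂ} (hΘ : IsGeneralizedCharacter G Θ) (hΔ : IsClassFunction G Δ)
    {c N : ℕ} (h : ∀ g, 2 ∣ orderOf g → Δ g = c * Θ g) (hN : ip Δ Δ = N) (h1 : Δ 1 ≠ 0) :
    ∃ d : IrrCharacter (Ut t) → ℤ, (∀ β, ip (fun w : Ut t => Θ (t * w)) β.1 = d β) ∧
      c ^ 2 * ∑ β, |d β| < 4 * N := by
  classical
  have := Fintype.ofFinite G
  obtain ⟨d, hd, h2⟩ := exists_coef (hΘ.comp (mulHomOfCommute (comm_σ hσ))) (t := ⟨t, D.J_mem⟩)
    (Subtype.ext D.J_sq) fun e => D.J_ne_one (congrArg Subtype.val e)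
  refine ⟨d, hd, ?_⟩
  have h3 := sum_T_le D hσ hΔ
  rw [Finset.sum_congr rfl (g := fun x => c ^ 2 * ‖Θ (x.1 * x.2)‖ ^ 2) fun x hx => by
    rw [h _ (D.ord_J ▸ orderOf_dvd_of_mem_zpowers (J_mem_of_mul D hσ x.1.2
      (by simpa using (Finset.mem_filter.1 hx).2) x.2.2)), norm_mul, mul_pow, Complex.norm_natCast],
    ← Finset.mul_sum] at h3
  have h4 : ∑ g, ‖Δ g‖ ^ 2 = 𝐂[t].index * (Nat.card (Ut t) * (Nat.card (zpowers σ) * 2)) * N := by
    rw [ip_self_eq] at hN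
    have h5 : (Nat.card G : ℝ)⁻¹ * ∑ g, ‖Δ g‖ ^ 2 = N := by exact_mod_cast hN
    rw [← h5, ← 𝐂[t].index_mul_card, D.card_C, D.card_S, pow_succ]
    have : (𝐂[t].index : ℝ) ≠ 0 := Nat.cast_ne_zero.2 index_ne_zero_of_finite
    have : (Nat.card (Ut t) : ℝ) ≠ 0 := Nat.cast_ne_zero.2 Nat.card_pos.ne'
    push_cast
    field_simp
    ring
  have h5 : 0 < ‖Δ 1‖ ^ 2 := by positivity
  have h6 : (0 : ℝ) < 𝐂[t].index := Nat.cast_pos.2 (Nat.pos_of_ne_zero index_ne_zero_of_finite)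
  have h7 : (0 : ℝ) < Nat.card (zpowers σ) * Nat.card (Ut t) :=
    mul_pos (Nat.cast_pos.2 Nat.card_pos) (Nat.cast_pos.2 Nat.card_pos)
  simp only [mulHomOfCommute_apply] at h2
  have h8 := lt_of_mul_lt_mul_left ((lt_add_of_pos_right _ h5).trans_le
    (h3.trans_eq (h4.trans (mul_assoc ..)))) h6.le
  have h9 := mul_le_mul_of_nonneg_left h2 (sq_nonneg (c : ℝ))
  have : (c ^ 2 * (∑ β, |d β| : ℤ) : ℝ) < 4 * N := lt_of_mul_lt_mul_left (by nlinarith) h7.le
  exact_mod_cast this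

theorem abs_le_three {M : Ideal AlgInt} (hM : IsPModular 2 M) {χ : IrrCharacter G}
    (hχ : χ ∈ principalBlock M G) {a : ℤ} (ha : χ.1 t = a) : |a| ≤ 3 := by
  obtain ⟨d, hd, h⟩ := coef_bound D hσ (irr_isCharacter χ).isGen (irr_isClassFunction χ) (c := 1)
    (N := 1) (by simp) (by simp [ip_irr_self]) (irr_apply_one_ne_zero χ)
  have h1 := hd (irrOne _)
  rw [funext fun w : Ut t => principal_apply_mul_of_nilpotent hM rfl (D.isPElt (D.le D.J_mem))
    D.nilp hχ (s := ⟨w, Ut_le t w.2⟩) (by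
      rw [orderOf_mk]; exact not_two_dvd.2 (odd_of_mem_Od w.2)), irrOne_val, ip_const_one, ha] at h1
  have h2 := Finset.single_le_sum (f := fun β => |d β|) (fun _ _ => abs_nonneg _)
    (Finset.mem_univ (irrOne _))
  rw [show a = _ by exact_mod_cast h1]
  push_cast at h
  omega

theorem abs_le_relIndex {Θ Δ : G → ℂ} (hΘ : IsGeneralizedCharacter G Θ) (hΔ : IsClassFunction G Δ)
    (h : ∀ g, 2 ∣ orderOf g → Δ g = 2 * Θ g) (hN : ip Δ Δ = 2) (h1 : Δ 1 ≠ 0)
    {K F : Subgroup G} (hK : K ≤ Zc (Ut t)) (hK' : InvBy τ K) (hF' : ⁅F, F⁆ ≤ K)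
    {a : ℤ} (ha : Θ t = a) : |a| ≤ F.relIndex (Ut t) := by
  classical
  obtain ⟨d, hd, h2⟩ := coef_bound D hσ hΘ hΔ (c := 2) (N := 2) h hN h1
  have h3 : ∀ w : Ut t, Θ (t * w) = ∑ β, d β * β.1 w := fun w => by
    have := (isClassFunction_slice' (hΘ.comp (mulHomOfCommute (comm_σ hσ))).isClassFunction
      ⟨t, D.J_mem⟩).apply_eq_sum_irr w
    simpa only [mulHomOfCommute_apply, hd] using this
  by_cases h4 : ∀ β, d β = 0
  · have := h3 1
    simp only [h4, coe_one, mul_one, ha, Int.cast_zero, zero_mul, Finset.sum_const_zero,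
      Int.cast_eq_zero] at this
    simp [this]
  obtain ⟨β, hβ⟩ := not_forall.1 h4
  have h5 := abs_pos.2 hβ
  have h6 := Finset.sum_nonneg (s := Finset.univ.erase β) fun γ _ => abs_nonneg (d γ)
  rw [← Finset.sum_erase_add _ _ (Finset.mem_univ β)] at h2
  push_cast at h2
  have h7 : ∀ w : Ut t, Θ (t * w) = d β * β.1 w := fun w => by
    rw [h3, Finset.sum_eq_single β (fun γ _ e => ?_) (by simp)]
    rw [abs_eq_zero.1 ((Finset.sum_eq_zero_iff_of_nonneg fun γ _ => abs_nonneg (d γ)).1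
      (show ∑ γ ∈ Finset.univ.erase β, |d γ| = 0 by omega) γ (by simpa using e))]
    simp
  have h8 : ∀ x : Ut t, x.1 ∈ K → x ∈ ker β.1 := fun x hx => by
    have hz : x ∈ center (Ut t) := mem_center_iff.2 fun y => Subtype.ext ((hK hx).2 y y.2)
    have e1 : β.1 x⁻¹ = β.1 x := by
      refine mul_left_cancel₀ (Int.cast_ne_zero.2 hβ) ?_
      rw [← h7, ← h7, coe_inv, ← hK' x hx, ← hΘ.isClassFunction (t * x) τ, ← conj_mul,
        D.τ_conj D.J_mem, D.J_inv]
    have e2 := BT.irr_apply_central_mul β hz x⁻¹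
    obtain ⟨n, hn⟩ := odd_of_mem_Od x.2
    have e3 := irr_central_pow_eq_one β hz (pow_orderOf_eq_one x)
    have e4 := irr_apply_one_ne_zero β
    rw [mul_inv_cancel, e1] at e2
    rw [← orderOf_coe, hn, pow_succ, pow_mul, show (β.1 x / β.1 1) ^ 2 = 1 by
      field_simp at e2 ⊢; exact e2.symm, one_pow, one_mul, div_eq_one_iff_eq e4] at e3
    exact (irr_mem_ker_iff β).2 e3
  obtain ⟨φ, hφ⟩ := exists_irr_liesUnder (F.subgroupOf (Ut t)) β
  have h9 := hφ.degree_le_index_mul (irr_isCharacter φ)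
  rw [(irr_commutator_le_ker_iff φ).1 (le_trans ?_
    (((irr_isCharacter β).res _).ker_le_of_ip_ne_zero φ hφ)), mul_one] at h9
  · have := h7 1
    rw [coe_one, mul_one, ha, irr_apply_one] at this
    rw [show a = d β * charDegree β.1 by exact_mod_cast this, abs_mul, show |d β| = 1 by omega,
      one_mul, Nat.abs_cast]
    exact_mod_cast h9
  · rw [(irr_isCharacter β).ker_res]
    refine commutator_le.2 fun x _ y _ => h8 _ (hF' ?_)
    exact commutator_mem_commutator x.2 y.2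

end Dih

end GW
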