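import Cfsg.Agent.Lib.GW.ChB1

/-!
# The character argument for case `β3` of the Gorenstein–Walter theorem
-/

set_option autoImplicit false
set_option linter.unusedSectionVars false

namespace GW

open Cfsg CT GT BT FT Subgroup
open scoped Pointwise ComplexConjugate commutatorElement

variable {G : Type*} [Group G] [Finite G]

/-- `η = 1 ± χ₁ ± χ₂ ± χ₃` -/
structure Quad (η : G → ℂ) (χ₁ χ₂ χ₃ : IrrCharacter G) (a₁ a₂ a₃ : ℤ) : Prop where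
  eq : η = (irrOne G).1 + ((a₁ : ℂ) • χ₁.1 + (a₂ : ℂ) • χ₂.1 + (a₃ : ℂ) • χ₃.1)
  s₁ : a₁ = 1 ∨ a₁ = -1
  s₂ : a₂ = 1 ∨ a₂ = -1
  s₃ : a₃ = 1 ∨ a₃ = -1
  n₁ : χ₁ ≠ irrOne G
  n₂ : χ₂ ≠ irrOne G
  n₃ : χ₃ ≠ irrOne G
  d₁ : χ₁ ≠ χ₂
  d₂ : χ₁ ≠ χ₃
  d₃ : χ₂ ≠ χ₃

theorem exists_quad {η : G → ℂ} (hη : IsGeneralizedCharacter G η) (h4 : ip η η = 4)
    (h1 : ip η (irrOne G).1 = 1) : ∃ χ₁ χ₂ χ₃ a₁ a₂ a₃, Quad η χ₁ χ₂ χ₃ a₁ a₂ a₃ := by
  classical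
  choose a ha using (isGen_iff_ip_int hη.isClassFunction).1 hη
  have h2 : a (irrOne G) = 1 := by exact_mod_cast (ha _).symm.trans h1
  have h3 : ∑ χ, a χ * a χ = 4 := by
    rw [ip_eq_sum_irr hη.isClassFunction hη.isClassFunction] at h4
    simp only [ha, map_intCast] at h4
    exact_mod_cast h4
  set s := (Finset.univ.erase (irrOne G)).filter (a · ≠ 0) with hs
  have h5 : ∑ χ ∈ s, a χ * a χ = (3 : ℕ) := by
    rw [← Finset.sum_erase_add _ _ (Finset.mem_univ (irrOne G)), h2] at h3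
    rw [hs, Finset.sum_filter_of_ne (p := (a · ≠ 0)) fun x _ hx h => hx (by simp [h])]
    omega
  obtain ⟨h6, h7⟩ := sign_of_sum_mul_self (s := s) (fun χ hχ => (Finset.mem_filter.1 hχ).2) h5 (by
    rcases s.eq_empty_or_nonempty with e | e
    · simp [e] at h5
    · have := e.card_pos; omega)
  obtain ⟨x, y, z, h12, h13, h23, e⟩ := Finset.card_eq_three.1 h6
  have h8 : ∀ χ ∈ s, χ ≠ irrOne G := fun χ hχ => (Finset.mem_erase.1 (Finset.mem_filter.1 hχ).1).1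
  refine ⟨x, y, z, a x, a y, a z, ?_, h7 x (by simp [e]), h7 y (by simp [e]), h7 z (by simp [e]),
    h8 x (by simp [e]), h8 y (by simp [e]), h8 z (by simp [e]), h12, h13, h23⟩
  rw [hη.isClassFunction.eq_sum_irr, ← Finset.sum_erase_add _ _ (Finset.mem_univ (irrOne G)), h1,
    one_smul, add_comm, ← Finset.sum_filter_of_ne (p := (a · ≠ 0)) fun x _ hx h => hx (by
      simp [ha, h]), ← hs, e, Finset.sum_insert (by simp [h12, h13]), Finset.sum_pair h23, ha, ha, ha, add_assoc]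

namespace Quad
variable {η : G → ℂ} {χ₁ χ₂ χ₃ : IrrCharacter G} {a₁ a₂ a₃ : ℤ} (Q : Quad η χ₁ χ₂ χ₃ a₁ a₂ a₃)
include Q

theorem swap : Quad η χ₁ χ₃ χ₂ a₁ a₃ a₂ :=
  ⟨Q.eq.trans (by rw [add_right_comm]), Q.s₁, Q.s₃, Q.s₂, Q.n₁, Q.n₃, Q.n₂, Q.d₂, Q.d₁, Q.d₃.symm⟩

theorem swap' : Quad η χ₂ χ₁ χ₃ a₂ a₁ a₃ :=
  ⟨Q.eq.trans (by rw [add_comm (_ • χ₁.1)]), Q.s₂, Q.s₁, Q.s₃, Q.n₂, Q.n₁, Q.n₃, Q.d₁.symm, Q.d₃,
    Q.d₂⟩

theorem val (x : G) : η x = 1 + (a₁ * χ₁.1 x + a₂ * χ₂.1 x + a₃ * χ₃.1 x) := by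
  rw [Q.eq]; rfl

open Classical in
theorem part {p : ℕ} [Fact p.Prime] {M : Ideal AlgInt} (hM : IsPModular p M) {x : G}
    (h : ∀ y, η y ≠ 0 → bker (principalBlock M G) x y = 0) :
    1 + ((if χ₁ ∈ principalBlock M G then a₁ * χ₁.1 x else 0) +
      (if χ₂ ∈ principalBlock M G then a₂ * χ₂.1 x else 0) +
      if χ₃ ∈ principalBlock M G then a₃ * χ₃.1 x else 0) = 0 := by
  refine Eq.trans ?_ (blockPart_eq_zero h)
  rw [Q.eq]
  simp only [blockPart_add, blockPart_smul, blockPart_irr, if_pos (irrOne_mem_principalBlock hM),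
    Pi.add_apply, Pi.smul_apply, smul_eq_mul, ite_apply, Pi.zero_apply, mul_ite, mul_zero,
    irrOne_apply]

theorem cl {t : G} (ht : t * t = 1) (h : ip η (clMul t t) = 0) :
    1 + (a₁ * (χ₁.1 t ^ 2 / χ₁.1 1) + a₂ * (χ₂.1 t ^ 2 / χ₂.1 1) + a₃ * (χ₃.1 t ^ 2 / χ₃.1 1)) =
      0 := by
  rw [Q.eq] at h
  simp only [ip_add_left, ip_smul_left, ip_irr_clMul ht, irrOne_apply] at h
  refine mul_left_cancel₀ (div_ne_zero (pow_ne_zero 2 (Nat.cast_ne_zero.2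
    (index_ne_zero_of_finite (H := 𝐂[t])))) (card_cast_ne_zero (G := G))) ?_
  linear_combination h

theorem mem (hG : commutator G = ⊤) {p : ℕ} [Fact p.Prime] {M : Ideal AlgInt} (hM : IsPModular p M)
    (h : ∀ y, ¬ p ∣ orderOf y → η y = 0) : χ₁ ∈ principalBlock M G := by
  by_contra h1
  have h2 := Q.part hM (x := 1) fun y hy => bker_eq_zero_of_regular hM isPBlock_principalBlock
    not_dvd_orderOf_one (not_not.1 (mt (h y) hy))
  have h3 := (h 1 not_dvd_orderOf_one).symm.trans (Q.val 1)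
  have h4 := fun χ => mt (commutator_eq_top_iff_forall_linear.1 hG χ)
  have := irr_degree_pos χ₁
  have := h4 _ Q.n₂
  have := h4 _ Q.n₃
  simp only [irr_apply_one, if_neg h1] at h2 h3
  rcases Q.s₁ with rfl | rfl <;> rcases Q.s₂ with rfl | rfl <;> rcases Q.s₃ with rfl | rfl <;>
    split_ifs at h2 <;> norm_cast at h2 h3 <;> omega

variable {S : Subgroup G} {σ τ t : G} {k : ℕ} (D : DihSyl S σ τ t k) (hσ : σ ∈ 𝐂(Ut t))
  (hG : commutator G = ⊤) (h0 : η 1 = 0) (h2 : ∀ y, 2 ∣ orderOf y → η y = 0)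
  (hc : ip η (clMul t t) = 0) {K F : Subgroup G} (hK : K ≤ Zc (Ut t)) (hK' : InvBy τ K)
  (hF : ⁅F, F⁆ ≤ K) {M : Ideal AlgInt} (hM : IsPModular 2 M) {b : ℤ} (hb : χ₁.1 t = b)
include D hσ hG h0 h2 hc hK hK' hF hM hb

theorem pair (m₁ : χ₁ ∉ principalBlock M G) (m₂ : χ₂ ∉ principalBlock M G)
    (m₃ : χ₃ ∈ principalBlock M G) : |b| ≤ F.relIndex (Ut t) := by
  have h3 : ∀ x, 2 ∣ orderOf x → 1 + a₃ * χ₃.1 x = 0 ∧ a₁ * χ₁.1 x + a₂ * χ₂.1 x = 0 :=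
    fun x hx => by
    have := Q.part hM (x := x) fun y hy => bker_eq_zero_of_regular' hM isPBlock_principalBlock
      hx (mt (h2 y) hy)
    rw [if_neg m₁, if_neg m₂, if_pos m₃, add_zero, zero_add] at this
    exact ⟨this, by linear_combination (h2 x hx) - Q.val x - this⟩
  have h4 := abs_le_relIndex D hσ ((irr_isCharacter χ₁).isGen.zsmul a₁)
    (((irr_isClassFunction χ₁).smul a₁).sub ((irr_isClassFunction χ₂).smul a₂))
    (fun x hx => by simp only [Pi.sub_apply, Pi.smul_apply, smul_eq_mul]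
                    linear_combination -(h3 x hx).2)
    (by simp only [ip_sub_left, ip_sub_right, ip_smul_left, ip_smul_right, ip_irr_self,
          ip_irr_ne Q.d₁, ip_irr_ne Q.d₁.symm, map_intCast]
        rcases Q.s₁ with rfl | rfl <;> rcases Q.s₂ with rfl | rfl <;> norm_num)
    (fun e => ?_) hK hK' hF (a := a₁ * b) (by simp [hb])
  · rcases Q.s₁ with rfl | rfl <;> simpa using h4
  obtain ⟨h5, h6⟩ := h3 t D.ord_J.symm.dvd
  have h7 := Q.cl D.J_sq hc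
  have h8 := h0.symm.trans (Q.val 1)
  have h9 := mt (commutator_eq_top_iff_forall_linear.1 hG _) Q.n₃
  have h10 := irr_apply_one_ne_zero χ₁
  have h11 := irr_apply_one_ne_zero χ₃
  simp only [Pi.sub_apply, Pi.smul_apply, smul_eq_mul, sub_eq_zero] at e
  have s₁ : (a₁ : ℂ) ^ 2 = 1 := by rcases Q.s₁ with rfl | rfl <;> simp
  have s₂ : (a₂ : ℂ) ^ 2 = 1 := by rcases Q.s₂ with rfl | rfl <;> simp
  have s₃ : (a₃ : ℂ) ^ 2 = 1 := by rcases Q.s₃ with rfl | rfl <;> simp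
  have e1 : χ₂.1 1 = a₁ * a₂ * χ₁.1 1 := by linear_combination -a₂ * e - χ₂.1 1 * s₂
  have e2 : χ₂.1 t = -a₁ * a₂ * b := by linear_combination a₂ * h6 - χ₂.1 t * s₂ - a₁ * a₂ * hb
  have e3 : χ₃.1 t = -a₃ := by linear_combination a₃ * h5 - χ₃.1 t * s₃
  have a1 : (a₁ : ℂ) ≠ 0 := fun h => by simp [h] at s₁
  have a2 : (a₂ : ℂ) ≠ 0 := fun h => by simp [h] at s₂
  rw [e1, e2, e3, hb, show a₂ * ((-a₁ * a₂ * b) ^ 2 / (a₁ * a₂ * χ₁.1 1)) = a₁ * (b ^ 2 / χ₁.1 1) by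
    field_simp; linear_combination b ^ 2 * s₂, neg_sq, s₃] at h7
  field_simp at h7
  have e4 : (1 : ℂ) = χ₃.1 1 * (-a₃ + 2 * a₁ * a₃ * χ₁.1 1 + 4 * a₃ * b ^ 2) := by
    linear_combination -h8 + e + 2 * a₁ * χ₁.1 1 * s₃ - 2 * a₁ * a₃ * h7 +
      4 * a₃ * b ^ 2 * χ₃.1 1 * s₁
  rw [irr_apply_one, irr_apply_one] at e4
  have e5 : (charDegree χ₃.1 : ℤ) ∣ 1 := ⟨_, by exact_mod_cast e4⟩
  exact h9 (by exact_mod_cast Int.eq_one_of_dvd_one (Nat.cast_nonneg _) e5)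

theorem abs_le : |b| ≤ 3 ∨ |b| ≤ F.relIndex (Ut t) := by
  by_cases m₁ : χ₁ ∈ principalBlock M G
  · exact Or.inl (abs_le_three D hσ hM m₁ hb)
  have h3 := Q.part hM (x := t) fun y hy => bker_eq_zero_of_regular' hM isPBlock_principalBlock
    D.ord_J.symm.dvd (mt (h2 y) hy)
  by_cases m₂ : χ₂ ∈ principalBlock M G <;> by_cases m₃ : χ₃ ∈ principalBlock M G
  · have h4 := (h2 t D.ord_J.symm.dvd).symm.trans (Q.val t)
    rw [if_neg m₁, if_pos m₂, if_pos m₃] at h3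
    have h5 : (a₁ * b : ℂ) = 0 := by linear_combination -h4 - h3 - a₁ * hb
    norm_cast at h5
    rcases Q.s₁ with rfl | rfl <;> simp_all
  · exact Or.inr (Q.swap.pair D hσ hG h0 h2 hc hK hK' hF hM hb m₁ m₃ m₂)
  · exact Or.inr (Q.pair D hσ hG h0 h2 hc hK hK' hF hM hb m₁ m₂ m₃)
  · simp [m₁, m₂, m₃] at h3

end Quad

theorem exists_eta {p : ℕ} [hp : Fact p.Prime] (hp2 : p ≠ 2) {Y E : Subgroup G} (hY : Nat.card Y = p)
    (hM : 𝐍(Y) = Y ⊔ E) (hE : E ≤ 𝐂(Y)) (hd : Disjoint Y E) (St : IrrCharacter E) {ε : ℤ}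
    (hε : ε = 1 ∨ ε = -1) (h1 : St ≠ irrOne E)
    (hSt : ∀ x : E, 2 ∣ orderOf x ∨ p ∣ orderOf x → St.1 x = ε) {t : G} (ht : t * t = 1) :
    ∃ η, IsGeneralizedCharacter G η ∧ ip η η = 4 ∧ ip η (irrOne G).1 = 1 ∧
      (∀ y, 2 ∣ orderOf y ∨ ¬ p ∣ orderOf y → η y = 0) ∧ ip η (clMul t t) = 0 := by
  classical
  have := Fintype.ofFinite (Y × E)
  have hc : ∀ y ∈ Y, ∀ e ∈ E, y * e = e * y := fun y hy e he => hE he y hy
  haveI := isCyclic_of_prime_card hY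
  haveI : IsMulCommutative Y := IsCyclic.isMulCommutative
  haveI := Finite.one_lt_card_iff_nontrivial.1 (hY ▸ hp.out.one_lt)
  obtain ⟨y₀, hy₀⟩ := exists_ne (1 : Y)
  obtain ⟨γ, hγ⟩ := exists_units_hom_ne_one_of_comm hy₀
  have hγ1 : linChar γ ≠ irrOne Y := mt linChar_eq_irrOne_iff.1 (by rintro rfl; exact hγ rfl)
  set θ := prodFun ((irrOne Y).1 - (linChar γ).1) ((irrOne E).1 - (ε : ℂ) • St.1) with hθ
  set f := mulHomOfCommute hc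
  have hf : Function.Injective f := mulHomOfCommute_injective hc (disjoint_iff.1 hd)
  have hg : IsGeneralizedCharacter _ θ := ((irr_isCharacter _).isGen.sub
    (irr_isCharacter _).isGen).prodFun ((irr_isCharacter _).isGen.sub
      ((irr_isCharacter _).isGen.zsmul ε))
  have hs : ∀ x, θ x ≠ 0 → orderOf x.1 = p ∧ ¬ 2 ∣ orderOf x.2 ∧ ¬ p ∣ orderOf x.2 := fun x hx => by
    obtain ⟨h2, h3⟩ := mul_ne_zero_iff.1 hx
    refine ⟨((hp.out.eq_one_or_self_of_dvd _ (hY ▸ orderOf_dvd_natCard x.1)).resolve_left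
      fun e => h2 ?_), not_or.1 fun e => h3 ?_⟩
    · simp [orderOf_eq_one_iff.1 e, linChar_apply]
    · rcases hε with rfl | rfl <;> simp [hSt _ e]
  have hpow : ∀ x (n : ℕ), θ x ≠ 0 → orderOf x.2 ∣ n → ¬ p ∣ n → f x ^ n ∈ Y ∧ f x ^ n ≠ 1 :=
    fun x n hx h2 h3 => by
    have e : f x ^ n = (x.1 ^ n : Y) := by
      rw [← map_pow, mulHomOfCommute_apply, Prod.pow_snd, orderOf_dvd_iff_pow_eq_one.1 h2]
      simp
    rw [e]
    exact ⟨(x.1 ^ n).2, fun h => h3 ((hs x hx).1 ▸ orderOf_dvd_of_pow_eq_one (Subtype.ext h))⟩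
  have hN : ∀ g, ∀ y ∈ Y, y ≠ 1 → g * y * g⁻¹ ∈ Y → g ∈ 𝐍(Y) := fun g y hy y1 h =>
    mem_normalizer_of_conj_mem fun x hx => by
      rw [← SAD.zpowers_eq_of_card_prime (hY ▸ hp.out) hy y1] at hx
      obtain ⟨n, rfl⟩ := mem_zpowers_iff.1 hx
      rw [← conj_zpow]
      exact zpow_mem h n
  have hval : ∀ x, θ x ≠ 0 → indHom f θ (f x) = θ x := fun x hx =>
    indHom_apply_of_TI hf hg.isClassFunction x fun g y hy e => by
      have h2 := mt hp.out.dvd_mul.1 (not_or.2 ⟨(hs x hx).2.2, (hs y hy).2.2⟩)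
      have h3 := hpow x _ hx (dvd_mul_right _ _) h2
      have h4 := inv_mem (hN g⁻¹ _ h3.1 h3.2 (by
        rw [← conj_pow, inv_inv, ← e]; exact (hpow y _ hy (dvd_mul_left _ _) h2).1))
      rw [inv_inv, hM] at h4
      obtain ⟨a, ha, b, hb, rfl⟩ :=
        (mem_sup_of_le_normalizer_left (hE.trans (centralizer_le_normalizer _))).1 h4
      exact ⟨(⟨a, ha⟩, ⟨b, hb⟩), rfl⟩
  have hip : ∀ {F : G → ℂ} {φ : Y × E → ℂ}, IsClassFunction G F → (∀ x, θ x ≠ 0 → F (f x) = φ x) →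
      ip (indHom f θ) F = ip θ φ := fun hF h => by
    rw [ip_indHom_left _ _ hF, ip_def, ip_def]
    refine congrArg _ (Finset.sum_congr rfl fun x _ => ?_)
    by_cases hx : θ x = 0
    · simp [hx]
    · rw [h x hx]
  refine ⟨indHom f θ, hg.indHom f, ?_, ?_, fun y hy => indHom_apply_eq_zero fun x hx =>
    by_contra fun h => ?_, ?_⟩
  · rw [hip (isClassFunction_indHom _ _) hval, hθ, ip_prodFun]
    simp only [ip_sub_left, ip_sub_right, ip_smul_left, ip_smul_right, ip_irr_self, ip_irr_ne h1,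
      ip_irr_ne h1.symm, ip_irr_ne hγ1, ip_irr_ne hγ1.symm, map_intCast]
    rcases hε with rfl | rfl <;> norm_num
  · rw [hip (φ := prodFun (irrOne Y).1 (irrOne E).1) (irr_isClassFunction _)
      fun x _ => by simp [prodFun_apply], hθ, ip_prodFun]
    simp [ip_sub_left, ip_smul_left, ip_irr_self, ip_irr_ne h1, ip_irr_ne hγ1]
  · obtain ⟨h2, h3, h4⟩ := hs x h
    rw [orderOf_eq_of_isConj hx, orderOf_injective f hf, Prod.orderOf, h2] at hy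
    refine hy.elim (fun e => ?_) fun e => e (Nat.dvd_lcm_left _ _)
    exact (Nat.prime_two.dvd_mul.1 (e.trans (Nat.lcm_dvd_mul _ _))).elim
      (fun e => hp2 ((Nat.prime_dvd_prime_iff_eq Nat.prime_two hp.out).1 e).symm) h3
  · rw [hip (φ := 0) (isClassFunction_clMul t t) fun x hx => ?_, ip_zero_right]
    rw [clMul_apply, Pi.zero_apply, Nat.cast_eq_zero]
    refine Nat.card_eq_zero.2 (Or.inl ⟨fun ⟨⟨a, b⟩, ha, hb, e⟩ => ?_⟩)
    have sq : ∀ {a : G}, IsConj t a → a * a = 1 := fun h => by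
      obtain ⟨g, rfl⟩ := isConj_iff.1 h
      rw [conj_mul, ht]; group
    obtain ⟨h2, h3⟩ := hpow x _ hx dvd_rfl (hs x hx).2.2
    have h4 : a * f x ^ orderOf x.2 * a⁻¹ = (f x ^ orderOf x.2)⁻¹ := by
      rw [← conj_pow, ← inv_pow, ← e, ← mul_assoc, sq ha, one_mul, mul_inv_rev,
        inv_eq_of_mul_eq_one_right (sq hb)]
    have h5 : a ∈ 𝐂(Y) := by
      refine (hM.le.trans (sup_le (comm_iff_le_cent.1 ‹_›) hE)) (hN a _ h2 h3 (h4 ▸ inv_mem h2))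
    rw [← h5 _ h2, mul_inv_cancel_right, eq_inv_iff_mul_eq_one] at h4
    exact h3 (SAD.eq_one_of_odd h4 fun h => hp2 ((Nat.prime_dvd_prime_iff_eq Nat.prime_two
      hp.out).1 (h.trans (hY ▸ Y.orderOf_dvd_natCard h2))).symm)

theorem beta3_arith {x₁ x₂ x₃ : ℕ} {a₁ a₂ a₃ b₁ b₂ b₃ : ℤ} (s₁ : a₁ = 1 ∨ a₁ = -1)
    (s₂ : a₂ = 1 ∨ a₂ = -1) (s₃ : a₃ = 1 ∨ a₃ = -1) (h₁ : 2 * b₁ ^ 2 < x₁) (h₂ : 2 * b₂ ^ 2 < x₂)
    (h₃ : 2 * b₃ ^ 2 < x₃) (h : 0 = 1 + (a₁ * x₁ + a₂ * x₂ + a₃ * x₃))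
    (h' : (1 : ℚ) + (a₁ * (b₁ ^ 2 / x₁) + a₂ * (b₂ ^ 2 / x₂) + a₃ * (b₃ ^ 2 / x₃)) = 0) : False := by
  have key : ∀ {x : ℕ} {b : ℤ}, 2 * b ^ 2 < x → 0 < x ∧ (0 : ℚ) ≤ b ^ 2 / x ∧
      (b : ℚ) ^ 2 / x < 1 / 2 := fun {x b} h => by
    have h1 : 0 < x := by zify; nlinarith [sq_nonneg b]
    refine ⟨h1, by positivity, ?_⟩
    rw [div_lt_div_iff₀ (by exact_mod_cast h1) two_pos]
    exact_mod_cast (by linarith : b ^ 2 * 2 < 1 * x)
  obtain ⟨k1, k2, k3⟩ := key h₁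
  obtain ⟨k4, k5, k6⟩ := key h₂
  obtain ⟨k7, k8, k9⟩ := key h₃
  rcases s₁ with rfl | rfl <;> rcases s₂ with rfl | rfl <;> rcases s₃ with rfl | rfl <;>
    first | omega | (push_cast at h'; linarith)

theorem Sd.beta3 (h : Sd G) {S : Subgroup G} {σ τ t : G} {k : ℕ} (D : DihSyl S σ τ t k)
    (hσ : σ ∈ 𝐂(Ut t)) {p : ℕ} [Fact p.Prime] (hp : 5 ≤ p) {Y E : Subgroup G} (hY : Nat.card Y = p)
    (hM : 𝐍(Y) = Y ⊔ E) (hE : E ≤ 𝐂(Y)) (hd : Disjoint Y E) (St : IrrCharacter E) {ε : ℤ}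
    (hε : ε = 1 ∨ ε = -1) (h1 : charDegree St.1 ≠ 1)
    (hSt : ∀ x : E, 2 ∣ orderOf x ∨ p ∣ orderOf x → St.1 x = ε)
    {K F : Subgroup G} (hK : K ≤ Zc (Ut t)) (hK' : InvBy τ K) (_hF : F ≤ Ut t) (_hn : Ut t ≤ 𝐍(F))
    (hF' : ⁅F, F⁆ ≤ K) (hr : 2 * F.relIndex (Ut t) ≤ p + 1) {A : Subgroup G} (hA : A ≤ Ut t)
    (hA' : Nat.card A = p ^ 2) (hA'' : ∀ a ∈ A, a ≠ 1 → t ∈ Op' p 𝐂[a]) : False := by
  haveI := h.simple
  obtain ⟨η, g, n4, n1, v, c⟩ := exists_eta (by omega) hY hM hE hd St hε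
    (fun e => h1 (e ▸ charDegree_irrOne)) hSt D.J_sq
  obtain ⟨M, hM⟩ := exists_isPModular Nat.prime_two
  obtain ⟨M', hM'⟩ := exists_isPModular (Fact.out : p.Prime)
  have h0 := v 1 (Or.inr not_dvd_orderOf_one)
  have key : ∀ {χ₁ χ₂ χ₃ a₁ a₂ a₃}, Quad η χ₁ χ₂ χ₃ a₁ a₂ a₃ →
      ∃ b : ℤ, χ₁.1 t = b ∧ 2 * b ^ 2 < charDegree χ₁.1 := fun {χ _ _ _ _ _} Q => by
    obtain ⟨b, hb⟩ := exists_int_apply_of_sq (irr_isCharacter χ) D.J_sq
    have h2 := Q.abs_le D hσ h.perfect h0 (fun y hy => v y (Or.inl hy)) c hK hK' hF' hM hb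
    have h3 := Q.mem h.perfect hM' fun y hy => v y (Or.inr hy)
    obtain ⟨n, hn⟩ := exists_sub_eq (irr_isCharacter χ) D.inv_J (hA.trans (Ut_le t))
      fun a ha a1 => by
        have h4 := hA'' a ha a1
        rw [Op'_eq_map] at h4
        obtain ⟨s, hs, e⟩ := h4
        have := principal_apply_mul_mul_of_mem hM' rfl (isPElt_of_mem (IsPGroup.of_card hA') ha)
          h3 (s := 1) not_dvd_orderOf_one hs
        rwa [one_mul, coe_one, mul_one, show (s : G) = t from e] at this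
    have h4 : n ≠ 0 := by
      rintro rfl
      rw [Nat.cast_zero, mul_zero, sub_eq_zero] at hn
      exact D.J_ne_one (mem_bot.1 (irr_ker_eq_bot_of_simple Q.n₁ ▸ (irr_mem_ker_iff χ).2 hn.symm))
    rw [hb, irr_apply_one, hA'] at hn
    have h5 : (charDegree χ.1 : ℤ) - b = 2 * p ^ 2 * n := by exact_mod_cast hn
    have h6 : |b| ≤ p - 1 := by omega
    have h7 : (1 : ℤ) ≤ n := by omega
    refine ⟨b, hb, ?_⟩
    rw [← sq_abs]
    nlinarith [neg_abs_le b, abs_nonneg b]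
  obtain ⟨χ₁, χ₂, χ₃, a₁, a₂, a₃, Q⟩ := exists_quad g n4 n1
  obtain ⟨b₁, e₁, h₁⟩ := key Q
  obtain ⟨b₂, e₂, h₂⟩ := key Q.swap'
  obtain ⟨b₃, e₃, h₃⟩ := key Q.swap.swap'
  have h2 := h0.symm.trans (Q.val 1)
  have h3 := Q.cl D.J_sq c
  simp only [irr_apply_one, e₁, e₂, e₃] at h2 h3
  exact beta3_arith Q.s₁ Q.s₂ Q.s₃ h₁ h₂ h₃ (by exact_mod_cast h2) (by exact_mod_cast h3)

end GW
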