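import Cfsg.Agent.Lib.GW.ChB1
import Cfsg.Agent.Lib.GW.ChA
import Cfsg.Agent.Lib.GW.A2Sa

/-!
# The configuration of `A₇`: `|O(C(t))| = 3`
-/

set_option autoImplicit false
set_option linter.unusedSectionVars false

namespace GW

open Cfsg CT GT BT FT Subgroup
open scoped Pointwise ComplexConjugate commutatorElement

variable {G : Type*} [Group G] [Finite G]

/-- the hypotheses of `Sd.card_eq_three` -/
structure C3 (S : Subgroup G) (σ τ t : G) : Prop where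
  sd : Sd G
  D : DihSyl S σ τ t 1
  cent : τ ∈ 𝐂(Ut t)
  inv : InvBy (σ * τ) (Ut t)
  norm : ∀ Y, Y ≤ Ut t → Y ≠ ⊥ → 𝐍(Y) ≤ 𝐍(Vk t τ)
  ne : Ut t ≠ ⊥

namespace C3
variable {S : Subgroup G} {σ τ t : G} (c : C3 S σ τ t)
include c

local notation "V" => Vk t τ
local notation "U" => Ut t
local notation "𝐇" => 𝐍(Vk t τ)
local notation "Z" => 𝐂(Ut t)

theorem U_le : U ≤ Z := comm_iff_le_cent.1 (isMulCommutative_of_conj_eq_inv c.inv)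

theorem V_le : V ≤ Z := c.D.kl_τ.Vk_le.2 ⟨le_cent1_iff.1 (Ut_le t), c.cent⟩

theorem Z_le : Z ≤ 𝐇 := (centralizer_le_normalizer _).trans (c.norm _ le_rfl c.ne)

theorem eq_one {u : G} (hu : u ∈ U) (h : u * u ∈ V) : u = 1 :=
  have h1 := not_two_dvd.2 (odd_of_mem_Od hu)
  SAD.eq_one_of_odd (SAD.eq_one_of_odd (c.D.kl_τ.sq h)
    (not_two_dvd.2 (odd_of_mem_Od (mul_mem hu hu)))) h1

theorem cent_V : 𝐂(V) = V ⊔ U := by
  rw [c.D.kl_τ.cent_Vk, c.sd.cent_kl c.D.kl_τ, Wt, inf_eq_left.2 (le_cent1_iff.2 c.cent)]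

theorem H_le : 𝐇 ≤ 𝐍(U) := fun g hg => mem_normalizer_of_conj_mem fun u hu =>
  c.sd.mem_Ut c.D.inv_J (cent_le_cent1 c.D.kl_τ.left_mem (conj_mem_of_mem_normalizer
    (normalizer_le_normalizer_centralizer _ hg) (c.cent_V ▸ mem_sup_right hu)))
    (by rw [GT.orderOf_conj']; exact odd_of_mem_Od hu)

theorem conj_Z {g z : G} (hg : g ∈ 𝐇) (hz : z ∈ Z) : g * z * g⁻¹ ∈ Z :=
  conj_mem_of_mem_normalizer (normalizer_le_normalizer_centralizer _ (c.H_le hg)) hz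

theorem not_cent {x u : G} (hx : InvBy x U) (hu : u ∈ U) (h : u * x = x * u) : u = 1 :=
  c.eq_one hu (eq_inv_iff_mul_eq_one.1 ((mul_inv_eq_iff_eq_mul.2 h.symm).symm.trans (hx u hu)) ▸
    one_mem _)

theorem not_mem {x : G} (hx : InvBy x U) : x ∉ Z := fun h =>
  c.ne (eq_bot_iff.2 fun u hu => c.not_cent hx hu (h u hu))

theorem idx : (V).relIndex S = 2 := by
  have h1 := card_mul_relIndex (c.D.kl_τ.Vk_le.2 ⟨c.D.le c.D.J_mem, c.D.τ_mem⟩)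
  rw [c.D.kl_τ.card, c.D.card_P] at h1
  omega

theorem mem_or {y : G} (hy : y ∈ S) : y ∈ V ∨ y * (σ * τ) ∈ V :=
  or_iff_not_imp_left.2 fun h => (mul_mem_iff_of_index_two (H := (V).subgroupOf S) c.idx
    (a := ⟨y, hy⟩) (b := ⟨_, mul_mem c.D.σ_mem c.D.τ_mem⟩)).2
      (iff_of_false h fun h => c.not_mem c.inv (c.V_le h))

theorem swap : σ * τ * τ * (σ * τ)⁻¹ = t * τ := by
  rw [mul_assoc σ, c.D.τ_sq, mul_one, mul_inv_rev, c.D.τ_inv, ← mul_assoc, mul_assoc σ,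
    c.D.τ_mul (inv_mem (mem_zpowers σ)), inv_inv, ← mul_assoc, c.D.J_eq, pow_one, sq]

theorem s_mem : σ * τ ∈ 𝐇 := c.D.kl_τ.mem_norm
  (by rw [← c.D.kl_στ.comm, mul_inv_cancel_right]; exact c.D.kl_τ.left_mem)
  (c.swap ▸ mul_mem c.D.kl_τ.left_mem c.D.kl_τ.right_mem)

theorem C_or {x : G} (hx : x ∈ 𝐂[t]) : x ∈ V ⊔ U ∨ x * (σ * τ) ∈ V ⊔ U := by
  obtain ⟨u, hu, y, hy, rfl⟩ := (mem_sup_of_le_normalizer_left c.D.sdp.norm).1 (c.D.sdp.sup ▸ hx)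
  exact (c.mem_or hy).imp (fun h => mul_mem (mem_sup_right hu) (mem_sup_left h))
    fun h => mul_assoc u y _ ▸ mul_mem (mem_sup_right hu) (mem_sup_left h)

theorem VU_le : V ⊔ U ≤ Z := sup_le c.V_le c.U_le

theorem C_le : 𝐂[t] ≤ 𝐇 := fun _ hx => (c.C_or hx).elim (fun h => c.Z_le (c.VU_le h))
  fun h => (mul_mem_cancel_right c.s_mem).1 (c.Z_le (c.VU_le h))

theorem mem_VU {x : G} (hx : x ∈ 𝐂[t]) (hz : x ∈ Z) : x ∈ V ⊔ U :=
  (c.C_or hx).resolve_right fun h => c.not_mem c.inv ((mul_mem_cancel_left hz).1 (c.VU_le h))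

theorem dec {x : G} (hx : x ∈ 𝐂[t]) (hz : x ∈ Z) : ∃ v ∈ V, ∃ u ∈ U, v * u = x :=
  (mem_sup_of_le_normalizer_right (c.V_le.trans (centralizer_le_normalizer _))).1 (c.mem_VU hx hz)

theorem exists_fuse : ∃ g ∈ Z, ∀ v ∈ V, v ≠ 1 → ∃ i : ℕ, g ^ i * t * (g ^ i)⁻¹ = v := by
  have k := c.D.kl_τ
  obtain ⟨g, -, g1, g2⟩ := c.sd.fused k
  have hg : g ∈ 𝐇 := k.mem_norm (g1 ▸ k.right_mem) (g2 ▸ mul_mem k.left_mem k.right_mem)
  obtain ⟨e1, e2⟩ := fused_of_conj k c.D.kl_στ c.swap g1 g2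
  refine ⟨σ * τ * (g * (σ * τ) * g⁻¹), fun u hu => ?_, fun v hv v1 => ?_⟩
  · have h1 := c.inv _ (inv_conj_mem_of_mem_normalizer (c.H_le hg) hu)
    have h2 := c.inv _ (inv_mem hu)
    rw [eq_comm, ← mul_inv_eq_iff_eq_mul]
    calc _ = σ * τ * (g * (σ * τ * (g⁻¹ * u * g) * (σ * τ)⁻¹) * g⁻¹) * (σ * τ)⁻¹ := by group
      _ = σ * τ * u⁻¹ * (σ * τ)⁻¹ := by rw [h1]; group
      _ = u := by rw [h2, inv_inv]
  · rcases k.mem_Vk.1 hv with rfl | rfl | rfl | rfl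
    · exact absurd rfl v1
    · exact ⟨0, by simp⟩
    · exact ⟨1, by rw [pow_one, e1]⟩
    · generalize σ * τ * (g * (σ * τ) * g⁻¹) = z at e1 e2
      exact ⟨2, by rw [← e2, ← e1, sq]; group⟩

theorem mem_V {y : G} (hy : y ∈ Z) (h : IsPElt 2 y) : y ∈ V := by
  obtain ⟨g, hg, e⟩ := (c.D.syl.of_le (c.D.le_C.trans c.C_le) le_top).exists_conj_mem h (c.Z_le hy)
  have h1 := (c.mem_or e).resolve_right fun h =>
    c.not_mem c.inv ((mul_mem_cancel_left (c.conj_Z hg hy)).1 (c.V_le h))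
  simpa [mul_assoc] using inv_conj_mem_of_mem_normalizer hg h1

theorem exists_mul {g : G} (h : g * t * g⁻¹ ∈ Z) : ∃ z ∈ Z, z⁻¹ * g ∈ 𝐂[t] := by
  obtain ⟨z, hz, e⟩ := c.exists_fuse
  obtain ⟨i, e⟩ := e _ (c.mem_V h (c.D.inv_J.conj g).isPElt) (c.D.inv_J.conj g).ne
  refine ⟨_, pow_mem hz i, mem_cent1.2 ?_⟩
  calc _ = (z ^ i)⁻¹ * (g * t * g⁻¹) * g := by group
    _ = _ := by rw [← e]; group

theorem mem_H {g : G} (h : g * t * g⁻¹ ∈ Z) : g ∈ 𝐇 := by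
  obtain ⟨z, hz, e⟩ := c.exists_mul h
  exact (mul_mem_cancel_left (inv_mem (c.Z_le hz))).1 (c.C_le e)

theorem H_or {g : G} (h : g ∈ 𝐇) : g ∈ Z ∨ g * (σ * τ) ∈ Z := by
  obtain ⟨z, hz, e⟩ := c.exists_mul (c.V_le (conj_mem_of_mem_normalizer h c.D.kl_τ.left_mem))
  exact (c.C_or e).imp (fun h => (mul_mem_cancel_left (inv_mem hz)).1 (c.VU_le h))
    fun h => (mul_mem_cancel_left (inv_mem hz)).1 (mul_assoc z⁻¹ g _ ▸ c.VU_le h)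

theorem invBy {g : G} (h : g ∈ 𝐇) (h' : g ∉ Z) : InvBy g U := fun u hu => by
  have h1 := (c.H_or h).resolve_left h' _ (inv_mem hu)
  have h2 := c.inv _ (inv_mem hu)
  rw [inv_inv] at h2
  calc _ = g * (σ * τ) * u⁻¹ * (σ * τ)⁻¹ * g⁻¹ := by nth_rewrite 1 [← h2]; group
    _ = _ := by rw [← h1]; group

theorem mul_mem_Z {a b : G} (ha : InvBy a U) (hb : InvBy b U) : a * b ∈ Z := fun u hu => by
  rw [eq_comm, ← mul_inv_eq_iff_eq_mul]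
  calc _ = a * (b * u * b⁻¹) * a⁻¹ := by group
    _ = u := by rw [hb u hu, ha _ (inv_mem hu), inv_inv]

theorem cent_le {u : G} (hu : u ∈ U) (h1 : u ≠ 1) : 𝐂[u] ≤ Z := fun x hx => by_contra fun h =>
  h1 (c.not_cent (c.invBy (c.norm _ (zpowers_le.2 hu) (mt zpowers_eq_bot.1 h1)
    (centralizer_le_normalizer _ (by rwa [centralizer_zpowers_eq]))) h) hu (mem_cent1.1 hx).symm)

theorem mem_H' {g x : G} (hx : x ∈ 𝐂[t]) (h : 𝐂[g * x * g⁻¹] ≤ Z) : g ∈ 𝐇 :=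
  c.mem_H (h (mem_cent1.2 (by rw [conj_mul, conj_mul, mem_cent1.1 hx])))

theorem mem_H_of_U {g u : G} (hu : u ∈ U) (h1 : u ≠ 1) (h : g * u * g⁻¹ ∈ U) : g ∈ 𝐇 :=
  c.mem_H' (Ut_le t hu) (c.cent_le h (mt conj_eq_one_iff.1 h1))

theorem nofix {x v : G} (hx : x ∈ Z) (hv : v ∈ V) (h1 : v ≠ 1) (h : x * v = v * x) : x ∈ 𝐂(V) := by
  obtain ⟨z, hz, e⟩ := c.exists_fuse
  obtain ⟨i, rfl⟩ := e v hv h1
  have h2 := pow_mem hz i
  have h3 := c.mem_VU (x := (z ^ i)⁻¹ * x * z ^ i) (mem_cent1.2 (by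
    calc _ = (z ^ i)⁻¹ * (x * (z ^ i * t * (z ^ i)⁻¹)) * z ^ i := by group
      _ = _ := by rw [h]; group)) (mul_mem (mul_mem (inv_mem h2) hx) h2)
  rw [← c.cent_V] at h3
  simpa [mul_assoc] using conj_mem_of_mem_normalizer
    (normalizer_le_normalizer_centralizer _ (c.Z_le h2)) h3

theorem kl_conj {x v : G} (hx : x ∈ Z) (h : x ∉ 𝐂[t]) (hv : v ∈ V) (h1 : v ≠ 1) :
    Kl v (x * v * x⁻¹) ∧ Vk v (x * v * x⁻¹) = V := by
  have k := c.D.kl_τ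
  have h2 := conj_mem_of_mem_normalizer (c.Z_le hx) hv
  have h3 : Inv v := ⟨h1, k.sq hv⟩
  have h4 : Kl v (x * v * x⁻¹) := ⟨h3, h3.conj x, fun e => h (cent_le_cent1 k.left_mem
    (c.nofix hx hv h1 (mul_inv_eq_iff_eq_mul.1 e.symm))), k.le_cent h2 v hv⟩
  exact ⟨h4, eq_of_le_of_card_ge (h4.Vk_le.2 ⟨hv, h2⟩) (by rw [h4.card, k.card])⟩

theorem cube {x : G} (hx : x ∈ Z) : x ^ 3 ∈ 𝐂[t] := by
  by_cases h : x ∈ 𝐂[t]
  · exact pow_mem h 3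
  have k := c.D.kl_τ
  obtain ⟨h1, h2⟩ := c.kl_conj hx h k.left_mem k.l.ne
  have h3 := conj_mem_of_mem_normalizer (c.Z_le hx) (h2 ▸ h1.right_mem)
  have h4 : x * (t * (x * t * x⁻¹)) * x⁻¹ = x * t * x⁻¹ * (x * (x * t * x⁻¹) * x⁻¹) := by group
  rw [← h2] at h3
  rcases h1.mem_Vk.1 h3 with e | e | e | e
  · exact absurd e (h1.r.conj x).ne
  · rw [e, ← h1.comm] at h4
    exact absurd h4.symm (c.kl_conj hx h (h2 ▸ mul_mem h1.left_mem h1.right_mem) h1.inv_mul.ne).1.ne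
  · exact absurd e.symm (h1.conj x).ne
  · rw [mem_cent1, ← mul_inv_eq_iff_eq_mul]
    calc _ = x * (x * (x * t * x⁻¹) * x⁻¹) * x⁻¹ := by rw [pow_three]; group
      _ = t := by rw [e, h4, e, h1.comm, h1.r.mul_mul]

theorem comm_le : commutator Z ≤ (V).subgroupOf Z := by
  haveI : ((V).subgroupOf Z).Normal := (normal_subgroupOf_iff_le_normalizer c.V_le).2 c.Z_le
  obtain ⟨z, hz, e⟩ := c.exists_fuse
  let π := QuotientGroup.mk' ((V).subgroupOf Z)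
  have h1 : ∀ x : Z, ∃ (i : ℕ) (u : Z), u ∈ center Z ∧ π x = π (⟨z, hz⟩ ^ i * u) := fun x => by
    obtain ⟨i, e⟩ := e _ (conj_mem_of_mem_normalizer (c.Z_le x.2) c.D.kl_τ.left_mem)
      (c.D.inv_J.conj x).ne
    obtain ⟨v, hv, u, hu, e'⟩ := c.dec (x := (z ^ i)⁻¹ * x) (mem_cent1.2 (by
      calc _ = (z ^ i)⁻¹ * (x * t * (x : G)⁻¹) * x := by group
        _ = _ := by rw [← e]; group)) (mul_mem (inv_mem (pow_mem hz i)) x.2)
    refine ⟨i, ⟨u, c.U_le hu⟩, mem_center_iff.2 fun y => Subtype.ext (y.2 u hu).symm,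
      (QuotientGroup.eq.2 ?_).symm⟩
    change (z ^ i * u)⁻¹ * x ∈ V
    rwa [mul_inv_rev, mul_assoc, ← e', ← c.V_le hv u hu, inv_mul_cancel_left]
  refine commutator_le.2 fun x _ y _ => (QuotientGroup.eq_one_iff _).1 ?_
  obtain ⟨i, u, hu, e1⟩ := h1 x
  obtain ⟨j, w, hw, e2⟩ := h1 y
  change π _ = 1
  rw [map_commutatorElement, e1, e2, ← map_commutatorElement, commutatorElement_eq_one_iff_commute.2
    (((Commute.pow_pow_self _ i j).mul_right (mem_center_iff.1 hw _)).mul_left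
      (mem_center_iff.1 hu _).symm), map_one]

theorem mem_U {x y : G} (hy : y ∈ Z) (h : y ∉ 𝐂[t]) (hx : x ∈ Z ⊓ 𝐂[y]) (hx' : x ∈ 𝐂[t]) :
    x ∈ U := by
  obtain ⟨v, hv, u, hu, rfl⟩ := c.dec hx' hx.1
  by_cases h1 : v = 1
  · rwa [h1, one_mul]
  exact absurd (cent_le_cent1 c.D.kl_τ.left_mem (c.nofix hy hv h1 (mem_cent1.1
    ((mul_mem_cancel_right (mem_cent1.2 (hy u hu))).1 hx.2)).symm)) h

theorem mem_H_of_le (h3 : 3 < Nat.card U) {g y : G} (hy : y ∈ Z) (h : y ∉ 𝐂[t])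
    (hg : ∀ u ∈ U, g * u * g⁻¹ ∈ Z ⊓ 𝐂[y]) : g ∈ 𝐇 := by
  have hU : U ≤ Z ⊓ 𝐂[y] := fun u hu => ⟨c.U_le hu, mem_cent1.2 (hy u hu)⟩
  have h1 := card_inf_mul_relIndex 𝐂[t] (Z ⊓ 𝐂[y])
  have h2 : 𝐂[t].relIndex (Z ⊓ 𝐂[y]) ≤ 3 := by
    rw [← ncard_conj_eq_relIndex]
    refine (Set.ncard_le_ncard (t := {t, τ, t * τ}) ?_).trans (Set.ncard_insert_le _ _ |>.trans
      (Nat.succ_le_succ ((Set.ncard_insert_le _ _).trans (by rw [Set.ncard_singleton]))))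
    rintro _ ⟨x, hx, rfl⟩
    exact (c.D.kl_τ.mem_Vk.1 (conj_mem_of_mem_normalizer (c.Z_le hx.1)
      c.D.kl_τ.left_mem)).resolve_left (c.D.inv_J.conj x).ne
  rw [le_antisymm (fun x hx => c.mem_U hy h hx.2 hx.1) (le_inf (Ut_le t) hU)] at h1
  have hK : MulAut.conj g • U ≤ Z ⊓ 𝐂[y] := fun x hx => by
    obtain ⟨u, hu, rfl⟩ := mem_conj_smul'.1 hx
    exact hg u hu
  have h4 := card_mul_card_le ((U).subgroupOf (Z ⊓ 𝐂[y])) ((MulAut.conj g • U).subgroupOf _)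
  rw [show (U).subgroupOf (Z ⊓ 𝐂[y]) ⊓ (MulAut.conj g • U).subgroupOf _ =
    (U ⊓ MulAut.conj g • U).subgroupOf _ from rfl, card_subgroupOf_of_le hU,
    card_subgroupOf_of_le hK, card_subgroupOf_of_le (inf_le_left.trans hU), card_conj_smul,
    ← h1] at h4
  obtain ⟨⟨x, hx, hx'⟩, x1⟩ := ne_bot_iff_exists_ne_one.1 fun e : U ⊓ MulAut.conj g • U = ⊥ => by
    rw [e, card_bot] at h4
    nlinarith
  obtain ⟨u, hu, rfl⟩ := mem_conj_smul'.1 hx'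
  exact c.mem_H_of_U hu (fun e => x1 (Subtype.ext (by simp [e]))) hx

theorem cent_le' (h3 : 3 < Nat.card U) (he : ∀ u ∈ U, u ^ 3 = 1) {y : G} (hy : y ∈ Z)
    (hV : y ∉ V) : 𝐂[y] ≤ Z := by
  have k := c.D.kl_τ
  by_cases h : y ∈ 𝐂[t]
  · obtain ⟨v, hv, u, hu, rfl⟩ := c.dec h hy
    refine (SAD.cent1_le_of_mem_zpowers (npow_mem_zpowers _ 2)).trans ?_
    rw [Commute.mul_pow (c.V_le hv u hu).symm, sq v, k.sq hv, one_mul]
    exact c.cent_le (pow_mem hu 2) fun e => hV (by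
      rwa [c.eq_one hu (by rw [← sq, e]; exact one_mem _), mul_one])
  haveI : Fact (Nat.Prime 3) := ⟨Nat.prime_three⟩
  have h1 : ∀ x ∈ Z ⊓ 𝐂[y], x ^ 3 ^ 2 = 1 := fun x hx => by
    rw [sq, pow_mul, he _ (c.mem_U hy h (pow_mem hx 3) (c.cube hx.1))]
  have h2 : IsPGroup 3 ↥(Z ⊓ 𝐂[y]) := fun x => ⟨2, Subtype.ext (h1 x x.2)⟩
  have h4 : 𝐂[y] ⊓ 𝐍((Z ⊓ 𝐂[y] : Subgroup G)) ≤ Z ⊓ 𝐂[y] := fun n hn => by
    have h5 := c.mem_H_of_le h3 hy h fun u hu =>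
      conj_mem_of_mem_normalizer hn.2 ⟨c.U_le hu, mem_cent1.2 (hy u hu)⟩
    refine ⟨by_contra fun h6 => ?_, hn.1⟩
    have h7 := c.mul_mem_Z (c.invBy h5 h6) (c.invBy h5 h6)
    have h8 : n ^ 9 ∉ Z := fun e => h6 ((mul_mem_cancel_left (pow_mem h7 4)).1 (by
      rwa [← sq, ← pow_mul, ← pow_succ]))
    obtain ⟨⟨v, hv, hv'⟩, v1⟩ := ne_bot_iff_exists_ne_one.1 (inf_centralizer_ne_bot_of_isPGroup
      (isPElt_of_pow_eq_one (p := 2) (k := 1) (g := n ^ 9) (by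
        rw [pow_one, ← pow_mul, mul_comm, pow_mul, sq]
        exact h1 _ ⟨h7, mul_mem hn.1 hn.1⟩)).isPGroup_zpowers k.isPGroup
      (fun e => k.l.ne (mem_bot.1 (e ▸ k.left_mem))) (zpowers_le.2 (pow_mem h5 9)))
    obtain ⟨h9, h10⟩ := c.kl_conj hy h hv fun e => v1 (Subtype.ext e)
    have h11 : n ^ 9 * v = v * n ^ 9 := hv' _ (mem_zpowers _)
    have h12 := mem_cent1.1 (pow_mem hn.1 9)
    refine h8 (c.VU_le (c.cent_V ▸ h10 ▸ h9.cent_Vk ▸ ⟨mem_cent1.2 h11, mem_cent1.2 ?_⟩))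
    calc _ = y * (n ^ 9 * v) * y⁻¹ := by rw [← mul_assoc, ← mul_assoc, h12]; group
      _ = y * v * y⁻¹ * (y * n ^ 9 * y⁻¹) := by rw [h11]; group
      _ = _ := by rw [← h12, mul_inv_cancel_right]
  have h5 : IsSylowIn 3 (Z ⊓ 𝐂[y]) 𝐂[y] := isSylowIn_of_maximal h2 inf_le_right
    fun Q hQ h5 h6 => by_contra fun e => (lt_inf_normalizer_of_lt hQ (h6.lt_of_ne' e)).not_ge
      ((inf_le_inf_right _ h5).trans h4)
  have h6 := sdp_Op'_of_hall (hall_Op'_iff.2 (h5.hasNormalPComplement_of_le_centralizer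
    (h4.trans fun a ha b hb => commutatorElement_eq_one_iff_mul_comm.1 (by_contra fun e => h
      (cent_le_cent1 k.left_mem (c.nofix hy (c.comm_le (commutator_mem_commutator
        (mem_top (⟨b, hb.1⟩ : Z)) (mem_top ⟨a, ha.1⟩))) e (mem_cent1.1 (mul_mem (mul_mem
          (mul_mem hb.2 ha.2) (inv_mem hb.2)) (inv_mem ha.2))).symm)))))) h5
  have hU : U ≤ Z ⊓ 𝐂[y] := fun u hu => ⟨c.U_le hu, mem_cent1.2 (hy u hu)⟩
  haveI := comm_iff_le_cent.2 c.U_le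
  have h7 := le_of_forall_centralizer_le (A := U) (H := ⊥)
    ((hU.trans inf_le_right).trans (le_norm_piCoreOf _ _))
    (((h2.to_le hU).coprime_card (not_dvd_card_Op' 3 𝐂[y])).symm)
    (fun e => by
      obtain ⟨x, hx⟩ := IsCyclic.exists_ofOrder_eq_natCard (α := U)
      exact h3.not_ge (Nat.le_of_dvd three_pos (hx ▸ orderOf_dvd_of_pow_eq_one
        (Subtype.ext (he x x.2)))))
    fun a ha a1 => (le_inf inf_le_left (le_inf (inf_le_right.trans (c.cent_le ha a1))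
      (inf_le_left.trans (piCoreOf_le _ _)))).trans h6.disj.le_bot
  rw [← h6.sup]
  exact sup_le (h7.trans bot_le) inf_le_left

theorem exists_hom (h3 : 3 < Nat.card U) : ∃ μ : Z →* ℂˣ, (∀ x : Z, x.1 ∈ V → μ x = 1) ∧
    (∃ u : Z, u.1 ∈ U ∧ μ u ≠ 1) ∧
      ∀ x y : Z, μ x ≠ 1 → μ y ≠ 1 → ∀ g : G, g * x * g⁻¹ = y → g ∈ 𝐇 := by
  haveI : ((V).subgroupOf Z).Normal := (normal_subgroupOf_iff_le_normalizer c.V_le).2 c.Z_le
  have h1 : ∀ u (hu : u ∈ U), u ≠ 1 → ∃ μ : Z →* ℂˣ, (∀ x : Z, x.1 ∈ V → μ x = 1) ∧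
      μ ⟨u, c.U_le hu⟩ ≠ 1 := fun u hu u1 =>
    exists_units_hom_apply_ne_one c.comm_le fun h => u1 (c.eq_one hu (mul_mem h h))
  by_cases he : ∀ u ∈ U, u ^ 3 = 1
  · obtain ⟨⟨u, hu⟩, u1⟩ := ne_bot_iff_exists_ne_one.1 c.ne
    obtain ⟨μ, h2, h4⟩ := h1 u hu fun e => u1 (Subtype.ext e)
    refine ⟨μ, h2, ⟨_, hu, h4⟩, fun x y hx hy g e => ?_⟩
    have h5 := c.cent_le' h3 he y.2 (mt (h2 y) hy)
    by_cases h : y.1 ∈ 𝐂[t]
    · refine inv_mem_iff.1 (c.mem_H' h ?_)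
      rw [← e, show g⁻¹ * (g * x * g⁻¹) * g⁻¹⁻¹ = x by group]
      exact c.cent_le' h3 he x.2 (mt (h2 x) hx)
    · have h6 : ∀ u ∈ U, g * u * g⁻¹ ∈ 𝐂[y.1] := fun u hu =>
        mem_cent1.2 (by rw [← e, conj_mul, conj_mul, x.2 u hu])
      exact c.mem_H_of_le h3 y.2 h fun u hu => ⟨h5 (h6 u hu), h6 u hu⟩
  push Not at he
  obtain ⟨u, hu, u1⟩ := he
  obtain ⟨μ, h2, h4⟩ := h1 _ (pow_mem hu 3) u1
  have h5 : ∀ x : Z, (μ ^ 3) x ≠ 1 → (x : G) ^ 6 ∈ U ∧ (x : G) ^ 6 ≠ 1 := fun x hx => by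
    obtain ⟨v, hv, w, hw, e⟩ := c.dec (c.cube x.2) (pow_mem x.2 3)
    rw [show (x : G) ^ 6 = w * w by
      rw [show 6 = 3 * 2 from rfl, pow_mul, ← e, Commute.mul_pow (c.V_le hv w hw).symm, sq v,
        c.D.kl_τ.sq hv, one_mul, sq]]
    refine ⟨mul_mem hw hw, fun h => hx ?_⟩
    rw [c.eq_one hw (h ▸ one_mem _), mul_one] at e
    rw [MonoidHom.pow_apply, ← map_pow]
    exact h2 _ (by rw [coe_pow, ← e]; exact hv)
  refine ⟨μ ^ 3, fun x hx => by rw [MonoidHom.pow_apply, h2 x hx, one_pow],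
    ⟨⟨u, c.U_le hu⟩, hu, by rwa [MonoidHom.pow_apply, ← map_pow]⟩, fun x y hx hy g e => ?_⟩
  exact c.mem_H_of_U (h5 x hx).1 (h5 x hx).2 (by rw [← conj_pow, e]; exact (h5 y hy).1)

end C3

end GW
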