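import Cfsg.Agent.Lib.GW.ChB3
import Cfsg.Agent.Lib.GW.A7a

/-!
# The configuration of `A₇`: the character argument for `|O(C(t))| = 3`
-/

set_option autoImplicit false
set_option linter.unusedSectionVars false

namespace GW

open Cfsg CT GT BT FT Subgroup
open scoped Pointwise ComplexConjugate commutatorElement

variable {G : Type*} [Group G] [Finite G]

theorem ind_index_two {E L : Subgroup G} (hEL : E ≤ L) (hL : Nat.card L = 2 * Nat.card E) {s : G}
    (hs : ∀ g ∈ L, g ∉ E → s * g ∈ E) {f : E → ℂ} (hf : IsClassFunction E f) {x y : E}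
    (e : s * x * s⁻¹ = y) (h : ∀ g ∉ L, extendByZero E f (g⁻¹ * x * g) = 0) :
    ind E f x = f x + f y := by
  classical
  have := Fintype.ofFinite G
  have h1 : ∀ (K : Subgroup G) (c : ℂ), ∑ g : G, (if g ∈ K then c else 0) = Nat.card K * c :=
    fun K c => by
      rw [← Finset.sum_filter, Finset.sum_const, nsmul_eq_mul, Nat.card_eq_fintype_card,
        Fintype.card_subtype]
  have h2 : ∀ z w : E, extendByZero E f ((z : G)⁻¹ * w * z) = f w := fun z w =>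
    (extendByZero_coe E f (z⁻¹ * w * z)).trans (by simpa using hf w z⁻¹)
  rw [ind_def, Finset.sum_congr rfl (g := fun g => (if g ∈ E then f x - f y else 0) +
    if g ∈ L then f y else 0) fun g _ => ?_, Finset.sum_add_distrib, h1, h1, hL]
  · have : (Nat.card E : ℂ) ≠ 0 := card_cast_ne_zero
    push_cast
    field_simp
    ring
  by_cases h3 : g ∈ E
  · rw [h2 ⟨g, h3⟩, if_pos h3, if_pos (hEL h3), sub_add_cancel]
  by_cases h4 : g ∈ L
  · rw [if_neg h3, if_pos h4, zero_add, ← h2 ⟨_, hs g h4 h3⟩, ← e]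
    congr 1
    group
  · rw [h g h4, if_neg h3, if_neg h4, add_zero]

theorem c3_arith {l n z j : ℕ} {q : ℚ} (hl : 5 ≤ l) (h1 : n * q * z = 8 * l * j ^ 2)
    (hq : q ≤ 7 / 5) (h2 : z ≤ 2 * j) (h3 : 12 * l ≤ z) (h4 : 4 * n ≤ 45 * (l + 1) ^ 2) : False := by
  have l5 : (5 : ℚ) ≤ l := by exact_mod_cast hl
  have e2 : (z : ℚ) ≤ 2 * j := by exact_mod_cast h2
  have e3 : 12 * (l : ℚ) ≤ z := by exact_mod_cast h3
  have e4 : 4 * (n : ℚ) ≤ 45 * (l + 1) ^ 2 := by exact_mod_cast h4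
  have e5 : 2 * (l : ℚ) * z ≤ n * q := le_of_mul_le_mul_right (by
    rw [h1]
    nlinarith [mul_le_mul_of_nonneg_left (pow_le_pow_left₀ (by positivity) e2 2)
      (show 0 ≤ 2 * (l : ℚ) by positivity)]) (show (0 : ℚ) < z by linarith)
  nlinarith [mul_le_mul_of_nonneg_left hq (Nat.cast_nonneg (α := ℚ) n)]

namespace C3
variable {S : Subgroup G} {σ τ t : G} (c : C3 S σ τ t)
include c

local notation "V" => Vk t τ
local notation "U" => Ut t
local notation "𝐇" => 𝐍(Vk t τ)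
local notation "Z" => 𝐂(Ut t)

theorem card_H : Nat.card 𝐇 = 2 * Nat.card Z := by
  rw [← card_mul_relIndex c.Z_le, mul_comm, relIndex_eq_two_iff.2 ⟨_, c.s_mem, fun b hb =>
    (c.H_or hb).elim (fun h => Or.inr ⟨h, fun e => c.not_mem c.inv ((mul_mem_cancel_left h).1 e)⟩)
      fun h => Or.inl ⟨h, fun e => c.not_mem c.inv ((mul_mem_cancel_left e).1 h)⟩⟩]

theorem card_ge : 12 * Nat.card U ≤ Nat.card Z := by
  have h1 := card_inf_mul_relIndex 𝐂[t] 𝐇
  have h2 : 3 ≤ 𝐂[t].relIndex 𝐇 := by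
    obtain ⟨z, hz, e⟩ := c.exists_fuse
    rw [← ncard_conj_eq_relIndex]
    refine le_trans ?_ (Set.ncard_le_ncard (s := (V : Set G) \ {1}) fun v hv => ?_)
    · rw [Set.ncard_sdiff_singleton_of_mem (one_mem _), ← Nat.card_coe_set_eq]
      exact (congrArg (· - 1) c.D.kl_τ.card).ge
    · obtain ⟨i, e⟩ := e v hv.1 hv.2
      exact ⟨_, c.Z_le (pow_mem hz i), e⟩
  rw [inf_eq_left.2 c.C_le, c.D.card_C, c.card_H] at h1
  have := Nat.mul_le_mul_left (Nat.card U * 2 ^ (1 + 2)) h2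
  omega

theorem card_W : Nat.card (Wt t (σ * τ)) = 1 :=
  card_eq_one.2 (eq_bot_iff.2 fun _ hw => c.not_cent c.inv hw.1 (mem_cent1.1 hw.2))

theorem card_le : Nat.card Z ≤ 2 * {a | (a ∈ 𝐇 ∧ a ∉ Z) ∧ a * a = 1}.ncard := by
  have h1 := card_inf_mul_relIndex 𝐂[σ * τ] 𝐇
  have h2 : 𝐂[σ * τ].relIndex 𝐇 ≤ {a | (a ∈ 𝐇 ∧ a ∉ Z) ∧ a * a = 1}.ncard := by
    rw [← ncard_conj_eq_relIndex]
    refine Set.ncard_le_ncard ?_
    rintro _ ⟨g, hg, rfl⟩
    exact ⟨⟨mul_mem (mul_mem hg c.s_mem) (inv_mem hg), fun h => c.not_mem c.inv (by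
      simpa [mul_assoc] using c.conj_Z (inv_mem hg) h)⟩, (c.D.kl_στ.r.conj g).sq⟩
  have h3 : 𝐂[σ * τ] ⊓ 𝐇 ≤ Vk t (σ * τ) := fun x hx => by
    have h4 : σ * τ * (x * t * x⁻¹) * (σ * τ)⁻¹ = x * t * x⁻¹ := by
      rw [← mul_assoc, ← mul_assoc, ← mem_cent1.1 hx.1, mul_assoc x, ← c.D.kl_στ.comm,
        mul_inv_eq_iff_eq_mul, mul_assoc, mul_assoc, mul_assoc, mul_assoc, mul_assoc,
        mem_cent1.1 (inv_mem hx.1), mul_assoc]
    have h5 : ∀ v ∈ V, σ * τ * v * (σ * τ)⁻¹ = v → σ * τ * τ * (σ * τ)⁻¹ ≠ v := fun v _ e e' =>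
      c.D.J_ne_one (mul_eq_right.1 (c.swap.symm.trans (e'.trans (mul_left_cancel
        (mul_right_cancel (e.trans e'.symm))))))
    have h6 : x ∈ 𝐂[t] := by
      rcases c.D.kl_τ.mem_Vk.1 (conj_mem_of_mem_normalizer hx.2 c.D.kl_τ.left_mem) with e | e | e | e
      · exact absurd e (c.D.inv_J.conj x).ne
      · exact mem_cent1.2 (mul_inv_eq_iff_eq_mul.1 e)
      · exact absurd (e ▸ h4) (h5 _ c.D.kl_τ.right_mem (e ▸ h4))
      · exact absurd c.swap (h5 _ (mul_mem c.D.kl_τ.left_mem c.D.kl_τ.right_mem) (e ▸ h4))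
    have h7 := c.sd.cent_kl c.D.kl_στ
    rw [card_eq_one.1 c.card_W, sup_bot_eq] at h7
    exact h7 ▸ ⟨h6, hx.1⟩
  have h4 := card_le_of_le h3
  rw [c.D.kl_στ.card] at h4
  rw [c.card_H] at h1
  nlinarith

theorem index_le : 4 * 𝐂[t].index ≤ 45 * (Nat.card U + 1) ^ 2 := by
  have h := (dih_bounds c.D le_rfl (c.sd.isConj c.D.inv_J c.D.kl_τ.r)
    (c.sd.isConj c.D.inv_J c.D.kl_στ.r)).2
  have h0 : (0 : ℚ) < Nat.card U := Nat.cast_pos.2 Nat.card_pos
  rw [c.sd.card_pair c.D.kl_τ, c.sd.card_pair c.D.kl_στ, c.card_W, Wt,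
    inf_eq_left.2 (le_cent1_iff.2 c.cent), ← card_mul_index 𝐂[t], c.D.card_C] at h
  rw [← Nat.cast_le (α := ℚ)]
  push_cast at h ⊢
  field_simp at h
  nlinarith

variable {E : Subgroup G} (hE : 𝐂(Ut t) = E) {μ : E →* ℂˣ}
  (hV : ∀ x : E, x.1 ∈ Vk t τ → μ x = 1) {u : E} (hu : u.1 ∈ Ut t) (hu' : μ u ≠ 1)
  (hT : ∀ x y : E, μ x ≠ 1 → μ y ≠ 1 → ∀ g : G, g * x * g⁻¹ = y → g ∈ 𝐍(Vk t τ))
  {φ : E →* E} (hφ : ∀ x : E, σ * τ * x * (σ * τ)⁻¹ = φ x)

include hE hφ in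
theorem al_apply {x : E} (h : ∀ y : E, μ y ≠ 1 → ∀ g : G, g * x * g⁻¹ = y → g ∈ 𝐇) :
    al E μ x = ((linChar 1).1 - (linChar μ).1 + ((linChar 1).1 - (linChar (μ.comp φ)).1) :
      E → ℂ) x := by
  refine (ind_index_two (hE ▸ c.Z_le) (hE ▸ c.card_H)
    (fun g hg hg' => hE.le (c.mul_mem_Z c.inv (c.invBy hg (hE ▸ hg'))))
    ((irr_isClassFunction _).sub (irr_isClassFunction _)) (hφ x) fun g hg => ?_).trans
      (by simp [linChar_apply])
  by_cases h1 : g⁻¹ * x * g ∈ E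
  · rw [extendByZero_of_mem _ _ h1, Pi.sub_apply, linChar_apply, linChar_apply,
      not_not.1 fun e => hg (inv_mem_iff.1 (h ⟨_, h1⟩ e g⁻¹ (by rw [inv_inv])))]
    simp
  · exact extendByZero_of_notMem _ _ h1

include hφ in
theorem comp_apply {w : E} (hw : w.1 ∈ U) : μ.comp φ w = (μ w)⁻¹ := by
  rw [MonoidHom.comp_apply, ← map_inv, show φ w = w⁻¹ from Subtype.ext ((hφ w).symm.trans
    (c.inv w hw))]

include hE hu hu' hT hφ in
theorem al_three : ∃ χ ψ : IrrCharacter G, χ ≠ irrOne G ∧ ψ ≠ irrOne G ∧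
    al E μ = (irrOne G).1 + χ.1 - ψ.1 := by
  classical
  have h0 : μ ≠ 1 := by rintro rfl; exact hu' rfl
  have h1 : μ ≠ μ.comp φ := fun e => hu' (by
    have h2 := (DFunLike.congr_fun e u).trans (c.comp_apply hφ hu)
    obtain ⟨k, hk⟩ := odd_of_mem_Od hu
    rw [← map_one μ, ← pow_orderOf_eq_one u, ← Subgroup.orderOf_coe, hk, pow_succ, pow_mul, map_mul,
      map_pow, sq, map_mul, eq_inv_iff_mul_eq_one.1 h2, one_pow, one_mul])
  have h1' : 1 ≠ μ.comp φ := fun e =>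
    hu' (inv_eq_one.1 ((DFunLike.congr_fun e u).trans (c.comp_apply hφ hu)).symm)
  have h2 : ip (al E μ) (irrOne G).1 = 1 := by
    rw [ip_al_const h0 (irr_isClassFunction _) (c := 1) fun _ _ _ => rfl, map_one]
  have h3 : ip (irrOne G).1 (al E μ) = 1 := by rw [← conj_ip, h2, map_one]
  have h4 : ip (al E μ) (al E μ) = 3 := by
    have := Fintype.ofFinite E
    rw [show ip (al E μ) _ = _ from ip_ind_left _ _ (al_gen μ).isClassFunction, ip_def,
      Finset.sum_congr rfl fun x _ => show ((linChar 1).1 - (linChar μ).1 : E → ℂ) x * _ =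
        ((linChar 1).1 - (linChar μ).1 : E → ℂ) x * conj _ from
        (em (μ x = 1)).elim (fun e => by simp [linChar_apply, e]) fun e => congrArg _ (congrArg _
          ((res_apply ..).trans (c.al_apply hE hφ fun y hy => hT x y e hy))), ← ip_def]
    simp only [ip_sub_left, ip_sub_right, ip_add_right, ip_irr, linChar_injective.eq_iff, if_neg h0,
      if_neg h0.symm, if_neg h1, if_neg h1', if_true]
    norm_num
  obtain ⟨χ, ψ, hne, h⟩ := exists_sub_of_norm_two ((al_gen μ).sub (irr_isCharacter (irrOne G)).isGen)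
    (by rw [ip_sub_left, ip_sub_right, ip_sub_right, h4, h2, h3, ip_irr_self]; norm_num)
    (Or.inr (by simp [al_one]))
  have h5 := congrArg (ip · (irrOne G).1) h
  simp only [ip_sub_left, h2, ip_irr, if_true, sub_self] at h5
  refine ⟨χ, ψ, fun e => ?_, fun e => ?_, by rw [add_sub_assoc, ← h]; simp⟩
  · rw [if_pos e, if_neg fun e' => hne (e.trans e'.symm)] at h5; simp at h5
  · rw [if_pos e, if_neg fun e' => hne (e'.trans e.symm)] at h5; simp at h5

include hE hV in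
theorem al_t : al E μ t = 0 := ind_apply_eq_zero' fun x hx => by
  obtain ⟨g, e⟩ := isConj_iff.1 hx
  simp [linChar_apply, hV x (c.mem_V (hE.ge x.2) (e ▸ (c.D.inv_J.conj g).isPElt))]

variable {M : Ideal AlgInt} (hM : IsPModular 2 M)

include hE hM in
theorem part_σ : blockPart (principalBlock M G) (al E μ) σ = 0 :=
  blockPart_eq_zero fun y hy => bker_eq_zero_of_not_isConj hM isPBlock_principalBlock fun h => hy <|
    ind_apply_eq_zero' fun x hx => by
      obtain ⟨g, e⟩ := isConj_iff.1 hx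
      obtain ⟨k, e'⟩ := isConj_iff.1 h
      have h1 := c.D.kl_τ.sq (c.mem_V (pPart_mem 2 (hE.ge x.2)) (isPElt_pPart 2 _))
      rw [← e, pPart_conj, ← e', (c.D.isPElt c.D.σ_mem).pPart_eq, conj_mul, conj_mul,
        conj_eq_one_iff, conj_eq_one_iff] at h1
      exact absurd (c.D.J_eq.trans ((sq σ).trans h1)) c.D.J_ne_one

include hE hV hu hu' hφ hM in
theorem part_t : blockPart (principalBlock M G) (al E μ) t = 2 := by
  have := Fintype.ofFinite (pPrimeCore 2 𝐂[t])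
  have h1 : ∀ n : pPrimeCore 2 𝐂[t], (n.1 : G) ∈ U := fun n =>
    (Op'_eq_map 2 _).ge ⟨n.1, n.2, rfl⟩
  let ι : pPrimeCore 2 𝐂[t] →* E :=
    (𝐂[t].subtype.comp (pPrimeCore 2 𝐂[t]).subtype).codRestrict _ fun n =>
      hE.le (c.U_le (h1 n))
  have h2 : ∀ l : E →* ℂˣ, l u ≠ 1 → ∑ n, (l (ι n) : ℂ) = 0 := fun l hl => by
    obtain ⟨n, hn, e⟩ := (Op'_eq_map 2 _).le hu
    refine sum_hom_units_eq_zero ((Units.coeHom ℂ).comp (l.comp ι)) fun h => hl (Units.ext ?_)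
    rw [← show ι ⟨n, hn⟩ = u from Subtype.ext e]
    exact DFunLike.congr_fun h ⟨n, hn⟩
  let t' : E := ⟨t, hE.le (c.V_le c.D.kl_τ.left_mem)⟩
  have h3 : μ t' = 1 := hV _ c.D.kl_τ.left_mem
  have h4 : μ.comp φ t' = 1 := hV _ (hφ _ ▸ conj_mem_of_mem_normalizer c.s_mem c.D.kl_τ.left_mem)
  rw [blockPart_principal_of_nilpotent hM rfl c.D.inv_J.isPElt c.D.nilp (al_gen μ).isClassFunction,
    Finset.sum_congr rfl (g := fun n => (2 : ℂ) - ((μ (ι n) : ℂ) + (μ.comp φ (ι n) : ℂ)))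
       fun n _ => ?_,
    Finset.sum_sub_distrib, Finset.sum_add_distrib, h2 _ hu',
    h2 _ (by rwa [c.comp_apply hφ hu, Ne, inv_eq_one])]
  · simp [← Nat.card_eq_fintype_card, inv_mul_cancel_left₀ card_cast_ne_zero]
  refine (c.al_apply hE hφ (x := t' * ι n) fun y _ g e => c.mem_H ?_).trans ?_
  · have h5 := pPart_mem 2 (hE.ge y.2)
    rwa [← e, pPart_conj, show pPart 2 (t' * ι n).1 = t from pPart_mul_eq (mem_cent1.1 n.1.2).symm
      c.D.inv_J.isPElt (not_two_dvd.2 (odd_of_mem_Od (h1 n)))] at h5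
  · simp only [Pi.add_apply, Pi.sub_apply, linChar_apply, map_mul, h3, h4, MonoidHom.one_apply]
    push_cast
    ring

include hE hV hu hu' hT in
theorem ip_clMul : ip (al E μ) (clMul t t) =
    ({a | (a ∈ 𝐇 ∧ a ∉ E) ∧ a * a = 1}.ncard : ℂ) ^ 2 / Nat.card E := by
  classical
  have := Fintype.ofFinite G
  have le : E ≤ 𝐇 := hE ▸ c.Z_le
  have inv : ∀ {a}, a ∈ 𝐇 → a ∉ E → InvBy a U := fun h h' => c.invBy h (hE ▸ h')
  set J := Finset.univ.filter fun a => (a ∈ 𝐇 ∧ a ∉ E) ∧ a * a = 1 with hJ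
  have mem : ∀ {a}, a ∈ J ↔ (a ∈ 𝐇 ∧ a ∉ E) ∧ a * a = 1 := by simp [hJ]
  have cj : ∀ {a}, a ∈ J → IsConj t a := fun ha => c.sd.isConj c.D.inv_J
    ⟨fun e => (mem.1 ha).1.2 (e ▸ one_mem _), (mem.1 ha).2⟩
  have iv : ∀ {a}, IsConj t a → Inv a := fun ha =>
    (isConj_iff.1 ha).elim fun g e => e ▸ c.D.inv_J.conj g
  have h1 : ∀ x : E, μ x ≠ 1 → clMul t t x = ∑ a ∈ J, if a * x ∈ J then 1 else 0 := fun x hx => by
    rw [clMul_apply, Finset.sum_boole, ← Fintype.card_coe, ← Nat.card_eq_fintype_card, Nat.cast_inj]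
    refine Nat.card_congr ⟨fun p => ⟨p.1.1, ?_⟩, fun a => ⟨(a.1, a.1 * x), ?_⟩,
      fun p => Subtype.ext (Prod.ext rfl ?_), fun a => rfl⟩
    · obtain ⟨⟨a, b⟩, ha, hb, e⟩ := p
      change a * b = x at e
      have ia : Inv a := iv ha
      have ib : Inv b := iv hb
      have h2 := hT x x⁻¹ hx (by rwa [map_inv, Ne, inv_eq_one]) a (by
        rw [coe_inv, ← e, ia.mul_mul, mul_inv_rev, ib.inv])
      have h3 : a ∉ E := fun h => hx (hV x (e ▸ mul_mem (c.mem_V (hE.ge h) ia.isPElt)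
        (c.mem_V (hE.ge ((mul_mem_cancel_left h).1 (e ▸ x.2))) ib.isPElt)))
      refine Finset.mem_filter.2 ⟨mem.2 ⟨⟨h2, h3⟩, ia.sq⟩, mem.2 ⟨⟨mul_mem h2 (le x.2),
        fun h => h3 ((mul_mem_cancel_right x.2).1 h)⟩, ?_⟩⟩
      change a * x * (a * x) = 1
      rw [← e, ia.mul_mul, ib.sq]
    · obtain ⟨ha, hb⟩ := Finset.mem_filter.1 a.2
      exact ⟨cj ha, cj hb, by rw [← mul_assoc, (mem.1 ha).2, one_mul]⟩
    · obtain ⟨⟨a, b⟩, ha, hb, e⟩ := p
      change a * x = b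
      rw [← e, (iv ha).mul_mul]
  have h2 : ∀ a ∈ J, ∑ x : E, (1 - μ x : ℂ) * (if a * x ∈ J then 1 else 0) = J.card := fun a ha => by
    obtain ⟨⟨h3, h4⟩, h5⟩ := mem.1 ha
    have h6 : ∑ x : E, (μ x : ℂ) * (if a * x ∈ J then 1 else 0) = 0 := by
      refine (mul_left_eq_self₀.1 ?_).resolve_left fun e : (μ u : ℂ) = 1 => hu' (Units.ext e)
      rw [Finset.mul_sum]
      refine Fintype.sum_equiv (Equiv.mulLeft u) _ _ fun x => ?_
      have h7 : a * (u * x) * (a * (u * x)) = a * x * (a * x) := by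
        calc _ = a * (u * x) * (a * u * a⁻¹) * (a * x) := by group
          _ = _ := by rw [inv h3 h4 _ hu, hE.ge x.2 _ hu]; group
      simp only [Equiv.coe_mulLeft, map_mul, Units.val_mul, coe_mul, mem, h7, mul_assoc (μ u : ℂ),
        mul_mem_cancel_right x.2, mul_mem_cancel_right (mul_mem u.2 x.2),
        mul_mem_cancel_right (le x.2), mul_mem_cancel_right (le (mul_mem u.2 x.2))]
    simp only [sub_mul, one_mul, Finset.sum_sub_distrib, h6, sub_zero, Finset.sum_boole,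
      Nat.cast_inj]
    refine Finset.card_bij (fun x _ => a * x) (fun x hx => (Finset.mem_filter.1 hx).2)
      (fun x _ y _ e => Subtype.ext (mul_left_cancel e)) fun b hb => ?_
    have h7 : a * (a * b) = b := by rw [← mul_assoc, h5, one_mul]
    exact ⟨⟨a * b, hE.le (c.mul_mem_Z (inv h3 h4) (inv (mem.1 hb).1.1 (mem.1 hb).1.2))⟩,
      Finset.mem_filter.2 ⟨Finset.mem_univ _, h7.symm ▸ hb⟩, h7⟩
  rw [al, ip_ind_left _ _ (isClassFunction_clMul t t), ip_def, Finset.sum_congr rfl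
    (g := fun x : E => ∑ a ∈ J, (1 - μ x : ℂ) * if a * x ∈ J then 1 else 0) fun x _ => ?_,
    Finset.sum_comm, Finset.sum_congr rfl h2, Set.ncard_eq_toFinset_card', Set.toFinset_ofPred]
  · simp [sq, div_eq_inv_mul, hJ]
  by_cases hx : μ x = 1
  · simp [linChar_apply, hx]
  · rw [res_apply, h1 x hx, ← Finset.mul_sum]
    simp [linChar_apply]

theorem card_le_three : Nat.card U ≤ 3 := by
  classical
  by_contra! h3
  have h0 := c.exists_hom h3
  have a1 := c.card_le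
  have a2 := c.card_ge
  have a3 := normalizer_le_normalizer_centralizer _ (c.H_le c.s_mem)
  generalize hE : Z = E at h0 a1 a2 a3
  obtain ⟨μ, hV, ⟨u, hu, hu'⟩, hT⟩ := h0
  obtain ⟨M, hM⟩ := exists_isPModular Nat.prime_two
  let φ := (normalizerMonoidHom E ⟨σ * τ, a3⟩).toMonoidHom
  have hφ : ∀ x : E, σ * τ * x * (σ * τ)⁻¹ = φ x := fun _ => rfl
  obtain ⟨χ, ψ, h1, h2, e⟩ := c.al_three hE hu hu' hT hφ
  have e1 := al_one μ
  have e2 := c.al_t hE hV
  have e3 := c.part_σ hE (μ := μ) hM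
  have e4 := c.part_t hE hV hu hu' hφ hM
  have e5 := c.ip_clMul hE hV hu hu' hT
  simp only [e, blockPart_add, blockPart_sub, blockPart_irr, if_pos (irrOne_mem_principalBlock hM),
    Pi.add_apply, Pi.sub_apply, ite_apply, Pi.zero_apply, irrOne_apply, irr_apply_one, ip_add_left,
    ip_sub_left, ip_irr_clMul c.D.J_sq] at e1 e2 e3 e4 e5
  have e6 : charDegree ψ.1 = charDegree χ.1 + 1 := by
    rw [← Nat.cast_inj (R := ℂ)]; push_cast; linear_combination -e1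
  have hx : (0 : ℚ) < charDegree χ.1 := Nat.cast_pos.2 (irr_degree_pos χ)
  have key : ∀ a b : ℤ, χ.1 t = a → ψ.1 t = b →
      (a : ℚ) ^ 2 / charDegree χ.1 - b ^ 2 / (charDegree χ.1 + 1) ≤ 2 / 5 → False :=
    fun a b ha hb h => by
    refine c3_arith (q := 1 + a ^ 2 / charDegree χ.1 - b ^ 2 / (charDegree χ.1 + 1))
      (by obtain ⟨k, hk⟩ := odd_Od' 𝐂[t]; change Nat.card U = _ at hk; omega) ?_ (by linarith)
      a1 a2 c.index_le
    rw [ha, hb, e6, ← card_mul_index 𝐂[t], c.D.card_C] at e5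
    have h4 : (𝐂[t].index : ℂ) ≠ 0 := Nat.cast_ne_zero.2 index_ne_zero_of_finite
    have h5 : (Nat.card U : ℂ) ≠ 0 := card_cast_ne_zero
    have h6 : (Nat.card E : ℂ) ≠ 0 := card_cast_ne_zero
    rw [← Rat.cast_inj (α := ℂ)]
    push_cast at e5 ⊢
    generalize (a : ℂ) ^ 2 / charDegree χ.1 = p at e5 ⊢
    generalize (b : ℂ) ^ 2 / (charDegree χ.1 + 1) = q at e5 ⊢
    field_simp at e5
    linear_combination e5
  split_ifs at e3 e4 with m1 m2 m2
  · exact two_ne_zero (e4.symm.trans e2)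
  · refine key 1 2 (by push_cast; linear_combination e4) (by push_cast; linear_combination e4 - e2) ?_
    have : (1 : ℚ) ≤ charDegree χ.1 := by exact_mod_cast irr_degree_pos χ
    rw [div_sub_div _ _ hx.ne' (by positivity)]
    exact (div_nonpos_of_nonpos_of_nonneg (by push_cast; linarith) (by positivity)).trans
      (by norm_num)
  · have h4 : ψ.1 t = -1 := by linear_combination -e4
    obtain ⟨a, -, h5, -⟩ := exists_ab c.D (c.sd.isConj c.D.inv_J c.D.kl_τ.r)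
      (c.sd.isConj c.D.inv_J c.D.kl_στ.r) ψ
    have h6 : charDegree ψ.1 = 8 * a + 3 := by
      rw [← Nat.cast_inj (R := ℂ)]; push_cast; linear_combination h5 - 5 * h4 + 2 * e3
    have h7 : a ≠ 0 := fun e => c.ne (eq_bot_iff.2 fun w hw => by
      have := Fintype.ofFinite V
      refine c.sd.miss h2 (V).subtype (V).subtype_injective 1 ?_ (z := 1) norm_one fun v hv => ?_
      · simp only [MonoidHom.one_apply, Units.val_one, one_mul, coe_subtype]
        rw [sum_of_const (δ := -1) fun x hx x1 => by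
          rw [← (irr_isClassFunction ψ).of_isConj (c.sd.isConj c.D.inv_J ⟨x1, c.D.kl_τ.sq hx⟩), h4],
          c.D.kl_τ.card, irr_apply_one, h6, e]
        norm_num
      · have h8 : (v : G) ≠ 1 := fun e => hv (Subtype.ext e)
        rw [one_mul]
        exact c.sd.principal_mul hM m2 ⟨h8, c.D.kl_τ.sq v.2⟩
          (c.sd.mem_Ut_of_mem_Wt c.D.kl_τ v.2 h8 ⟨hw, le_cent1_iff.2 c.cent hw⟩))
    refine key (-2) (-1) (by push_cast; linear_combination e2 + h4) (by exact_mod_cast h4) ?_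
    have : (10 : ℚ) ≤ charDegree χ.1 := by exact_mod_cast (by omega : 10 ≤ charDegree χ.1)
    refine (sub_le_self _ (by positivity)).trans ?_
    rw [div_le_div_iff₀ hx (by norm_num)]
    push_cast
    linarith
  · norm_num at e4

end C3

theorem Sd.card_eq_three (h : Sd G) {S : Subgroup G} {σ τ t : G} (D : DihSyl S σ τ t 1)
    (h1 : τ ∈ 𝐂(Ut t)) (h2 : InvBy (σ * τ) (Ut t))
    (h3 : ∀ Y, Y ≤ Ut t → Y ≠ ⊥ → 𝐍(Y) ≤ 𝐍(Vk t τ)) (h4 : Ut t ≠ ⊥) : Nat.card (Ut t) = 3 := by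
  have h5 := C3.card_le_three ⟨h, D, h1, h2, h3, h4⟩
  have h6 := mt card_eq_one.1 h4
  obtain ⟨k, hk⟩ := odd_Od' 𝐂[t]
  change Nat.card (Ut t) = _ at hk
  omega

end GW
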