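import Cfsg.Agent.Lib.GW.ChA

/-!
# Blocks induced from linear characters of the centralizer of an involution
-/

set_option autoImplicit false
set_option linter.unusedSectionVars false

namespace GW

open Cfsg CT GT BT FT GAG Subgroup
open scoped Pointwise commutatorElement ComplexConjugate MonoidAlgebra

variable {G : Type*} [Group G] [Finite G]

theorem blockCoeff_linChar {p : ℕ} [Fact p.Prime] {M : Ideal AlgInt} (hM : IsPModular p M)
    (hN : HasNormalPComplement p G) (f : G →* ℂˣ) (g : G) [Decidable (g ∈ pPrimeCore p G)] :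
    blockCoeff (blockOf M (linChar f).1) g =
      if g ∈ pPrimeCore p G then (Nat.card (pPrimeCore p G) : ℂ)⁻¹ * conj (f g : ℂ) else 0 := by
  have hu : ∀ x, (f x : ℂ) ∈ locRing hM ∧ (f x : ℂ) ∉ locIdeal hM := fun x => by
    have h1 : ∀ x, (f x : ℂ) ∈ locRing hM := fun x =>
      mem_locRing_of_isIntegral hM (irr_isIntegral (linChar f) x)
    refine ⟨h1 x, fun h => one_not_mem_locIdeal hM ?_⟩
    have := mul_mem_locIdeal_left hM (h1 x⁻¹) h
    rwa [← Units.val_mul, ← map_mul, inv_mul_cancel, map_one, Units.val_one] at this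
  have h1 : ∀ ψ : IrrCharacter G, f • ψ ∈ blockOf M (linChar f).1 ↔ ψ ∈ principalBlock M G := fun ψ =>
    forall_congr' fun x => by
      rw [← mem_locIdeal hM, ← mem_locIdeal hM, ← mul_mem_locIdeal_iff_of_unit hM (hu x).1 (hu x).2
        (z := centralChar (fun _ => 1) x - _)]
      refine iff_of_eq (congrArg (· ∈ locIdeal hM) ?_)
      simp only [centralChar, lin_smul_apply, linChar_apply, map_one, Units.val_one]
      ring
  have h2 := blockCoeff_kerSet (pPrimeCore p G) g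
  rw [← principalBlock_eq_kerSet hM hN, blockCoeff_eq_sum_bset] at h2
  rw [blockCoeff_eq_sum_bset, ← Finset.sum_equiv (MulAction.toPerm f)
    (s := bset (principalBlock M G)) (f := fun χ => χ.1 1 * conj (χ.1 g) * conj (f g : ℂ))
    (fun ψ => by rw [mem_bset, mem_bset]; exact (h1 ψ).symm) fun ψ _ => by
      simp only [MulAction.toPerm_apply, lin_smul_apply, map_one, Units.val_one, map_mul]; ring,
    ← Finset.sum_mul, ← mul_assoc, h2]
  split_ifs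
  · rfl
  · rw [zero_mul]

theorem mem_Od_iff {H : Subgroup G} (hN : HasNormalPComplement 2 H) {g : G} :
    g ∈ Od H ↔ g ∈ H ∧ Odd (orderOf g) := by
  refine ⟨fun h => ⟨Od_le H h, odd_of_mem_Od h⟩, fun ⟨h1, h2⟩ => ?_⟩
  rw [Od, Op'_eq_map]
  exact ⟨⟨g, h1⟩, hasNormalPComplement_iff_forall_mem.1 hN _
    ((isPRegular_mk _).2 (not_two_dvd.2 h2)), rfl⟩

/-- `b` is a linear character of `C`. -/
structure Lin (C : Subgroup G) (b : G → ℂ) : Prop where
  mul : ∀ x ∈ C, ∀ y ∈ C, b (x * y) = b x * b y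
  one : b 1 = 1

namespace Lin
variable {C : Subgroup G} {b : G → ℂ} (h : Lin C b)
include h

theorem mono {K : Subgroup G} (e : K ≤ C) : Lin K b := ⟨fun x hx y hy => h.mul x (e hx) y (e hy), h.one⟩

theorem mul_inv {x : G} (hx : x ∈ C) : b x * b x⁻¹ = 1 := by
  rw [← h.mul x hx _ (inv_mem hx), mul_inv_cancel, h.one]

/-- the homomorphism -/
noncomputable def hom : C →* ℂˣ :=
  MonoidHom.toHomUnits ⟨⟨fun x => b x, h.one⟩, fun x y => h.mul x x.2 y y.2⟩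

theorem hom_apply (x : C) : (h.hom x : ℂ) = b x := rfl

theorem norm {x : G} (hx : x ∈ C) : ‖b x‖ = 1 := units_hom_norm h.hom ⟨x, hx⟩

theorem mul_conj {x : G} (hx : x ∈ C) : b x * conj (b x) = 1 := by
  rw [Complex.mul_conj, Complex.normSq_eq_norm_sq, h.norm hx]; norm_num

theorem conj_eq {x g : G} (hx : x ∈ C) (hg : g ∈ C) : b (g * x * g⁻¹) = b x := by
  rw [h.mul _ (mul_mem hg hx) _ (inv_mem hg), h.mul _ hg _ hx, mul_right_comm, h.mul_inv hg, one_mul]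

theorem conj_eq' {x g : G} (hx : x ∈ C) (hg : g ∈ C) : b (g⁻¹ * x * g) = b x := by
  simpa only [inv_inv] using h.conj_eq hx (inv_mem hg)

theorem isIntegral {x : G} (hx : x ∈ C) : IsIntegral ℤ (conj (b x)) :=
  irr_isIntegral (irrBar (linChar h.hom)) ⟨x, hx⟩

end Lin

open Classical in
/-- coefficients of the idempotent of a linear character -/
noncomputable def cf (O : Subgroup G) (b : G → ℂ) (g : G) : ℂ :=
  if g ∈ O then (Nat.card O : ℂ)⁻¹ * conj (b g) else 0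

/-- twisted average -/
noncomputable def av (O : Subgroup G) (b θ : G → ℂ) (x : G) : ℂ :=
  letI := Fintype.ofFinite O
  (Nat.card O : ℂ)⁻¹ * ∑ w : O, conj (b w) * θ (w * x)

theorem av_def (O : Subgroup G) [Fintype O] (b θ : G → ℂ) (x : G) :
    av O b θ x = (Nat.card O : ℂ)⁻¹ * ∑ w : O, conj (b w) * θ (w * x) := by
  unfold av; congr!

theorem sum_cf [Fintype G] (O : Subgroup G) (b θ : G → ℂ) (x : G) :
    ∑ y, cf O b (y * x⁻¹) * θ y = av O b θ x := by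
  classical
  rw [av_def, ← Equiv.sum_comp (Equiv.mulRight x), Finset.mul_sum,
    ← Finset.sum_subtype (Finset.univ.filter (· ∈ O)) (by simp)
      fun w => (Nat.card O : ℂ)⁻¹ * (conj (b w) * θ (w * x)), Finset.sum_filter]
  refine Finset.sum_congr rfl fun y _ => ?_
  simp only [Equiv.coe_mulRight, mul_inv_cancel_right, cf]
  split_ifs
  · ring
  · rw [zero_mul]

theorem Lin.av_mul {O : Subgroup G} {b : G → ℂ} (h : Lin O b) (θ : G → ℂ) {w : G} (hw : w ∈ O) (x : G) :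
    av O b θ (w * x) = b w * av O b θ x := by
  have := Fintype.ofFinite O
  rw [av_def, av_def, mul_left_comm, Finset.mul_sum (a := b w),
    ← Equiv.sum_comp (Equiv.mulRight (⟨w, hw⟩ : O)) fun y : O => b w * (conj (b y) * θ (y * x))]
  refine congrArg _ (Finset.sum_congr rfl fun y _ => ?_)
  simp only [Equiv.coe_mulRight, coe_mul, h.mul _ y.2 _ hw, map_mul, mul_assoc]
  linear_combination -(conj (b y) * θ (y * (w * x))) * h.mul_conj hw

theorem av_eq_sum (O : Subgroup G) (b : G → ℂ) {θ : G → ℂ} (hθ : IsClassFunction G θ) (x : G) :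
    av O b θ x = ∑ χ : IrrCharacter G, ip θ χ.1 * av O b χ.1 x := by
  have := Fintype.ofFinite O
  simp only [av_def, Finset.mul_sum, hθ.apply_eq_sum_irr (_ * x)]
  rw [Finset.sum_comm]
  exact Finset.sum_congr rfl fun χ _ => Finset.sum_congr rfl fun w _ => by ring

theorem av_of_const {O : Subgroup G} {b θ : G → ℂ} {x : G} {c : ℂ}
    (h : ∀ w ∈ O, θ (w * x) ≠ 0 → b w = c) : av O b θ x = conj c * av O 1 θ x := by
  have := Fintype.ofFinite O
  rw [av_def, av_def, mul_left_comm, Finset.mul_sum (a := conj c)]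
  refine congrArg _ (Finset.sum_congr rfl fun w _ => ?_)
  by_cases e : θ (w * x) = 0
  · simp [e]
  · simp [h w w.2 e]

variable {M : Ideal AlgInt} {hM : IsPModular 2 M}

open Classical in
/-- `a` is the pair at `Q` given by the linear character `b`. -/
structure Tp (a : SPair hM G) (Q : Subgroup G) (b : G → ℂ) : Prop where
  eq : a.Q = Q
  coeff : ∀ g, a.e.coeff g = if g ∈ 𝐂(Q) ∧ Odd (orderOf g) then red hM (conj (b g)) else 0

theorem Tp.unique {a a' : SPair hM G} {Q : Subgroup G} {b b' : G → ℂ} (h : Tp a Q b) (h' : Tp a' Q b')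
    (e : ∀ g ∈ 𝐂(Q), Odd (orderOf g) → b g = b' g) : a = a' :=
  SPair.ext' (h.eq.trans h'.eq.symm) (ga_ext fun g => by
    rw [h.coeff, h'.coeff]
    split_ifs with h1
    · rw [e g h1.1 h1.2]
    · rfl)

theorem exists_tp_aux (hM : IsPModular 2 M) {Q : Subgroup G} (hQ : IsPGroup 2 Q)
    (hN : HasNormalPComplement 2 𝐂(Q)) {b : G → ℂ} (hb : Lin 𝐂(Q) b) :
    ∃ a : SPair hM G, Tp a Q b ∧ ∀ g, a.lf.coeff g = cf (Od 𝐂(Q)) b g := by
  classical
  let a := SPair.ofBlock hM hQ (isPBlock_blockOf (M := M) (linChar hb.hom))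
  have h1 : ∀ g, a.lf.coeff g = cf (Od 𝐂(Q)) b g := fun g => by
    rw [SPair.lf_eq (a := a) (C := 𝐂(Q)) rfl (isPBlock_blockOf (M := M) (linChar hb.hom)) rfl, cf]
    by_cases hg : g ∈ 𝐂(Q)
    · rw [coeff_emb_of_mem _ _ hg, coeff_setIdem, blockCoeff_linChar hM hN, Od, Op'_eq_map,
        card_map_of_injective (subtype_injective _)]
      exact if_congr ⟨fun h => ⟨_, h, rfl⟩, fun ⟨x, h, e⟩ => by
        rwa [show x = ⟨g, hg⟩ from Subtype.ext e] at h⟩ rfl rfl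
    · rw [coeff_emb_of_not_mem _ _ hg, if_neg fun h => hg (Od_le _ h)]
  refine ⟨a, ⟨rfl, fun g => ?_⟩, h1⟩
  rw [← a.redA_lf, coeff_redA, h1, cf, if_congr (mem_Od_iff hN) rfl rfl]
  split_ifs with h2
  · have h3 : ¬ 2 ∣ Nat.card (Od 𝐂(Q)) := not_two_dvd.2 (odd_of_le_Od le_rfl)
    rw [red_mul hM (inv_natCast_mem_locRing hM h3) (mem_locRing_of_isIntegral hM (hb.isIntegral h2.1)),
      red_inv hM (natCast_mem _ _) (mt (natCast_mem_locIdeal_iff hM _).1 h3), red_natCast,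
      CharP.cast_eq_mod (ResF hM) 2, Nat.odd_iff.1 (odd_of_le_Od le_rfl), Nat.cast_one, inv_one, one_mul]
  · exact red_zero hM

theorem Tp.part {a : SPair hM G} {Q : Subgroup G} {b : G → ℂ} (h : Tp a Q b)
    (hN : HasNormalPComplement 2 𝐂(Q)) (hb : Lin 𝐂(Q) b) (θ : G → ℂ) (x : G) :
    a.part θ x = av (Od 𝐂(Q)) b θ x := by
  have := Fintype.ofFinite G
  obtain ⟨a', h1, h2⟩ := exists_tp_aux hM (h.eq ▸ a.pgrp) hN hb
  rw [h.unique h1 fun _ _ _ => rfl, SPair.part_eq_sum, ← sum_cf]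
  simp only [h2]

theorem Tp.smul {a : SPair hM G} {Q : Subgroup G} {b : G → ℂ} (h : Tp a Q b) (x : G) :
    Tp (x • a) (MulAut.conj x • Q) fun g => b (x⁻¹ * g * x) := by
  refine ⟨by rw [SPair.smul_Q, h.eq]; rfl, fun g => ?_⟩
  classical
  rw [SPair.smul_e, coeff_cj, h.coeff]
  refine if_congr ?_ rfl rfl
  rw [← conj_smul_centralizer, mem_conj_smul,
    show orderOf (x⁻¹ * g * x) = orderOf g by simpa using FT.orderOf_conj' x⁻¹ g]

theorem Tp.br_eq {a a' : SPair hM G} {Q R : Subgroup G} {b : G → ℂ} (h : Tp a Q b) (h' : Tp a' R b)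
    (e : Q ≤ R) : br R a.e = a'.e := ga_ext fun g => by
  classical
  rw [br_def, coeff_trunc, h.coeff, h'.coeff]
  by_cases hg : g ∈ 𝐂(R)
  · rw [if_pos (show g ∈ (𝐂(R) : Set G) from hg)]
    exact if_congr ⟨fun h => ⟨hg, h.2⟩, fun h => ⟨centralizer_le e hg, h.2⟩⟩ rfl rfl
  · rw [if_neg (show g ∉ (𝐂(R) : Set G) from hg), if_neg fun h => hg h.1]

theorem Tp.smul_eq {a : SPair hM G} {Q C : Subgroup G} {b : G → ℂ} (h : Tp a Q b) (hb : Lin C b)
    (hC : 𝐂(Q) ≤ C) {x : G} (hx : x ∈ C) (hn : x ∈ 𝐍(Q)) : x • a = a := by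
  have h1 := h.smul x
  rw [conj_smul_eq_of_mem_normalizer hn] at h1
  exact h1.unique h fun g hg _ => hb.conj_eq' (hC hg) hx

theorem Tp.le {a a' : SPair hM G} {Q R C : Subgroup G} {b : G → ℂ} (h : Tp a Q b) (h' : Tp a' R b)
    (hb : Lin C b) (hC : 𝐂(Q) ≤ C) (e : Q ≤ R) (h1 : R ≤ C) (h2 : R ≤ 𝐍(Q)) : a.Le a' := by
  rw [SPair.le_iff_br (by rwa [h.eq, h'.eq]) fun x hx => h.smul_eq hb hC (h1 (h'.eq ▸ hx)) (h2 (h'.eq ▸ hx)),
    h'.eq, h.br_eq h' e, a'.bidem.idem]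

theorem Tp.eq_of_le {a a' c : SPair hM G} {Q C : Subgroup G} {b : G → ℂ} (h : Tp a Q b) (h' : Tp a' c.Q b)
    (hb : Lin C b) (hC : 𝐂(Q) ≤ C) (e : a.Le c) (h1 : c.Q ≤ C) (h2 : c.Q ≤ 𝐍(Q)) : c = a' := by
  have h3 := (SPair.le_iff_br e.le fun x hx => h.smul_eq hb hC (h1 hx) (h2 hx)).1 e
  rw [h.br_eq h' (h.eq ▸ e.le)] at h3
  refine SPair.ext' h'.eq.symm ?_
  rcases (h'.eq ▸ a'.bidem).eq_or_mul_eq_zero c.bidem with h4 | h4
  · exact h4.symm
  · exact (c.bidem.ne_zero (h3.symm.trans h4)).elim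

section Dih
variable {S : Subgroup G} {σ τ t : G} {k : ℕ} (D : DihSyl S σ τ t k) {b : G → ℂ} (hb : Lin 𝐂[t] b)

theorem cent_le_of_mem {Q : Subgroup G} {t : G} (h : t ∈ Q) : 𝐂(Q) ≤ 𝐂[t] :=
  centralizer_le (Set.singleton_subset_iff.2 h)

include D hb

theorem exists_tp (hM : IsPModular 2 M) {Q : Subgroup G} (hQ : IsPGroup 2 Q) (ht : t ∈ Q) :
    ∃ a : SPair hM G, Tp a Q b :=
  (exists_tp_aux hM hQ (hasNormalPComplement_of_le D.nilp (cent_le_of_mem ht))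
    (hb.mono (cent_le_of_mem ht))).imp fun _ h => h.1

theorem Tp.of_le {a c : SPair hM G} (h : Tp a (zpowers t) b) (e : a.Le c) (h1 : c.Q ≤ 𝐂[t]) :
    Tp c c.Q b := by
  obtain ⟨a', h2⟩ := exists_tp D hb hM c.pgrp (e.le (h.eq ▸ mem_zpowers t))
  have h3 := h.eq_of_le h2 hb (cent_le_of_mem (mem_zpowers t)) e h1
    (h1.trans ((centralizer_zpowers_eq t).ge.trans (cent_le_norm _)))
  exact ⟨rfl, fun g => by rw [← h2.coeff, ← h3]⟩

theorem Tp.le' {a c : SPair hM G} {Q : Subgroup G} (h : Tp a (zpowers t) b) (h' : Tp c Q b) (ht : t ∈ Q)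
    (h1 : Q ≤ 𝐂[t]) : a.Le c :=
  h.le h' hb (cent_le_of_mem (mem_zpowers t)) (zpowers_le.2 ht) h1
    (h1.trans ((centralizer_zpowers_eq t).ge.trans (cent_le_norm _)))

theorem Tp.part_eq {a : SPair hM G} {u : G} (ht : t ∈ zpowers u) (h : Tp a (zpowers u) b) (θ : G → ℂ)
    (x : G) : a.part θ x = av (Ut u) b θ x := by
  rw [h.part (hasNormalPComplement_of_le D.nilp (cent_le_of_mem ht)) (hb.mono (cent_le_of_mem ht)),
    centralizer_zpowers_eq]

theorem exists_maxP (hM : IsPModular 2 M) : ∃ (B : Set (IrrCharacter G)) (m : SPair hM G),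
    MaxP B m ∧ m.Q = S ∧ Tp (m.at t) (zpowers t) b := by
  obtain ⟨m, hm⟩ := exists_tp D hb hM D.syl.isPGroup (D.le D.J_mem)
  obtain ⟨a, ha⟩ := exists_tp D hb hM D.inv_J.isPGroup (mem_zpowers t)
  obtain ⟨B, h1, h2⟩ := m.exists_of
  refine ⟨B, m, ⟨h1, h2, maxBP_of_aug_ne_zero hM m.bp (hm.eq ▸ D.syl)⟩, hm.eq, ?_⟩
  rwa [← (ha.le' D hb hm (D.le D.J_mem) D.le_C).eq_at (mem_pairsAt.2 ha.eq)]

variable {B : Set (IrrCharacter G)} {m : SPair hM G} (hm : MaxP B m) (hS : m.Q = S)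
  (ht : Tp (m.at t) (zpowers t) b)
include hm hS ht

theorem smul_eq_at (h : Sd G) {s g : G} (hs : s ∈ S) (hk : Kl t s) (h1 : g * t * g⁻¹ = s)
    (h2 : g * s * g⁻¹ = t * s) {b' : G → ℂ} (hb' : Lin 𝐂[t] b')
    (h3 : ∀ w ∈ Wt t s, b (g * w * g⁻¹) = b' w) {a : SPair hM G} (ha : Tp a (zpowers t) b') :
    g • a = m.at s := by
  have hV : Vk t s ≤ m.Q := hS ▸ hk.Vk_le.2 ⟨D.le D.J_mem, hs⟩
  have hC : Vk t s ≤ 𝐂[t] := hV.trans (hS ▸ D.le_C)
  have e1 := SPair.below_Q hV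
  have h4 := ht.of_le D hb ((m.below_le _).at_le (e1.ge hk.left_mem)) (e1.le.trans hC)
  rw [e1] at h4
  obtain ⟨c, hc⟩ := exists_tp D hb' hM hk.isPGroup hk.left_mem
  have h5 := h4.smul g⁻¹
  rw [conj_smul_eq_of_mem_normalizer (inv_mem (hk.mem_norm (h1 ▸ hk.right_mem)
    (h2 ▸ mul_mem hk.left_mem hk.right_mem)))] at h5
  have h6 := h5.unique hc fun w hw ho => by
    rw [hk.cent_Vk] at hw
    rw [inv_inv, h3 w (mem_inf.2 ⟨h.mem_Ut hk.l hw.1 ho, hw.2⟩)]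
  have h7 := (ha.le' D hb' hc hk.left_mem hC).smul g
  rw [← h6, smul_inv_smul] at h7
  exact (h7.trans (m.below_le _)).eq_at (h1 ▸ (smul_mem_pairsAt g).2 (mem_pairsAt.2 ha.eq))

theorem pairs_at (h : Sd G) {T : Set (G → ℂ)} (hT : ∀ b' ∈ T, Lin 𝐂[t] b') (h0 : b ∈ T)
    (h1 : ∀ s ∈ S, Kl t s → ∃ g, ∃ b' ∈ T, g * t * g⁻¹ = s ∧ g * s * g⁻¹ = t * s ∧
      ∀ w ∈ Wt t s, b (g * w * g⁻¹) = b' w) {a : SPair hM G} (ha : a ∈ pairsAt hM t) (hB : a.Of B) :
    ∃ b' ∈ T, Tp a (zpowers t) b' := by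
  obtain ⟨x, hx⟩ := hm.exists_smul_le hB
  have h2 := (smul_mem_pairsAt x).2 ha
  have h3 : x * t * x⁻¹ ∈ S := hS ▸ hx.le (self_mem_of_mem_pairsAt h2)
  have h4 := hx.eq_at h2
  have h5 : ∀ y : G, y * t * y⁻¹ = t → y • a = a := fun y hy => SPair.smul_of_mem_centralizer
    ((mem_centralizer_of_mem_pairsAt ha).2 (mul_inv_eq_iff_eq_mul.1 hy).symm)
  by_cases e : x * t * x⁻¹ = t
  · rw [h5 x e, e] at h4
    exact ⟨b, h0, h4 ▸ ht⟩
  · obtain ⟨g, b', hb', g1, g2, g3⟩ := h1 _ h3 ⟨D.inv_J, D.inv_J.conj x, Ne.symm e,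
      (mem_centralizer_singleton_iff.1 (D.le_C h3)).symm⟩
    obtain ⟨c, hc⟩ := exists_tp D (hT b' hb') hM D.inv_J.isPGroup (mem_zpowers t)
    have h6 := smul_eq_at D hb hm hS ht h h3 ⟨D.inv_J, D.inv_J.conj x, Ne.symm e,
      (mem_centralizer_singleton_iff.1 (D.le_C h3)).symm⟩ g1 g2 (hT b' hb') g3 hc
    have h7 := h5 (g⁻¹ * x) (by
      calc _ = g⁻¹ * (x * t * x⁻¹) * g := by group
        _ = t := by rw [← g1]; group)
    rw [mul_smul, h4, ← h6, inv_smul_smul] at h7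
    exact ⟨b', hb', h7 ▸ hc⟩

end Dih

/-- `B` is a block all of whose subsections at non-trivial `2`-elements come from `b`. -/
structure Pure (M : Ideal AlgInt) (t : G) (b : G → ℂ) (B : Set (IrrCharacter G)) : Prop where
  block : IsPBlock M B
  mem : ∀ u, IsPElt 2 u → t ∈ zpowers u → ∀ χ ∈ B, ∀ w ∈ Ut u, χ.1 (w * u) = av (Ut u) b χ.1 (w * u)
  not_mem : ∀ u, IsPElt 2 u → t ∈ zpowers u → ∀ χ ∉ B, av (Ut u) b χ.1 u = 0

theorem pPart_Ut_mul {u w : G} (hu : IsPElt 2 u) (hw : w ∈ Ut u) : pPart 2 (w * u) = u :=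
  pPart_mul_eq' (mem_centralizer_singleton_iff.1 (Ut_le u hw)).symm hu (not_two_dvd.2 (odd_of_mem_Od hw))

theorem Sd.exists_pure (h : Sd G) (hM : IsPModular 2 M) {S : Subgroup G} {σ τ t : G} {k : ℕ}
    (D : DihSyl S σ τ t k) {b : G → ℂ} (hb : Lin 𝐂[t] b)
    (h1 : ∀ s ∈ S, Kl t s → ∃ g, g * t * g⁻¹ = s ∧ g * s * g⁻¹ = t * s ∧
      ∀ w ∈ Wt t s, b (g * w * g⁻¹) = b w) : ∃ B, Pure M t b B := by
  obtain ⟨B, m, hm, hS, ht⟩ := exists_maxP D hb hM
  have h2 : ∀ a ∈ pairsAt hM t, a.Of B → Tp a (zpowers t) b := fun a ha hB => by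
    obtain ⟨_, rfl, h3⟩ := pairs_at D hb hm hS ht h (T := {b}) (by rintro _ rfl; exact hb) rfl
      (fun s hs hk => (h1 s hs hk).imp fun g hg => ⟨b, rfl, hg⟩) ha hB
    exact h3
  have h3 : ∀ u, t ∈ zpowers u → zpowers u ≤ 𝐂[t] := fun u hu =>
    zpowers_le.2 (cent_le_of_mem hu ((centralizer_zpowers_eq u).ge (mem_centralizer_singleton_iff.2 rfl)))
  have h4 : ∀ u, t ∈ zpowers u → ∀ a : SPair hM G, Tp a (zpowers u) b → a.Of B := fun u hu a ha =>
    ((ht.le' D hb ha hu (h3 u hu)).of_iff hm.block).1 (hm.at_of t)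
  refine ⟨B, hm.block, fun u hu htu χ hχ w hw => ?_, fun u hu htu χ hχ => ?_⟩
  · obtain ⟨c, hc⟩ := exists_tp D hb hM hu.isPGroup_zpowers htu
    rw [← sum_part (hM := hM) hu χ.1, Finset.sum_eq_single c (fun a ha hne => ?_)
      fun h => (h (mem_pairsAt.2 hc.eq)).elim, hc.part_eq D hb htu]
    refine SPair.part_irr_eq_zero (by rwa [pPart_Ut_mul hu hw]) hm.block hχ fun hB => hne ?_
    have h5 := mem_pairsAt.1 ha
    have h6 := (h2 _ (SPair.at_mem (h5.ge htu)) (((a.at_le t).of_iff hm.block).2 hB)).of_le D hb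
      (a.at_le t) (h5 ▸ h3 u htu)
    rw [h5] at h6
    exact h6.unique hc fun _ _ _ => rfl
  · obtain ⟨c, hc⟩ := exists_tp D hb hM hu.isPGroup_zpowers htu
    rw [← hc.part_eq D hb htu]
    exact SPair.part_irr_eq_zero (by rw [hu.pPart_eq]; exact mem_pairsAt.2 hc.eq) (isPBlock_blockOf χ)
      (mem_blockOf_self hM χ) fun hB => hχ (SPair.Of.unique hm.block (isPBlock_blockOf χ)
        (h4 u htu c hc) hB ▸ mem_blockOf_self hM χ)

/-- The unstable case: three linear characters. -/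
theorem Sd.exists_three (h : Sd G) (hM : IsPModular 2 M) {S : Subgroup G} {τ t g : G}
    (D : DihSyl S t τ t 0) (g1 : g * t * g⁻¹ = τ) (g2 : g * τ * g⁻¹ = t * τ) {b : Fin 3 → G → ℂ}
    (hb : ∀ i, Lin 𝐂[t] (b i)) (h1 : ∀ w ∈ Wt t τ, b 0 (g * w * g⁻¹) = b 1 w)
    (h2 : ∀ w ∈ Wt t τ, b 0 (g⁻¹ * w * g) = b 2 w) (h3 : ∀ i j, (∀ w ∈ Ut t, b i w = b j w) → i = j) :
    ∃ B, IsPBlock M B ∧ (∀ χ ∈ B, ∀ w ∈ Ut t, χ.1 (w * t) = ∑ i, av (Ut t) (b i) χ.1 (w * t)) ∧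
      ∀ χ ∉ B, ∀ i, av (Ut t) (b i) χ.1 t = 0 := by
  classical
  obtain ⟨B, m, hm, hS, ht⟩ := exists_maxP D (hb 0) hM
  have hk := D.kl_τ
  have g3 : g⁻¹ * t * g⁻¹⁻¹ = t * τ := by
    have : g * (t * τ) * g⁻¹ = t := by
      rw [← conj_mul, g1, g2, ← mul_assoc, ← hk.comm, hk.r.mul_mul']
    conv_lhs => rw [← this]
    group
  have g4 : g⁻¹ * (t * τ) * g⁻¹⁻¹ = t * (t * τ) := by
    rw [hk.l.mul_mul, ← g2]; group
  have g5 : ∀ w ∈ Wt t (t * τ), b 0 (g⁻¹ * w * g⁻¹⁻¹) = b 2 w := fun w hw => by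
    rw [inv_inv, h2 w (Wt_mul hk ▸ hw)]
  choose c hc using fun i => exists_tp D (hb i) hM D.inv_J.isPGroup (mem_zpowers t)
  have h4 : ∀ i, (c i).Of B := fun i => by
    fin_cases i
    · exact ht.unique (hc 0) (fun _ _ _ => rfl) ▸ hm.at_of t
    · exact (SPair.smul_of_iff g).1
        (smul_eq_at D (hb 0) hm hS ht h D.τ_mem hk g1 g2 (hb 1) h1 (hc 1) ▸ hm.at_of τ)
    · exact (SPair.smul_of_iff g⁻¹).1 (smul_eq_at D (hb 0) hm hS ht h (mul_mem D.σ_mem D.τ_mem) D.kl_στ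
        g3 g4 (hb 2) g5 (hc 2) ▸ hm.at_of _)
  have h5 : Function.Injective c := fun i j e => h3 i j fun w hw => by
    have h6 := fun i => (hc i).part_eq D (hb i) (mem_zpowers t) (fun x => if x = w then 1 else 0) 1
    have h7 : ∀ i, av (Ut t) (b i) (fun x => if x = w then 1 else 0) 1 =
        (Nat.card (Ut t) : ℂ)⁻¹ * conj (b i w) := fun i => by
      have := Fintype.ofFinite (Ut t)
      rw [av_def, Finset.sum_eq_single ⟨w, hw⟩ (fun y _ hy => by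
        rw [if_neg fun e => hy (Subtype.ext (by simpa using e)), mul_zero]) (by simp)]
      simp
    have h8 := (h6 i).symm.trans (e ▸ h6 j)
    rw [h7, h7] at h8
    exact (starRingEnd ℂ).injective (mul_left_cancel₀ (inv_ne_zero card_cast_ne_zero) h8)
  refine ⟨B, hm.block, fun χ hχ w hw => ?_, fun χ hχ i => ?_⟩
  · rw [← sum_part (hM := hM) D.inv_J.isPElt χ.1, ← Finset.sum_subset (s₁ := Finset.univ.image c)
      (fun a ha => by
        obtain ⟨i, -, rfl⟩ := Finset.mem_image.1 ha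
        exact mem_pairsAt.2 (hc i).eq) fun a ha hne => ?_, Finset.sum_image fun i _ j _ e => h5 e]
    · exact Finset.sum_congr rfl fun i _ => (hc i).part_eq D (hb i) (mem_zpowers t) _ _
    refine SPair.part_irr_eq_zero (by rwa [pPart_Ut_mul D.inv_J.isPElt hw]) hm.block hχ fun hB => hne ?_
    obtain ⟨_, ⟨i, rfl⟩, h6⟩ := pairs_at D (hb 0) hm hS ht h (T := Set.range b)
      (by rintro _ ⟨i, rfl⟩; exact hb i) ⟨0, rfl⟩ (fun s hs hk' => by
        rcases D.cases_of_zero hs hk'.r.ne with rfl | rfl | rfl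
        · exact (hk'.ne rfl).elim
        · exact ⟨g, _, ⟨1, rfl⟩, g1, g2, h1⟩
        · exact ⟨g⁻¹, _, ⟨2, rfl⟩, g3, g4, g5⟩) ha hB
    exact Finset.mem_image.2 ⟨i, Finset.mem_univ _, (hc i).unique h6 fun _ _ _ => rfl⟩
  · rw [← (hc i).part_eq D (hb i) (mem_zpowers t)]
    exact SPair.part_irr_eq_zero (by rw [D.inv_J.isPElt.pPart_eq]; exact mem_pairsAt.2 (hc i).eq)
      (isPBlock_blockOf χ) (mem_blockOf_self hM χ) fun hB => hχ (SPair.Of.unique hm.block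
        (isPBlock_blockOf χ) (h4 i) hB ▸ mem_blockOf_self hM χ)

end GW
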