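import Cfsg.Agent.Lib.GW.Psl2

/-!
# `PSL(2, F) ≤ PGL(2, F) ≤ PΓL(2, F)` as permutation groups of the projective line

The automorphism group of `PSL(2, F)` is `PΓL(2, F)` for finite `F` of odd order.
-/

set_option autoImplicit false
set_option linter.unusedSectionVars false

namespace GW.DL

open Cfsg GT Matrix OnePoint Subgroup

variable {F : Type*} [Field F] [DecidableEq F]

local notation "Ω" => OnePoint F
local notation "GL2" => GL (Fin 2) F

/-- Möbius transformations -/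
noncomputable def mob : GL2 →* Equiv.Perm Ω := MulAction.toPermHom GL2 Ω

/-- an invertible matrix with given entries -/
noncomputable def g2 (a b c d : F) (h : a * d - b * c ≠ 0) : GL2 :=
  GeneralLinearGroup.mkOfDetNeZero !![a, b; c, d] (by rwa [det_fin_two_of])

@[simp] theorem g2_00 (a b c d : F) (h) : g2 a b c d h 0 0 = a := rfl
@[simp] theorem g2_01 (a b c d : F) (h) : g2 a b c d h 0 1 = b := rfl
@[simp] theorem g2_10 (a b c d : F) (h) : g2 a b c d h 1 0 = c := rfl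
@[simp] theorem g2_11 (a b c d : F) (h) : g2 a b c d h 1 1 = d := rfl

theorem gl_det (g : GL2) : g 0 0 * g 1 1 - g 0 1 * g 1 0 ≠ 0 := by
  have := g.det_ne_zero
  rwa [det_fin_two] at this

theorem gl_det_val (g : GL2) :
    (GeneralLinearGroup.det g : F) = g 0 0 * g 1 1 - g 0 1 * g 1 0 := by
  rw [GeneralLinearGroup.val_det_apply, det_fin_two]

theorem gl_mul (g h : GL2) (i j : Fin 2) : (g * h) i j = g i 0 * h 0 j + g i 1 * h 1 j := by
  rw [GeneralLinearGroup.coe_mul, mul_apply, Fin.sum_univ_two]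

theorem gl_ext {g h : GL2} (h00 : g 0 0 = h 0 0) (h01 : g 0 1 = h 0 1) (h10 : g 1 0 = h 1 0)
    (h11 : g 1 1 = h 1 1) : g = h := by
  ext i j
  fin_cases i <;> fin_cases j <;> assumption

theorem mob_infty (g : GL2) : mob g ∞ = if g 1 0 = 0 then ∞ else ((g 0 0 / g 1 0 : F) : Ω) :=
  smul_infty_eq_ite g

theorem mob_coe (g : GL2) (k : F) : mob g (k : Ω) = if g 1 0 * k + g 1 1 = 0 then ∞ else
    (((g 0 0 * k + g 0 1) / (g 1 0 * k + g 1 1) : F) : Ω) :=
  smul_some_eq_ite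

theorem mob_infty_iff {g : GL2} : mob g ∞ = ∞ ↔ g 1 0 = 0 := smul_infty_eq_self_iff

theorem mob_coe_of_tri {g : GL2} (h : g 1 0 = 0) (k : F) :
    mob g (k : Ω) = ((g 0 0 / g 1 1 * k + g 0 1 / g 1 1 : F) : Ω) := by
  have hd := gl_det g
  rw [h, mul_zero, sub_zero] at hd
  have h1 := right_ne_zero_of_mul hd
  rw [mob_coe, h, zero_mul, zero_add, if_neg h1, coe_eq_coe]
  field_simp

theorem perm_ext {π π' : Equiv.Perm Ω} (h1 : π ∞ = π' ∞) (h2 : ∀ k : F, π k = π' k) : π = π' :=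
  Equiv.ext fun x => by
    cases x with
    | infty => exact h1
    | coe k => exact h2 k

theorem p_apply_inv {α : Type*} (π : Equiv.Perm α) (x : α) : π (π⁻¹ x) = x :=
  π.apply_symm_apply x

theorem p_inv_apply {α : Type*} (π : Equiv.Perm α) (x : α) : π⁻¹ (π x) = x :=
  π.symm_apply_apply x

theorem mob_eq_one_iff {g : GL2} : mob g = 1 ↔ g 0 1 = 0 ∧ g 1 0 = 0 ∧ g 0 0 = g 1 1 := by
  have hd := gl_det g
  constructor
  · intro h
    have a1 : g 1 0 = 0 := mob_infty_iff.1 (by rw [h]; rfl)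
    rw [a1, mul_zero, sub_zero] at hd
    have a2 := right_ne_zero_of_mul hd
    have b2 : mob g ((0 : F) : Ω) = (0 : F) := by rw [h]; rfl
    have b3 : mob g ((1 : F) : Ω) = (1 : F) := by rw [h]; rfl
    rw [mob_coe_of_tri a1, coe_eq_coe] at b2 b3
    have a3 : g 0 1 = 0 := by simpa [a2] using b2
    exact ⟨a3, a1, by simpa [a3, div_eq_one_iff_eq a2] using b3⟩
  · rintro ⟨a1, a2, a3⟩
    rw [a2, mul_zero, sub_zero] at hd
    refine perm_ext (mob_infty_iff.2 a2) fun k => ?_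
    rw [mob_coe_of_tri a2, a1, a3, div_self (right_ne_zero_of_mul hd)]
    simp

theorem mob_eq_one_iff' {g : GL2} :
    mob g = 1 ↔ ∃ c : Fˣ, g = GeneralLinearGroup.scalar (Fin 2) c := by
  rw [mob_eq_one_iff]
  constructor
  · rintro ⟨a1, a2, a3⟩
    have hd := gl_det g
    rw [a2, mul_zero, sub_zero] at hd
    refine ⟨Units.mk0 _ (right_ne_zero_of_mul hd), gl_ext ?_ ?_ ?_ ?_⟩ <;> simp [a1, a2, a3]
  · rintro ⟨c, rfl⟩
    simp

theorem mob_scalar (c : Fˣ) : mob (GeneralLinearGroup.scalar (Fin 2) c) = 1 :=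
  mob_eq_one_iff'.2 ⟨c, rfl⟩

theorem mob_eq_iff {g h : GL2} :
    mob g = mob h ↔ ∃ c : F, c ≠ 0 ∧ ∀ i j, g i j = c * h i j := by
  rw [← mul_inv_eq_one, ← map_inv, ← map_mul, mob_eq_one_iff']
  constructor
  · rintro ⟨c, hc⟩
    refine ⟨c, c.ne_zero, fun i j => ?_⟩
    rw [mul_inv_eq_iff_eq_mul] at hc
    rw [hc, gl_mul]
    fin_cases i <;> simp
  · rintro ⟨c, hc, h⟩
    refine ⟨Units.mk0 c hc, ?_⟩
    rw [mul_inv_eq_iff_eq_mul]
    refine gl_ext ?_ ?_ ?_ ?_ <;> simp [gl_mul, h]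

theorem mob_eq_one_of_fix {g : GL2} (h1 : mob g ∞ = ∞) (h2 : mob g ((0 : F) : Ω) = (0 : F))
    (h3 : mob g ((1 : F) : Ω) = (1 : F)) : mob g = 1 := by
  have a1 := mob_infty_iff.1 h1
  have hd := gl_det g
  rw [a1, mul_zero, sub_zero] at hd
  have a2 := right_ne_zero_of_mul hd
  rw [mob_coe_of_tri a1, coe_eq_coe] at h2 h3
  have a3 : g 0 1 = 0 := by simpa [a2] using h2
  exact mob_eq_one_iff.2 ⟨a3, a1, by simpa [a3, div_eq_one_iff_eq a2] using h3⟩

/-- the affine map `x ↦ a x + b` -/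
noncomputable def aff (a b : F) (ha : a ≠ 0) : Equiv.Perm Ω := mob (g2 a b 0 1 (by simpa))

@[simp] theorem aff_infty (a b : F) (ha) : aff a b ha ∞ = ∞ := mob_infty_iff.2 rfl

@[simp] theorem aff_coe (a b : F) (ha) (k : F) : aff a b ha k = ((a * k + b : F) : Ω) := by
  rw [aff, mob_coe_of_tri rfl]; simp

theorem exists_aff {g : GL2} (h : mob g ∞ = ∞) : ∃ a b ha, mob g = aff a b ha ∧
    a * g 1 1 ^ 2 = GeneralLinearGroup.det g := by
  have a1 := mob_infty_iff.1 h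
  have hd := gl_det g
  rw [a1, mul_zero, sub_zero] at hd
  have a2 := right_ne_zero_of_mul hd
  refine ⟨g 0 0 / g 1 1, g 0 1 / g 1 1, div_ne_zero (left_ne_zero_of_mul hd) a2,
    perm_ext (by rw [h, aff_infty]) fun k => by rw [mob_coe_of_tri a1, aff_coe], ?_⟩
  rw [gl_det_val, a1]; field_simp; ring

theorem exists_mob_infty (ω : Ω) :
    ∃ s : SpecialLinearGroup (Fin 2) F, mob (SpecialLinearGroup.toGL s) ∞ = ω := by
  cases ω with
  | infty => exact ⟨1, by simp⟩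
  | coe k =>
    obtain ⟨s, a1, -, a3, -⟩ := exists_sl2_entries k (-1) 1 0 (by simp)
    exact ⟨s, (sl2_smul_infty s).trans (by simp [a1, a3])⟩

theorem exists_mob_three {a b c : Ω} (hab : a ≠ b) (hac : a ≠ c) (hbc : b ≠ c) :
    ∃ g : GL2, mob g ∞ = a ∧ mob g ((0 : F) : Ω) = b ∧ mob g ((1 : F) : Ω) = c := by
  obtain ⟨s, rfl⟩ := exists_mob_infty a
  set π := mob (SpecialLinearGroup.toGL s)
  obtain ⟨x, hx⟩ := ne_infty_iff_exists.1 (show π⁻¹ b ≠ ∞ from fun h => hab (by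
    rw [← h, p_apply_inv]))
  obtain ⟨y, hy⟩ := ne_infty_iff_exists.1 (show π⁻¹ c ≠ ∞ from fun h => hac (by
    rw [← h, p_apply_inv]))
  have hxy : y - x ≠ 0 := fun h => hbc (π⁻¹.injective (by rw [← hx, ← hy, sub_eq_zero.1 h]))
  refine ⟨SpecialLinearGroup.toGL s * g2 (y - x) x 0 1 (by simpa), ?_, ?_, ?_⟩ <;>
    rw [map_mul, Equiv.Perm.mul_apply]
  · exact congrArg π (aff_infty _ _ hxy)
  · refine (congrArg π (aff_coe _ _ hxy 0)).trans ?_
    rw [mul_zero, zero_add, hx, p_apply_inv]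
  · refine (congrArg π (aff_coe _ _ hxy 1)).trans ?_
    rw [mul_one, sub_add_cancel, hy, p_apply_inv]

/-- field automorphisms acting on the projective line -/
def frb : RingAut F →* Equiv.Perm Ω where
  toFun σ := Equiv.optionCongr σ.toEquiv
  map_one' := perm_ext rfl fun _ => rfl
  map_mul' _ _ := perm_ext rfl fun _ => rfl

@[simp] theorem frb_infty (σ : RingAut F) : frb σ (∞ : Ω) = ∞ := rfl
@[simp] theorem frb_coe (σ : RingAut F) (k : F) : frb σ (k : Ω) = (σ k : F) := rfl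

/-- a field automorphism applied to a matrix -/
noncomputable def gmap (σ : RingAut F) : GL2 →* GL2 :=
  GeneralLinearGroup.map (σ : F →+* F)

@[simp] theorem gmap_apply (σ : RingAut F) (g : GL2) (i j : Fin 2) :
    gmap σ g i j = σ (g i j) := rfl

theorem gmap_det (σ : RingAut F) (g : GL2) :
    (GeneralLinearGroup.det (gmap σ g) : F) = σ (GeneralLinearGroup.det g : F) := by
  rw [gl_det_val, gl_det_val]; simp

theorem gmap_mul (σ τ : RingAut F) (g : GL2) : gmap (σ * τ) g = gmap σ (gmap τ g) :=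
  gl_ext rfl rfl rfl rfl

theorem gmap_one (g : GL2) : gmap 1 g = g := gl_ext rfl rfl rfl rfl

theorem frb_mul_mob (σ : RingAut F) (g : GL2) : frb σ * mob g = mob (gmap σ g) * frb σ :=
  Equiv.ext fun x => by
    have h : ∀ y : Ω, frb σ y = OnePoint.map (σ : F →+* F) y := fun y => by cases y <;> rfl
    rw [Equiv.Perm.mul_apply, Equiv.Perm.mul_apply, h, h]
    exact OnePoint.map_smul (σ : F →+* F) g x

theorem frb_conj (σ : RingAut F) (g : GL2) : frb σ * mob g * (frb σ)⁻¹ = mob (gmap σ g) := by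
  rw [frb_mul_mob, mul_inv_cancel_right]

theorem eq_of_mob_mul_frb {g h : GL2} {σ τ : RingAut F} (e : mob g * frb σ = mob h * frb τ) :
    σ = τ ∧ mob g = mob h := by
  have e1 : mob (h⁻¹ * g) = frb (τ * σ⁻¹) := by
    rw [map_mul, map_mul, map_inv, map_inv, inv_mul_eq_iff_eq_mul, ← mul_assoc, ← e,
      mul_inv_cancel_right]
  have e2 : mob (h⁻¹ * g) = 1 := mob_eq_one_of_fix (by rw [e1, frb_infty])
    (by rw [e1, frb_coe, map_zero]) (by rw [e1, frb_coe, map_one])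
  have e3 : τ * σ⁻¹ = 1 := RingEquiv.ext fun k => by
    have := congrArg (· (k : Ω)) (e1.symm.trans e2)
    exact coe_eq_coe.1 this
  rw [map_mul, map_inv, inv_mul_eq_one] at e2
  exact ⟨(mul_inv_eq_one.1 e3).symm, e2.symm⟩

variable (F) in
/-- `PGL(2, F)` -/
noncomputable def PGL : Subgroup (Equiv.Perm Ω) := mob.range

variable (F) in
/-- `PSL(2, F)` -/
noncomputable def PSL : Subgroup (Equiv.Perm Ω) := (mob.comp SpecialLinearGroup.toGL).range

variable (F) in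
/-- `PΓL(2, F)` -/
noncomputable def PGaL : Subgroup (Equiv.Perm Ω) where
  carrier := {π | ∃ g σ, π = mob g * frb σ}
  one_mem' := ⟨1, 1, by simp⟩
  mul_mem' := by
    rintro _ _ ⟨g, σ, rfl⟩ ⟨h, τ, rfl⟩
    exact ⟨g * gmap σ h, σ * τ, by
      rw [map_mul, map_mul, mul_assoc, ← mul_assoc (frb σ), frb_mul_mob]; simp only [mul_assoc]⟩
  inv_mem' := by
    rintro _ ⟨g, σ, rfl⟩
    exact ⟨gmap σ⁻¹ g⁻¹, σ⁻¹, by rw [← frb_mul_mob, _root_.mul_inv_rev, map_inv, map_inv]⟩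

theorem mem_PGaL {π : Equiv.Perm Ω} : π ∈ PGaL F ↔ ∃ g σ, π = mob g * frb σ := Iff.rfl

theorem mem_PGL {π : Equiv.Perm Ω} : π ∈ PGL F ↔ ∃ g, mob g = π := Iff.rfl

theorem mob_mem_PGL (g : GL2) : mob g ∈ PGL F := ⟨g, rfl⟩

theorem mem_PSL {π : Equiv.Perm Ω} :
    π ∈ PSL F ↔ ∃ g : GL2, (GeneralLinearGroup.det g : F) = 1 ∧ mob g = π := by
  constructor
  · rintro ⟨s, rfl⟩
    exact ⟨_, by simp, rfl⟩
  · rintro ⟨g, hg, rfl⟩
    exact ⟨⟨g.1, hg⟩, congrArg mob (Units.ext rfl)⟩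

theorem mob_mem_PSL {g : GL2} : mob g ∈ PSL F ↔ IsSquare (GeneralLinearGroup.det g : F) := by
  rw [mem_PSL]
  constructor
  · rintro ⟨h, h1, h2⟩
    obtain ⟨c, -, hc⟩ := mob_eq_iff.1 h2.symm
    rw [gl_det_val] at h1 ⊢
    exact ⟨c, by simp only [hc]; linear_combination c * c * h1⟩
  · rintro ⟨c, hc⟩
    have hc0 : c ≠ 0 := by rintro rfl; exact (GeneralLinearGroup.det g).ne_zero (by simpa using hc)
    refine ⟨GeneralLinearGroup.scalar (Fin 2) (Units.mk0 c hc0)⁻¹ * g, ?_, ?_⟩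
    · rw [map_mul, Units.val_mul, hc, GeneralLinearGroup.det_scalar]
      simp; field_simp
    · rw [map_mul, mob_scalar, one_mul]

theorem PSL_le_PGL : PSL F ≤ PGL F := by
  rintro _ ⟨s, rfl⟩; exact ⟨_, rfl⟩

theorem PGL_le_PGaL : PGL F ≤ PGaL F := by
  rintro _ ⟨g, rfl⟩; exact ⟨g, 1, by simp⟩

theorem frb_mem_PGaL (σ : RingAut F) : frb σ ∈ PGaL F := ⟨1, σ, by simp⟩

theorem aff_mem_PGL (a b : F) (ha) : aff a b ha ∈ PGL F := ⟨_, rfl⟩

theorem aff_mem_PSL {a b : F} {ha} : aff a b ha ∈ PSL F ↔ IsSquare a := by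
  rw [aff, mob_mem_PSL, gl_det_val]; simp

theorem conj_mem_PSL {π l : Equiv.Perm Ω} (hπ : π ∈ PGaL F) (hl : l ∈ PSL F) :
    π * l * π⁻¹ ∈ PSL F := by
  obtain ⟨g, σ, rfl⟩ := hπ
  obtain ⟨h, h1, rfl⟩ := mem_PSL.1 hl
  have : mob g * frb σ * mob h * (mob g * frb σ)⁻¹ = mob (g * gmap σ h * g⁻¹) := by
    rw [map_mul, map_mul, ← frb_conj, map_inv]; group
  rw [this, mob_mem_PSL, map_mul, map_mul, mul_right_comm, map_inv, mul_inv_cancel, one_mul,
    gmap_det, h1, map_one]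
  exact IsSquare.one

theorem conj_mem_PGL {π l : Equiv.Perm Ω} (hπ : π ∈ PGaL F) (hl : l ∈ PGL F) :
    π * l * π⁻¹ ∈ PGL F := by
  obtain ⟨g, σ, rfl⟩ := hπ
  obtain ⟨h, rfl⟩ := hl
  exact ⟨g * gmap σ h * g⁻¹, by rw [map_mul, map_mul, ← frb_conj, map_inv]; group⟩

theorem exists_aff_of_mem_PGL {π : Equiv.Perm Ω} (hπ : π ∈ PGL F) (h : π ∞ = ∞) :
    ∃ a b ha, π = aff a b ha := by
  obtain ⟨g, rfl⟩ := hπ
  obtain ⟨a, b, ha, e, -⟩ := exists_aff h
  exact ⟨a, b, ha, e⟩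

/-- the normalizer of `PSL(2, F)` in the symmetric group is `PΓL(2, F)` -/
theorem mem_PGaL_of_conj [Finite F] (h2 : (2 : F) ≠ 0) {π : Equiv.Perm Ω}
    (h : ∀ l ∈ PSL F, π * l * π⁻¹ ∈ PSL F) : π ∈ PGaL F := by
  obtain ⟨g, g1, g2, g3⟩ := exists_mob_three (a := π ∞) (b := π (0 : F)) (c := π (1 : F))
    (π.injective.ne (infty_ne_coe _)) (π.injective.ne (infty_ne_coe _))
    (π.injective.ne (by simp))
  refine (mul_mem_cancel_left (inv_mem (PGL_le_PGaL (mob_mem_PGL g)))).1 ?_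
  have h' : ∀ l ∈ PSL F, (mob g)⁻¹ * π * l * ((mob g)⁻¹ * π)⁻¹ ∈ PSL F := fun l hl => by
    have := conj_mem_PSL (inv_mem (PGL_le_PGaL (mob_mem_PGL g))) (h l hl)
    convert this using 1; group
  have e1 : ((mob g)⁻¹ * π) ∞ = ∞ := by simp [← g1]
  have e2 : ((mob g)⁻¹ * π) ((0 : F) : Ω) = (0 : F) := by simp [← g2]
  have e3 : ((mob g)⁻¹ * π) ((1 : F) : Ω) = (1 : F) := by simp [← g3]
  generalize (mob g)⁻¹ * π = ρ at h' e1 e2 e3
  have hf : ∀ x : F, ∃ y : F, ρ x = y := fun x => by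
    obtain ⟨y, hy⟩ := ne_infty_iff_exists.1 (show ρ x ≠ ∞ from fun e =>
      coe_ne_infty _ (ρ.injective (e.trans e1.symm)))
    exact ⟨y, hy.symm⟩
  choose f hf using hf
  have f0 : f 0 = 0 := coe_eq_coe.1 ((hf 0).symm.trans e2)
  have f1 : f 1 = 1 := coe_eq_coe.1 ((hf 1).symm.trans e3)
  have finj : Function.Injective f := fun x y e =>
    coe_eq_coe.1 (ρ.injective (by rw [hf, hf, e]))
  have key : ∀ a b ha, IsSquare a → ∃ c d : F, ∀ x, f (a * x + b) = c * f x + d :=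
    fun a b ha hs => by
      obtain ⟨c, d, hc, e⟩ := exists_aff_of_mem_PGL (PSL_le_PGL (h' _ (aff_mem_PSL.2 hs :
        aff a b ha ∈ _))) (by
          have : ρ⁻¹ ∞ = ∞ := by rw [← e1, p_inv_apply, e1]
          rw [Equiv.Perm.mul_apply, Equiv.Perm.mul_apply, this, aff_infty, e1])
      refine ⟨c, d, fun x => ?_⟩
      have := congrArg (· (ρ x)) e
      simp only [Equiv.Perm.mul_apply, p_inv_apply] at this
      simpa [hf] using this
  have fadd : ∀ x b, f (x + b) = f x + f b := fun x b => by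
    obtain ⟨c, d, e⟩ := key 1 b one_ne_zero IsSquare.one
    have hd : d = f b := by simpa [f0] using (e 0).symm
    simp only [one_mul] at e
    by_cases hb : b = 0
    · simp [hb, f0]
    by_cases hc : c = 1
    · rw [e, hc, hd, one_mul]
    obtain ⟨y, hy⟩ := (Finite.injective_iff_surjective.1 finj) (d / (1 - c))
    have : f (y + b) = f y := by
      rw [e, hy]; field_simp [sub_ne_zero.2 (Ne.symm hc)]; ring
    exact (hb (by simpa using finj this)).elim
  have fsq : ∀ a x, f (a * a * x) = f (a * a) * f x := fun a x => by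
    by_cases ha : a = 0
    · simp [ha, f0]
    obtain ⟨c, d, e⟩ := key (a * a) 0 (mul_ne_zero ha ha) ⟨a, rfl⟩
    have hd : d = 0 := by simpa [f0] using (e 0).symm
    have hc : c = f (a * a) := by simpa [f1, hd] using (e 1).symm
    simpa [hd, hc] using e x
  have fmul : ∀ y x, f (y * x) = f y * f x := fun y x => by
    have e : ∀ z, f (y * z) + f ((y - 1) / 2 * ((y - 1) / 2) * z) =
        f ((y + 1) / 2 * ((y + 1) / 2) * z) := fun z => by
      rw [← fadd]; congr 1; field_simp; ring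
    have a := e x
    have b := e 1
    rw [fsq, fsq] at a
    rw [mul_one, mul_one, mul_one] at b
    linear_combination a - f x * b
  let φ : F →+* F := ⟨⟨⟨f, f1⟩, fmul⟩, f0, fadd⟩
  exact ⟨1, RingEquiv.ofBijective φ ⟨finj, Finite.injective_iff_surjective.1 finj⟩,
    perm_ext (by simp [e1]) fun k => by rw [hf, map_one, one_mul]; rfl⟩

/-- the centralizer of `PSL(2, F)` in the symmetric group is trivial -/
theorem eq_one_of_comm {π : Equiv.Perm Ω} (h : ∀ l ∈ PSL F, π * l = l * π) : π = 1 := by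
  have h1 : π ∞ = ∞ := by
    by_contra h1
    obtain ⟨y, hy⟩ := ne_infty_iff_exists.1 h1
    have := congrArg (· ∞) (h _ (aff_mem_PSL.2 IsSquare.one : aff (1 : F) 1 one_ne_zero ∈ _))
    simp [← hy] at this
  refine Equiv.ext fun x => ?_
  obtain ⟨s, rfl⟩ := exists_mob_infty x
  have := congrArg (· ∞) (h _ ⟨s, rfl⟩)
  simpa [h1] using this

section Aut

variable {p : ℕ} [hp : Fact p.Prime] [CharP F p]

theorem aff_pow (a b : F) (ha) (n : ℕ) : ∃ c, aff a b ha ^ n = aff (a ^ n) c (pow_ne_zero _ ha) := by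
  induction n with
  | zero => exact ⟨0, perm_ext (by simp) fun k => by simp⟩
  | succ n ih =>
    obtain ⟨c, hc⟩ := ih
    refine ⟨a ^ n * b + c, perm_ext (by simp [pow_succ, hc]) fun k => ?_⟩
    rw [pow_succ, hc]; simp; ring

theorem eq_trans_of_pow {π : Equiv.Perm Ω} (hπ : π ∈ PGL F) (h : π ^ p = 1) (h1 : π ∞ = ∞) :
    ∃ b, π = aff 1 b one_ne_zero := by
  obtain ⟨a, b, ha, rfl⟩ := exists_aff_of_mem_PGL hπ h1
  obtain ⟨c, hc⟩ := aff_pow a b ha p
  rw [h] at hc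
  have e0 := congrArg (· ((0 : F) : Ω)) hc
  have e1 := congrArg (· ((1 : F) : Ω)) hc
  simp only [Equiv.Perm.one_apply, aff_coe, coe_eq_coe, mul_zero, zero_add, mul_one] at e0 e1
  have : (a - 1) ^ p = 0 := by rw [sub_pow_char, one_pow]; linear_combination e0 - e1
  obtain rfl : a = 1 := sub_eq_zero.1 (pow_eq_zero_iff hp.out.ne_zero |>.1 this)
  exact ⟨b, rfl⟩

theorem exists_conj_trans {π : Equiv.Perm Ω} (hπ : π ∈ PGL F) (h : π ^ p = 1) {ω : Ω}
    (h1 : π ω = ω) {s : Equiv.Perm Ω} (hs : s ∈ PGL F) (hω : s ∞ = ω) :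
    ∃ b, π = s * aff 1 b one_ne_zero * s⁻¹ := by
  obtain ⟨b, hb⟩ := eq_trans_of_pow (π := s⁻¹ * π * s) (mul_mem (mul_mem (inv_mem hs) hπ) hs)
    (by have := conj_pow (a := s⁻¹) (b := π) (i := p); rw [inv_inv] at this; rw [this, h]; simp)
    (by rw [Equiv.Perm.mul_apply, Equiv.Perm.mul_apply, hω, h1, ← hω, p_inv_apply])
  exact ⟨b, by rw [← hb]; group⟩

theorem fix_unique {π : Equiv.Perm Ω} (hπ : π ∈ PGL F) (h : π ^ p = 1) (hne : π ≠ 1) {ω ω' : Ω}
    (h1 : π ω = ω) (h2 : π ω' = ω') : ω' = ω := by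
  obtain ⟨s, rfl⟩ := exists_mob_infty ω
  obtain ⟨b, rfl⟩ := exists_conj_trans hπ h h1 (mob_mem_PGL _) rfl
  obtain ⟨x, rfl⟩ := (mob (SpecialLinearGroup.toGL s)).surjective ω'
  cases x with
  | infty => rfl
  | coe k =>
    simp only [Equiv.Perm.mul_apply, p_inv_apply, EmbeddingLike.apply_eq_iff_eq,
      aff_coe, coe_eq_coe, one_mul, add_eq_left] at h2
    subst h2
    exact (hne (by
      rw [show aff (1 : F) 0 one_ne_zero = 1 from perm_ext (by simp) fun k => by simp]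
      simp)).elim

theorem comm_of_fix {π π' : Equiv.Perm Ω} (hπ : π ∈ PGL F) (h : π ^ p = 1) (hπ' : π' ∈ PGL F)
    (h' : π' ^ p = 1) {ω : Ω} (h1 : π ω = ω) (h2 : π' ω = ω) : π * π' = π' * π := by
  obtain ⟨s, rfl⟩ := exists_mob_infty ω
  obtain ⟨b, rfl⟩ := exists_conj_trans hπ h h1 (mob_mem_PGL _) rfl
  obtain ⟨c, rfl⟩ := exists_conj_trans hπ' h' h2 (mob_mem_PGL _) rfl
  have : aff (1 : F) b one_ne_zero * aff 1 c one_ne_zero =
      aff 1 c one_ne_zero * aff 1 b one_ne_zero :=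
    perm_ext (by simp) fun k => by simp; ring
  rw [conj_mul, conj_mul, this]

theorem trans_pow (b : F) : aff (1 : F) b one_ne_zero ^ p = 1 := by
  have : ∀ n : ℕ, aff (1 : F) b one_ne_zero ^ n = aff 1 (n * b) one_ne_zero := fun n => by
    induction n with
    | zero => exact perm_ext (by simp) fun k => by simp
    | succ n ih => rw [pow_succ, ih]; exact perm_ext (by simp) fun k => by simp; ring
  rw [this]
  exact perm_ext (by simp) fun k => by simp

theorem exists_uni (ω : Ω) : ∃ u ∈ PSL F, u ^ p = 1 ∧ u ≠ 1 ∧ u ω = ω := by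
  obtain ⟨s, rfl⟩ := exists_mob_infty ω
  refine ⟨_, mul_mem (mul_mem ⟨s, rfl⟩ (aff_mem_PSL.2 IsSquare.one : aff (1 : F) 1 one_ne_zero ∈ _))
    (inv_mem ⟨s, rfl⟩), by rw [conj_pow, trans_pow]; simp, fun h => ?_, by simp⟩
  have := congrArg (· ((0 : F) : Ω)) (conj_eq_one_iff.1 h)
  simp at this

theorem exists_fix [Finite F] {π : Equiv.Perm Ω} (h : π ^ p = 1) : ∃ ω, π ω = ω := by
  classical
  have := Fintype.ofFinite F
  have : Fintype Ω := inferInstanceAs (Fintype (Option F))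
  refine Equiv.Perm.exists_fixed_point_of_prime (p := p) (n := 1) ?_ (by rwa [pow_one])
  have e : Fintype.card Ω = Fintype.card F + 1 := by
    rw [← Fintype.card_option]; exact Fintype.card_congr (Equiv.refl _)
  obtain ⟨n, -, hn⟩ := FiniteField.card F p
  rw [e, hn, Nat.dvd_add_right (dvd_pow_self p n.ne_zero), Nat.dvd_one]
  exact hp.out.ne_one

include hp in
theorem exists_fun_of_hom [Finite F] (α : PSL F →* PSL F) (hα : Function.Injective α) :
    ∃ f : Ω → Ω, ∀ (u : PSL F) (ω : Ω), u ^ p = 1 → u ≠ 1 → u.1 ω = ω → (α u).1 (f ω) = f ω := by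
  have h : ∀ ω : Ω, ∃ ω' : Ω, ∀ u : PSL F, u ^ p = 1 → u ≠ 1 → u.1 ω = ω → (α u).1 ω' = ω' :=
    fun ω => by
      obtain ⟨v, hv, v1, v2, v3⟩ := exists_uni (p := p) ω
      have a1 : (α ⟨v, hv⟩).1 ^ p = 1 := by
        rw [← coe_pow, ← map_pow, show (⟨v, hv⟩ : PSL F) ^ p = 1 from Subtype.ext v1, map_one,
          coe_one]
      have a2 : (α ⟨v, hv⟩).1 ≠ 1 := fun e =>
        v2 (congrArg Subtype.val (hα ((Subtype.ext e).trans α.map_one.symm)))
      obtain ⟨ω', hω'⟩ := exists_fix a1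
      refine ⟨ω', fun u u1 _ u3 => fix_unique (PSL_le_PGL (α ⟨v, hv⟩).2) a1 a2 hω' ?_⟩
      have : u * ⟨v, hv⟩ = ⟨v, hv⟩ * u := Subtype.ext (comm_of_fix (PSL_le_PGL u.2)
        (congrArg Subtype.val u1) (PSL_le_PGL hv) v1 u3 v3)
      have := congrArg (fun x => (α x).1 ω') this
      simpa [hω'] using this.symm
  choose f hf using h
  exact ⟨f, fun u ω => hf ω u⟩

end Aut

/-- every automorphism of `PSL(2, F)` is induced by a permutation of the projective line -/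
theorem exists_perm_of_aut [Finite F] (α : PSL F ≃* PSL F) :
    ∃ π : Equiv.Perm Ω, ∀ l : PSL F, π * l * π⁻¹ = α l := by
  obtain ⟨p, hp⟩ := CharP.exists F
  have : Fact p.Prime := ⟨CharP.char_is_prime F p⟩
  obtain ⟨f, hf⟩ := exists_fun_of_hom (p := p) α.toMonoidHom α.injective
  obtain ⟨f', hf'⟩ := exists_fun_of_hom (p := p) α.symm.toMonoidHom α.symm.injective
  have hpow : ∀ (β : PSL F ≃* PSL F) (u : PSL F), u ^ p = 1 → β u ^ p = 1 := fun β u h => by
    rw [← map_pow, h, map_one]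
  have h1 : ∀ ω, f' (f ω) = ω := fun ω => by
    obtain ⟨v, hv, v1, v2, v3⟩ := exists_uni (p := p) ω
    have w1 : (⟨v, hv⟩ : PSL F) ^ p = 1 := Subtype.ext v1
    have w2 : (⟨v, hv⟩ : PSL F) ≠ 1 := fun e => v2 (congrArg Subtype.val e)
    have := hf' (α ⟨v, hv⟩) (f ω) (hpow α _ w1) (by simpa using w2) (hf _ ω w1 w2 v3)
    exact fix_unique (PSL_le_PGL hv) v1 v2 v3 (by simpa using this)
  have : Finite Ω := inferInstanceAs (Finite (Option F))
  have hinj : Function.Injective f := Function.LeftInverse.injective h1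
  refine ⟨Equiv.ofBijective f ⟨hinj, Finite.injective_iff_surjective.1 hinj⟩, fun l => ?_⟩
  rw [mul_inv_eq_iff_eq_mul]
  refine Equiv.ext fun ω => ?_
  change f (l.1 ω) = (α l).1 (f ω)
  obtain ⟨v, hv, v1, v2, v3⟩ := exists_uni (p := p) ω
  have w1 : (⟨v, hv⟩ : PSL F) ^ p = 1 := Subtype.ext v1
  have w2 : (⟨v, hv⟩ : PSL F) ≠ 1 := fun e => v2 (congrArg Subtype.val e)
  have z1 : (l * ⟨v, hv⟩ * l⁻¹) ^ p = 1 := by rw [conj_pow, w1]; simp
  have z2 : l * ⟨v, hv⟩ * l⁻¹ ≠ 1 := by simpa using w2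
  have a := hf _ (l.1 ω) z1 z2 (by simp [v3])
  have b := hf _ ω w1 w2 v3
  refine fix_unique (PSL_le_PGL (α (l * ⟨v, hv⟩ * l⁻¹)).2)
    (congrArg Subtype.val (hpow α _ z1)) (fun e => z2 (by simpa using e)) ?_ a
  simpa using b

theorem ker_mob_toGL : ((mob (F := F)).comp SpecialLinearGroup.toGL).ker = center _ := by
  ext s
  rw [Matrix.SpecialLinearGroup.mem_center_iff, MonoidHom.mem_ker, MonoidHom.comp_apply, mob_eq_one_iff]
  have hd := s.det_coe
  rw [det_fin_two] at hd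
  constructor
  · rintro ⟨a3, a1, a4⟩
    change s 0 1 = 0 at a3
    change s 1 0 = 0 at a1
    change s 0 0 = s 1 1 at a4
    refine ⟨s 1 1, by simpa [a1, a4, sq] using hd, ?_⟩
    ext i j
    fin_cases i <;> fin_cases j <;> simp [a1, a3, a4]
  · rintro ⟨r, -, h⟩
    change s 0 1 = 0 ∧ s 1 0 = 0 ∧ s 0 0 = s 1 1
    simp [← h]

variable (F) in
/-- the permutation model of `PSL(2, F)` -/
noncomputable def pslEquiv : ProjectiveSpecialLinearGroup (Fin 2) F ≃* PSL F :=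
  (QuotientGroup.quotientMulEquivOfEq ker_mob_toGL).symm.trans
    (QuotientGroup.quotientKerEquivRange _)

/-- `Aut PSL(2, F) = PΓL(2, F)`: a group with a normal subgroup `PSL(2, F)` acts on the
projective line. -/
theorem exists_model [Finite F] (h2 : (2 : F) ≠ 0) {X : Type*} [Group X] {L : Subgroup X}
    [hL : L.Normal] (e : L ≃* ProjectiveSpecialLinearGroup (Fin 2) F) :
    ∃ ι : X →* Equiv.Perm Ω, ι.ker = centralizer (L : Set X) ∧ L.map ι = PSL F ∧
      ι.range ≤ PGaL F := by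
  let e' := e.trans (pslEquiv F)
  have h : ∀ x : X, ∃ π : Equiv.Perm Ω, ∀ l : L, π * e' l * π⁻¹ = e' (MulAut.conjNormal x l) :=
    fun x => by
      obtain ⟨π, hπ⟩ := exists_perm_of_aut (e'.symm.trans ((MulAut.conjNormal x).trans e'))
      exact ⟨π, fun l => by simpa using hπ (e' l)⟩
  choose ι hι using h
  have uniq : ∀ (x : X) (π : Equiv.Perm Ω),
      (∀ l : L, π * e' l * π⁻¹ = e' (MulAut.conjNormal x l)) → ι x = π := fun x π hπ => by
    rw [← inv_mul_eq_one]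
    refine eq_one_of_comm fun l hl => ?_
    obtain ⟨l, rfl⟩ : ∃ l' : L, (e' l' : Equiv.Perm Ω) = l := ⟨e'.symm ⟨l, hl⟩, by simp⟩
    have := (hπ l).trans (hι x l).symm
    calc _ = (ι x)⁻¹ * (π * e' l * π⁻¹) * π := by group
      _ = _ := by rw [this]; group
  let ι' : X →* Equiv.Perm Ω := MonoidHom.mk' ι fun x y => uniq _ _ fun l => by
    rw [map_mul, MulAut.mul_apply, ← hι, ← hι]; group
  have hl : ∀ l : L, ι' l = e' l := fun l => uniq _ _ fun m => by
    rw [show MulAut.conjNormal (l : X) m = l * m * l⁻¹ from Subtype.ext (by simp)]; simp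
  refine ⟨ι', ?_, ?_, ?_⟩
  · ext x
    rw [MonoidHom.mem_ker, mem_centralizer_iff]
    constructor
    · intro h l hl
      have := hι x ⟨l, hl⟩
      rw [show ι x = 1 from h, one_mul, inv_one, mul_one] at this
      have := congrArg Subtype.val (e'.injective (Subtype.ext this))
      simp only [MulAut.conjNormal_apply] at this
      rw [eq_mul_inv_iff_mul_eq] at this
      exact this
    · intro h
      refine uniq _ _ fun l => ?_
      rw [show MulAut.conjNormal x l = l from Subtype.ext (by simp [← h l l.2])]; simp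
  · ext π
    constructor
    · rintro ⟨l, hl', rfl⟩
      rw [hl ⟨l, hl'⟩]; exact (e' _).2
    · intro hπ
      exact ⟨e'.symm ⟨π, hπ⟩, (e'.symm ⟨π, hπ⟩).2, by rw [hl]; simp⟩
  · rintro _ ⟨x, rfl⟩
    refine mem_PGaL_of_conj h2 fun l hl => ?_
    obtain ⟨l, rfl⟩ : ∃ l' : L, (e' l' : Equiv.Perm Ω) = l := ⟨e'.symm ⟨l, hl⟩, by simp⟩
    change ι x * _ * (ι x)⁻¹ ∈ _
    rw [hι]; exact (e' _).2

end GW.DL
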