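import Cfsg.Agent.Lib.GW.DLA
import Mathlib.NumberTheory.LegendreSymbol.QuadraticChar.Basic
import Mathlib.LinearAlgebra.Matrix.GeneralLinearGroup.Card

/-!
# `PΓL(2, F) / PSL(2, F)` is abelian; orders; fixed points; field involutions
-/

set_option autoImplicit false
set_option linter.unusedSectionVars false

namespace GW.DL

open Cfsg GT Matrix OnePoint Subgroup
open scoped commutatorElement

variable {F : Type*} [Field F] [DecidableEq F]

local notation "Ω" => OnePoint F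
local notation "GL2" => GL (Fin 2) F
local notation "gdet" => GeneralLinearGroup.det

theorem ringAut_comm [Finite F] (σ τ : RingAut F) : σ * τ = τ * σ := by
  obtain ⟨γ, hγ⟩ := IsCyclic.exists_monoid_generator (α := Fˣ)
  have h : ∀ ρ : RingAut F, ∃ i : ℕ, ∀ x : F, x ≠ 0 → ρ x = x ^ i := fun ρ => by
    obtain ⟨i, hi⟩ := hγ (Units.mk0 (ρ γ) (by simp))
    refine ⟨i, fun x hx => ?_⟩
    obtain ⟨n, hn⟩ := hγ (Units.mk0 x hx)
    have e1 : (γ : F) ^ i = ρ γ := by simpa using congrArg Units.val hi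
    have e2 : (γ : F) ^ n = x := by simpa using congrArg Units.val hn
    rw [← e2, map_pow, ← e1, ← pow_mul, ← pow_mul, mul_comm]
  obtain ⟨i, hi⟩ := h σ
  obtain ⟨j, hj⟩ := h τ
  refine RingEquiv.ext fun x => ?_
  by_cases hx : x = 0
  · simp [hx]
  change σ (τ x) = τ (σ x)
  rw [hj x hx, hi x hx, map_pow, map_pow, hj x hx, hi x hx, ← pow_mul, ← pow_mul, mul_comm]

/-- the linear part -/
noncomputable def pg (π : PGaL F) : GL2 := π.2.choose

/-- the field automorphism attached to an element of `PΓL(2, F)` -/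
noncomputable def fa : PGaL F →* RingAut F :=
  MonoidHom.mk' (fun π => π.2.choose_spec.choose) fun π ρ => by
    have h1 := π.2.choose_spec.choose_spec
    have h2 := ρ.2.choose_spec.choose_spec
    refine (eq_of_mob_mul_frb (g := pg (π * ρ)) (h := pg π * gmap π.2.choose_spec.choose (pg ρ))
      ((π * ρ).2.choose_spec.choose_spec.symm.trans ?_)).1
    rw [coe_mul, map_mul, map_mul, mul_assoc, ← mul_assoc _ (frb _), ← frb_mul_mob, mul_assoc,
      ← mul_assoc]
    exact congrArg₂ (· * ·) h1 h2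

theorem pg_fa (π : PGaL F) : π.1 = mob (pg π) * frb (fa π) := π.2.choose_spec.choose_spec

theorem fa_eq {π : PGaL F} {g : GL2} {σ : RingAut F} (h : π.1 = mob g * frb σ) :
    fa π = σ ∧ mob (pg π) = mob g := eq_of_mob_mul_frb ((pg_fa π).symm.trans h)

theorem fa_eq_one_iff {π : PGaL F} : fa π = 1 ↔ π.1 ∈ PGL F :=
  ⟨fun h => ⟨pg π, by rw [pg_fa, h, map_one, mul_one]⟩,
    fun ⟨g, hg⟩ => (fa_eq (g := g) (by rw [map_one, mul_one, hg])).1⟩

theorem isSquare_map_iff (σ : RingAut F) {a : F} : IsSquare (σ a) ↔ IsSquare a :=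
  ⟨fun ⟨b, hb⟩ => ⟨σ.symm b, by rw [← map_mul, ← hb]; simp⟩,
    fun ⟨b, hb⟩ => ⟨σ b, by rw [hb, map_mul]⟩⟩

variable [Fintype F]

local notation "𝔮" => Fintype.card F

theorem qc_map (σ : RingAut F) (a : F) : quadraticChar F (σ a) = quadraticChar F a := by
  by_cases ha : a = 0
  · simp [ha]
  by_cases h : IsSquare a
  · rw [(quadraticChar_one_iff_isSquare ha).2 h,
      (quadraticChar_one_iff_isSquare (by simpa)).2 ((isSquare_map_iff σ).2 h)]
  · rw [quadraticChar_neg_one_iff_not_isSquare.2 h,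
      quadraticChar_neg_one_iff_not_isSquare.2 (mt (isSquare_map_iff σ).1 h)]

theorem qc_det_eq {g h : GL2} (e : mob g = mob h) :
    quadraticChar F (gdet g : F) = quadraticChar F (gdet h : F) := by
  obtain ⟨c, hc, e⟩ := mob_eq_iff.1 e
  have : (gdet g : F) = c ^ 2 * gdet h := by rw [gl_det_val, gl_det_val]; simp only [e]; ring
  rw [this, map_mul, quadraticChar_sq_one' hc, one_mul]

/-- the quadratic character of the determinant -/
noncomputable def chi : PGaL F →* ℤ where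
  toFun π := quadraticChar F (gdet (pg π) : F)
  map_one' := by rw [qc_det_eq (fa_eq (g := 1) (σ := 1) (by simp)).2]; simp
  map_mul' π ρ := by
    rw [qc_det_eq (fa_eq (π := π * ρ) (g := pg π * gmap (fa π) (pg ρ)) (σ := fa π * fa ρ) (by
      rw [coe_mul, pg_fa π, pg_fa ρ, map_mul, map_mul, mul_assoc, ← mul_assoc (frb _),
        frb_mul_mob]
      simp only [mul_assoc])).2, map_mul, Units.val_mul, map_mul, gmap_det, qc_map]

theorem chi_cases (π : PGaL F) : chi π = 1 ∨ chi π = -1 :=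
  quadraticChar_dichotomy (gdet (pg π)).ne_zero

theorem mem_PSL_iff {π : PGaL F} : π.1 ∈ PSL F ↔ fa π = 1 ∧ chi π = 1 := by
  have h : fa π = 1 → (π.1 ∈ PSL F ↔ chi π = 1) := fun h => by
    rw [pg_fa, h, map_one, mul_one, mob_mem_PSL]
    exact (quadraticChar_one_iff_isSquare (gdet (pg π)).ne_zero).symm
  exact ⟨fun e => ⟨fa_eq_one_iff.2 (PSL_le_PGL e), (h (fa_eq_one_iff.2 (PSL_le_PGL e))).1 e⟩,
    fun e => (h e.1).2 e.2⟩

theorem comm_mem_PSL {x y : Equiv.Perm Ω} (hx : x ∈ PGaL F) (hy : y ∈ PGaL F) :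
    ⁅x, y⁆ ∈ PSL F := by
  refine (mem_PSL_iff (π := ⁅(⟨x, hx⟩ : PGaL F), ⟨y, hy⟩⁆)).2 ⟨?_, ?_⟩
  · rw [map_commutatorElement, commutatorElement_eq_one_iff_mul_comm, ringAut_comm]
  · have := map_commutatorElement (chi (F := F)).toHomUnits ⟨x, hx⟩ ⟨y, hy⟩
    exact congrArg Units.val
      (this.trans (commutatorElement_eq_one_iff_mul_comm.2 (mul_comm _ _)))

theorem mul_mem_PSL {x y : Equiv.Perm Ω} (hx : x ∈ PGL F) (hy : y ∈ PGL F) (hx' : x ∉ PSL F)
    (hy' : y ∉ PSL F) : x * y ∈ PSL F := by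
  obtain ⟨g, rfl⟩ := hx
  obtain ⟨h, rfl⟩ := hy
  rw [mob_mem_PSL] at hx' hy'
  obtain ⟨c, -, hc⟩ := exists_eq_mul_sq_of_not_isSquare hx' hy'
  rw [← map_mul, mob_mem_PSL, map_mul, Units.val_mul, hc]
  exact ⟨gdet g * c, by ring⟩

theorem sq_mem_PSL {x : Equiv.Perm Ω} (hx : x ∈ PGL F) : x * x ∈ PSL F := by
  by_cases h : x ∈ PSL F
  exacts [mul_mem h h, mul_mem_PSL hx hx h h]

theorem mem_PSL_of_odd {x : Equiv.Perm Ω} (hx : x ∈ PGL F) (ho : Odd (orderOf x)) :
    x ∈ PSL F := by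
  obtain ⟨n, hn⟩ := ho
  have : x = (x * x) ^ (n + 1) := by
    rw [← sq, ← pow_mul, show 2 * (n + 1) = orderOf x + 1 by omega, pow_succ, pow_orderOf_eq_one,
      one_mul]
  rw [this]
  exact pow_mem (sq_mem_PSL hx) _

theorem card_omega : Nat.card Ω = 𝔮 + 1 := by
  rw [← Fintype.card_option, ← Nat.card_eq_fintype_card]; rfl

theorem card_PGL : Nat.card (PGL F) = (𝔮 + 1) * 𝔮 * (𝔮 - 1) := by
  have h1 := card_GL_field (𝔽 := F) 2
  have h2 : (mob (F := F)).ker = (GeneralLinearGroup.scalar (Fin 2)).range := by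
    ext g; rw [MonoidHom.mem_ker, mob_eq_one_iff']; exact ⟨fun ⟨c, h⟩ => ⟨c, h.symm⟩,
      fun ⟨c, h⟩ => ⟨c, h.symm⟩⟩
  have h3 : Nat.card (mob (F := F)).ker = 𝔮 - 1 := by
    rw [h2, ← Nat.card_congr (MonoidHom.ofInjective (f := GeneralLinearGroup.scalar (Fin 2))
      (fun a b h => Units.ext (by simpa using congrArg (fun g : GL2 => g 0 0) h))).toEquiv,
      Nat.card_units, Nat.card_eq_fintype_card]
  have h4 := (mob (F := F)).ker.card_mul_index
  rw [index_ker, h3, h1, Fin.prod_univ_two] at h4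
  have h5 : 1 < 𝔮 := Fintype.one_lt_card
  obtain ⟨n, hn⟩ : ∃ n, 𝔮 = n + 1 := ⟨𝔮 - 1, by omega⟩
  rw [hn] at h4 ⊢
  simp only [Fin.val_zero, pow_zero, Fin.val_one, pow_one, Nat.add_sub_cancel] at h4 ⊢
  rw [show (n + 1) ^ 2 - 1 = n * (n + 2) from Nat.sub_eq_of_eq_add (by ring),
    show (n + 1) ^ 2 - (n + 1) = (n + 1) * n from Nat.sub_eq_of_eq_add (by ring)] at h4
  refine Nat.eq_of_mul_eq_mul_left (show 0 < n by omega) (h4.trans (by ring))

variable (ho : Odd (Fintype.card F))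
include ho

theorem ringChar_ne_two : ringChar F ≠ 2 := fun h => by
  have := FiniteField.even_card_of_char_two h
  have := Nat.odd_iff.1 ho
  omega

theorem two_ne : (2 : F) ≠ 0 := Ring.two_ne_zero (ringChar_ne_two ho)

theorem relIndex_PSL : (PSL F).relIndex (PGL F) = 2 := by
  obtain ⟨n, hn⟩ := FiniteField.exists_nonsquare (ringChar_ne_two ho)
  have hn0 : n ≠ 0 := by rintro rfl; exact hn IsSquare.zero
  have h1 : aff n 0 hn0 ∉ PSL F := mt aff_mem_PSL.1 hn
  refine index_eq_two_iff.2 ⟨⟨_, aff_mem_PGL n 0 hn0⟩, fun b => ?_⟩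
  simp only [mem_subgroupOf, coe_mul]
  by_cases hb : b.1 ∈ PSL F
  · exact Or.inr ⟨hb, fun h => h1 ((mul_mem_cancel_left hb).1 h)⟩
  · exact Or.inl ⟨mul_mem_PSL b.2 (aff_mem_PGL _ _ _) hb h1, hb⟩

theorem card_PSL : 2 * Nat.card (PSL F) = (𝔮 + 1) * 𝔮 * (𝔮 - 1) := by
  rw [← card_PGL, ← relIndex_PSL ho, mul_comm, card_mul_relIndex PSL_le_PGL]

omit ho

section Fix

omit [Fintype F]

theorem eq_one_of_fix3 {x : Equiv.Perm Ω} (hx : x ∈ PGL F) {a b c : Ω} (hab : a ≠ b)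
    (hac : a ≠ c) (hbc : b ≠ c) (ha : x a = a) (hb : x b = b) (hc : x c = c) : x = 1 := by
  obtain ⟨s, rfl, rfl, rfl⟩ := exists_mob_three hab hac hbc
  obtain ⟨g, rfl⟩ := hx
  have := mob_eq_one_of_fix (g := s⁻¹ * g * s) (by simp [ha]) (by simp [hb]) (by simp [hc])
  rw [map_mul, map_mul, map_inv] at this
  exact conj_eq_one_iff.1 (by rwa [inv_inv])

/-- the involution `z ↦ c / z` -/
noncomputable def wm (c : F) (hc : c ≠ 0) : GL2 := g2 0 c 1 0 (by simpa)

@[simp] theorem wm_00 (c : F) (h) : wm c h 0 0 = 0 := rfl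
@[simp] theorem wm_01 (c : F) (h) : wm c h 0 1 = c := rfl
@[simp] theorem wm_10 (c : F) (h) : wm c h 1 0 = 1 := rfl
@[simp] theorem wm_11 (c : F) (h) : wm c h 1 1 = 0 := rfl

theorem wm_infty (c : F) (h) : mob (wm c h) ∞ = ((0 : F) : Ω) := by simp [mob_infty]

theorem wm_zero (c : F) (h) : mob (wm c h) ((0 : F) : Ω) = ∞ := by simp [mob_coe]

theorem wm_coe (c : F) (h) {k : F} (hk : k ≠ 0) : mob (wm c h) (k : Ω) = (c / k : F) := by
  simp [mob_coe, hk]

theorem wm_sq (c : F) (h) : mob (wm c h) * mob (wm c h) = 1 := by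
  rw [← map_mul, mob_eq_one_iff]; simp [gl_mul]

theorem wm_ne_one (c : F) (h) : mob (wm c h) ≠ 1 := by simp [mob_eq_one_iff]

theorem wm_mem_PSL {c : F} {h} : mob (wm c h) ∈ PSL F ↔ IsSquare (-c) := by
  rw [mob_mem_PSL, gl_det_val]; simp

theorem eq_wm_of_swap {x : Equiv.Perm Ω} (hx : x ∈ PGL F) (h1 : x ∞ = ((0 : F) : Ω))
    (h2 : x ((0 : F) : Ω) = ∞) : ∃ c hc, x = mob (wm c hc) := by
  obtain ⟨a, b, ha, e⟩ := exists_aff_of_mem_PGL (π := x * mob (wm 1 one_ne_zero))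
    (mul_mem hx (mob_mem_PGL _)) (by rw [Equiv.Perm.mul_apply, wm_infty, h2])
  have hb : b = 0 := by
    have := congrArg (· ((0 : F) : Ω)) e
    simpa [wm_zero, h1] using this.symm
  refine ⟨a, ha, ?_⟩
  rw [← mul_one x, ← wm_sq 1 one_ne_zero, ← mul_assoc, e, aff, ← map_mul]
  exact congrArg mob (gl_ext (by simp [gl_mul, hb]) (by simp [gl_mul]) (by simp [gl_mul])
    (by simp [gl_mul]))

theorem exists_mob_two {a b : Ω} (hab : a ≠ b) :
    ∃ s ∈ PGL F, s ∞ = a ∧ s ((0 : F) : Ω) = b := by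
  obtain ⟨s, rfl⟩ := exists_mob_infty a
  set π := mob (SpecialLinearGroup.toGL s)
  obtain ⟨x, hx⟩ := ne_infty_iff_exists.1 (show π⁻¹ b ≠ ∞ from fun h => hab (by
    rw [← h, p_apply_inv]))
  exact ⟨π * aff 1 x one_ne_zero, mul_mem (mob_mem_PGL _) (aff_mem_PGL _ _ _), by simp,
    by simp [hx]⟩

theorem exists_conj_wm_of_swap {x : Equiv.Perm Ω} (hx : x ∈ PGL F) {a b : Ω} (hab : a ≠ b)
    (h1 : x a = b) (h2 : x b = a) : ∃ s ∈ PGL F, ∃ c hc, x = s * mob (wm c hc) * s⁻¹ := by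
  obtain ⟨s, hs, rfl, rfl⟩ := exists_mob_two hab
  obtain ⟨c, hc, e⟩ := eq_wm_of_swap (x := s⁻¹ * x * s) (mul_mem (mul_mem (inv_mem hs) hx) hs)
    (by simp [h1]) (by simp [h2])
  exact ⟨s, hs, c, hc, by rw [← e]; group⟩

theorem sq_of_swap {x : Equiv.Perm Ω} (hx : x ∈ PGL F) {a b : Ω} (hab : a ≠ b)
    (h1 : x a = b) (h2 : x b = a) : x * x = 1 := by
  obtain ⟨s, -, c, hc, rfl⟩ := exists_conj_wm_of_swap hx hab h1 h2
  rw [conj_mul, wm_sq]; simp

theorem exists_conj_wm {x : Equiv.Perm Ω} (hx : x ∈ PGL F) (h1 : x ≠ 1) (h2 : x * x = 1) :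
    ∃ s ∈ PGL F, ∃ c hc, x = s * mob (wm c hc) * s⁻¹ := by
  obtain ⟨a, ha⟩ : ∃ a, x a ≠ a := by
    by_contra! h
    exact h1 (Equiv.ext h)
  exact exists_conj_wm_of_swap hx ha.symm rfl (by rw [← Equiv.Perm.mul_apply, h2]; rfl)

/-- `z ↦ -z` -/
noncomputable def neg (F : Type*) [Field F] [DecidableEq F] : Equiv.Perm (OnePoint F) :=
  aff (-1) 0 (by simp)

@[simp] theorem neg_infty : neg F ∞ = ∞ := aff_infty _ _ _
@[simp] theorem neg_coe (k : F) : neg F k = (-k : F) := by simp [neg]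

theorem exists_conj_neg (h2 : (2 : F) ≠ 0) {x : Equiv.Perm Ω} (hx : x ∈ PGL F) (h1 : x ≠ 1)
    (hxx : x * x = 1) {ω : Ω} (hω : x ω = ω) : ∃ s ∈ PGL F, x = s * neg F * s⁻¹ := by
  obtain ⟨s, rfl⟩ := exists_mob_infty ω
  set π := mob (SpecialLinearGroup.toGL s)
  have hπ : π ∈ PGL F := mob_mem_PGL _
  obtain ⟨a, b, ha, e⟩ := exists_aff_of_mem_PGL (π := π⁻¹ * x * π)
    (mul_mem (mul_mem (inv_mem hπ) hx) hπ) (by simp [hω])
  have e' : x = π * aff a b ha * π⁻¹ := by rw [← e]; group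
  have e1 : aff a b ha * aff a b ha = 1 := by
    rw [e', conj_mul] at hxx; simpa using hxx
  have e2 := congrArg (· ((0 : F) : Ω)) e1
  have e3 := congrArg (· ((1 : F) : Ω)) e1
  simp only [Equiv.Perm.mul_apply, aff_coe, Equiv.Perm.one_apply, coe_eq_coe] at e2 e3
  have ha1 : a = -1 := by
    by_contra h
    have h3 : a - 1 = 0 := (mul_eq_zero.1 (show (a + 1) * (a - 1) = 0 by
      linear_combination e3 - e2)).resolve_left (fun e => h (by linear_combination e))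
    have h4 : b = 0 := (mul_eq_zero.1 (show 2 * b = 0 by
      linear_combination e2 - b * h3)).resolve_left h2
    refine h1 ?_
    rw [e', show aff a b ha = 1 from perm_ext (by simp) fun k => by
      simp [h4, sub_eq_zero.1 h3]]
    simp
  refine ⟨π * aff 1 (b / 2) one_ne_zero, mul_mem hπ (aff_mem_PGL _ _ _), ?_⟩
  have : aff a b ha * aff 1 (b / 2) one_ne_zero = aff 1 (b / 2) one_ne_zero * neg F :=
    perm_ext (by simp) fun k => by simp [ha1]; field_simp; ring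
  rw [e', eq_mul_inv_of_mul_eq this]; group

theorem exists_fix_of_isSquare (h : IsSquare (-1 : F)) {x : Equiv.Perm Ω} (hx : x ∈ PSL F)
    (hxx : x * x = 1) : ∃ ω, x ω = ω := by
  by_cases h1 : x = 1
  · exact ⟨∞, by simp [h1]⟩
  obtain ⟨s, hs, c, hc, rfl⟩ := exists_conj_wm (PSL_le_PGL hx) h1 hxx
  have := conj_mem_PSL (inv_mem (PGL_le_PGaL hs)) hx
  rw [show s⁻¹ * (s * mob (wm c hc) * s⁻¹) * s⁻¹⁻¹ = mob (wm c hc) by group, wm_mem_PSL] at this
  obtain ⟨e, he⟩ := h.mul this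
  have he0 : e ≠ 0 := by rintro rfl; exact hc (by simpa using he)
  refine ⟨s e, ?_⟩
  rw [Equiv.Perm.mul_apply, Equiv.Perm.mul_apply, p_inv_apply, wm_coe _ _ he0,
    show c / e = e by field_simp; linear_combination he]

end Fix

theorem fix_cases {p : ℕ} [Fact p.Prime] [CharP F p] {x : Equiv.Perm Ω} (hx : x ∈ PGL F) {ω : Ω}
    (hω : x ω = ω) : x ^ p = 1 ∨ (x ^ (𝔮 - 1) = 1 ∧ ∃ ω', ω' ≠ ω ∧ x ω' = ω') := by
  obtain ⟨s, rfl⟩ := exists_mob_infty ω
  set π := mob (SpecialLinearGroup.toGL s)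
  have hπ : π ∈ PGL F := mob_mem_PGL _
  obtain ⟨a, b, ha, e⟩ := exists_aff_of_mem_PGL (π := π⁻¹ * x * π)
    (mul_mem (mul_mem (inv_mem hπ) hx) hπ) (by simp [hω])
  obtain rfl : x = π * aff a b ha * π⁻¹ := by rw [← e]; group
  by_cases h1 : a = 1
  · subst h1
    exact Or.inl (by rw [conj_pow, trans_pow]; simp)
  have h2 : 1 - a ≠ 0 := sub_ne_zero.2 (Ne.symm h1)
  have h3 : aff a b ha (b / (1 - a) : F) = (b / (1 - a) : F) := by
    rw [aff_coe, coe_eq_coe]; field_simp; ring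
  refine Or.inr ⟨?_, π (b / (1 - a) : F), π.injective.ne (coe_ne_infty _), by simp [h3]⟩
  obtain ⟨c, hc⟩ := aff_pow a b ha (𝔮 - 1)
  have h4 : (aff a b ha ^ (𝔮 - 1)) (b / (1 - a) : F) = (b / (1 - a) : F) :=
    Equiv.Perm.pow_apply_eq_self_of_apply_eq_self h3 _
  have h5 := FiniteField.pow_card_sub_one_eq_one a ha
  rw [hc, aff_coe, h5, one_mul, coe_eq_coe, add_eq_left] at h4
  rw [conj_pow, hc, show aff (a ^ (𝔮 - 1)) c _ = 1 from perm_ext (by simp) fun k => by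
    simp [h4, h5]]
  simp

include ho

theorem card_fixedBy {x : Equiv.Perm Ω} (hx : x ∈ PSL F) :
    (𝔮 % 4 = 1 → ¬ (orderOf x).Coprime (𝔮 - 1) → Nat.card (MulAction.fixedBy Ω x) = 2) ∧
    (𝔮 % 4 = 3 → ¬ (orderOf x).Coprime (𝔮 + 1) → Nat.card (MulAction.fixedBy Ω x) = 0) := by
  obtain ⟨p, hp⟩ := CharP.exists F
  have hp' : Fact p.Prime := ⟨CharP.char_is_prime F p⟩
  obtain ⟨n, -, hn⟩ := FiniteField.card F p
  have hpq : p ∣ 𝔮 := hn ▸ dvd_pow_self p n.ne_zero
  have hq : 1 < 𝔮 := Fintype.one_lt_card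
  have : Finite Ω := inferInstanceAs (Finite (Option F))
  have key : ∀ r : ℕ, r.Prime → r ∣ orderOf x → ∃ i, orderOf (x ^ i) = r ∧ x ^ i ≠ 1 ∧
      ((x ^ i) ^ p = 1 → r ∣ 𝔮) := fun r hr h => by
    have e : orderOf (x ^ (orderOf x / r)) = r := orderOf_pow_orderOf_div (orderOf_pos x).ne' h
    refine ⟨_, e, fun h => hr.ne_one (by rw [← e, h, orderOf_one]), fun h => ?_⟩
    rw [← orderOf_dvd_iff_pow_eq_one, e] at h
    exact h.trans hpq
  constructor
  · intro h4 h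
    obtain ⟨r, hr, r1, r2⟩ := Nat.Prime.not_coprime_iff_dvd.1 h
    obtain ⟨i, i1, i2, i3⟩ := key r hr r1
    have hy := pow_mem hx i
    obtain ⟨a, ha⟩ : ∃ a, (x ^ i) a = a := by
      by_cases h2 : r = 2
      · exact exists_fix_of_isSquare (FiniteField.isSquare_neg_one_iff.2 (by omega)) hy
          (by rw [← sq, ← h2, ← i1, pow_orderOf_eq_one])
      have := Fintype.ofFinite Ω
      have : Fact r.Prime := ⟨hr⟩
      refine Equiv.Perm.exists_fixed_point_of_prime (p := r) (n := 1) (fun h3 => h2 ?_)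
        (by rw [pow_one, ← i1, pow_orderOf_eq_one])
      rw [← Nat.card_eq_fintype_card, card_omega] at h3
      have := Nat.dvd_sub h3 r2
      rw [show 𝔮 + 1 - (𝔮 - 1) = 2 by omega] at this
      exact (Nat.prime_dvd_prime_iff_eq hr Nat.prime_two).1 this
    obtain ⟨-, b, hb, hb'⟩ := (fix_cases (p := p) (PSL_le_PGL hy) ha).resolve_left fun h => by
      have := Nat.dvd_sub (i3 h) r2
      rw [show 𝔮 - (𝔮 - 1) = 1 by omega, Nat.dvd_one] at this
      exact hr.ne_one this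
    have hf : ∀ c, (x ^ i) c = c → c = a ∨ c = b := fun c hc => by
      by_contra! h
      exact i2 (eq_one_of_fix3 (PSL_le_PGL hy) hb.symm h.1.symm h.2.symm ha hb' hc)
    have hc : ∀ c, (x ^ i) c = c → x c = a ∨ x c = b := fun c hc => hf _ (by
      rw [← Equiv.Perm.mul_apply, ← pow_succ, pow_succ', Equiv.Perm.mul_apply, hc])
    have hxa : x a = a := (hc a ha).resolve_right fun e => by
      have e' : x b = a := (hc b hb').resolve_right fun e' => hb (x.injective (e'.trans e.symm))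
      have h3 := sq_of_swap (PSL_le_PGL hx) hb.symm e e'
      rcases Nat.even_or_odd' i with ⟨j, rfl | rfl⟩
      · exact i2 (by rw [pow_mul, sq, h3, one_pow])
      · rw [pow_succ, pow_mul, sq, h3, one_pow, one_mul, e] at ha
        exact hb ha
    have hxb : x b = b := (hc b hb').resolve_left fun e => hb (x.injective (e.trans hxa.symm))
    rw [show MulAction.fixedBy Ω x = {a, b} from Set.ext fun c => ⟨fun h => hf c
      (Equiv.Perm.pow_apply_eq_self_of_apply_eq_self h _), by rintro (rfl | rfl) <;> assumption⟩,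
      Nat.card_coe_set_eq, Set.ncard_pair hb.symm]
  · intro h4 h
    obtain ⟨r, hr, r1, r2⟩ := Nat.Prime.not_coprime_iff_dvd.1 h
    obtain ⟨i, i1, i2, i3⟩ := key r hr r1
    have hy := pow_mem hx i
    rw [show MulAction.fixedBy Ω x = ∅ from Set.eq_empty_of_forall_notMem fun a ha => ?_]
    · simp
    have ha' : (x ^ i) a = a := Equiv.Perm.pow_apply_eq_self_of_apply_eq_self ha _
    rcases fix_cases (p := p) (PSL_le_PGL hy) ha' with h | ⟨h, -⟩
    · exact hr.ne_one (Nat.dvd_one.1 ((Nat.dvd_add_right (i3 h)).1 r2))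
    rw [← orderOf_dvd_iff_pow_eq_one, i1] at h
    have := Nat.dvd_sub r2 h
    rw [show 𝔮 + 1 - (𝔮 - 1) = 2 by omega, Nat.prime_dvd_prime_iff_eq hr Nat.prime_two] at this
    obtain ⟨s, hs, e⟩ := exists_conj_neg (two_ne ho) (PSL_le_PGL hy) i2
      (by rw [← sq, ← this, ← i1, pow_orderOf_eq_one]) ha'
    have h5 := conj_mem_PSL (inv_mem (PGL_le_PGaL hs)) hy
    rw [e, show s⁻¹ * (s * neg F * s⁻¹) * s⁻¹⁻¹ = neg F by group, neg, aff_mem_PSL,
      FiniteField.isSquare_neg_one_iff] at h5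
    exact h5 h4

theorem isSquare_of_fixed {σ : RingAut F} (h1 : σ ≠ 1) (h2 : σ * σ = 1) {c : F} (hc : σ c = c) :
    IsSquare c := by
  obtain ⟨a, ha⟩ : ∃ a, σ a ≠ a := by
    by_contra! h
    exact h1 (RingEquiv.ext h)
  have hσ : ∀ x, σ (σ x) = x := fun x => congrArg (· x) h2
  have he : σ (a - σ a) = -(a - σ a) := by rw [map_sub, hσ]; ring
  have he0 : a - σ a ≠ 0 := sub_ne_zero.2 ha.symm
  generalize a - σ a = e at he he0
  let K : Subfield F := RingHom.eqLocusField (σ : F →+* F) (RingHom.id F)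
  have := Fintype.ofFinite K
  have hK : ∀ x : K, σ x = x := fun x => x.2
  have h3 : ¬ IsSquare (⟨e * e, show σ (e * e) = e * e by rw [map_mul, he]; ring⟩ : K) := by
    rintro ⟨k, hk⟩
    have hk' : e * e = k * k := congrArg Subtype.val hk
    have : σ e = e := by
      rcases mul_self_eq_mul_self_iff.1 hk' with h | h
      · rw [h, hK]
      · rw [h, map_neg, hK]
    exact he0 ((mul_eq_zero.1 (show 2 * e = 0 by linear_combination he - this)).resolve_left
      (two_ne ho))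
  by_cases h4 : IsSquare (⟨c, hc⟩ : K)
  · obtain ⟨k, hk⟩ := h4
    exact ⟨k, congrArg Subtype.val hk⟩
  obtain ⟨k, -, hk⟩ := exists_eq_mul_sq_of_not_isSquare h3 h4
  have hk' : c = e * e * k ^ 2 := congrArg Subtype.val hk
  exact ⟨e * k, by rw [hk']; ring⟩

theorem isSquare_of_norm {σ : RingAut F} (h1 : σ ≠ 1) (h2 : σ * σ = 1) {b : F}
    (hb : b * σ b = 1) : IsSquare b := by
  have hσ : ∀ x, σ (σ x) = x := fun x => congrArg (· x) h2
  by_cases h : b = -1
  · exact isSquare_of_fixed ho h1 h2 (by simp [h])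
  obtain ⟨k, hk⟩ := isSquare_of_fixed ho h1 h2 (c := (1 + b) * σ (1 + b))
    (by rw [map_mul, hσ, mul_comm])
  have h3 : 1 + b ≠ 0 := fun e => h (by linear_combination e)
  have h4 : k ≠ 0 := by
    rintro rfl
    exact mul_ne_zero h3 ((map_ne_zero σ).2 h3) (by simpa using hk)
  refine ⟨(1 + b) / k, ?_⟩
  rw [map_add, map_one] at hk
  field_simp
  linear_combination (-b) * hk + (1 + b) * hb

/-- an involution of `PΓL(2, F)` outside `PGL(2, F)` centralizes a four-group of `PSL(2, F)` -/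
theorem exists_third {x t : Equiv.Perm Ω} (hx : x ∈ PGaL F) (hx' : x ∉ PGL F) (hxx : x * x = 1)
    (ht : t ∈ PSL F) (ht1 : t ≠ 1) (htt : t * t = 1) (hc : x * t = t * x) :
    ∃ v ∈ PSL F, v * v = 1 ∧ v ≠ 1 ∧ v ≠ t ∧ v * t = t * v ∧ v * x = x * v := by
  have hσ : ∀ {y : Equiv.Perm Ω} {g σ}, y = mob g * frb σ → y ∉ PGL F → y * y = 1 →
      σ ≠ 1 ∧ σ * σ = 1 := fun {y g σ} e h1 h2 => by
    have e1 := (fa_eq (π := ⟨y, g, σ, e⟩) e).1
    refine ⟨fun h => h1 (fa_eq_one_iff.1 (e1.trans h)), ?_⟩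
    rw [← e1, ← map_mul, show (⟨y, g, σ, e⟩ * ⟨y, g, σ, e⟩ : PGaL F) = 1 from Subtype.ext h2,
      map_one]
  have hm : IsSquare (-1 : F) := by
    obtain ⟨g, σ, e⟩ := hx
    exact isSquare_of_fixed ho (hσ e hx' hxx).1 (hσ e hx' hxx).2 (by simp)
  obtain ⟨ω, hω⟩ := exists_fix_of_isSquare hm ht htt
  obtain ⟨s, hs, rfl⟩ := exists_conj_neg (two_ne ho) (PSL_le_PGL ht) ht1 htt hω
  obtain ⟨y, rfl⟩ : ∃ y, x = s * y * s⁻¹ := ⟨s⁻¹ * x * s, by group⟩
  have hy : y ∈ PGaL F := by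
    simpa [mul_mem_cancel_left (PGL_le_PGaL hs), mul_mem_cancel_right (inv_mem (PGL_le_PGaL hs))]
      using hx
  have hy' : y ∉ PGL F := fun h => hx' (mul_mem (mul_mem hs h) (inv_mem hs))
  have hyy : y * y = 1 := by rw [conj_mul] at hxx; simpa using hxx
  have hc' : y * neg F = neg F * y := by rw [conj_mul, conj_mul] at hc; simpa using hc
  suffices h : ∃ c hc, IsSquare c ∧ mob (wm c hc) * y = y * mob (wm c hc) by
    obtain ⟨c, hc0, h1, h2⟩ := h
    refine ⟨s * mob (wm c hc0) * s⁻¹, conj_mem_PSL (PGL_le_PGaL hs)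
      (wm_mem_PSL.2 (by simpa using hm.mul h1)), by rw [conj_mul, wm_sq]; simp,
      by simpa using wm_ne_one c hc0, fun e => ?_, ?_, by rw [conj_mul, conj_mul, h2]⟩
    · have := congrArg (· ∞) (show mob (wm c hc0) = neg F by simpa using e)
      simp [wm_infty] at this
    · rw [conj_mul, conj_mul, show mob (wm c hc0) * neg F = neg F * mob (wm c hc0) from
        perm_ext (by simp [wm_infty]) fun k => ?_]
      by_cases hk : k = 0
      · simp [hk, wm_zero]
      · simp [wm_coe _ _ hk, wm_coe _ _ (neg_ne_zero.2 hk), div_neg]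
  have hf : ∀ a : Ω, neg F a = a → y a = ∞ ∨ y a = ((0 : F) : Ω) := fun a ha => by
    have := congrArg (· a) hc'
    simp only [Equiv.Perm.mul_apply, ha] at this
    generalize y a = b at this
    cases b with
    | infty => exact Or.inl rfl
    | coe k =>
      rw [neg_coe, coe_eq_coe] at this
      exact Or.inr (congrArg _ ((mul_eq_zero.1 (show 2 * k = 0 by
        linear_combination this)).resolve_left (two_ne ho)))
  have key : ∀ z ∈ PGaL F, z ∞ = ∞ → z ((0 : F) : Ω) = ((0 : F) : Ω) →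
      ∃ g σ b, z = mob g * frb σ ∧ b ≠ 0 ∧ ∀ k : F, z k = (b * σ k : F) := by
    rintro _ ⟨g, σ, rfl⟩ h1 h2
    obtain ⟨a, b, ha, e, -⟩ := exists_aff (g := g) (by simpa using h1)
    rw [e] at h2
    exact ⟨g, σ, a, rfl, ha, fun k => by simpa [e] using h2⟩
  rcases hf ∞ neg_infty with h1 | h1
  · have h2 : y ((0 : F) : Ω) = ((0 : F) : Ω) := (hf _ (by simp)).resolve_left fun e =>
      coe_ne_infty _ (y.injective (e.trans h1.symm))
    obtain ⟨g, σ, b, e, hb, h3⟩ := key y hy h1 h2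
    have h4 : b * σ b = 1 := by simpa [h3] using congrArg (· ((1 : F) : Ω)) hyy
    refine ⟨b, hb, isSquare_of_norm ho (hσ e hy' hyy).1 (hσ e hy' hyy).2 h4,
      perm_ext (by simp [h1, h2, wm_infty]) fun k => ?_⟩
    by_cases hk : k = 0
    · simp [hk, h1, h2, wm_zero]
    have hk' : σ k ≠ 0 := by simpa
    simp only [Equiv.Perm.mul_apply, h3, wm_coe _ _ hk, wm_coe _ _ (mul_ne_zero hb hk'), map_div₀,
      coe_eq_coe]
    field_simp
    linear_combination -h4
  · have h2 : y ((0 : F) : Ω) = ∞ := (hf _ (by simp)).resolve_right fun e =>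
      coe_ne_infty _ (y.injective (e.trans h1.symm))
    obtain ⟨g, σ, b, e, hb, h3⟩ := key (mob (wm 1 one_ne_zero) * y)
      (mul_mem (PGL_le_PGaL (mob_mem_PGL _)) hy) (by simp [h1, wm_zero]) (by simp [h2, wm_infty])
    have e' : y = mob (wm 1 one_ne_zero * g) * frb σ := by
      rw [map_mul, mul_assoc, ← e, ← mul_assoc, wm_sq, one_mul]
    have h4 : ∀ k : F, k ≠ 0 → y k = (b⁻¹ / σ k : F) := fun k hk => by
      rw [← one_mul y, ← wm_sq 1 one_ne_zero, mul_assoc, Equiv.Perm.mul_apply, h3,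
        wm_coe _ _ (mul_ne_zero hb (by simpa)), coe_eq_coe]
      field_simp
    have h5 : σ b⁻¹ = b⁻¹ := by
      have := congrArg (· ((1 : F) : Ω)) hyy
      simp only [Equiv.Perm.mul_apply, h4 1 one_ne_zero, map_one, div_one, h4 _ (inv_ne_zero hb),
        Equiv.Perm.one_apply, coe_eq_coe] at this
      exact ((div_eq_one_iff_eq (by simpa)).1 this).symm
    refine ⟨b⁻¹, inv_ne_zero hb, isSquare_of_fixed ho (hσ e' hy' hyy).1 (hσ e' hy' hyy).2 h5,
      perm_ext (by simp [h1, h2, wm_infty, wm_zero]) fun k => ?_⟩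
    by_cases hk : k = 0
    · simp [hk, h1, h2, wm_zero, wm_infty]
    have hk' : σ k ≠ 0 := by simpa
    have hb' := inv_ne_zero hb
    simp only [Equiv.Perm.mul_apply, h4 k hk, wm_coe _ _ hk, wm_coe _ _ (div_ne_zero hb' hk'),
      h4 _ (div_ne_zero hb' hk), map_div₀, h5]

end GW.DL
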