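import Cfsg.Agent.Lib.FT.Quo
import Cfsg.Agent.Lib.Grp.DihSyl
import Cfsg.Agent.Lib.Char.Defs
import Mathlib.GroupTheory.SpecificGroups.Alternating
import Mathlib.LinearAlgebra.Matrix.ProjectiveSpecialLinearGroup

/-!
# Vocabulary for groups with dihedral Sylow `2`-subgroups (namespace `GW`, see docs/GW_plan.md)
-/

set_option autoImplicit false

namespace GW

open Cfsg GT FT Subgroup
open scoped Pointwise commutatorElement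

universe u

/-- `L` is `A₇` or `PSL(2, F)` with `|F|` odd. -/
def Known (L : Type*) [Group L] : Prop :=
  Nonempty (L ≃* alternatingGroup (Fin 7)) ∨ ∃ (F : Type) (_ : Field F) (_ : Fintype F),
    Odd (Fintype.card F) ∧ Nonempty (L ≃* Matrix.ProjectiveSpecialLinearGroup (Fin 2) F)

/-- The Sylow `2`-subgroups are dihedral (four-groups included). -/
def HasDih (L : Type*) [Group L] : Prop := ∃ (S : Subgroup L) (σ τ t : L) (k : ℕ), DihSyl S σ τ t k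

/-- The theorem for groups of order less than `n`. -/
def IH (n : ℕ) : Prop := ∀ (L : Type u) [Group L] [Finite L] [IsSimpleGroup L],
  ¬ Group.IsSolvable L → HasDih L → Nat.card L < n → Known L

/-- A simple nonsolvable group with dihedral Sylow `2`-subgroups. -/
structure Sd (G : Type*) [Group G] : Prop where
  simple : IsSimpleGroup G
  ns : ¬ Group.IsSolvable G
  dih : HasDih G

/-- The inductive situation. -/
structure Min (G : Type u) [Group G] : Prop extends Sd G where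
  ih : IH.{u} (Nat.card G)

variable {G : Type*} [Group G]

/-- `O(X)` -/
abbrev Od (X : Subgroup G) : Subgroup G := Op' 2 X
/-- the largest perfect subgroup of `X` -/
def Res (X : Subgroup G) : Subgroup G := sSup {K | K ≤ X ∧ ⁅K, K⁆ = K}
/-- the layer `E(X)` (for the groups considered here) -/
def Ly (X : Subgroup G) : Subgroup G := Res (X ⊓ 𝐂(Od X))
/-- `U_t = O(C(t))` -/
abbrev Ut (t : G) : Subgroup G := Od 𝐂[t]
/-- `F_t = F(O(C(t)))` -/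
abbrev Ft (t : G) : Subgroup G := fittingOf (Ut t)
/-- `W = O(C(⟨t, s⟩))` -/
abbrev Wt (t s : G) : Subgroup G := Ut t ⊓ 𝐂[s]

/-- `t` is an involution -/
structure Inv (t : G) : Prop where
  ne : t ≠ 1
  sq : t * t = 1

/-- `t` and `s` generate a four-group -/
structure Kl (t s : G) : Prop where
  l : Inv t
  r : Inv s
  ne : t ≠ s
  comm : t * s = s * t

/-- the four-group generated by `t` and `s` -/
abbrev Vk (t s : G) : Subgroup G := zpowers t ⊔ zpowers s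

/-- an element of `X` permutes `t, s, ts` cyclically -/
def Fused (X : Subgroup G) (t s : G) : Prop := ∃ g ∈ X, g * t * g⁻¹ = s ∧ g * s * g⁻¹ = t * s

/-- `t` and `s` are conjugate in `X` -/
def ConjIn (X : Subgroup G) (t s : G) : Prop := ∃ g ∈ X, g * t * g⁻¹ = s

/-- `s` inverts every element of `K` -/
def InvBy (s : G) (K : Subgroup G) : Prop := ∀ x ∈ K, s * x * s⁻¹ = x⁻¹

/-- Properties of a non-trivial layer `E = Ly X`, `J = O(X)`. -/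
structure Cp (X : Subgroup G) : Prop where
  ne : Ly X ≠ ⊥
  cent : X ⊓ 𝐂(Ly X) = Od X
  qs : ∀ N, N ≤ Ly X → Ly X ≤ 𝐍(N) → N ≤ Zc (Ly X) ∨ N = Ly X
  conj : ∀ u ∈ Ly X, ∀ v ∈ Ly X, Inv u → Inv v → ConjIn (Ly X) u v
  fused : ∀ u ∈ Ly X, ∀ v ∈ Ly X, Kl u v → Fused (Ly X) u v
  ex : ∀ u ∈ Ly X, Inv u → ∃ v ∈ Ly X, Kl u v
  ex_inv : ∃ u ∈ Ly X, Inv u
  der : ⁅X, X⁆ ≤ Od X ⊔ Ly X
  two : ∀ x ∈ X, ∀ y ∈ X, IsPElt 2 x → IsPElt 2 y → x ∉ Ly X → y ∉ Ly X → x * y ∈ Od X ⊔ Ly X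
  out : ∀ u ∈ X, ∀ v ∈ X, Inv u → Inv v → u ∉ Ly X → v ∉ Ly X → ConjIn X u v

/-- The odd part `K` of the torus centralized by the involution `u ∈ X` (`u` inside or outside `Ly X`). -/
structure Tor (X : Subgroup G) (u : G) (K : Subgroup G) : Prop where
  le : K ≤ Ly X ⊓ Ut u
  cyc : IsCyclic K
  norm : X ⊓ 𝐂[u] ≤ 𝐍(K)
  inv : ∀ v ∈ X, Kl u v → InvBy v K
  comm : ∀ v ∈ X, Kl u v → ⁅X ⊓ Ut u, zpowers v⁆ ≤ Od X ⊔ K
  comm' : ∀ v ∈ Ly X, Kl u v → ⁅X ⊓ Ut u, zpowers v⁆ ≤ K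
  fld : ∀ v ∈ X, Kl u v → ∀ (p : ℕ) [Fact p.Prime], p ≠ 2 → ∀ y ∈ X ⊓ 𝐂[u] ⊓ 𝐂[v], IsPElt p y →
    (∀ x ∈ K, ¬ p ∣ orderOf x → x * y = y * x) → y ∈ Od X

/-- `Ly X / Z ≅ PSL(2, q)`, `q - ε = d = 2 ^ a * k`, `q + ε = 2 * m`, `|X : O(X) E| = e * φ` with `φ` odd, `e = 1, 2`. -/
structure LT (X : Subgroup G) (q d k m e φ : ℕ) : Prop extends Cp X where
  five : 5 ≤ q
  num : (q = d + 1 ∧ 2 * m = q + 1) ∨ (d = q + 1 ∧ 2 * m + 1 = q)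
  dk : ∃ a, 2 ≤ a ∧ d = 2 ^ a * k
  odd_k : Odd k
  odd_φ : Odd φ
  e_eq : (e = 1 ∧ ∀ x ∈ X, IsPElt 2 x → x ∈ Ly X) ∨ (e = 2 ∧ ∃ u ∈ X, Inv u ∧ u ∉ Ly X)
  copZ : (Nat.card (Zc (Ly X))).Coprime (d * m)
  card_E : Nat.card (Ly X) = Nat.card (Zc (Ly X)) * (q * d * m)
  card_X : Nat.card X = Nat.card (Od X) * φ * e * (q * d * m)
  card_inv : {v | v ∈ Ly X ∧ Inv v}.ncard = q * m
  card_in : ∀ u ∈ Ly X, Inv u → Nat.card ↥(X ⊓ 𝐂[u]) = Nat.card (Od X) * φ * e * d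
  card_U : ∀ u ∈ Ly X, Inv u → Nat.card ↥(X ⊓ Ut u) = Nat.card (Od X) * φ * k
  card_W : ∀ u ∈ Ly X, ∀ v ∈ Ly X, Kl u v → Nat.card ↥(X ⊓ Wt u v) = Nat.card (Od X) * φ
  card_out : ∀ u ∈ X, Inv u → u ∉ Ly X → Nat.card ↥(X ⊓ 𝐂[u]) = Nat.card ↥(Od X ⊓ 𝐂[u]) * φ * (4 * m)
  tor_in : ∀ u ∈ Ly X, Inv u → ∃ K, Tor X u K ∧ Nat.card K = k ∧
    ∀ a ∈ K, a ≠ 1 → ∀ v ∈ Ly X, Inv v → v * a = a * v → v = u
  tor_out : ∀ u ∈ X, Inv u → u ∉ Ly X → ∃ K, Tor X u K ∧ Nat.card K = m ∧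
    {v | v ∈ Ly X ⊓ 𝐍(K) ∧ Inv v}.ncard ≤ m
  four : ∀ u ∈ Ly X, Inv u → ∀ x ∈ Ly X ⊓ 𝐂[u], IsPElt 2 x → x * x ≠ 1 → x ∈ 𝐂((X ⊓ Ut u : Subgroup G))
  st : Zc (Ly X) = ⊥ → ∃ (St : IrrCharacter (Ly X)) (ε : ℤ), (ε = 1 ∨ ε = -1) ∧ charDegree St.1 = q ∧
    ∀ x : Ly X, x ≠ 1 → ¬ (orderOf x).Coprime d → St.1 x = ε

/-- `Ly X / Z ≅ A₇`. -/
structure AT (X : Subgroup G) : Prop extends Cp X where
  iso : Nonempty (Ly X ⧸ center (Ly X) ≃* alternatingGroup (Fin 7))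
  eq : Od X ⊔ Ly X = X
  three : ∀ u ∈ X, Inv u → ∃ c ∈ Ly X ⊓ Ut u, orderOf c = 3 ∧ X ⊓ Ut u = Od X ⊔ zpowers c ∧
    Group.IsSolvable ↥(X ⊓ 𝐂[c]) ∧ (∀ v ∈ X, Kl u v → v * c * v⁻¹ = c ∨ v * c * v⁻¹ = c⁻¹) ∧
    ∃ a ∈ Ly X, ∃ b ∈ Ly X, Kl u a ∧ Kl u b ∧ a * c * a⁻¹ = c ∧ b * c * b⁻¹ = c⁻¹ ∧ (a * b) ^ 2 = u
  eight : ∀ T, T ≤ X → IsPGroup 2 T → Nat.card T ∣ 8

end GW
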