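import Cfsg.Agent.Lib.GW.DLB
import Cfsg.Agent.Lib.GW.Defs
import Mathlib.FieldTheory.Fixed

/-!
# Centralizers of involutions in `PGL(2, F)`
-/

set_option autoImplicit false
set_option linter.unusedSectionVars false

namespace GW.DL

open Cfsg GT FT Matrix OnePoint Subgroup
open scoped commutatorElement

variable {F : Type*} [Field F] [DecidableEq F] [Fintype F]

local notation "Ω" => OnePoint F
local notation "GL2" => GL (Fin 2) F
local notation "gdet" => GeneralLinearGroup.det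
local notation "𝔮" => Fintype.card F

/-- `T` is the torus of the involution `u` of `PGL(2, F)` and `r` is a reflection. -/
structure Tr (u : Equiv.Perm Ω) (T : Subgroup (Equiv.Perm Ω)) (r : Equiv.Perm Ω) : Prop where
  cyc : IsCyclic T
  le : T ≤ PGL F
  mem : u ∈ T
  r_mem : r ∈ PGL F
  r_sq : r * r = 1
  r_not : r ∉ T
  inv : ∀ x ∈ T, r * x * r⁻¹ = x⁻¹
  cent : ∀ x ∈ PGL F, x * u = u * x → x ∈ T ∨ x * r ∈ T
  cent' : ∀ a ∈ T, a * a ≠ 1 → ∀ x ∈ PGL F, x * a = a * x → x ∈ T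
  norm : ∀ y ∈ PGaL F, y * u = u * y → ∀ x ∈ T, y * x * y⁻¹ ∈ T
  ex : ∃ x ∈ T, x ∉ PSL F
  card : ((u ∈ PSL F ↔ 𝔮 % 4 = 1) ∧ Nat.card T + 1 = 𝔮) ∨
    (¬ (u ∈ PSL F ↔ 𝔮 % 4 = 1) ∧ Nat.card T = 𝔮 + 1)
  fld : ∀ p : ℕ, p.Prime → p ≠ 2 → ∀ y ∈ PGaL F, y ∉ PGL F → y ^ p = 1 → y * u = u * y →
    p * Nat.card ↥(T ⊓ 𝐂[y]) < Nat.card T

theorem Tr.map {u r : Equiv.Perm Ω} {T : Subgroup (Equiv.Perm Ω)} (h : Tr u T r)
    (α : Equiv.Perm Ω ≃* Equiv.Perm Ω) (h1 : ∀ x, α x ∈ PSL F ↔ x ∈ PSL F)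
    (h2 : ∀ x, α x ∈ PGL F ↔ x ∈ PGL F) (h3 : ∀ x, α x ∈ PGaL F ↔ x ∈ PGaL F) :
    Tr (α u) (T.map α.toMonoidHom) (α r) := by
  have hT : ∀ x, α x ∈ T.map α.toMonoidHom ↔ x ∈ T := fun x => mem_map_iff_mem α.injective
  have hc : ∀ S : Subgroup (Equiv.Perm Ω), Nat.card (S.map α.toMonoidHom) = Nat.card S :=
    fun S => card_map_of_injective α.injective
  refine ⟨?_, ?_, (hT _).2 h.mem, (h2 _).2 h.r_mem, by rw [← map_mul, h.r_sq, map_one],
    mt (hT _).1 h.r_not, ?_, ?_, ?_, ?_, ?_, by rw [hc, h1]; exact h.card, ?_⟩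
  · have := h.cyc
    exact isCyclic_of_surjective _ (T.equivMapOfInjective α.toMonoidHom α.injective).surjective
  · rintro _ ⟨x, hx, rfl⟩
    exact (h2 x).2 (h.le hx)
  · rintro _ ⟨x, hx, rfl⟩
    simpa using congrArg α (h.inv x hx)
  · intro x
    obtain ⟨x, rfl⟩ := α.surjective x
    simp only [← map_mul, hT, h2, α.apply_eq_iff_eq]
    exact h.cent x
  · rintro _ ⟨a, ha, rfl⟩ ha' x
    obtain ⟨x, rfl⟩ := α.surjective x
    simp only [MulEquiv.coe_toMonoidHom, ← map_mul, hT, h2, α.apply_eq_iff_eq, ne_eq,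
      EmbeddingLike.map_eq_one_iff] at ha' ⊢
    exact h.cent' a ha ha' x
  · intro y hy hy' x
    obtain ⟨x, rfl⟩ := α.surjective x
    obtain ⟨y, rfl⟩ := α.surjective y
    simp only [← map_mul, ← map_inv, hT, h3, α.apply_eq_iff_eq] at hy hy' ⊢
    exact h.norm y hy hy' x
  · obtain ⟨x, hx, hx'⟩ := h.ex
    exact ⟨α x, (hT x).2 hx, mt (h1 x).1 hx'⟩
  · intro p hp hp2 y
    obtain ⟨y, rfl⟩ := α.surjective y
    simp only [← map_mul, ← map_pow, h2, h3, α.apply_eq_iff_eq, EmbeddingLike.map_eq_one_iff]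
    intro a b c d
    have : T.map α.toMonoidHom ⊓ 𝐂[α y] = (T ⊓ 𝐂[y]).map α.toMonoidHom := by
      ext x
      obtain ⟨x, rfl⟩ := α.surjective x
      rw [mem_inf, hT, mem_cent1, ← map_mul, ← map_mul, α.apply_eq_iff_eq, ← mem_cent1, ← mem_inf]
      exact (mem_map_iff_mem α.injective).symm
    rw [this, hc, hc]
    exact h.fld p hp hp2 y a b c d

section Coord

variable {c : F} {hc : c ≠ 0}

theorem comm_wm_iff {h : GL2} :
    h * wm c hc = wm c hc * h ↔ h 0 0 = h 1 1 ∧ h 0 1 = c * h 1 0 := by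
  constructor
  · intro e
    have e0 := congrArg (fun g : GL2 => g 0 0) e
    have e1 := congrArg (fun g : GL2 => g 1 0) e
    simp only [gl_mul, wm_00, wm_01, wm_10, wm_11] at e0 e1
    exact ⟨by linear_combination -e1, by linear_combination e0⟩
  · rintro ⟨e0, e1⟩
    refine gl_ext ?_ ?_ ?_ ?_ <;> simp [gl_mul, e0, e1, mul_comm]

variable (c hc) in
/-- the torus of `z ↦ c / z` -/
noncomputable def Tc : Subgroup (Equiv.Perm Ω) := 𝐂[wm c hc].map mob

theorem mem_Tc {x : Equiv.Perm Ω} :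
    x ∈ Tc c hc ↔ ∃ h : GL2, (h 0 0 = h 1 1 ∧ h 0 1 = c * h 1 0) ∧ mob h = x := by
  simp only [Tc, mem_map, mem_cent1, comm_wm_iff]

theorem Tc_cyclic (h2 : (2 : F) ≠ 0) : IsCyclic (Tc c hc) := by
  let K := AlgebraicClosure F
  let i := algebraMap F K
  obtain ⟨ρ, hρ⟩ := IsAlgClosed.exists_pow_nat_eq (i c) two_pos
  have hm : ∀ h : 𝐂[wm c hc], h.1 0 0 = h.1 1 1 ∧ h.1 0 1 = c * h.1 1 0 := fun h =>
    comm_wm_iff.1 (mem_cent1.1 h.2)
  have hd : ∀ h : 𝐂[wm c hc], (i (h.1 0 0) + i (h.1 1 0) * ρ) * (i (h.1 0 0) - i (h.1 1 0) * ρ) ≠ 0 :=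
    fun h e => gl_det h.1 (i.injective (by
      rw [map_zero, ← (hm h).1, (hm h).2, map_sub, map_mul, map_mul, map_mul, ← hρ, ← e]; ring))
  let θ : 𝐂[wm c hc] →* K :=
    { toFun := fun h => (i (h.1 0 0) + i (h.1 1 0) * ρ) / (i (h.1 0 0) - i (h.1 1 0) * ρ)
      map_one' := by simp
      map_mul' := fun g h => by
        rw [div_mul_div_comm]
        simp only [coe_mul, gl_mul, (hm g).2, ← (hm g).1, map_add, map_mul, ← hρ]
        congr 1 <;> ring }
  have hk : (mob.comp 𝐂[wm c hc].subtype).ker = θ.toHomUnits.ker := by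
    ext h
    rw [MonoidHom.mem_ker, MonoidHom.mem_ker, Units.ext_iff]
    change mob h.1 = 1 ↔ (i (h.1 0 0) + i (h.1 1 0) * ρ) / (i (h.1 0 0) - i (h.1 1 0) * ρ) = 1
    rw [mob_eq_one_iff, div_eq_one_iff_eq (right_ne_zero_of_mul (hd h)), (hm h).2]
    have hρ0 : ρ ≠ 0 := by rintro rfl; exact hc (i.injective (by simpa using hρ.symm))
    have h2' : (2 : K) ≠ 0 := by rw [← map_ofNat i 2]; exact (map_ne_zero i).2 h2
    constructor
    · rintro ⟨-, e, -⟩
      simp [e]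
    · intro e
      have : h.1 1 0 = 0 := by
        have : 2 * (i (h.1 1 0) * ρ) = 0 := by linear_combination e
        simpa [h2', hρ0] using this
      simp [this, (hm h).1]
  have e : Tc c hc = (mob.comp 𝐂[wm c hc].subtype).range := by
    rw [MonoidHom.range_comp, range_subtype]; rfl
  rw [e]
  have : Finite θ.toHomUnits.range := Finite.of_surjective _ θ.toHomUnits.rangeRestrict_surjective
  exact isCyclic_of_surjective _ ((QuotientGroup.quotientKerEquivRange θ.toHomUnits).symm.trans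
    ((QuotientGroup.quotientMulEquivOfEq hk.symm).trans
      (QuotientGroup.quotientKerEquivRange _))).surjective

theorem Tc_inj {x y : Equiv.Perm Ω} (hx : x ∈ Tc c hc) (hy : y ∈ Tc c hc) (h : x ∞ = y ∞) :
    x = y := by
  obtain ⟨g, ⟨g1, g2⟩, hg⟩ := mem_Tc.1 (mul_mem (inv_mem hy) hx)
  have : g 1 0 = 0 := mob_infty_iff.1 (by rw [hg, Equiv.Perm.mul_apply, h, p_inv_apply])
  rw [mob_eq_one_iff.2 ⟨by simp [g2, this], this, g1⟩] at hg
  exact (inv_mul_eq_one.1 hg.symm).symm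

theorem card_Tc : Nat.card (Tc c hc) + {k : F | k ^ 2 = c}.ncard = 𝔮 + 1 := by
  have : Finite Ω := inferInstanceAs (Finite (Option F))
  have e : Set.range (fun x : Tc c hc => x.1 ∞) = (((↑) : F → Ω) '' {k : F | k ^ 2 = c})ᶜ := by
    ext z
    constructor
    · rintro ⟨⟨x, hx⟩, rfl⟩ ⟨k, hk, e⟩
      obtain ⟨g, ⟨g1, g2⟩, rfl⟩ := mem_Tc.1 hx
      have hd := gl_det g
      simp only [mob_infty] at e
      split_ifs at e with h
      · exact coe_ne_infty _ e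
      rw [coe_eq_coe, eq_div_iff h] at e
      exact hd (by rw [← g1, g2, ← e, ← show k ^ 2 = c from hk]; ring)
    · intro h
      cases z with
      | infty => exact ⟨1, rfl⟩
      | coe k =>
        have hk : k ^ 2 ≠ c := fun e => h ⟨k, e, rfl⟩
        exact ⟨⟨_, mem_Tc.2 ⟨g2 k c 1 k (by rwa [mul_one, ← sq, sub_ne_zero]), by simp, rfl⟩⟩,
          by simp [mob_infty]⟩
  rw [← Set.ncard_image_of_injective _ coe_injective, ← card_omega, ← Set.ncard_add_ncard_compl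
    (((↑) : F → Ω) '' {k : F | k ^ 2 = c}), ← e, add_comm, ← Set.ncard_range_of_injective
      (f := fun x : Tc c hc => x.1 ∞) fun x y h => Subtype.ext (Tc_inj x.2 y.2 h)]

theorem neg_eq : neg F = mob (g2 (-1) 0 0 1 (by simp)) := rfl

theorem neg_sq : neg F * neg F = 1 := perm_ext (by simp) fun k => by simp

theorem Tc_inv {x : Equiv.Perm Ω} (hx : x ∈ Tc c hc) : neg F * x * (neg F)⁻¹ = x⁻¹ := by
  obtain ⟨g, ⟨g1, g2⟩, rfl⟩ := mem_Tc.1 hx
  rw [inv_eq_of_mul_eq_one_right neg_sq, eq_inv_iff_mul_eq_one, neg_eq, ← map_mul, ← map_mul,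
    ← map_mul, mob_eq_one_iff]
  simp only [gl_mul, g2_00, g2_01, g2_10, g2_11, g1, g2]
  refine ⟨by ring, by ring, by ring⟩

theorem exists_sign (h2 : (2 : F) ≠ 0) {g a : GL2} (h : mob g * mob a = mob a * mob g) :
    g * a = a * g ∨ (a 0 0 + a 1 1 = 0 ∧ ∀ i j, (g * a) i j = -(a * g) i j) := by
  rw [← map_mul, ← map_mul, mob_eq_iff] at h
  obtain ⟨l, -, h⟩ := h
  have hd : (gdet (g * a) : F) = l ^ 2 * gdet (a * g) := by
    rw [gl_det_val, gl_det_val]; simp only [h]; ring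
  rw [map_mul, map_mul, mul_comm (gdet g), right_eq_mul₀ (Units.ne_zero _), sq] at hd
  rcases mul_self_eq_one_iff.1 hd with rfl | rfl
  · exact Or.inl (gl_ext (by simpa using h 0 0) (by simpa using h 0 1) (by simpa using h 1 0)
      (by simpa using h 1 1))
  refine Or.inr ⟨?_, fun i j => by simpa using h i j⟩
  have e0 := h 0 0
  have e1 := h 0 1
  have e2 := h 1 0
  have e3 := h 1 1
  simp only [gl_mul] at e0 e1 e2 e3
  exact (mul_eq_zero.1 (show 2 * (g 0 0 * g 1 1 - g 0 1 * g 1 0) * (a 0 0 + a 1 1) = 0 by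
    linear_combination g 1 1 * e0 - g 1 0 * e1 - g 0 1 * e2 + g 0 0 * e3)).resolve_left
      (mul_ne_zero h2 (gl_det g))

theorem Tc_cent (h2 : (2 : F) ≠ 0) {x : Equiv.Perm Ω} (hx : x ∈ PGL F)
    (h : x * mob (wm c hc) = mob (wm c hc) * x) : x ∈ Tc c hc ∨ x * neg F ∈ Tc c hc := by
  obtain ⟨g, rfl⟩ := hx
  rcases exists_sign h2 h with e | ⟨-, e⟩
  · exact Or.inl (mem_Tc.2 ⟨g, comm_wm_iff.1 e, rfl⟩)
  have e0 := e 0 0
  have e1 := e 1 0
  simp only [gl_mul, wm_00, wm_01, wm_10, wm_11] at e0 e1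
  refine Or.inr (mem_Tc.2 ⟨_, ?_, map_mul _ _ _⟩)
  simp only [gl_mul, g2_00, g2_01, g2_10, g2_11]
  exact ⟨by linear_combination -e1, by linear_combination e0⟩

theorem Tc_cent' (h2 : (2 : F) ≠ 0) {a x : Equiv.Perm Ω} (ha : a ∈ Tc c hc) (ha' : a * a ≠ 1)
    (hx : x ∈ PGL F) (h : x * a = a * x) : x ∈ Tc c hc := by
  obtain ⟨g, rfl⟩ := hx
  obtain ⟨a, ⟨a1, a2⟩, rfl⟩ := mem_Tc.1 ha
  rw [← map_mul, Ne, mob_eq_one_iff] at ha'
  simp only [gl_mul, a1, a2] at ha'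
  have hb : a 1 0 ≠ 0 := fun e => ha' (by simp [e])
  rcases exists_sign h2 h with e | ⟨e, -⟩
  · have e0 := congrArg (fun g : GL2 => g 0 0) e
    have e1 := congrArg (fun g : GL2 => g 1 0) e
    simp only [gl_mul, a1, a2] at e0 e1
    exact mem_Tc.2 ⟨g, ⟨mul_right_cancel₀ hb (by linear_combination -e1),
      mul_right_cancel₀ hb (by linear_combination e0)⟩, rfl⟩
  · have : a 1 1 = 0 := (mul_eq_zero.1 (show 2 * a 1 1 = 0 by
      linear_combination e - a1)).resolve_left h2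
    exact (ha' (by simp [this, mul_comm])).elim

theorem Tc_conj {g : GL2} {σ : RingAut F}
    (h : mob g * frb σ * mob (wm c hc) = mob (wm c hc) * (mob g * frb σ)) :
    ∃ l : F, l ≠ 0 ∧ ∀ a : GL2, a 0 0 = a 1 1 → a 0 1 = c * a 1 0 → ∃ b : GL2,
      b 0 0 = b 1 1 ∧ b 0 1 = c * b 1 0 ∧ b 0 0 = σ (a 0 0) ∧ b 1 0 = l * σ (a 1 0) ∧
      mob g * frb σ * mob a * (mob g * frb σ)⁻¹ = mob b := by
  rw [mul_assoc, frb_mul_mob, ← mul_assoc, ← mul_assoc, mul_left_inj, ← map_mul, ← map_mul,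
    mob_eq_iff] at h
  obtain ⟨l, hl, h⟩ := h
  refine ⟨l, hl, fun a a1 a2 => ?_⟩
  have e0 := h 0 0
  have e1 := h 0 1
  have e2 := h 1 0
  have e3 := h 1 1
  simp only [gl_mul, gmap_apply, wm_00, wm_01, wm_10, wm_11, map_zero, map_one] at e0 e1 e2 e3
  have hd := gl_det g
  have hσ : σ c = l ^ 2 * c := mul_right_cancel₀ hd (by
    linear_combination g 1 1 * e1 - g 0 1 * e3 + l * c * g 1 1 * e2 - l * g 0 1 * e0)
  have hb : σ (a 0 0) * σ (a 0 0) - c * (l * σ (a 1 0)) * (l * σ (a 1 0)) ≠ 0 := fun e =>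
    gl_det (gmap σ a) (by simp only [gmap_apply, ← a1, a2, map_mul, hσ]; linear_combination e)
  refine ⟨g2 _ _ _ _ hb, rfl, rfl, rfl, rfl, ?_⟩
  rw [mul_inv_eq_iff_eq_mul, mul_assoc, frb_mul_mob, ← mul_assoc, ← mul_assoc, mul_left_inj,
    ← map_mul, ← map_mul]
  refine congrArg mob (gl_ext ?_ ?_ ?_ ?_) <;>
    simp only [gl_mul, gmap_apply, g2_00, g2_01, g2_10, g2_11, ← a1, a2, map_mul]
  · linear_combination σ (a 1 0) * e0
  · linear_combination σ (a 1 0) * e1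
  · linear_combination σ (a 1 0) * e2
  · linear_combination σ (a 1 0) * e3

theorem card_eig_le (σ : RingAut F) (l : F) :
    {z : F | σ z = l * z}.ncard ≤ {z : F | σ z = z}.ncard := by
  by_cases h : ∃ z, z ≠ 0 ∧ σ z = l * z
  · obtain ⟨z, hz, h⟩ := h
    have hl : l ≠ 0 := by rintro rfl; exact hz (by simpa using h)
    refine Set.ncard_le_ncard_of_injOn (· / z) (fun x hx => ?_) fun x _ y _ e =>
      (div_left_inj' hz).1 e
    change σ (x / z) = x / z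
    rw [map_div₀, h, show σ x = l * x from hx, mul_div_mul_left _ _ hl]
  · refine Set.ncard_le_ncard fun z hz => ?_
    obtain rfl : z = 0 := by_contra fun e => h ⟨z, e, hz⟩
    exact map_zero σ

theorem card_fix_pow {σ : RingAut F} {p : ℕ} (hp : orderOf σ = p) :
    {z : F | σ z = z}.ncard ^ p = 𝔮 := by
  have : Finite (RingAut F) := Finite.of_injective _ DFunLike.coe_injective
  have := Fintype.ofFinite (zpowers σ)
  have := Fintype.ofFinite (FixedPoints.subfield (zpowers σ) F)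
  have h1 := FixedPoints.finrank_eq_card (zpowers σ) F
  have h2 := Module.card_eq_pow_finrank (K := FixedPoints.subfield (zpowers σ) F) (V := F)
  rw [h2, h1, ← Nat.card_eq_fintype_card (α := zpowers σ), Nat.card_zpowers, hp,
    ← Nat.card_eq_fintype_card, ← Nat.card_coe_set_eq]
  refine congrArg (· ^ p) (Nat.card_congr (Equiv.subtypeEquivRight fun z => ⟨fun h => ?_,
    fun h => h ⟨σ, mem_zpowers σ⟩⟩))
  rintro ⟨g, hg⟩
  exact zpowers_le.2 (show σ ∈ MulAction.stabilizer (RingAut F) z from h) hg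

theorem three_le_card_fix (h2 : (2 : F) ≠ 0) (σ : RingAut F) : 3 ≤ {z : F | σ z = z}.ncard := by
  have h : (1 : F) ≠ -1 := fun e => h2 (by linear_combination e)
  rw [← (Set.ncard_eq_three.2 ⟨(0 : F), 1, -1, by simp, by simp, h, rfl⟩)]
  refine Set.ncard_le_ncard ?_
  rintro z (rfl | rfl | rfl) <;> simp

theorem mul_succ_lt_pow {a p : ℕ} (ha : 3 ≤ a) (hp : 3 ≤ p) : p * (a + 1) + 1 < a ^ p := by
  induction p, hp using Nat.le_induction with
  | base => nlinarith [Nat.mul_le_mul ha ha]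
  | succ n hn ih => rw [pow_succ]; nlinarith [Nat.mul_le_mul ih.le ha, Nat.mul_le_mul hn ha]

theorem Tc_fld (h2 : (2 : F) ≠ 0) {p : ℕ} (hp : p.Prime) (hp2 : p ≠ 2) {y : Equiv.Perm Ω}
    (hy : y ∈ PGaL F) (hy' : y ∉ PGL F) (h1 : y ^ p = 1)
    (h : y * mob (wm c hc) = mob (wm c hc) * y) :
    p * Nat.card ↥(Tc c hc ⊓ 𝐂[y]) + 1 < 𝔮 := by
  have : Fact p.Prime := ⟨hp⟩
  have : Finite Ω := inferInstanceAs (Finite (Option F))
  have hσ : orderOf (fa ⟨y, hy⟩) = p := orderOf_eq_prime (by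
    rw [← map_pow, show (⟨y, hy⟩ : PGaL F) ^ p = 1 from Subtype.ext h1, map_one])
    (mt fa_eq_one_iff.1 hy')
  have e := pg_fa ⟨y, hy⟩
  generalize fa ⟨y, hy⟩ = σ at hσ e
  generalize pg ⟨y, hy⟩ = g at e
  obtain rfl : y = _ := e
  obtain ⟨l, hl, h3⟩ := Tc_conj h
  have h4 : Nat.card ↥(Tc c hc ⊓ 𝐂[mob g * frb σ]) ≤ {z : F | σ z = l * z}.ncard + 1 := by
    rw [← Set.ncard_image_of_injective _ (coe_injective (X := F)),
      ← Set.ncard_insert_of_notMem (a := ∞) (by simp), ← Set.ncard_range_of_injective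
      (f := fun x : ↥(Tc c hc ⊓ 𝐂[mob g * frb σ]) => x.1 ∞) fun x y h =>
        Subtype.ext (Tc_inj x.2.1 y.2.1 h)]
    refine Set.ncard_le_ncard ?_
    rintro _ ⟨⟨x, hx, hx'⟩, rfl⟩
    obtain ⟨a, ⟨a1, a2⟩, rfl⟩ := mem_Tc.1 hx
    obtain ⟨b, -, -, b1, b2, e⟩ := h3 a a1 a2
    rw [← mem_cent1.1 hx', mul_inv_cancel_right] at e
    have e' := congrArg (· ∞) e
    simp only [mob_infty, b1, b2] at e' ⊢
    by_cases ha : a 1 0 = 0
    · simp [ha]
    have ha' : σ (a 1 0) ≠ 0 := by simpa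
    rw [if_neg ha, if_neg (mul_ne_zero hl ha'), coe_eq_coe] at e'
    rw [if_neg ha]
    refine Or.inr ⟨_, ?_, rfl⟩
    change σ _ = l * _
    rw [map_div₀, e']; field_simp
  have h5 := mul_succ_lt_pow (three_le_card_fix h2 σ) (show 3 ≤ p by have := hp.two_le; omega)
  rw [card_fix_pow hσ] at h5
  have := Nat.mul_le_mul_left p (h4.trans (Nat.add_le_add_right (card_eig_le σ l) 1))
  omega

theorem tr_wm (ho : Odd 𝔮) : Tr (mob (wm c hc)) (Tc c hc) (neg F) := by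
  have h2 := two_ne ho
  have hq := Nat.odd_iff.1 ho
  have hm : IsSquare (-1 : F) ↔ 𝔮 % 4 = 1 := by rw [FiniteField.isSquare_neg_one_iff]; omega
  have hcard : ((mob (wm c hc) ∈ PSL F ↔ 𝔮 % 4 = 1) ∧ Nat.card (Tc c hc) + 1 = 𝔮) ∨
      (¬ (mob (wm c hc) ∈ PSL F ↔ 𝔮 % 4 = 1) ∧ Nat.card (Tc c hc) = 𝔮 + 1) := by
    have h1 := card_Tc (hc := hc)
    rw [wm_mem_PSL, ← hm]
    by_cases h : IsSquare c
    · refine Or.inl ⟨⟨fun e => ?_, fun e => by simpa using e.mul h⟩, ?_⟩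
      · simpa [neg_div, hc] using e.div h
      obtain ⟨e, rfl⟩ := h
      have he : e ≠ -e := fun h => hc (by
        rw [(mul_eq_zero.1 (show 2 * e = 0 by linear_combination h)).resolve_left h2, mul_zero])
      rw [show {k : F | k ^ 2 = e * e} = {e, -e} from Set.ext fun k => by
        simp [sq, mul_self_eq_mul_self_iff], Set.ncard_pair he] at h1
      omega
    · refine Or.inr ⟨fun e => ?_, ?_⟩
      · by_cases h3 : IsSquare (-1 : F)
        · exact h (by simpa using h3.mul (e.2 h3))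
        · obtain ⟨k, -, hk⟩ := exists_eq_mul_sq_of_not_isSquare h3 (mt e.1 h3)
          exact h ⟨k, by linear_combination -hk⟩
      · rw [show {k : F | k ^ 2 = c} = ∅ from Set.eq_empty_of_forall_notMem fun k hk =>
          h ⟨k, by rw [← sq]; exact hk.symm⟩] at h1
        simpa using h1
  refine ⟨Tc_cyclic h2, map_le_range _ _, mem_Tc.2 ⟨_, by simp, rfl⟩, aff_mem_PGL _ _ _, neg_sq,
    fun h => ?_, fun x => Tc_inv, fun x => Tc_cent h2, fun a ha ha' x => Tc_cent' h2 ha ha', ?_, ?_,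
    hcard, fun p hp hp2 y hy hy' h1 h => ?_⟩
  · have := congrArg (· ((1 : F) : Ω)) (Tc_inj h (one_mem _) (by simp))
    simp only [neg_coe, Equiv.Perm.one_apply, coe_eq_coe] at this
    exact h2 (by linear_combination -this)
  · rintro _ ⟨g, σ, rfl⟩ h x hx
    obtain ⟨l, -, h3⟩ := Tc_conj h
    obtain ⟨a, ⟨a1, a2⟩, rfl⟩ := mem_Tc.1 hx
    obtain ⟨b, b1, b2, -, -, e⟩ := h3 a a1 a2
    exact mem_Tc.2 ⟨b, ⟨b1, b2⟩, e.symm⟩
  · obtain ⟨n, hn⟩ := FiniteField.exists_nonsquare (ringChar_ne_two ho)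
    have hn0 : n ≠ 0 := by rintro rfl; exact hn IsSquare.zero
    obtain ⟨a, b, hab⟩ := FiniteField.exists_root_sum_quadratic
      (f := Polynomial.X ^ 2 - Polynomial.C n) (g := Polynomial.C (-c) * Polynomial.X ^ 2)
      (Polynomial.degree_X_pow_sub_C two_pos n)
      (Polynomial.degree_C_mul_X_pow 2 (neg_ne_zero.2 hc)) hq
    simp only [Polynomial.eval_sub, Polynomial.eval_pow, Polynomial.eval_X, Polynomial.eval_C,
      Polynomial.eval_mul] at hab
    have e : a * a - c * b * b = n := by linear_combination hab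
    refine ⟨_, mem_Tc.2 ⟨g2 a (c * b) b a (by rwa [e]), by simp, rfl⟩, ?_⟩
    rw [mob_mem_PSL, gl_det_val]
    simpa [e] using hn
  · have := Tc_fld h2 hp hp2 hy hy' h1 h
    omega

end Coord

theorem conj_mem_iff {H : Subgroup (Equiv.Perm Ω)} (h : ∀ π ∈ PGaL F, ∀ l ∈ H, π * l * π⁻¹ ∈ H)
    {s : Equiv.Perm Ω} (hs : s ∈ PGaL F) (x : Equiv.Perm Ω) : MulAut.conj s x ∈ H ↔ x ∈ H :=
  ⟨fun e => by simpa [mul_assoc] using h _ (inv_mem hs) _ e, h s hs x⟩

theorem exists_tr (ho : Odd 𝔮) {u : Equiv.Perm Ω} (hu : u ∈ PGL F) (h1 : u ≠ 1)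
    (h2 : u * u = 1) : ∃ T r, Tr u T r := by
  obtain ⟨s, hs, c, hc, rfl⟩ := exists_conj_wm hu h1 h2
  have hs' := PGL_le_PGaL hs
  exact ⟨_, _, (tr_wm ho).map (MulAut.conj s)
    (conj_mem_iff (fun _ h _ => conj_mem_PSL h) hs') (conj_mem_iff (fun _ h _ => conj_mem_PGL h) hs')
    (conj_mem_iff (fun _ h _ h' => mul_mem (mul_mem h h') (inv_mem h)) hs')⟩

/-- involutions of `PGL(2, F)` in the same coset of `PSL(2, F)` are conjugate -/
theorem exists_conj_PGL {u v : Equiv.Perm Ω} (hu : u ∈ PGL F) (u1 : u ≠ 1) (u2 : u * u = 1)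
    (hv : v ∈ PGL F) (v1 : v ≠ 1) (v2 : v * v = 1) (h : u ∈ PSL F ↔ v ∈ PSL F) :
    ∃ g ∈ PGL F, g * u * g⁻¹ = v := by
  obtain ⟨s, hs, c, hc, rfl⟩ := exists_conj_wm hu u1 u2
  obtain ⟨s', hs', c', hc', rfl⟩ := exists_conj_wm hv v1 v2
  have e := conj_mem_iff (fun _ h _ => conj_mem_PSL h) (PGL_le_PGaL hs) (mob (wm c hc))
  have e' := conj_mem_iff (fun _ h _ => conj_mem_PSL h) (PGL_le_PGaL hs') (mob (wm c' hc'))
  rw [MulAut.conj_apply, wm_mem_PSL] at e e'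
  rw [e, e'] at h
  obtain ⟨a, ha, ha'⟩ : ∃ a : F, a ≠ 0 ∧ c' = c * a ^ 2 := by
    by_cases h1 : IsSquare (-c)
    · obtain ⟨a, ha⟩ := (h.1 h1).div h1
      rw [neg_div_neg_eq, div_eq_iff hc] at ha
      exact ⟨a, by rintro rfl; exact hc' (by simpa using ha), by rw [ha]; ring⟩
    · obtain ⟨a, ha, e⟩ := exists_eq_mul_sq_of_not_isSquare h1 (mt h.2 h1)
      exact ⟨a, ha, by linear_combination -e⟩
  refine ⟨s' * aff a 0 ha * s⁻¹, mul_mem (mul_mem hs' (aff_mem_PGL _ _ _)) (inv_mem hs), ?_⟩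
  have : aff a 0 ha * mob (wm c hc) * (aff a 0 ha)⁻¹ = mob (wm c' hc') := by
    rw [mul_inv_eq_iff_eq_mul]
    refine perm_ext (by simp [wm_infty]) fun k => ?_
    by_cases hk : k = 0
    · simp [hk, wm_zero]
    · simp only [Equiv.Perm.mul_apply, wm_coe _ _ hk, aff_coe, add_zero,
        wm_coe _ _ (mul_ne_zero ha hk), coe_eq_coe, ha']
      field_simp
  rw [← this]; group

theorem exists_conj_PSL (ho : Odd 𝔮) {u v : Equiv.Perm Ω} (hu : u ∈ PGL F) (u1 : u ≠ 1)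
    (u2 : u * u = 1) (hv : v ∈ PGL F) (v1 : v ≠ 1) (v2 : v * v = 1) (h : u ∈ PSL F ↔ v ∈ PSL F) :
    ∃ g ∈ PSL F, g * u * g⁻¹ = v := by
  obtain ⟨g, hg, rfl⟩ := exists_conj_PGL hu u1 u2 hv v1 v2 h
  by_cases h : g ∈ PSL F
  · exact ⟨g, h, rfl⟩
  obtain ⟨T, r, hT⟩ := exists_tr ho hu u1 u2
  obtain ⟨x, hx, hx'⟩ := hT.ex
  have := hT.cyc
  have e : x * u = u * x := congrArg Subtype.val
    (IsCyclic.commGroup.mul_comm (⟨x, hx⟩ : T) ⟨u, hT.mem⟩)
  exact ⟨g * x, mul_mem_PSL hg (hT.le hx) h hx', by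
    rw [mul_assoc g, e]; group⟩

/-- a semisimple element is centralized by an involution -/
theorem exists_inv_comm (h2 : (2 : F) ≠ 0) {p : ℕ} [hp : Fact p.Prime] [CharP F p]
    {a : Equiv.Perm Ω} (ha : a ∈ PGL F) (h : a ^ p ≠ 1) :
    ∃ u ∈ PGL F, u ≠ 1 ∧ u * u = 1 ∧ a * u = u * a := by
  obtain ⟨g, rfl⟩ := ha
  by_cases hd : (g 0 0 - g 1 1) * (g 1 1 - g 0 0) - 2 * g 0 1 * (2 * g 1 0) = 0
  · refine (h ?_).elim
    have ht : (g 0 0 + g 1 1) / 2 ≠ 0 := fun e => gl_det g (by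
      have : g 0 0 + g 1 1 = 0 := by simpa [h2] using e
      exact mul_left_cancel₀ (mul_ne_zero h2 h2) (by
        linear_combination hd + (g 0 0 + g 1 1) * this))
    let N : Matrix (Fin 2) (Fin 2) F := g.1 - scalar _ ((g 0 0 + g 1 1) / 2)
    have hN : N ^ 2 = 0 := by
      ext i j
      fin_cases i <;> fin_cases j <;> simp [N, sq, mul_apply, Fin.sum_univ_two] <;> field_simp
      · linear_combination -hd
      · ring
      · ring
      · linear_combination -hd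
    rw [← map_pow, mob_eq_one_iff']
    refine ⟨Units.mk0 _ ht ^ p, Units.ext ?_⟩
    have e : g.1 = scalar _ ((g 0 0 + g 1 1) / 2) + N := by simp [N]
    have e' : g.1 ^ p = scalar _ (((g 0 0 + g 1 1) / 2) ^ p) := by
      rw [congrArg (· ^ p) e, add_pow_char_of_commute _ (scalar_commute _ (Commute.all _) _),
        pow_eq_zero_of_le hp.out.two_le hN, add_zero, ← map_pow]
    exact e'
  · refine ⟨mob (g2 _ _ _ _ hd), mob_mem_PGL _, fun e => ?_, ?_, ?_⟩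
    · obtain ⟨a, b, c⟩ := mob_eq_one_iff.1 e
      simp only [g2_00, g2_01, g2_10, g2_11] at a b c
      exact hd (by
        rw [a, (mul_eq_zero.1 (show 2 * (g 0 0 - g 1 1) = 0 by linear_combination c)).resolve_left h2]
        simp)
    · rw [← map_mul, mob_eq_one_iff]
      simp only [gl_mul, g2_00, g2_01, g2_10, g2_11]
      exact ⟨by ring, by ring, by ring⟩
    · rw [← map_mul, ← map_mul]
      refine congrArg mob (gl_ext ?_ ?_ ?_ ?_) <;>
        simp only [gl_mul, g2_00, g2_01, g2_10, g2_11] <;> ring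

end GW.DL
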