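import Cfsg.Agent.Lib.GW.DLC
import Cfsg.Agent.Lib.GW.Base
import Cfsg.Agent.Lib.Char.Mackey
import Cfsg.Agent.Lib.Char.Burnside
import Mathlib.NumberTheory.Multiplicity
import Mathlib.LinearAlgebra.Projectivization.PSL.PSL2

/-!
# Groups between `PSL(2, q)` and `PΓL(2, q)`: the facts needed, stated without matrices
-/

set_option autoImplicit false
set_option linter.unusedSectionVars false

namespace GW.DL

open Cfsg GT FT OnePoint Subgroup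
open scoped commutatorElement

section General
variable {G : Type*} [Group G] [Finite G] {T : Subgroup G}

theorem cyc_comm (h : IsCyclic T) {x y : G} (hx : x ∈ T) (hy : y ∈ T) : x * y = y * x := by
  obtain ⟨a, rfl⟩ := isCyclic_iff_exists_zpowers_eq.1 h
  obtain ⟨i, rfl⟩ := mem_zpowers_iff.1 hx
  obtain ⟨j, rfl⟩ := mem_zpowers_iff.1 hy
  rw [← zpow_add, add_comm, zpow_add]

theorem cyc_mem (h : IsCyclic T) {x y : G} (hx : x ∈ T) (hy : y ∈ T)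
    (hd : orderOf x ∣ orderOf y) : x ∈ zpowers y := by
  obtain ⟨a, rfl⟩ := isCyclic_iff_exists_zpowers_eq.1 h
  exact mem_zpowers_of_orderOf_dvd_of_mem hx hy hd

theorem cyc_eq (h : IsCyclic T) {x y : G} (hx : x ∈ T) (hy : y ∈ T) (x1 : Inv x) (y1 : Inv y) :
    x = y :=
  (y1.mem_zpowers_iff.1 (cyc_mem h hx hy (by rw [x1.orderOf, y1.orderOf]))).resolve_left x1.ne

theorem cyc_conj (h : IsCyclic T) {x y : G} (hx : x ∈ T) (hy : y * x * y⁻¹ ∈ T) :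
    y * x * y⁻¹ ∈ zpowers x := cyc_mem h hy hx (by rw [GT.orderOf_conj'])

/-- an automorphism of odd prime order `p` of a cyclic `p`-group fixes the `p`-th powers -/
theorem conj_pow_prime {p : ℕ} [hp : Fact p.Prime] (hp2 : p ≠ 2) {x y : G} (hx : IsPElt p x)
    (hy : y ^ p = 1) (h : y * x * y⁻¹ ∈ zpowers x) : y * x ^ p * y⁻¹ = x ^ p := by
  obtain ⟨s, hs⟩ := mem_zpowers_iff.1 h
  have h1 : ∀ j : ℕ, y ^ j * x * (y ^ j)⁻¹ = x ^ (s ^ j) := fun j => by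
    induction j with
    | zero => simp
    | succ j ih =>
      calc _ = y * (y ^ j * x * (y ^ j)⁻¹) * y⁻¹ := by rw [pow_succ']; group
        _ = _ := by rw [ih, ← conj_zpow, ← hs, ← zpow_mul, pow_succ']
  have h2 := h1 p
  rw [hy, one_mul, inv_one, mul_one] at h2
  obtain ⟨k, hk⟩ := hx
  have h3 : ((p : ℤ)) ^ k ∣ s ^ p - 1 ^ p := by
    have : (orderOf x : ℤ) ∣ s ^ p - 1 := orderOf_dvd_iff_zpow_eq_one.2 (by
      rw [zpow_sub, ← h2, zpow_one, mul_inv_cancel])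
    rwa [hk, Nat.cast_pow, ← one_pow p] at this
  rcases k with - | k
  · rw [orderOf_eq_one_iff.1 hk]; simp
  have h4 : (p : ℤ) ∣ s - 1 := by
    have h5 : (p : ℤ) ∣ s ^ p - 1 ^ p := (dvd_pow_self _ k.succ_ne_zero).trans h3
    rw [← ZMod.intCast_zmod_eq_zero_iff_dvd] at h5 ⊢
    simpa [ZMod.pow_card] using h5
  have h5 : ¬ (p : ℤ) ∣ s := fun h => (Nat.prime_iff_prime_int.1 hp.out).not_dvd_one (by
    simpa using dvd_sub h h4)
  have h6 := Int.emultiplicity_pow_sub_pow hp.out (hp.out.odd_of_ne_two hp2) h4 h5 p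
  have h7 : ((p : ℤ)) ^ (k + 1) ∣ (s - 1) * p := by
    rw [pow_dvd_iff_le_emultiplicity] at h3 ⊢
    rw [emultiplicity_mul (Nat.prime_iff_prime_int.1 hp.out), Int.natCast_emultiplicity, ← h6]
    exact h3
  have h8 : x ^ ((s - 1) * p) = 1 := orderOf_dvd_iff_zpow_eq_one.1 (by
    rw [hk, Nat.cast_pow]; exact h7)
  rw [← conj_pow, ← hs, ← zpow_natCast, ← zpow_mul, ← zpow_natCast, ← mul_inv_eq_one, ← zpow_sub,
    ← h8]
  congr 1; ring

/-- `T` is the torus of the involution `u` and `r` is a reflection -/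
structure TG (L P : Subgroup G) (u : G) (T : Subgroup G) (r : G) : Prop where
  cyc : IsCyclic T
  le : T ≤ P
  mem : u ∈ T
  r_mem : r ∈ L
  r_sq : r * r = 1
  r_not : r ∉ T
  inv : ∀ x ∈ T, r * x * r⁻¹ = x⁻¹
  cent : ∀ x ∈ P, x * u = u * x → x ∈ T ∨ x * r ∈ T
  cent' : ∀ a ∈ T, a * a ≠ 1 → ∀ x ∈ P, x * a = a * x → x ∈ T
  norm : ∀ y, y * u = u * y → ∀ x ∈ T, y * x * y⁻¹ ∈ T
  ex : P ≤ L ∨ ∃ x ∈ T, x ∉ L
  fld : ∀ p : ℕ, p.Prime → p ≠ 2 → ∀ y, y ∉ P → y ^ p = 1 → y * u = u * y →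
    ∃ x ∈ T, Odd (orderOf x) ∧ ¬ p ∣ orderOf x ∧ x * y ≠ y * x

open Classical in
/-- `L = PSL(2, q) ≤ P = G ∩ PGL(2, q) ≤ G ≤ PΓL(2, q)` -/
structure MG (L P : Subgroup G) (q d m : ℕ) : Prop where
  normal : L.Normal
  le : L ≤ P
  simple : IsSimpleGroup L
  ns : ¬ Group.IsSolvable L
  cent : 𝐂(L) = ⊥
  dih : HasDih G
  five : 5 ≤ q
  num : (q = d + 1 ∧ 2 * m = q + 1) ∨ (d = q + 1 ∧ 2 * m + 1 = q)
  four : 4 ∣ d
  card : Nat.card L = q * d * m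
  der : ∀ x y : G, ⁅x, y⁆ ∈ L
  mul : ∀ x ∈ P, ∀ y ∈ P, x ∉ L → y ∉ L → x * y ∈ L
  third : ∀ x, x ∉ P → x * x = 1 → ∀ t ∈ L, Inv t → x * t = t * x →
    ∃ v ∈ L, Kl t v ∧ v * x = x * v
  conj : ∀ u ∈ P, ∀ v ∈ P, Inv u → Inv v → (u ∈ L ↔ v ∈ L) → ConjIn L u v
  fused : ∀ u ∈ L, ∀ v ∈ L, Kl u v → Fused L u v
  tor : ∀ u ∈ P, Inv u → ∃ T r, TG L P u T r ∧ 2 * Nat.card ↥(T ⊓ L) = if u ∈ L then d else 2 * m
  cyc : ∀ s : ℕ, s.Prime → s ≠ 2 → s ∣ d * m → ∀ Q ≤ L, IsPGroup s Q → IsCyclic Q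
  st : ∃ (St : IrrCharacter L) (ε : ℤ), (ε = 1 ∨ ε = -1) ∧ charDegree St.1 = q ∧
    ∀ x : L, x ≠ 1 → ¬ (orderOf x).Coprime d → St.1 x = ε

end General

variable {F : Type*} [Field F] [DecidableEq F] [Fintype F]

local notation "Ω" => OnePoint F
local notation "𝔮" => Fintype.card F

namespace Tr
variable {u r : Equiv.Perm (OnePoint F)} {T : Subgroup (Equiv.Perm (OnePoint F))} (h : Tr u T r)
include h

theorem fld' {p : ℕ} (hp : p.Prime) (hp2 : p ≠ 2) {y : Equiv.Perm Ω} (hy : y ∈ PGaL F)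
    (hy' : y ∉ PGL F) (h1 : y ^ p = 1) (h2 : y * u = u * y) :
    ∃ x ∈ T, Odd (orderOf x) ∧ ¬ p ∣ orderOf x ∧ x * y ≠ y * x := by
  have := Fact.mk hp
  have : Fact (Nat.Prime 2) := ⟨Nat.prime_two⟩
  by_contra! H
  obtain ⟨a, ha⟩ := isCyclic_iff_exists_zpowers_eq.1 h.cyc
  have haT : a ∈ T := ha ▸ mem_zpowers a
  have ho : ¬ 2 ∣ orderOf y := fun e => hp2
    ((Nat.prime_dvd_prime_iff_eq Nat.prime_two hp).1 (e.trans (orderOf_dvd_of_pow_eq_one h1))).symm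
  have hc : ∀ x ∈ T, y * x * y⁻¹ ∈ zpowers x := fun x hx => cyc_conj h.cyc hx (h.norm y hy h2 x hx)
  have h3 : Commute (a ^ p) y := by
    rw [commute_iff_pPart_pRegPart p, pPart_pow, pRegPart_pow]
    refine ⟨(mul_inv_eq_iff_eq_mul.1 (conj_pow_prime hp2 (isPElt_pPart p a) h1
      (hc _ (pPart_mem p haT)))).symm, Commute.pow_left ?_ _⟩
    have hb := pRegPart_mem p haT
    rw [commute_iff_pPart_pRegPart 2]
    exact ⟨(mul_inv_eq_iff_eq_mul.1 (conj_eq_of_conj_mem_zpowers_dih (isPElt_pPart 2 _) ho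
      (hc _ (pPart_mem 2 hb)))).symm, H _ (pRegPart_mem 2 hb)
        (not_two_dvd.1 (not_dvd_orderOf_pRegPart 2 _))
        ((isPRegular_pRegPart p a).of_mem_zpowers (pRegPart_mem_zpowers 2 _))⟩
  have h4 : zpowers (a ^ p) ≤ T ⊓ 𝐂[y] := zpowers_le.2 ⟨pow_mem haT _, mem_cent1.2 h3⟩
  have h5 := h.fld p hp hp2 y hy hy' h1 h2
  have h6 := Nat.card_zpowers (a ^ p) ▸ card_le_of_le h4
  have h7 : orderOf a ≤ p * orderOf (a ^ p) := orderOf_le_of_pow_eq_one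
    (Nat.mul_pos hp.pos (orderOf_pos _)) (by rw [pow_mul, pow_orderOf_eq_one])
  rw [← ha, Nat.card_zpowers] at h5
  rw [← ha] at h6
  nlinarith

theorem exists_sq {t : Equiv.Perm Ω} (ht : t ∈ T) (ht' : t ∈ PSL F) : ∃ a ∈ T, a * a = t := by
  obtain ⟨a, rfl⟩ := isCyclic_iff_exists_zpowers_eq.1 h.cyc
  obtain ⟨n, rfl⟩ := mem_zpowers_iff.1 ht
  rcases Int.even_or_odd' n with ⟨j, rfl | rfl⟩
  · exact ⟨a ^ j, zpow_mem (mem_zpowers a) j, by rw [← zpow_add, two_mul]⟩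
  · obtain ⟨x, hx, hx'⟩ := h.ex
    refine (hx' ((zpowers_le.2 ?_ : zpowers a ≤ PSL F) hx)).elim
    rw [zpow_add, zpow_one, two_mul, zpow_add] at ht'
    exact (_root_.mul_mem_cancel_left (sq_mem_PSL (h.le (zpow_mem (mem_zpowers a) j)))).1 ht'

theorem card_inf : 2 * Nat.card ↥(T ⊓ PSL F) = Nat.card T := by
  obtain ⟨x, hx, hx'⟩ := h.ex
  have : (PSL F).relIndex T = 2 := relIndex_eq_two_iff.2 ⟨x, hx, fun b hb => by
    by_cases e : b ∈ PSL F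
    · exact Or.inr ⟨e, fun e' => hx' ((_root_.mul_mem_cancel_left e).1 e')⟩
    · exact Or.inl ⟨mul_mem_PSL (h.le hb) (h.le hx) e hx', e⟩⟩
  rw [← card_inf_mul_relIndex (PSL F) T, this, inf_comm, mul_comm]

theorem conj_mul {x : Equiv.Perm Ω} (hx : x ∈ T) {a : Equiv.Perm Ω} (ha : a ∈ T) :
    x * r * a * (x * r)⁻¹ = a⁻¹ := by
  calc _ = x * (r * a * r⁻¹) * x⁻¹ := by group
    _ = _ := by rw [h.inv a ha, cyc_comm h.cyc hx (inv_mem ha), mul_inv_cancel_right]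

theorem r_inv : r⁻¹ = r := inv_eq_of_mul_eq_one_right h.r_sq

theorem change {x : Equiv.Perm Ω} (hx : x ∈ T) : Tr u T (x * r) where
  __ := h
  r_mem := mul_mem (h.le hx) h.r_mem
  r_sq := by
    calc _ = x * (r * x * r⁻¹) := by rw [h.r_inv]; group
      _ = 1 := by rw [h.inv x hx, mul_inv_cancel]
  r_not := fun e => h.r_not ((_root_.mul_mem_cancel_left hx).1 e)
  inv := fun _ ha => h.conj_mul hx ha
  cent := fun y hy e => (h.cent y hy e).imp id fun e' => by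
    have : y * (x * r) = y * r * (r * x * r⁻¹) := by
      rw [h.r_inv, mul_assoc y, ← mul_assoc r, ← mul_assoc r, h.r_sq, one_mul]
    rw [this, h.inv x hx]
    exact mul_mem e' (inv_mem hx)

theorem inv_of_not_mem {y : Equiv.Perm Ω} (hy : y ∈ PGL F) (e : y * u = u * y) (hT : y ∉ T)
    {a : Equiv.Perm Ω} (ha : a ∈ T) : y * a * y⁻¹ = a⁻¹ := by
  simpa [mul_assoc, h.r_sq] using h.conj_mul ((h.cent y hy e).resolve_left hT) ha

end Tr

variable (ho : Odd (Fintype.card F))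
include ho

theorem exists_tr' {u : Equiv.Perm Ω} (hu : u ∈ PGL F) (h1 : Inv u) :
    ∃ T r, Tr u T r ∧ r ∈ PSL F := by
  obtain ⟨T, r, h⟩ := exists_tr ho hu h1.ne h1.sq
  by_cases e : r ∈ PSL F
  · exact ⟨T, r, h, e⟩
  · obtain ⟨x, hx, hx'⟩ := h.ex
    exact ⟨T, _, h.change hx, mul_mem_PSL (h.le hx) h.r_mem hx' e⟩

theorem fused_PSL {u v : Equiv.Perm Ω} (hu : u ∈ PSL F) (hv : v ∈ PSL F) (hk : Kl u v) :
    Fused (PSL F) u v := by
  obtain ⟨g, hg, e⟩ := exists_conj_PSL ho (PSL_le_PGL hu) hk.l.ne hk.l.sq (PSL_le_PGL hv) hk.r.ne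
    hk.r.sq (iff_of_true hu hv)
  obtain ⟨T, r, h⟩ := exists_tr ho (PSL_le_PGL hv) hk.r.ne hk.r.sq
  have k1 : Kl v (g * v * g⁻¹) := e ▸ hk.conj g
  have k2 : Kl v (u * v) := hk.mulR'
  have m1 : g * v * g⁻¹ ∈ PSL F := mul_mem (mul_mem hg hv) (inv_mem hg)
  have m2 : u * v ∈ PSL F := mul_mem hu hv
  have n : ∀ {w}, w ∈ PSL F → Kl v w → w ∉ T ∧ w * r ∈ T := fun hw k =>
    have n1 := fun e => k.ne (cyc_eq h.cyc h.mem e k.l k.r)
    ⟨n1, (h.cent _ (PSL_le_PGL hw) k.comm.symm).resolve_left n1⟩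
  obtain ⟨a, ha, e2⟩ := h.exists_sq (t := u * v * (g * v * g⁻¹)⁻¹)
    (by simpa [mul_assoc] using mul_mem (n m2 k2).2 (inv_mem (n m1 k1).2)) (mul_mem m2 (inv_mem m1))
  have e3 : a * g * u * (a * g)⁻¹ = v := by
    calc _ = a * (g * u * g⁻¹) * a⁻¹ := by group
      _ = v := by rw [e, cyc_comm h.cyc ha h.mem, mul_inv_cancel_right]
  have e4 : a * g * v * (a * g)⁻¹ = u * v := by
    have := h.inv_of_not_mem (PSL_le_PGL m1) k1.comm.symm (n m1 k1).1 (inv_mem ha)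
    calc _ = a * (g * v * g⁻¹ * a⁻¹ * (g * v * g⁻¹)⁻¹) * (g * v * g⁻¹) := by group
      _ = _ := by rw [this, inv_inv, e2, inv_mul_cancel_right]
  have hb : a * g ∈ PGL F := mul_mem (h.le ha) (PSL_le_PGL hg)
  generalize a * g = b at e3 e4 hb
  have e5 : b * (u * v) * b⁻¹ = u := by
    calc _ = b * u * b⁻¹ * (b * v * b⁻¹) := by group
      _ = u := by rw [e3, e4, hk.comm, hk.r.mul_mul]
  refine ⟨b * b * (b * b), sq_mem_PSL (mul_mem hb hb), ?_, ?_⟩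
  · calc _ = b * (b * (b * (b * u * b⁻¹) * b⁻¹) * b⁻¹) * b⁻¹ := by group
      _ = _ := by rw [e3, e4, e5, e3]
  · calc _ = b * (b * (b * (b * v * b⁻¹) * b⁻¹) * b⁻¹) * b⁻¹ := by group
      _ = _ := by rw [e4, e5, e3, e4]

theorem cyclic_of_isPGroup {s : ℕ} (hs : s.Prime) (hs2 : s ≠ 2) (hq : ¬ s ∣ 𝔮)
    {Q : Subgroup (Equiv.Perm Ω)} (hQ : Q ≤ PGL F) (h : IsPGroup s Q) : IsCyclic Q := by
  have := Fact.mk hs
  by_cases h0 : Q = ⊥
  · subst h0; infer_instance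
  obtain ⟨⟨a, ha, ha'⟩, a1⟩ := ne_bot_iff_exists_ne_one.1
    (inf_centralizer_ne_bot_of_isPGroup h h h0 le_normalizer)
  replace a1 : a ≠ 1 := fun e => a1 (Subtype.ext e)
  have hd := (isPElt_of_mem h ha).dvd_orderOf a1
  obtain ⟨p, _, n, hp, hn⟩ := FiniteField.card' F
  have := Fact.mk hp
  obtain ⟨u, hu, u1, u2, e⟩ := exists_inv_comm (two_ne ho) (p := p) (hQ ha) fun e => hq (by
    rw [hn, (Nat.prime_dvd_prime_iff_eq hs hp).1 (hd.trans (orderOf_dvd_of_pow_eq_one e))]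
    exact dvd_pow_self _ n.ne_zero)
  obtain ⟨T, r, hT⟩ := exists_tr ho hu u1 u2
  have a2 : a * a ≠ 1 := fun e' => hs2 ((Nat.prime_dvd_prime_iff_eq hs Nat.prime_two).1
    (hd.trans (orderOf_dvd_of_pow_eq_one (by rw [pow_two, e']))))
  have haT : a ∈ T := (hT.cent a (hQ ha) e).resolve_right fun e' => a2 (by
    simpa [mul_assoc, hT.r_sq] using (hT.change e').r_sq)
  have := hT.cyc
  exact isCyclic_of_le (A := T) fun x hx => hT.cent' a haT a2 x (hQ hx) (ha' x hx)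

theorem exists_psl_two {a b : Ω} (hab : a ≠ b) : ∃ s ∈ PSL F, s ∞ = a ∧ s ((0 : F) : Ω) = b := by
  obtain ⟨s, hs, e1, e2⟩ := exists_mob_two hab
  by_cases e : s ∈ PSL F
  · exact ⟨s, e, e1, e2⟩
  obtain ⟨c, hc⟩ := FiniteField.exists_nonsquare (ringChar_ne_two ho)
  have c0 : c ≠ 0 := fun e => hc (e ▸ IsSquare.zero)
  exact ⟨s * aff c 0 c0, mul_mem_PSL hs (aff_mem_PGL _ _ _) e (mt aff_mem_PSL.1 hc),
    by simp [e1], by simp [e2]⟩

theorem exists_st {L : Type*} [Group L] [Finite L] (ι : L →* Equiv.Perm Ω)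
    (hι : Function.Injective ι) (hr : ι.range = PSL F) {d : ℕ}
    (hd : (𝔮 % 4 = 1 ∧ d = 𝔮 - 1) ∨ (𝔮 % 4 = 3 ∧ d = 𝔮 + 1)) :
    ∃ (St : IrrCharacter L) (ε : ℤ), (ε = 1 ∨ ε = -1) ∧ charDegree St.1 = 𝔮 ∧
      ∀ x : L, x ≠ 1 → ¬ (orderOf x).Coprime d → St.1 x = ε := by
  let _ : MulAction L Ω := MulAction.compHom Ω ι
  have : Nontrivial Ω := ⟨∞, ((0 : F) : Ω), infty_ne_coe _⟩
  have h2 : MulAction.IsMultiplyPretransitive L Ω 2 := by
    refine MulAction.is_two_pretransitive_iff.2 fun {a b c d} hab hcd => ?_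
    obtain ⟨s, hs, rfl, rfl⟩ := exists_psl_two ho hab
    obtain ⟨t, ht, rfl, rfl⟩ := exists_psl_two ho hcd
    obtain ⟨g, hg⟩ : t * s⁻¹ ∈ ι.range := hr ▸ mul_mem ht (inv_mem hs)
    exact ⟨g, by change ι g _ = _; simp [hg], by change ι g _ = _; simp [hg]⟩
  have hv : ∀ x : L, CT.permChar L Ω x = Nat.card (MulAction.fixedBy Ω (ι x)) := fun _ => rfl
  have hx : ∀ x : L, ι x ∈ PSL F := fun x => hr ▸ ⟨x, rfl⟩
  have hdeg : charDegree (CT.permChar L Ω - fun _ => 1) = 𝔮 := by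
    simp [charDegree, CT.permChar_apply_one, -Nat.card_eq_fintype_card, card_omega]
  rcases hd with ⟨h4, rfl⟩ | ⟨h4, rfl⟩
  · refine ⟨⟨_, CT.isIrr_permChar_sub_one h2⟩, 1, Or.inl rfl, hdeg, fun x _ hc => ?_⟩
    have := (card_fixedBy ho (hx x)).1 h4 (by rwa [orderOf_injective ι hι])
    simp only [Pi.sub_apply, hv, this]; norm_num
  · refine ⟨⟨_, CT.isIrr_permChar_sub_one h2⟩, -1, Or.inr rfl, hdeg, fun x _ hc => ?_⟩
    have := (card_fixedBy ho (hx x)).2 h4 (by rwa [orderOf_injective ι hι])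
    simp only [Pi.sub_apply, hv, this]; norm_num

theorem exists_MG {G : Type*} [Group G] [Finite G] {L : Subgroup G} [hL : L.Normal]
    (e : L ≃* Matrix.ProjectiveSpecialLinearGroup (Fin 2) F) (hC : 𝐂(L) = ⊥) (hd : HasDih G)
    (hs : ¬ Group.IsSolvable L) : ∃ P q d m, MG L P q d m := by
  classical
  obtain ⟨ι, hk, hm, hr⟩ := exists_model (two_ne ho) e
  have hι : Function.Injective ι := (MonoidHom.ker_eq_bot_iff ι).1 (hk.trans hC)
  have mL : ∀ {x}, x ∈ L ↔ ι x ∈ PSL F := fun {x} => by rw [← hm, mem_map_iff_mem hι]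
  have mG : ∀ x, ι x ∈ PGaL F := fun x => hr ⟨x, rfl⟩
  have sL : ∀ {y}, y ∈ PSL F → ∃ x ∈ L, ι x = y := fun hy => by rwa [← hm] at hy
  have iv : ∀ {x}, Inv x → Inv (ι x) := fun h =>
    ⟨(map_ne_one_iff ι hι).2 h.ne, by rw [← map_mul, h.sq, map_one]⟩
  have cm : ∀ {x y}, x * y = y * x ↔ ι x * ι y = ι y * ι x := fun {x y} => by
    rw [← map_mul, ← map_mul, hι.eq_iff]
  have cL : 2 * Nat.card L = (𝔮 + 1) * 𝔮 * (𝔮 - 1) := by
    rw [← card_PSL ho, ← hm, card_map_of_injective hι]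
  have h5 : 5 ≤ 𝔮 := by
    have h1 : 1 < 𝔮 := Fintype.one_lt_card
    obtain ⟨j, hj⟩ := ho
    have : 𝔮 ≠ 3 := fun h3 => hs (CT.isSolvable_of_card_eq_pow_mul_pow (a := 2) (b := 1)
      Nat.prime_two Nat.prime_three (by rw [h3] at cL; omega))
    omega
  obtain ⟨d, m, hnum, h4, hd', hd''⟩ : ∃ d m, ((𝔮 = d + 1 ∧ 2 * m = 𝔮 + 1) ∨
      (d = 𝔮 + 1 ∧ 2 * m + 1 = 𝔮)) ∧ 4 ∣ d ∧ ((𝔮 % 4 = 1 ∧ d = 𝔮 - 1) ∨ (𝔮 % 4 = 3 ∧ d = 𝔮 + 1)) ∧
      2 * (d * m) = (𝔮 + 1) * (𝔮 - 1) := by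
    obtain ⟨j, hj⟩ := ho
    rcases Nat.even_or_odd' j with ⟨i, rfl | rfl⟩
    · exact ⟨4 * i, 2 * i + 1, by omega, by omega, by omega, by rw [hj]; simp; ring⟩
    · exact ⟨4 * i + 4, 2 * i + 1, by omega, by omega, by omega, by rw [hj]; simp; ring⟩
  refine ⟨(PGL F).comap ι, 𝔮, d, m, hL, fun x hx => PSL_le_PGL (mL.1 hx), ?_, hs, hC, hd, h5, hnum,
    h4, ?_, fun x y => ?_, fun x hx y hy hx' hy' => ?_, fun x hx h2 t ht t1 hc => ?_,
    fun u hu v hv u1 v1 h => ?_, fun u hu v hv hk => ?_, fun u hu u1 => ?_,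
    fun s hs hs2 hsd Q hQ h => ?_, exists_st ho (ι.comp L.subtype) (hι.comp L.subtype_injective)
      (by rw [MonoidHom.range_comp, range_subtype, hm]) hd'⟩
  · have := Matrix.ProjectiveSpecialLinearGroup.rank_two_simple (F := F)
      (by rw [Nat.card_eq_fintype_card]; omega)
    exact e.isSimpleGroup
  · refine Nat.eq_of_mul_eq_mul_left two_pos ?_
    rw [cL, mul_assoc 𝔮, mul_left_comm 2, hd'']; ring
  · rw [mL, map_commutatorElement]
    exact comm_mem_PSL (mG x) (mG y)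
  · rw [mL, map_mul]
    exact mul_mem_PSL hx hy (mt mL.2 hx') (mt mL.2 hy')
  · obtain ⟨v, hv, v2, v1, vt, c1, c2⟩ := exists_third ho (mG x) hx (by rw [← map_mul, h2, map_one])
      (mL.1 ht) (iv t1).ne (iv t1).sq (cm.1 hc)
    obtain ⟨v, hv', rfl⟩ := sL hv
    exact ⟨v, hv', ⟨t1, ⟨fun e => v1 (by rw [e, map_one]), hι (by rw [map_mul, v2, map_one])⟩,
      fun e => vt (by rw [e]), (cm.2 c1).symm⟩, cm.2 c2⟩
  · obtain ⟨g, hg, e⟩ := exists_conj_PSL ho hu (iv u1).ne (iv u1).sq hv (iv v1).ne (iv v1).sq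
      (by rwa [← mL, ← mL])
    obtain ⟨g, hg', rfl⟩ := sL hg
    exact ⟨g, hg', hι (by simpa using e)⟩
  · obtain ⟨g, hg, e1, e2⟩ := fused_PSL ho (mL.1 hu) (mL.1 hv)
      ⟨iv hk.l, iv hk.r, hι.ne hk.ne, cm.1 hk.comm⟩
    obtain ⟨g, hg', rfl⟩ := sL hg
    exact ⟨g, hg', hι (by simpa using e1), hι (by simpa using e2)⟩
  · obtain ⟨T, r, h, hr'⟩ := exists_tr' ho hu (iv u1)
    obtain ⟨r, hr'', rfl⟩ := sL hr'
    refine ⟨T.comap ι, r, ⟨?_, comap_mono h.le, h.mem, hr'', hι (by simpa using h.r_sq), h.r_not,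
      fun x hx => hι (by simpa using h.inv _ hx), fun x hx c => by simpa using h.cent _ hx (cm.1 c),
      fun a ha a2 x hx c => h.cent' _ ha (by rwa [← map_mul, map_ne_one_iff ι hι]) _ hx (cm.1 c),
      fun y c x hx => by simpa using h.norm _ (mG y) (cm.1 c) _ hx, ?_, ?_⟩, ?_⟩
    · have := h.cyc
      have := GT.isCyclic_of_le (map_comap_le ι T)
      exact isCyclic_of_injective (equivMapOfInjective _ ι hι).toMonoidHom
        (MulEquiv.injective _)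
    · refine or_iff_not_imp_left.2 fun hn => ?_
      obtain ⟨z, hz, hz'⟩ := SetLike.not_le_iff_exists.1 hn
      obtain ⟨x, hx, hx'⟩ := h.ex
      obtain ⟨y, hy, e⟩ := sL (mul_mem_PSL (h.le hx) hz hx' (mt mL.2 hz'))
      have e' : ι (y * z⁻¹) = x := by simp [e]
      exact ⟨y * z⁻¹, by rwa [mem_comap, e'], by rwa [mL, e']⟩
    · intro p hp hp2 y hy h1 c
      obtain ⟨x, hx, o1, o2, n⟩ := h.fld' hp hp2 (mG y) hy (by rw [← map_pow, h1, map_one]) (cm.1 c)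
      obtain ⟨x, -, rfl⟩ := sL (mem_PSL_of_odd (h.le hx) o1)
      rw [orderOf_injective ι hι] at o1 o2
      exact ⟨x, hx, o1, o2, mt cm.1 n⟩
    · have e1 : Nat.card ↥(T.comap ι ⊓ L) = Nat.card ↥(T ⊓ PSL F) := by
        rw [← card_map_of_injective hι, ← hm]
        congr 3
        ext x
        exact ⟨fun ⟨y, hy, e⟩ => e ▸ ⟨hy.1, y, hy.2, rfl⟩,
          fun ⟨h1, y, hy, e⟩ => ⟨y, ⟨show ι y ∈ T from e ▸ h1, hy⟩, e⟩⟩
      have := h.card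
      rw [e1, h.card_inf, mL]
      split_ifs with e2 <;> simp only [e2, true_iff, false_iff, not_not] at this <;> omega
  · have hq : ¬ s ∣ 𝔮 := fun e => hs.not_dvd_one (by
      have h1 : s ∣ (𝔮 + 1) * (𝔮 - 1) := hd'' ▸ hsd.mul_left 2
      rcases (Nat.Prime.dvd_mul hs).1 h1 with h1 | h1
      · exact (Nat.dvd_add_right e).1 h1
      · simpa [show 𝔮 - (𝔮 - 1) = 1 by omega] using Nat.dvd_sub e h1)
    have := cyclic_of_isPGroup ho hs hs2 hq ((hm ▸ map_mono hQ).trans PSL_le_PGL) (h.map ι)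
    exact isCyclic_of_injective (equivMapOfInjective _ ι hι).toMonoidHom (MulEquiv.injective _)

end GW.DL
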