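import Cfsg.Agent.Lib.GW.DXa

/-!
# Odd `p`-subgroups normalised by centralizers of involutions or by four-groups
-/

set_option autoImplicit false
set_option linter.unusedSectionVars false
set_option linter.style.haveILetI false

namespace GW
open Cfsg GT FT Subgroup FT.P4 FT.P6
open scoped Pointwise commutatorElement

namespace DX

variable {G : Type*} [Group G] [Finite G] {X A R Y J : Subgroup G} {u v : G}

theorem qim_zp {M N : Subgroup G} [(N.subgroupOf M).Normal] (x : M) :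
    qim M N (zpowers (x : G)) = zpowers (qmk M N x) := by
  rw [qim, ← MonoidHom.map_zpowers]
  congr 1
  ext y
  simp only [mem_subgroupOf, mem_zpowers_iff, Subtype.ext_iff, SubgroupClass.coe_zpow]

theorem comm_le_cent_of_fpf (hu : u * u = 1) (hA : A ≤ 𝐂(A)) (hn : u ∈ 𝐍(A)) (hY : Y ≤ 𝐍(A))
    (h : A ⊓ 𝐂[u] = ⊥) : ⁅Y, zpowers u⁆ ≤ 𝐂(A) := by
  have e := inv_eq_of_mul_eq_one_right hu
  have h1 : ∀ a ∈ A, u * a * u⁻¹ = a⁻¹ := fun a ha => by
    have h2 := (mem_normalizer_iff.1 hn a).1 ha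
    refine eq_inv_of_mul_eq_one_right (mem_bot.1 (h.le ⟨mul_mem ha h2, mem_cent1.2 ?_⟩))
    rw [← hA ha _ h2]
    nth_rewrite 2 [hA ha _ h2]
    simp only [e, ← mul_assoc, hu, one_mul]
  refine comm_zpowers_le hu fun g hg a ha => ?_
  rw [← mul_inv_eq_iff_eq_mul]
  calc a * (g * u * g⁻¹ * u⁻¹) * a⁻¹
      = a * g * (u * (g⁻¹ * (u⁻¹ * a⁻¹ * u) * g) * u⁻¹) * (u * g⁻¹ * u⁻¹) := by group
    _ = _ := by
      rw [show u⁻¹ * a⁻¹ * u = a⁻¹⁻¹ by rw [← h1 _ (inv_mem ha), e], inv_inv,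
        show g⁻¹ * a * g = g⁻¹ * a * g⁻¹⁻¹ by rw [inv_inv],
        h1 _ ((mem_normalizer_iff.1 (inv_mem (hY hg)) _).1 ha)]
      group

theorem le_cent_comm_of (hu : u * u = 1) (hR : ¬ 2 ∣ Nat.card R) (hn : u ∈ 𝐍(R))
    (hY : Y ≤ 𝐍(R)) (hc : (Nat.card R).Coprime (Nat.card ↥⁅Y, zpowers u⁆))
    (h : R ⊓ 𝐂[u] ≤ 𝐂((⁅Y, zpowers u⁆ : Subgroup G))) : R ≤ 𝐂((⁅Y, zpowers u⁆ : Subgroup G)) := by
  have hs := GAG.odd_solv hR
  have hU := zpowers_le.2 hn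
  set B := ⁅Y, zpowers u⁆ with hB
  have hA : CoprimeAct B R := ⟨(commutator_mono hY hU).trans (der_le _), hc, Or.inl hs⟩
  set W := ⁅R, B⁆ with hW
  have h1 : Y ≤ 𝐍(W) := le_normalizer_commutator hY (le_norm_commutator_left _ _)
  have h2 : zpowers u ≤ 𝐍(W) := le_normalizer_commutator hU (le_norm_commutator_right _ _)
  have h3 : B ≤ 𝐍(W) := le_norm_commutator_right _ _
  have hWR : W ≤ R := hA.commutator_le
  have hW2 := odd_of_le hR hWR
  have : ((⁅W, W⁆ : Subgroup G).subgroupOf 𝐍(W)).Normal := subgroupOf_normal (norm_le_norm_der W)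
  have hc : IsMulCommutative (qim 𝐍(W) ⁅W, W⁆ W) := (comm_qim_iff le_normalizer).2 le_rfl
  have h4 := (hA.commutator.qim (M := 𝐍(W)) (N := ⁅W, W⁆)).disjoint_commutator_centralizer
  rw [← qim_commutator le_normalizer h3, hA.commutator_commutator_eq] at h4
  have h5 := qim_inf_cent (M := 𝐍(W)) (N := ⁅W, W⁆)
    (coprimeAct_of_isPGroup_left h2 (isPElt_of_sq hu).isPGroup_zpowers hW2) h2
  have e := qim_zp (N := ⁅W, W⁆) (⟨u, h2 (mem_zpowers u)⟩ : 𝐍(W))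
  rw [e, centralizer_zpowers, centralizer_zpowers] at h5
  have h6 := comm_le_cent_of_fpf (u := qmk 𝐍(W) ⁅W, W⁆ ⟨u, h2 (mem_zpowers u)⟩)
    (by rw [← map_mul]; exact (congrArg _ (Subtype.ext hu)).trans (map_one _))
    (comm_iff_le_cent.1 hc) (qim_le_norm h2 (qmk_mem_qim (mem_zpowers u))) (qim_le_norm h1)
    (h5 ▸ eq_bot_iff.2 (h4 (qim_mono inf_le_left)
      (qim_le_cent ((inf_le_inf_right _ hWR).trans h))))
  rw [← e, ← qim_commutator h1 h2, qim_le_cent_iff h3 le_normalizer, Subgroup.commutator_comm,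
    hA.commutator_commutator_eq] at h6
  have := isSolvable_of_le hWR
  exact le_cent_of_commutator_le (eq_bot_of_perfect (le_antisymm (der_le W) h6) this).le

theorem d1_core {p : ℕ} [Fact p.Prime] (hu : u * u = 1) (hJ : ¬ 2 ∣ Nat.card J) (hO : Op p J = ⊥)
    (hn : u ∈ 𝐍(J)) (hY : IsPGroup p Y) (hYJ : Y ≤ 𝐍(J)) (h1 : u ∈ 𝐍(Y))
    (h2 : ⁅Y, zpowers u⁆ ≤ J) (h3 : J ⊓ 𝐂[u] ≤ 𝐍(Y)) : ⁅Y, zpowers u⁆ = ⊥ := by
  have := GAG.odd_solv hJ
  have hB : IsPGroup p ↥⁅Y, zpowers u⁆ := hY.to_le (commutator_le_left_of_norm (zpowers_le.2 h1))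
  have hF : ¬ p ∣ Nat.card (fittingOf J) := (sylow_Op_fittingOf p J).eq_bot_iff.1 hO
  have hd := disjoint_of_coprime (hB.coprime_card hF)
  have h4 := le_cent_comm_of hu (odd_of_le hJ (fittingOf_le J)) (norm_le_norm_fittingOf J hn)
    (hYJ.trans (norm_le_norm_fittingOf J)) (hB.coprime_card hF).symm
    (le_cent_of_commutator_le (hd (commutator_le_right_of_norm (le_normalizer_commutator
      ((inf_le_inf_right _ (fittingOf_le J)).trans h3) (inf_le_right.trans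
        ((centralizer_zpowers u).ge.trans (cent_le_norm _)))))
      ((commutator_mono inf_le_left le_rfl).trans (commutator_le_left_of_norm
        (h2.trans (le_norm_fittingOf J))))))
  exact hd.eq_bot_of_le ((le_inf h2 (le_cent_comm.1 h4)).trans cent_fittingOf_le)

/-- the almost simple case is covered by `Bar` -/
def HB (Γ : Type*) [Group Γ] : Prop := ∀ L : Subgroup Γ, L.Normal → IsSimpleGroup L →
  ¬ Group.IsSolvable L → 𝐂(L) = ⊥ → Bar L

theorem S4.eq_bot (hs : S4 u v) (h : DC (⊤ : Subgroup G)) {w : G} (hw : w ∈ Vk u v) (h1 : w ≠ 1)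
    (ho : ¬ 2 ∣ Nat.card Y) (hn : w ∈ 𝐍(Y)) : Y = ⊥ := by
  have := hs.normal
  have h2 : Y ≤ 𝐂(zpowers w) := le_cent_of_commutator_le
    (disjoint_of_coprime ((two_Vk hs.kl).coprime_card ho) ((commutator_mono le_rfl
      (zpowers_le.2 hw)).trans (commutator_le_right _ _))
      (commutator_le_left_of_norm (zpowers_le.2 hn)))
  rw [centralizer_zpowers] at h2
  exact eq_bot_iff.2 fun y hy => mem_bot.2
    (hs.eq_one h ⟨h1, sq_of_mem_Vk hs.kl hw⟩ (h2 hy) (isPRegular_of_mem ho hy))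

theorem S4.exists_cent (hs : S4 u v) {T : Subgroup G} (hT : IsPGroup 2 T) :
    ∃ w ∈ Vk u v ⊓ 𝐂(T), w ≠ 1 :=
  have := hs.normal
  exists_ne_one_of_ne_bot (inf_centralizer_ne_bot_of_isPGroup hT (two_Vk hs.kl)
    (fun e => hs.kl.l.ne (mem_bot.1 (e ▸ l_mem_Vk u v))) le_normalizer_of_normal)

theorem eq_bot_of_two (h : IsPGroup 2 G) (ho : ¬ 2 ∣ Nat.card Y) : Y = ⊥ :=
  (disjoint_of_coprime ((h.to_subgroup ⊤).coprime_card ho)).eq_bot_of_ge le_top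

variable {p : ℕ} [Fact p.Prime]

theorem d1_bar (h : DC (⊤ : Subgroup G)) (hO : Od (⊤ : Subgroup G) = ⊥) (hB : HB G) (hu : Inv u)
    (hp : p ≠ 2) (hY : IsPGroup p Y) (hn : 𝐂[u] ≤ 𝐍(Y)) : u ∈ 𝐂(Y) := by
  have ho := not_dvd_card_of_ne hY hp.symm
  rcases struct h hO with h1 | ⟨a, b, h1⟩ | ⟨L, h1, h2, h3, h4⟩
  · rw [← le_cent1_iff, eq_bot_of_two h1 ho]; exact bot_le
  · obtain ⟨w, hw, hw1⟩ := h1.exists_cent hu.isPElt.isPGroup_zpowers
    rw [← le_cent1_iff, h1.eq_bot h hw.1 hw1 ho (hn (centralizer_zpowers u ▸ hw.2))]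
    exact bot_le
  · exact (hB L h1 h2 h3 h4).d1 p hp u hu Y hY hn

theorem d1 (h : DC X) (hB : HB (Qb X)) (hu : Inv u) (huX : u ∈ X) (hp : p ≠ 2)
    (hY : IsPGroup p Y) (hYX : Y ≤ X) (hn : X ⊓ 𝐂[u] ≤ 𝐍(Y)) : ⁅Y, zpowers u⁆ ≤ Op p X := by
  have hU := zpowers_le.2 huX
  have h1 : ⁅Y, zpowers u⁆ ≤ Od X := by
    rw [← qim_le_cent_iff hYX hU, ← im, ← im, im_zpowers huX, centralizer_zpowers, le_cent1_iff]
    exact d1_bar (dc_Qb h) (Od_Qb X) hB (inv_pr huX hu) hp (isPGroup_qim hY)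
      (im_cent1 huX hu.isPElt ▸ qim_le_norm hn)
  have hT : Op p (Od X) ≤ Od X := piCoreOf_le _ _
  have : ((Op p (Od X)).subgroupOf X).Normal :=
    subgroupOf_normal ((le_norm_Od X).trans (norm_le_norm_piCoreOf _ _))
  refine le_trans ?_ (piCoreOf_le_of_normal _ (Od_le X) (le_norm_Od X))
  have e := qim_zp (N := Op p (Od X)) (⟨u, huX⟩ : X)
  have h2 := qim_inf_cent (M := X) (N := Op p (Od X)) (cop_Od hu.isPElt.isPGroup_zpowers hU) hU
  rw [e, centralizer_zpowers, centralizer_zpowers] at h2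
  rw [← qim_eq_bot_iff (h1.trans (Od_le X)), qim_commutator hYX hU, e]
  refine d1_core (J := qim X (Op p (Od X)) (Od X))
    (by rw [← map_mul]; exact (congrArg _ (Subtype.ext hu.sq)).trans (map_one _))
    (fun hd => odd_Od X (hd.trans (card_qim_dvd (Od_le X)))) ?_
    (top_le_norm_qim (le_norm_Od X) (mem_top _)) (isPGroup_qim hY)
    (le_top.trans (top_le_norm_qim (le_norm_Od X)))
    (qim_le_norm hn (qmk_mem_qim ⟨huX, mem_cent1.2 rfl⟩)) ?_
    (h2 ▸ qim_le_norm ((inf_le_inf_right _ (Od_le X)).trans hn))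
  · exact (qim_piCoreOf (Od_le X) ((isPiNat_piCoreOf _ _).of_le inf_le_left)).symm.trans qim_self
  · rw [← e, ← qim_commutator hYX hU]
    exact qim_mono h1

theorem d2 (h : DC X) (hB : HB (Qb X)) (hk : Kl u v) (hu : u ∈ X) (hv : v ∈ X) (hp : p ≠ 2)
    (hc : X ⊓ 𝐂(Op p X) ≤ Op p X) (hR : IsPGroup p R) (hRX : R ≤ X) (hn : Vk u v ≤ 𝐍(R))
    (hmax : ∀ R' : Subgroup G, IsPGroup p R' → R' ≤ X → Vk u v ≤ 𝐍(R') → R ≤ R' → R' = R) :
    X ≤ 𝐍(Zc (Puig R)) := by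
  have hV : Vk u v ≤ X := Vk_le.2 ⟨hu, hv⟩
  have ho := not_dvd_card_of_ne hR hp.symm
  have h1 : ∀ H, R ≤ H → H ≤ X → Vk u v ≤ 𝐍(H) → ¬ 2 ∣ Nat.card H → IsSylowIn p R H :=
    fun H a b c d => by
      obtain ⟨P, h1, h2, h3⟩ :=
        (coprimeAct_of_isPGroup_left c (two_Vk hk) d).exists_isSylowIn_ge hR a hn
      exact hmax P h1.isPGroup (h1.le.trans b) h2 h3 ▸ h1
  have hT : Op p X ≤ R := le_sup_right.trans (hmax _ (isPGroup_sup hR (isPGroup_Op p X)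
    (hRX.trans (le_norm_piCoreOf _ _))) (sup_le hRX (piCoreOf_le _ _))
    (le_normalizer_sup hn (hV.trans (le_norm_piCoreOf _ _))) le_sup_left).le
  have hJ : R ⊔ Od X ≤ X := sup_le hRX (Od_le X)
  have hS := h1 (R ⊔ Od X) le_sup_left hJ (le_normalizer_sup hn (hV.trans (le_norm_Od X)))
    (odd_sup ho (odd_Od X) (hRX.trans (le_norm_Od X)))
  have hT' : Op p X ≤ Op p (R ⊔ Od X) :=
    le_Op (hT.trans le_sup_left) (hJ.trans (le_norm_piCoreOf _ _)) (isPGroup_Op p X)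
  have h2 : R ⊔ Od X ≤ 𝐍(Zc (Puig R)) := puig_normal_dc hp (h.mono hJ)
    (((inf_le_inf hJ (centralizer_anti hT')).trans hc).trans hT') hS
  have h3 : 𝐍(R ⊔ Od X) ≤ 𝐍(Zc (Puig R)) :=
    (hS.frattini_sup le_normalizer le_rfl).ge.trans
      (sup_le h2 (inf_le_left.trans (center_Puig_char R)))
  by_cases hRJ : R ≤ Od X
  · rw [sup_eq_right.2 hRJ] at h3
    exact (le_norm_Od X).trans h3
  rw [← qim_eq_bot_iff hRX] at hRJ
  have ho' : ¬ 2 ∣ Nat.card (im X R) := fun e => ho (e.trans (card_qim_dvd hRX))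
  have hn' : Vk (pr X u) (pr X v) ≤ 𝐍(im X R) := im_Vk hu hv ▸ qim_le_norm hn
  have hk' := kl_pr hu hv hk
  rcases struct (dc_Qb h) (Od_Qb X) with h4 | ⟨a, b, h4⟩ | ⟨L, _, _, h4, h5⟩
  · exact (hRJ (eq_bot_of_two h4 ho')).elim
  · obtain ⟨w, hw, hw1⟩ := h4.exists_cent (two_Vk hk')
    exact (hRJ (h4.eq_bot (dc_Qb h) hw.1 hw1 ho' (hn' (mem_Vk_of_two (dc_Qb h) hk' (mem_top _)
      (mem_top _) (mem_top _) (isPElt_of_mem (two_Vk h4.kl) hw.1) hw.2)))).elim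
  obtain ⟨h6, D, h7, h8, h9, -, h10⟩ := puig_core hp h hc hR hT hRX
  by_cases hD : D ≤ Od X
  · exact ((hS.inf_of_le_normalizer (hD.trans le_sup_right) (hJ.trans h8)).frattini_sup h7
      h8).ge.trans (sup_le (hD.trans (le_sup_right.trans h2)) (inf_le_left.trans h10))
  rw [← qim_eq_bot_iff h7] at hD
  obtain ⟨z, hz, hz'⟩ := exists_inv (H := L) (by_contra fun e => h4 (GAG.odd_solv e))
  obtain ⟨t, ht, rfl, ht'⟩ := lift_inv h7 (le_of_normal_ne_bot h5 (qim_normal h8) hD hz) hz'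
  have h11 : L ≤ im X (X ⊓ 𝐂(Zc (Puig (Op p X)))) := le_of_normal_ne_bot h5 (qim_normal
    (le_norm_inf_cent le_normalizer ((le_norm_piCoreOf _ _).trans (center_Puig_char _))))
    fun e => hz'.ne (mem_bot.1 (e ▸ pr_mem_im (h7 ht)
      ⟨h7 ht, h9 t ht (ht'.isPElt.isPRegular_of_ne hp)⟩))
  have h12 := (hB L ‹_› ‹_› h4 h5).d2 p hp _ _ hk' _ (isPGroup_qim hR) hn' fun R2 a b c => by
    have h13 := sylow_qim (N := Od X) (h1 (pre X R2) ((qim_le_iff hRX).1 c) (qpre_le _)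
      (le_norm_qpre hV ((im_Vk hu hv).le.trans b)) (by
        rw [card_qpre (Od_le X), Nat.prime_two.dvd_mul, not_or]
        exact ⟨not_dvd_card_of_ne a hp.symm, odd_Od X⟩)) (qpre_le _)
    rw [qim_qpre] at h13
    exact (h13.eq_self_of_isPGroup a).symm
  rw [← qim_sup_self (Od_le X) hRX, ← qim_norm le_sup_right hJ, ← qim_inf_M] at h12
  have h13 := (qim_le_qim_iff' (M := X) (K := X ⊓ 𝐍(Zc (Puig R)))
    (le_inf (Od_le X) (le_sup_right.trans h2)) le_rfl inf_le_left).1 (le_top.trans (h12.ge.trans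
      (sup_le (qim_mono (inf_le_inf_left _ h3)) (h11.trans (qim_mono (inf_le_inf_left _
        ((centralizer_anti h6).trans (cent_le_norm _))))))))
  exact h13.trans inf_le_right

end DX

end GW
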