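import Cfsg.Agent.Lib.GW.DXa
import Cfsg.Agent.Lib.Grp.CentCover
import Cfsg.Agent.Lib.Char.Quot

/-!
# Lifting the description of the layer from `X / O(X)` to `X`
-/

set_option autoImplicit false
set_option linter.unusedSectionVars false
set_option linter.style.haveILetI false

namespace GW
open Cfsg GT FT Subgroup
open scoped Pointwise commutatorElement

namespace DX

variable {G : Type*} [Group G] [Finite G] {X H : Subgroup G} {a b c x y u v : G}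

/-- the projection as a homomorphism onto the image -/
noncomputable def prHom (hH : H ≤ X) {L : Subgroup (Qb X)} (e : im X H = L) : H →* L :=
  MonoidHom.mk' (fun x => ⟨pr X x, e ▸ pr_mem_im (hH x.2) x.2⟩) fun a b =>
    Subtype.ext (pr_mul (hH a.2) (hH b.2))

theorem prHom_surj (hH : H ≤ X) {L : Subgroup (Qb X)} (e : im X H = L) :
    Function.Surjective (prHom hH e) := fun y => by
  obtain ⟨x, hx, h⟩ := (mem_im hH).1 (e.ge y.2)
  exact ⟨⟨x, hx⟩, Subtype.ext h⟩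

theorem mem_ker_prHom (hH : H ≤ X) {L : Subgroup (Qb X)} (e : im X H = L) {x : H} :
    x ∈ (prHom hH e).ker ↔ (x : G) ∈ Od X :=
  Subtype.ext_iff.trans (pr_eq_one (hH x.2))

theorem solvable_of_im (hH : H ≤ X) (h : Group.IsSolvable (im X H)) : Group.IsSolvable H :=
  have := GAG.odd_solv (odd_Od X)
  have := isSolvable_subgroupOf (Od X) H
  Group.isSolvable_of_ker_le_range ((Od X).subgroupOf H).subtype (prHom hH rfl)
    fun x hx => ⟨⟨x, (mem_ker_prHom hH rfl).1 hx⟩, rfl⟩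

theorem odd_of_pr (hx : x ∈ X) (h : ¬ 2 ∣ orderOf (pr X x)) : ¬ 2 ∣ orderOf x := fun e => by
  have h1 : x ^ orderOf (pr X x) ∈ Od X :=
    (pr_eq_one (pow_mem hx _)).1 (by rw [pr_pow hx, pow_orderOf_eq_one])
  have h2 : orderOf x ∣ orderOf (pr X x) * orderOf (x ^ orderOf (pr X x)) :=
    orderOf_dvd_of_pow_eq_one (by rw [pow_mul, pow_orderOf_eq_one])
  exact ((Nat.prime_two.dvd_mul).1 (e.trans h2)).elim h (isPRegular_of_mem (odd_Od X) h1)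

theorem two_pr (hx : x ∈ X) (h : IsPElt 2 x) : IsPElt 2 (pr X x) :=
  h.of_orderOf_dvd (orderOf_pr_dvd hx)

theorem conj_of_pr_eq (hu : u ∈ X) (hv : v ∈ X) (h1 : Inv u) (h2 : Inv v) (e : pr X u = pr X v) :
    ∃ j ∈ Od X, j * u * j⁻¹ = v := by
  have hS : ∀ w ∈ X, Inv w → IsSylowIn 2 (zpowers w) (zpowers w ⊔ Od X) := fun w hw hw' =>
    ⟨le_sup_left, hw'.isPElt.isPGroup_zpowers, fun hd => odd_Od X (hd.trans (by
      have h3 := card_sup_dvd_of_le_normalizer ((zpowers_le.2 hw).trans (le_norm_Od X))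
      rw [← card_mul_relIndex (le_sup_left : zpowers w ≤ zpowers w ⊔ Od X)] at h3
      exact Nat.dvd_of_mul_dvd_mul_left Nat.card_pos h3))⟩
  have h3 : u ∈ zpowers v ⊔ Od X := (pr_mem_im_iff (zpowers_le.2 hv) hu).1
    (e ▸ pr_mem_im hv (mem_zpowers v))
  obtain ⟨g, hg, h4⟩ := (hS v hv h2).exists_conj_mem h1.isPElt h3
  obtain ⟨w, hw, j, hj, rfl⟩ := (mem_sup_of_le_normalizer_right
    ((zpowers_le.2 hv).trans (le_norm_Od X))).1 hg
  refine ⟨j, hj, ?_⟩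
  have h5 : j * u * j⁻¹ ∈ zpowers v := by
    have := mul_mem (mul_mem (inv_mem hw) h4) hw
    rwa [show w⁻¹ * (w * j * u * (w * j)⁻¹) * w = j * u * j⁻¹ by group] at this
  exact (mem_zpowers_of_sq h2.sq h5).resolve_left (inv_conj h1 j).ne

theorem im_Ut (h : DC (⊤ : Subgroup G)) (hu : u ∈ X) (h1 : Inv u) :
    im X (X ⊓ Ut u) = Ut (pr X u) := by
  refine le_antisymm (le_Ut (dc_Qb (h.mono le_top)) (inv_pr hu h1)
    ((qim_mono (inf_le_inf_left _ (Od_le _))).trans (im_cent1 hu h1.isPElt).le) fun e =>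
      odd_of_le (odd_Od _) inf_le_right (e.trans (card_qim_dvd inf_le_left))) fun y hy => ?_
  obtain ⟨x, hx, rfl⟩ := (mem_im inf_le_left).1 ((im_cent1 hu h1.isPElt).ge (Od_le _ hy))
  exact pr_mem_im hx.1 ⟨hx.1, mem_Ut h h1 hx.2 (odd_of_pr hx.1 (isPRegular_of_mem (odd_Od _) hy))⟩

theorem im_Wt (h : DC (⊤ : Subgroup G)) (hu : u ∈ X) (hv : v ∈ X) (hk : Kl u v) :
    im X (X ⊓ Wt u v) = Wt (pr X u) (pr X v) := by
  refine le_antisymm (le_inf ((qim_mono (inf_le_inf_left _ inf_le_left)).trans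
    (im_Ut h hu hk.l).le) ((qim_mono (inf_le_inf_left _ inf_le_right)).trans
      (im_cent1 hv hk.r.isPElt).le)) fun y hy => ?_
  have h1 : y ∈ im X 𝐂(Vk u v) := by
    rw [im_cent (two_Vk hk) (Vk_le.2 ⟨hu, hv⟩), im_Vk hu hv]
    exact mem_cent_Vk.2 ⟨Od_le _ hy.1, hy.2⟩
  obtain ⟨x, hx, rfl⟩ := mem_im'.1 h1
  exact pr_mem_im hx.1 ⟨hx.1, mem_Ut h hk.l (mem_cent_Vk.1 hx.2).1
    (odd_of_pr hx.1 (isPRegular_of_mem (odd_Od _) hy.1)), (mem_cent_Vk.1 hx.2).2⟩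

theorem card_of_le (hH : H ≤ X) (hO : Od X ≤ H) :
    Nat.card H = Nat.card (Od X) * Nat.card (im X H) := by
  rw [card_eq_mul hH, inf_eq_right.2 hO]

theorem eq_one_of_inverted (ha : a ∈ Od X) (hb : b ∈ Ly X) (h : b * a * b⁻¹ = a⁻¹) : a = 1 := by
  rw [← Ly_le_cent X hb a ha, mul_inv_cancel_right] at h
  exact eq_one_of_two (isPElt_of_sq (mul_eq_one_iff_eq_inv.2 h)) ha

theorem conj_mem_Ly (ha : a ∈ X) (hb : b ∈ Ly X) : a * b * a⁻¹ ∈ Ly X :=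
  (mem_normalizer_iff.1 (le_norm_Ly X ha) b).1 hb

/-- the order of `a` is prime to `|E ∩ O(X)|` -/
def Cz (X : Subgroup G) (a : G) : Prop := (Nat.card ↥(Ly X ⊓ Od X)).Coprime (orderOf a)

theorem Cz.of_dvd (h : Cz X a) (e : orderOf b ∣ orderOf a) : Cz X b := h.coprime_dvd_right e

theorem Cz.conj (h : Cz X a) (g : G) : Cz X (g * a * g⁻¹) := h.of_dvd (GT.orderOf_conj' _ _).dvd

theorem cz_of_two (h : IsPElt 2 a) : Cz X a :=
  (h.coprime_orderOf ((Nat.Prime.coprime_iff_not_dvd Nat.prime_two).2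
    (odd_of_le (odd_Od X) inf_le_right))).symm

theorem eq_of_pr (ha : a ∈ Ly X) (hb : b ∈ Ly X) (h1 : Cz X a) (h2 : Cz X b)
    (e : pr X a = pr X b) : a = b := by
  have h3 := (pr_eq_iff (Ly_le X ha) (Ly_le X hb)).1 e
  have h4 : Commute (a⁻¹ * b) a := Ly_le_cent X ha _ h3
  have h5 : (a⁻¹ * b) ^ (orderOf a * orderOf b) = 1 := by
    have : (a * (a⁻¹ * b)) ^ (orderOf a * orderOf b) = 1 := by
      rw [mul_inv_cancel_left, mul_comm, pow_mul, pow_orderOf_eq_one, one_pow]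
    rwa [h4.symm.mul_pow, pow_mul a, pow_orderOf_eq_one, one_pow, one_mul] at this
  rw [← inv_mul_eq_one, ← orderOf_eq_one_iff]
  exact Nat.eq_one_of_dvd_coprimes (Nat.Coprime.mul_right h1 h2)
    ((Ly X ⊓ Od X).orderOf_dvd_natCard (mem_inf.2 ⟨mul_mem (inv_mem ha) hb, h3⟩))
    (orderOf_dvd_of_pow_eq_one h5)

theorem eq_of_pr2 (ha : a ∈ Ly X) (hb : b ∈ Ly X) (h1 : IsPElt 2 a) (h2 : IsPElt 2 b)
    (e : pr X a = pr X b) : a = b := eq_of_pr ha hb (cz_of_two h1) (cz_of_two h2) e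

theorem orderOf_pr (ha : a ∈ Ly X) (h : Cz X a) : orderOf (pr X a) = orderOf a :=
  Nat.dvd_antisymm (orderOf_pr_dvd (Ly_le X ha)) (orderOf_dvd_of_pow_eq_one
    (eq_of_pr (pow_mem ha _) (one_mem _) (h.of_dvd (orderOf_pow_dvd _)) (h.of_dvd (by simp))
      (by rw [pr_pow (Ly_le X ha), pow_orderOf_eq_one, pr_one])))

theorem comm_of_pr (ha : a ∈ Ly X) (h : Cz X a) (hy : y ∈ X) (e : pr X y ∈ 𝐂[pr X a]) :
    y ∈ 𝐂[a] :=
  mem_cent1.2 (mul_inv_eq_iff_eq_mul.1 (eq_of_pr (conj_mem_Ly hy ha) ha (h.conj y) h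
    (by rw [pr_conj hy (Ly_le X ha), mem_cent1.1 e, mul_inv_cancel_right])))

theorem mem_zpowers_of_pr (ha : a ∈ Ly X) (h : Cz X a) (hc : c ∈ Ly X) (h' : Cz X c)
    (e : pr X a ∈ zpowers (pr X c)) : a ∈ zpowers c := by
  obtain ⟨b, hb, e'⟩ := (mem_im (zpowers_le.2 (Ly_le X hc))).1 ((im_zpowers (Ly_le X hc)).ge e)
  exact eq_of_pr (zpowers_le.2 hc hb) ha (h'.of_dvd (orderOf_dvd_of_mem_zpowers hb)) h e' ▸ hb

/-- the data to be lifted -/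
structure Lf (X : Subgroup G) : Prop where
  dc : DC (⊤ : Subgroup G)
  ne : Ly X ≠ ⊥
  cp : Cp (⊤ : Subgroup (Qb X))

namespace Lf
variable (h : Lf X)
include h

theorem Zc_bar : Zc (Ly (⊤ : Subgroup (Qb X))) = ⊥ := eq_bot_iff.2 (h.cp.Zc_le.trans (Od_Qb X).le)

theorem im_Ly : im X (Ly X) = Ly ⊤ := by
  refine (h.cp.qs _ (le_Ly le_top (le_cent_comm.1 ((Od_Qb X).le.trans bot_le)) ?_)
    (le_top.trans (top_le_norm_qim (le_norm_Ly X)))).resolve_left fun e => ?_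
  · rw [← qim_commutator (Ly_le X) (Ly_le X), Ly_perfect]
  · have := GAG.odd_solv (odd_Od X)
    exact not_solvable_Ly h.ne (isSolvable_of_le ((qim_eq_bot_iff (Ly_le X)).1
      (eq_bot_iff.2 (e.trans h.Zc_bar.le))))

theorem pr_mem (hx : x ∈ X) : pr X x ∈ Ly ⊤ ↔ x ∈ Od X ⊔ Ly X := by
  rw [← h.im_Ly, pr_mem_im_iff (Ly_le X) hx, sup_comm]

theorem pr_mem' (hx : x ∈ Ly X) : pr X x ∈ Ly ⊤ := (h.pr_mem (Ly_le X hx)).2 (mem_sup_right hx)

theorem pr_mem2 (hx : x ∈ X) (h2 : IsPElt 2 x) : pr X x ∈ Ly ⊤ ↔ x ∈ Ly X :=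
  ⟨fun e => mem_Ly_of_two h2 ((h.pr_mem hx).1 e), h.pr_mem'⟩

theorem lift {y : Qb X} (hy : y ∈ Ly ⊤) : ∃ x ∈ Ly X, pr X x = y :=
  (mem_im (Ly_le X)).1 (h.im_Ly.ge hy)

theorem cent : X ⊓ 𝐂(Ly X) = Od X := by
  refine le_antisymm ((qim_eq_bot_iff inf_le_left).1 (eq_bot_iff.2 ?_))
    (le_inf (Od_le X) (Od_le_cent_Ly X))
  rw [← Od_Qb X, ← h.cp.cent, ← h.im_Ly]
  exact le_inf le_top (qim_le_cent inf_le_right)

theorem Zc_eq : Zc (Ly X) = Ly X ⊓ Od X :=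
  le_antisymm (le_inf inf_le_left (h.cent ▸ inf_le_inf_right _ (Ly_le X)))
    (inf_le_inf_left _ (Od_le_cent_Ly X))

theorem toCp : Cp X where
  ne := h.ne
  cent := h.cent
  qs N h1 h2 := by
    have h3 := h1.trans (Ly_le X)
    refine (h.cp.qs (im X N) (h.im_Ly ▸ qim_mono h1) (h.im_Ly ▸ qim_le_norm h2)).imp
      (fun e => h.Zc_eq ▸ le_inf h1 ((qim_eq_bot_iff h3).1 (eq_bot_iff.2 (e.trans h.Zc_bar.le))))
      fun e => le_antisymm h1 ?_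
    have h4 := (qim_le_qim_iff (Od_le X) (Ly_le X) h3).1 (h.im_Ly.trans e.symm).le
    rw [← Ly_perfect X]
    have h5 := Od_le_cent_Ly X
    exact (commutator_mono h4 le_rfl).trans (commutator_sup_left_le (commutator_le_left_of_norm h2)
      ((commutator_eq_bot_of_le_cent h5).le.trans bot_le) le_normalizer
      (h5.trans ((centralizer_anti h1).trans (cent_le_norm _))))
  conj u hu v hv h1 h2 := by
    obtain ⟨g, hg, e⟩ := h.cp.conj _ (h.pr_mem' hu) _ (h.pr_mem' hv) (inv_pr (Ly_le X hu) h1)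
      (inv_pr (Ly_le X hv) h2)
    obtain ⟨g, hg', rfl⟩ := h.lift hg
    exact ⟨g, hg', eq_of_pr2 (conj_mem_Ly (Ly_le X hg') hu) hv (h1.isPElt.conj g) h2.isPElt
      (by rw [pr_conj (Ly_le X hg') (Ly_le X hu), e])⟩
  fused u hu v hv hk := by
    obtain ⟨g, hg, e, e'⟩ := h.cp.fused _ (h.pr_mem' hu) _ (h.pr_mem' hv)
      (kl_pr (Ly_le X hu) (Ly_le X hv) hk)
    obtain ⟨g, hg', rfl⟩ := h.lift hg
    exact ⟨g, hg', eq_of_pr2 (conj_mem_Ly (Ly_le X hg') hu) hv (hk.l.isPElt.conj g) hk.r.isPElt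
      (by rw [pr_conj (Ly_le X hg') (Ly_le X hu), e]),
      eq_of_pr2 (conj_mem_Ly (Ly_le X hg') hv) (mul_mem hu hv) (hk.r.isPElt.conj g) hk.mul.isPElt
      (by rw [pr_conj (Ly_le X hg') (Ly_le X hv), e', pr_mul (Ly_le X hu) (Ly_le X hv)])⟩
  ex u hu h1 := by
    obtain ⟨y, hy, hk⟩ := h.cp.ex _ (h.pr_mem' hu) (inv_pr (Ly_le X hu) h1)
    obtain ⟨v, hv, rfl, hk'⟩ := lift_kl (Ly_le X hu) h1 hk
    exact ⟨v, (h.pr_mem2 hv hk'.r.isPElt).1 hy, hk'⟩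
  ex_inv := by
    obtain ⟨y, hy, h1⟩ := h.cp.ex_inv
    obtain ⟨u, hu, -, h2⟩ := lift_inv (Ly_le X) (h.im_Ly.ge hy) h1
    exact ⟨u, hu, h2⟩
  der x hx := (h.pr_mem (der_le X hx)).1 (by
    have h1 := h.cp.der
    rw [Od_Qb, bot_sup_eq, ← qim_der] at h1
    exact h1 (pr_mem_im (der_le X hx) hx))
  two x hx y hy h1 h2 h3 h4 := (h.pr_mem (mul_mem hx hy)).1 (by
    have h5 := h.cp.two _ (mem_top _) _ (mem_top _) (two_pr hx h1) (two_pr hy h2)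
      (mt (h.pr_mem2 hx h1).1 h3) (mt (h.pr_mem2 hy h2).1 h4)
    rwa [Od_Qb, bot_sup_eq, ← pr_mul hx hy] at h5)
  out u hu v hv h1 h2 h3 h4 := by
    obtain ⟨g, -, e⟩ := h.cp.out _ (mem_top _) _ (mem_top _) (inv_pr hu h1) (inv_pr hv h2)
      (mt (h.pr_mem2 hu h1.isPElt).1 h3) (mt (h.pr_mem2 hv h2.isPElt).1 h4)
    obtain ⟨g, hg, rfl⟩ := pr_surj g
    obtain ⟨j, hj, e'⟩ := conj_of_pr_eq (mul_mem (mul_mem hg hu) (inv_mem hg)) hv (inv_conj h1 g)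
      h2 (by rw [pr_conj hg hu, e])
    exact ⟨j * g, mul_mem (Od_le X hj) hg, by rw [← e']; group⟩

omit h in
theorem Od_le_cent1 (hu : u ∈ Ly X) : Od X ≤ 𝐂[u] := le_cent1_iff.2 (Ly_le_cent X hu)

theorem Od_le_Ut (hu : u ∈ Ly X) (h1 : Inv u) : Od X ≤ Ut u :=
  le_Ut h.dc h1 (Od_le_cent1 hu) (odd_Od X)

theorem cop_Z {n : ℕ} (hc : ∀ s : ℕ, s.Prime → s ≠ 2 → s ∣ n →
    ∀ Q ≤ Ly (⊤ : Subgroup (Qb X)), IsPGroup s Q → IsCyclic Q) :
    (Nat.card ↥(Ly X ⊓ Od X)).Coprime n := by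
  refine Nat.coprime_of_dvd fun s hs h1 h2 => ?_
  have := Fact.mk hs
  obtain ⟨Q, hQ⟩ := exists_isSylowIn s (Ly X)
  have hX := hQ.le.trans (Ly_le X)
  have := hc s hs (fun e => odd_of_le (odd_Od X) inf_le_right (e ▸ h1)) h2 (im X Q)
    (h.im_Ly ▸ qim_mono hQ.le) (isPGroup_qim hQ.isPGroup)
  have h3 : IsMulCommutative Q := (prHom hX rfl).isMulCommutative_of_isCyclic_of_ker_le_center
    fun x hx => mem_center_iff.2 fun y => Subtype.ext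
      (Od_le_cent_Ly X ((mem_ker_prHom hX rfl).1 hx) y (hQ.le y.2))
  obtain ⟨z, hz, hz1⟩ := exists_ne_one_of_ne_bot ((hQ.inf_of_le_normalizer inf_le_left
    (le_normalizer_inf le_normalizer ((Ly_le X).trans (le_norm_Od X)))).ne_bot h1)
  have h4 := ((isSylowIn_subgroupOf_top_iff hQ.le).2 hQ).mem_commutator_of_mem_center
    (z := ⟨z, hz.2.1⟩) (mem_center_iff.2 fun y => Subtype.ext (Od_le_cent_Ly X hz.2.2 y y.2)) hz.1
    (by rw [← sgOf_der, Ly_perfect]; exact hz.2.1)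
  rw [← sgOf_commutator hQ.le hQ.le, commutator_eq_bot_of_le_cent (comm_iff_le_cent.1 h3)] at h4
  exact hz1 h4

theorem tor (hu : u ∈ X) (h1 : Inv u) {K : Subgroup (Qb X)} (hK : Tor ⊤ (pr X u) K)
    (hc : (Nat.card ↥(Ly X ⊓ Od X)).Coprime (Nat.card K)) :
    ∃ c ∈ Ly X, Cz X c ∧ zpowers (pr X c) = K ∧ orderOf c = Nat.card K ∧ Tor X u (zpowers c) := by
  obtain ⟨y, rfl⟩ := (Subgroup.isCyclic_iff_exists_zpowers_eq_top K).1 hK.cyc
  rw [Nat.card_zpowers] at hc ⊢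
  have hy := hK.le (mem_zpowers y)
  obtain ⟨c, hE, rfl, ho⟩ := lift_cop (Ly_le X) (h.im_Ly.ge hy.1) hc
  have hz : Cz X c := by rwa [Cz, ho]
  have hX := Ly_le X hE
  have k1 : ∀ x ∈ zpowers c, x ∈ Ly X ∧ Cz X x ∧ pr X x ∈ zpowers (pr X c) := fun x hx =>
    ⟨zpowers_le.2 hE hx, hz.of_dvd (orderOf_dvd_of_mem_zpowers hx),
      (im_zpowers hX).le (pr_mem_im (zpowers_le.2 hX hx) hx)⟩
  have k2 : ∀ v ∈ X, Kl u v → InvBy v (zpowers c) := fun v hv hk x hx => by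
    obtain ⟨a1, a2, a3⟩ := k1 x hx
    exact eq_of_pr (conj_mem_Ly hv a1) (inv_mem a1) (a2.conj v) (a2.of_dvd (by simp)) (by
      rw [pr_conj hv (Ly_le X a1), pr_inv (Ly_le X a1), hK.inv _ (mem_top _) (kl_pr hu hv hk) _ a3])
  have k3 : ∀ v ∈ X, Kl u v → ⁅X ⊓ Ut u, zpowers v⁆ ≤ zpowers c ⊔ Od X := fun v hv hk => by
    have h2 := hK.comm _ (mem_top _) (kl_pr hu hv hk)
    rw [Od_Qb, bot_sup_eq, top_inf_eq, ← im_Ut h.dc hu h1, ← im_zpowers hv, ← im_zpowers hX,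
      ← qim_commutator inf_le_left (zpowers_le.2 hv)] at h2
    exact (qim_le_qim_iff (Od_le X) ((commutator_mono inf_le_left (zpowers_le.2 hv)).trans
      (der_le X)) (zpowers_le.2 hX)).1 h2
  have k4 : c ∈ Ut u := mem_Ut h.dc h1 (mem_cent1_comm.1
    (comm_of_pr hE hz hu (mem_cent1_comm.1 (Od_le _ hy.2))))
    (by rw [ho]; exact isPRegular_of_mem (odd_Od _) hy.2)
  refine ⟨c, hE, hz, rfl, ho, zpowers_le.2 (mem_inf.2 ⟨hE, k4⟩), inferInstance, fun g hg => ?_, k2,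
    fun v hv hk => (k3 v hv hk).trans (sup_comm _ _).le, fun v hv hk => ?_,
    fun v hv hk p _ hp y hy hy' hc' => ?_⟩
  · refine mem_normalizer_fintype fun x hx => ?_
    obtain ⟨a1, a2, a3⟩ := k1 x hx
    refine mem_zpowers_of_pr (conj_mem_Ly hg.1 a1) (a2.conj g) hE hz ?_
    rw [pr_conj hg.1 (Ly_le X a1)]
    exact (mem_normalizer_iff.1 (hK.norm ⟨mem_top _, pr_mem_cent1 hg.1 hu hg.2⟩) _).1 a3
  · refine comm_zpowers_le hk.r.sq fun g hg => ?_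
    obtain ⟨a, ha, z, hz', e⟩ := (mem_sup_of_le_normalizer_right ((zpowers_le.2 hX).trans
      (le_norm_Od X))).1 (k3 v (Ly_le X hv) hk (commutator_mem_commutator hg (mem_zpowers v)))
    rw [commutatorElement_def] at e
    have e1 : v * (a * z) * v⁻¹ = (a * z)⁻¹ := by
      rw [e, hk.r.inv_eq]; simp only [mul_inv_rev, inv_inv, hk.r.inv_eq, mul_assoc, hk.r.sq, mul_one]
    rw [← conj_mul, k2 v (Ly_le X hv) hk a ha, mul_inv_rev,
      Ly_le_cent X (inv_mem (k1 a ha).1) _ (inv_mem hz'), mul_right_inj] at e1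
    rw [← e, eq_one_of_inverted hz' hv e1, mul_one]
    exact ha
  · rw [← pr_eq_one hy.1.1, ← mem_bot, ← Od_Qb X]
    refine hK.fld _ (mem_top _) (kl_pr hu hv hk) p hp _ ⟨⟨mem_top _, pr_mem_cent1 hy.1.1 hu hy.1.2⟩,
      pr_mem_cent1 hy.1.1 hv hy.2⟩ (hy'.of_orderOf_dvd (orderOf_pr_dvd hy.1.1)) fun x hx hx' => ?_
    obtain ⟨x, hx2, rfl⟩ := (mem_im (zpowers_le.2 hX)).1 ((im_zpowers hX).ge hx)
    obtain ⟨a1, a2, -⟩ := k1 x hx2
    rw [← pr_mul (Ly_le X a1) hy.1.1, ← pr_mul hy.1.1 (Ly_le X a1),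
      hc' x hx2 (orderOf_pr a1 a2 ▸ hx')]

theorem lt {q d k m e φ : ℕ} (hL : LT (⊤ : Subgroup (Qb X)) q d k m e φ)
    (hc : ∀ s : ℕ, s.Prime → s ≠ 2 → s ∣ d * m →
      ∀ Q ≤ Ly (⊤ : Subgroup (Qb X)), IsPGroup s Q → IsCyclic Q) : LT X q d k m e φ := by
  have hZ := h.cop_Z hc
  have i1 : ∀ u ∈ Ly X, Inv u → Inv (pr X u) := fun u hu => inv_pr (Ly_le X hu)
  have inj : ∀ S : Set G, (∀ v ∈ S, v ∈ Ly X ∧ Inv v) → Set.InjOn (pr X) S := fun S hS a ha b hb =>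
    eq_of_pr2 (hS a ha).1 (hS b hb).1 (hS a ha).2.isPElt (hS b hb).2.isPElt
  refine { h.toCp with
    five := hL.five, num := hL.num, dk := hL.dk, odd_k := hL.odd_k, odd_φ := hL.odd_φ
    e_eq := hL.e_eq.imp (And.imp_right fun h1 x hx h2 => (h.pr_mem2 hx h2).1
      (h1 _ (mem_top _) (two_pr hx h2))) (And.imp_right fun ⟨y, _, h1, h2⟩ => ?_)
    copZ := h.Zc_eq ▸ hZ
    card_E := ?_, card_X := ?_, card_inv := ?_
    card_in := fun u hu h1 => ?_, card_U := fun u hu h1 => ?_, card_W := fun u hu v hv hk => ?_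
    card_out := fun u hu h1 h2 => ?_, tor_in := fun u hu h1 => ?_, tor_out := fun u hu h1 h2 => ?_
    four := fun u hu h1 x hx h2 h3 y hy => ?_, st := fun h1 => ?_ }
  · obtain ⟨u, hu, rfl, h3⟩ := lift_inv le_rfl (mem_im_top y) h1
    exact ⟨u, hu, h3, mt h.pr_mem' h2⟩
  · rw [card_eq_mul (Ly_le X), h.Zc_eq, h.im_Ly, hL.card_E, h.Zc_bar, card_bot, one_mul]
  · rw [card_of_le le_rfl (Od_le X), im_top, hL.card_X, Od_Qb, card_bot]; ring
  · rw [← hL.card_inv, ← (inj {v | v ∈ Ly X ∧ Inv v} fun _ hv => hv).ncard_image]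
    congr 1
    ext y
    refine ⟨by rintro ⟨v, hv, rfl⟩; exact ⟨h.pr_mem' hv.1, i1 v hv.1 hv.2⟩, fun hy => ?_⟩
    obtain ⟨v, a1, a2, a3⟩ := lift_inv (Ly_le X) (h.im_Ly.ge hy.1) hy.2
    exact ⟨v, ⟨a1, a3⟩, a2⟩
  · have h2 := hL.card_in _ (h.pr_mem' hu) (i1 u hu h1)
    rw [top_inf_eq, Od_Qb, card_bot] at h2
    rw [card_of_le inf_le_left (le_inf (Od_le X) (Od_le_cent1 hu)),
      im_cent1 (Ly_le X hu) h1.isPElt, h2]; ring
  · have h2 := hL.card_U _ (h.pr_mem' hu) (i1 u hu h1)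
    rw [top_inf_eq, Od_Qb, card_bot] at h2
    rw [card_of_le inf_le_left (le_inf (Od_le X) (h.Od_le_Ut hu h1)),
      im_Ut h.dc (Ly_le X hu) h1, h2]; ring
  · have h2 := hL.card_W _ (h.pr_mem' hu) _ (h.pr_mem' hv) (kl_pr (Ly_le X hu) (Ly_le X hv) hk)
    rw [top_inf_eq, Od_Qb, card_bot] at h2
    rw [card_of_le inf_le_left (le_inf (Od_le X) (le_inf (h.Od_le_Ut hu hk.l) (Od_le_cent1 hv))),
      im_Wt h.dc (Ly_le X hu) (Ly_le X hv) hk, h2]; ring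
  · have h3 := hL.card_out _ (mem_top _) (inv_pr hu h1) (mt (h.pr_mem2 hu h1.isPElt).1 h2)
    rw [top_inf_eq, Od_Qb, bot_inf_eq, card_bot] at h3
    rw [card_eq_mul inf_le_left, im_cent1 hu h1.isPElt, h3, inf_right_comm,
      inf_eq_right.2 (Od_le X)]; ring
  · obtain ⟨K, a1, a2, a3⟩ := hL.tor_in _ (h.pr_mem' hu) (i1 u hu h1)
    obtain ⟨a, -, hd⟩ := hL.dk
    obtain ⟨c, b1, b2, rfl, b3, b4⟩ := h.tor (Ly_le X hu) h1 a1
      (a2 ▸ hZ.coprime_dvd_right ((Dvd.intro_left _ hd.symm).mul_right m))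
    refine ⟨_, b4, by rw [Nat.card_zpowers, b3, a2], fun x hx hx1 v hv h2 e' => ?_⟩
    have c1 : x ∈ Ly X := zpowers_le.2 b1 hx
    refine eq_of_pr2 hv hu h2.isPElt h1.isPElt (a3 (pr X x) ((im_zpowers (Ly_le X b1)).le
      (pr_mem_im (Ly_le X c1) hx)) (fun e'' => hx1 ?_) _ (h.pr_mem' hv) (i1 v hv h2) ?_)
    · rw [← orderOf_eq_one_iff, ← orderOf_pr c1 (b2.of_dvd (orderOf_dvd_of_mem_zpowers hx)), e'',
        orderOf_one]
    · rw [← pr_mul (Ly_le X hv) (Ly_le X c1), e', pr_mul (Ly_le X c1) (Ly_le X hv)]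
  · obtain ⟨K, a1, a2, a3⟩ := hL.tor_out _ (mem_top _) (inv_pr hu h1)
      (mt (h.pr_mem2 hu h1.isPElt).1 h2)
    obtain ⟨c, b1, b2, rfl, b3, b4⟩ := h.tor hu h1 a1
      (a2 ▸ hZ.coprime_dvd_right (dvd_mul_left m d))
    refine ⟨_, b4, by rw [Nat.card_zpowers, b3, a2], le_trans (Set.ncard_le_ncard_of_injOn (pr X)
      (fun v hv => ?_) (inj _ fun v hv => ⟨hv.1.1, hv.2⟩)) a3⟩
    refine ⟨⟨h.pr_mem' hv.1.1, ?_⟩, i1 v hv.1.1 hv.2⟩
    rw [← im_zpowers (Ly_le X b1)]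
    exact qim_le_norm le_rfl (pr_mem_im (Ly_le X hv.1.1) hv.1.2)
  · have hX := Ly_le X hx.1
    refine mem_cent1.1 (comm_of_pr hx.1 (cz_of_two h2) hy.1 (mem_cent1.2 (hL.four _ (h.pr_mem' hu)
      (i1 u hu h1) _ ⟨h.pr_mem' hx.1, pr_mem_cent1 hX (Ly_le X hu) hx.2⟩ (two_pr hX h2)
      (fun e' => h3 ?_) _ ⟨mem_top _, (im_Ut h.dc (Ly_le X hu) h1).le (pr_mem_im hy.1 hy)⟩)))
    rw [← pr_mul hX hX, pr_eq_one (mul_mem hX hX)] at e'
    exact eq_one_of_two (h2.mul_of_commute h2 (Commute.refl x)) e'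
  · obtain ⟨St, ε, a1, a2, a3⟩ := hL.st h.Zc_bar
    let f := MulEquiv.ofBijective (prHom (Ly_le X) h.im_Ly) ⟨(injective_iff_map_eq_one _).2
      fun x hx => Subtype.ext (mem_bot.1 ((h.Zc_eq.symm.trans h1).le
        ⟨x.2, (mem_ker_prHom _ _).1 hx⟩)), prHom_surj _ _⟩
    refine ⟨(CT.irrCongr f).symm St, ε, a1, ?_, fun x hx h2 => ?_⟩
    · rw [← a2, charDegree, charDegree, CT.irrCongr_symm_apply, map_one]
    · rw [CT.irrCongr_symm_apply]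
      exact a3 _ (by simpa using hx) (by rwa [MulEquiv.orderOf_eq])

theorem at' (hA : AT (⊤ : Subgroup (Qb X))) : AT X := by
  have hE : ∀ x ∈ X, x ∈ Od X ⊔ Ly X := fun x hx => (h.pr_mem hx).1 (by
    have := hA.eq.ge (mem_top (pr X x))
    rwa [Od_Qb, bot_sup_eq] at this)
  have h2E : ∀ x ∈ X, IsPElt 2 x → x ∈ Ly X := fun x hx h2 => mem_Ly_of_two h2 (hE x hx)
  refine { h.toCp with
    iso := ?_, eq := le_antisymm (sup_le (Od_le X) (Ly_le X)) hE, three := fun u hu h1 => ?_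
    eight := fun T h1 h2 => ?_ }
  · obtain ⟨e⟩ := hA.iso
    have h1 : center (Ly (⊤ : Subgroup (Qb X))) = ⊥ := by
      rw [← map_eq_bot_iff_of_injective _ (Subgroup.subtype_injective _), ← Zc_eq_map, h.Zc_bar]
    have h2 : center (Ly X) = (prHom (Ly_le X) h.im_Ly).ker := by
      ext x
      rw [mem_ker_prHom, ← mem_map_iff_mem (Subgroup.subtype_injective _), ← Zc_eq_map, h.Zc_eq]
      exact and_iff_right x.2
    exact ⟨(((QuotientGroup.quotientMulEquivOfEq h2).trans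
      (QuotientGroup.quotientKerEquivOfSurjective _ (prHom_surj _ _))).trans
      (QuotientGroup.quotientBot.symm.trans (QuotientGroup.quotientMulEquivOfEq h1.symm))).trans e⟩
  swap
  · have h3 := hA.eight _ le_top (isPGroup_qim (M := X) (N := Od X) h2)
    rwa [card_eq_mul h1, (disjoint_of_coprime (h2.coprime_card (odd_Od X))).eq_bot, card_bot,
      one_mul]
  obtain ⟨y, hy, a1, a2, a3, a4, a, -, b, -, a5, a6, a7, a8, a9⟩ :=
    hA.three _ (mem_top _) (inv_pr hu h1)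
  rw [top_inf_eq] at a2 a3
  rw [Od_Qb, bot_sup_eq] at a2
  obtain ⟨a, ha, rfl, ka⟩ := lift_kl hu h1 a5
  obtain ⟨b, hb, rfl, kb⟩ := lift_kl hu h1 a6
  have hu' := h2E u hu h1.isPElt
  have ha' := h2E a ha ka.r.isPElt
  have hb' := h2E b hb kb.r.isPElt
  have hJ := h.Od_le_Ut hu' h1
  obtain ⟨x, hx, rfl⟩ := (mem_im inf_le_left).1 ((im_Ut h.dc hu h1).ge hy.2)
  obtain ⟨j, hj, x, hx', rfl⟩ := (mem_sup_of_le_normalizer_left
    ((Ly_le X).trans (le_norm_Od X))).1 (hE x hx.1)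
  have hx1 : x ∈ Ut u := (mul_mem_cancel_left (hJ hj)).1 hx.2
  have hX := Ly_le X hx'
  rw [pr_mul (Od_le X hj) hX, (pr_eq_one (Od_le X hj)).2 hj, one_mul] at a1 a2 a3 a4 a7 a8
  have a1' : pr X x ^ 3 = 1 := a1 ▸ pow_orderOf_eq_one _
  obtain ⟨c, hc, c1, c2, c3⟩ : ∃ c ∈ Ly X, c ∈ Ut u ∧ pr X c = pr X x ∧ b * c * b⁻¹ = c⁻¹ := by
    refine ⟨x⁻¹ * (b * x * b⁻¹), mul_mem (inv_mem hx') (conj_mem_Ly hb hx'), mul_mem (inv_mem hx1)
      ((mem_normalizer_iff.1 (le_norm_Od _ (mem_cent1.2 kb.comm.symm)) x).1 hx1), ?_, ?_⟩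
    · rw [pr_mul (inv_mem hX) (Ly_le X (conj_mem_Ly hb hx')), pr_inv hX, pr_conj hb hX, a8,
        ← mul_inv_rev, inv_eq_iff_mul_eq_one, ← a1', pow_three']
    · simp only [mul_inv_rev, inv_inv, kb.r.inv_eq, mul_assoc, kb.r.sq, mul_one]
  have hcX := Ly_le X hc
  rw [← c2] at a1 a2 a3 a4 a7 a8 a1'
  have k1 : ∀ w ∈ X, IsPElt 2 w → pr X w ∈ 𝐂[pr X c] → w * c * w⁻¹ = c := fun w hw h2 h3 =>
    mul_inv_eq_iff_eq_mul.2 (mem_cent1.1 (comm_of_pr (h2E w hw h2) (cz_of_two h2) hcX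
      (mem_cent1_comm.1 h3))).symm
  have k2 : X ⊓ Ut u = Od X ⊔ zpowers c := by
    rw [← qpre_qim_of_le (le_inf (Od_le X) hJ) inf_le_left, ← im, im_Ut h.dc hu h1, a2,
      ← im_zpowers hcX, qpre_qim (Od_le X) (zpowers_le.2 hcX), sup_comm]
  refine ⟨c, ⟨hc, c1⟩, ?_, k2, solvable_of_im inf_le_left (isSolvable_of_le (K := 𝐂[pr X c])
    fun y hy => ?_), fun v hv kv => (a4 _ (mem_top _) (kl_pr hu hv kv)).imp
      (fun e => k1 v hv kv.r.isPElt (mem_cent1.2 (mul_inv_eq_iff_eq_mul.1 e))) fun e => ?_,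
    a, ha', b, hb', ka, kb, k1 a ha ka.r.isPElt (mem_cent1.2 (mul_inv_eq_iff_eq_mul.1 a7)), c3, ?_⟩
  · have : Fact (Nat.Prime 3) := ⟨Nat.prime_three⟩
    refine orderOf_eq_prime (eq_one_of_inverted ((pr_eq_one (pow_mem hcX 3)).1
      (by rw [pr_pow hcX, a1'])) hb' (by rw [← conj_pow, c3, inv_pow])) fun e => ?_
    rw [e, pr_one, orderOf_one] at a1
    exact absurd a1 (by decide)
  · obtain ⟨y, hy', rfl⟩ := (mem_im inf_le_left).1 hy
    exact pr_mem_cent1 hy'.1 hcX hy'.2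
  · have w1 : v * b ∈ X := mul_mem hv hb
    have w2 : v * b ∈ 𝐂[u] := mul_mem (mem_cent1.2 kv.comm.symm) (mem_cent1.2 kb.comm.symm)
    have w3 : zpowers (pr X (v * b)) ≤ 𝐂[pr X c] := zpowers_le.2 (mem_cent1.2
      (mul_inv_eq_iff_eq_mul.1 (by
        rw [pr_mul hv hb, ← inv_inj, ← e]
        calc _ = pr X v * (pr X b * pr X c * (pr X b)⁻¹)⁻¹ * (pr X v)⁻¹ := by group
          _ = _ := by rw [a8, inv_inv])))
    have w4 : pPart 2 (v * b) ∈ 𝐂[c] := mem_cent1.2 (mul_inv_eq_iff_eq_mul.1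
      (k1 _ (pPart_mem 2 w1) (isPElt_pPart 2 _) (w3 ((im_zpowers w1).le
        (pr_mem_im (pPart_mem 2 w1) (pPart_mem_zpowers 2 _))))))
    have w5 : pRegPart 2 (v * b) ∈ 𝐂[c] := (k2.le.trans (sup_le (Od_le_cent1 hc)
      (zpowers_le.2 (mem_cent1.2 rfl)))) ⟨pRegPart_mem 2 w1,
        mem_Ut h.dc h1 (pRegPart_mem 2 w2) (isPRegular_pRegPart 2 _)⟩
    have w6 := mem_cent1.1 ((mem_iff_pPart_mem_and_pRegPart_mem 2).2 ⟨w4, w5⟩)
    rw [← inv_inj, inv_inv]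
    calc _ = v * (b * c * b⁻¹) * v⁻¹ := by rw [c3]; group
      _ = v * b * c * (v * b)⁻¹ := by group
      _ = c := by rw [w6, mul_inv_cancel_right]
  · have w1 := mul_mem ha hb
    have w2 : (a * b) ^ 4 = 1 := eq_one_of_inverted ((pr_eq_one (pow_mem w1 4)).1 (by
      rw [pr_pow w1, pr_mul ha hb, show 4 = 2 * 2 from rfl, pow_mul, a9, pow_two,
        (inv_pr hu h1).sq])) hb' (by
      rw [← conj_pow, ← inv_pow, mul_inv_rev, ka.r.inv_eq, kb.r.inv_eq, mul_assoc, mul_assoc,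
        kb.r.sq, mul_one])
    exact eq_of_pr2 (pow_mem (mul_mem ha' hb') 2) hu'
      ((isPElt_of_pow_eq_one (k := 2) w2).pow 2) h1.isPElt (by rw [pr_pow w1, pr_mul ha hb, a9])

end Lf

end DX

end GW
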