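import Cfsg.Agent.Lib.GW.DXb
import Cfsg.Agent.Lib.GW.DXc

/-!
# The layer of a proper subgroup, given the description of the almost simple groups
-/

set_option autoImplicit false
set_option linter.unusedSectionVars false
set_option linter.style.haveILetI false

namespace GW
open Cfsg GT FT Subgroup
open scoped Pointwise commutatorElement

universe u

namespace DX

/-- the description of the almost simple group `Γ` with socle `L` -/
def ASg {Γ : Type*} [Group Γ] (L : Subgroup Γ) : Prop :=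
  Bar L ∧ (AT (⊤ : Subgroup Γ) ∨ ∃ q d k m e φ, LT (⊤ : Subgroup Γ) q d k m e φ ∧
    ∀ s : ℕ, s.Prime → s ≠ 2 → s ∣ d * m → ∀ Q ≤ Ly (⊤ : Subgroup Γ), IsPGroup s Q → IsCyclic Q)

/-- the description of all almost simple groups with known socle -/
def AS : Prop := ∀ (Γ : Type u) [Group Γ] [Finite Γ] (L : Subgroup Γ), L.Normal →
  IsSimpleGroup L → ¬ Group.IsSolvable L → 𝐂(L) = ⊥ → HasDih Γ → Known L → ASg L

theorem hasDih_of_ns {G : Type*} [Group G] [Finite G] (h : DC (⊤ : Subgroup G))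
    (hns : ¬ Group.IsSolvable G) : HasDih G := by
  obtain ⟨P⟩ : Nonempty (Sylow 2 G) := inferInstance
  obtain ⟨σ, τ, k, D⟩ := exists_dih h (isSylowIn_sylow P) fun _ => hns (by
    have := solvable_of_nilp (hasNormalPComplement_top_iff.2 (hasNormalPComplement_two_of_isCyclic P))
    exact isSolvable_of_mulEquiv topEquiv)
  exact ⟨_, σ, τ, _, k, D⟩

variable {G : Type u} [Group G] [Finite G] {X : Subgroup G}

theorem asg (hA : AS.{u}) (h : Min G) (hX : X ≠ ⊤) {L : Subgroup (Qb X)} (h1 : L.Normal)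
    (h2 : IsSimpleGroup L) (h3 : ¬ Group.IsSolvable L) (h4 : 𝐂(L) = ⊥) : ASg L := by
  have hD := dc_Qb (h.dc X)
  refine hA _ L h1 h2 h3 h4 (hasDih_of_ns hD fun _ => h3 inferInstance)
    (h.ih L h3 (hasDih_of_ns (hD.mono le_top).top h3) ?_)
  exact ((card_le_card_group L).trans (Nat.le_of_dvd Nat.card_pos
    (card_quotient_dvd_card _))).trans_lt (card_top (G := G) ▸ card_lt_of_lt hX.lt_top)

theorem hb (hA : AS.{u}) (h : Min G) (hX : X ≠ ⊤) : HB (Qb X) :=
  fun _ h1 h2 h3 h4 => (asg hA h hX h1 h2 h3 h4).1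

theorem types (hA : AS.{u}) (h : Min G) (hX : X ≠ ⊤) (hE : Ly X ≠ ⊥) :
    AT X ∨ ∃ q d k m e φ, LT X q d k m e φ := by
  obtain ⟨L, h1, h2, h3, h4⟩ := struct_ns (h.dc X) (not_solvable_of_Ly hE)
  exact (asg hA h hX h1 h2 h3 h4).2.imp (fun h5 => Lf.at' ⟨h.dc ⊤, hE, h5.toCp⟩ h5)
    fun ⟨q, d, k, m, e, φ, h5, h6⟩ => ⟨q, d, k, m, e, φ, Lf.lt ⟨h.dc ⊤, hE, h5.toCp⟩ h5 h6⟩

end DX

end GW
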