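import Cfsg.Agent.Lib.GW.FusA
import Cfsg.Agent.Lib.Gag.W1

/-!
# Abelian Sylow `2`-subgroups with an invariant subgroup of index four
-/

set_option autoImplicit false
set_option linter.unusedSectionVars false
set_option linter.style.haveILetI false

namespace GW.Fu
open Cfsg GT FT Subgroup GAG.E8
open scoped Pointwise commutatorElement

section Omega
variable {A : Type*} [CommGroup A] {σ : A →* A}

theorem zpow_mem_of_even {M : Subgroup A} {x : A} (h : x * x ∈ M) {n : ℤ} (hn : Even n) :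
    x ^ n ∈ M := by
  obtain ⟨r, rfl⟩ := hn
  rw [zpow_add, ← mul_zpow]
  exact zpow_mem h r

theorem mem_of_zpow_odd {M : Subgroup A} {x y : A} (h : x * x ∈ M) {n : ℤ} (hn : ¬ Even n)
    (hy : x ^ n * y ∈ M) : x * y ∈ M := by
  obtain ⟨r, rfl⟩ := Int.not_even_iff_odd.1 hn
  have := zpow_mem_of_even h (even_two_mul r)
  rwa [zpow_add, zpow_one, mul_assoc, M.mul_mem_cancel_left this] at hy

variable (hσ : ∀ t, t * σ t * σ (σ t) = 1)
include hσ

theorem om_sq (t : A) : σ (σ t) = (t * σ t)⁻¹ := eq_inv_of_mul_eq_one_right (hσ t)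

theorem om_cube (t : A) : σ (σ (σ t)) = t := by
  have h1 := hσ (σ t)
  have h2 := hσ t
  rw [mul_assoc, mul_comm] at h2
  exact mul_left_cancel (h1.trans h2.symm)

theorem om_mem {M : Subgroup A} (hM : ∀ x ∈ M, σ x ∈ M) {t : A} (ht : t * t ∈ M) {i j : ℤ}
    (h : t ^ i * σ t ^ j ∈ M) (hij : ¬ (Even i ∧ Even j)) : t ∈ M := by
  have ht' : σ t * σ t ∈ M := by rw [← map_mul]; exact hM _ ht
  by_cases hj : Even j
  · have hi : ¬ Even i := fun hi => hij ⟨hi, hj⟩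
    rw [M.mul_mem_cancel_right (zpow_mem_of_even ht' hj)] at h
    simpa using mem_of_zpow_odd (y := 1) ht hi (by simpa using h)
  · rw [mul_comm] at h
    have h1 := mem_of_zpow_odd ht' hj h
    by_cases hi : Even i
    · rw [M.mul_mem_cancel_right (zpow_mem_of_even ht hi)] at h1
      rw [← om_cube hσ t]
      exact hM _ (hM _ h1)
    · rw [mul_comm] at h1
      have h2 := mem_of_zpow_odd ht hi h1
      rw [← om_cube hσ t, om_sq hσ t]
      exact hM _ (inv_mem h2)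

theorem om_inv (t : A) : ∀ x ∈ zpowers t ⊔ zpowers (σ t), σ x ∈ zpowers t ⊔ zpowers (σ t) := by
  have h1 : t ∈ zpowers t ⊔ zpowers (σ t) := mem_sup_left (mem_zpowers t)
  have h2 : σ t ∈ zpowers t ⊔ zpowers (σ t) := mem_sup_right (mem_zpowers _)
  have : zpowers t ⊔ zpowers (σ t) ≤ (zpowers t ⊔ zpowers (σ t)).comap σ := by
    refine sup_le (zpowers_le.2 h2) (zpowers_le.2 ?_)
    rw [mem_comap, om_sq hσ]
    exact inv_mem (mul_mem h1 h2)
  exact fun x hx => this hx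

omit hσ in
theorem exists_zpow_mul {a b x : A} (h : x ∈ zpowers a ⊔ zpowers b) :
    ∃ i j : ℤ, x = a ^ i * b ^ j := by
  obtain ⟨_, ⟨i, rfl⟩, _, ⟨j, rfl⟩, rfl⟩ := Subgroup.mem_sup.1 h
  exact ⟨i, j, rfl⟩

omit hσ in
theorem sup_inv {M N : Subgroup A} (hM : ∀ x ∈ M, σ x ∈ M) (hN : ∀ x ∈ N, σ x ∈ N) :
    ∀ x ∈ M ⊔ N, σ x ∈ M ⊔ N := by
  intro x hx
  obtain ⟨a, ha, b, hb, rfl⟩ := Subgroup.mem_sup.1 hx
  rw [map_mul]
  exact mul_mem_sup (hM a ha) (hN b hb)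

/-- a finite abelian `2`-group with a fixed point free automorphism of order three has an invariant
direct factor of rank two -/
theorem om_decomp [Finite A] [Nontrivial A] (hA : IsPGroup 2 A) :
    ∃ D W : Subgroup A, D ⊔ W = ⊤ ∧ D ⊓ W = ⊥ ∧ D ≠ ⊥ ∧ (∀ x ∈ D, σ x ∈ D) ∧ (∀ x ∈ W, σ x ∈ W) ∧
      ∃ e f : A, e * e = 1 ∧ f * f = 1 ∧
        ∀ x ∈ D, x * x = 1 → x = 1 ∨ x = e ∨ x = f ∨ x = e * f := by
  obtain ⟨d, hd⟩ := Monoid.exists_orderOf_eq_exponent (Monoid.ExponentExists.of_finite (G := A))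
  obtain ⟨k, hk⟩ := IsPGroup.iff_orderOf.1 hA d
  have hall : ∀ t : A, t ^ 2 ^ k = 1 := fun t => by
    rw [← hk, hd]; exact Monoid.pow_exponent_eq_one t
  obtain ⟨m, rfl⟩ : ∃ m, k = m + 1 := by
    refine Nat.exists_eq_succ_of_ne_zero ?_
    rintro rfl
    obtain ⟨t, ht⟩ := exists_ne (1 : A)
    exact ht (by simpa using hall t)
  have he1 : d ^ 2 ^ m ≠ 1 := by
    refine pow_ne_one_of_lt_orderOf (by positivity) ?_
    rw [hk, pow_succ]
    have : 0 < 2 ^ m := by positivity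
    omega
  have hee : d ^ 2 ^ m * d ^ 2 ^ m = 1 := by
    rw [← pow_add, ← mul_two, ← pow_succ, hall]
  set D := zpowers d ⊔ zpowers (σ d) with hD
  have hDi : ∀ x ∈ D, σ x ∈ D := om_inv hσ d
  have hd1 : d ∈ D := mem_sup_left (mem_zpowers d)
  have hd2 : σ d ∈ D := mem_sup_right (mem_zpowers _)
  have hpow : ∀ i j : ℤ, (d ^ i * σ d ^ j) ^ 2 ^ m = (d ^ 2 ^ m) ^ i * σ (d ^ 2 ^ m) ^ j := by
    intro i j
    rw [mul_pow, map_pow, ← zpow_natCast, ← zpow_natCast, ← zpow_natCast, ← zpow_natCast,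
      ← zpow_mul, ← zpow_mul, ← zpow_mul, ← zpow_mul, mul_comm i, mul_comm j]
  have hsq : ∀ a ∈ D, a ^ 2 ^ m = 1 → ∃ b ∈ D, a = b * b := by
    intro a ha h
    obtain ⟨i, j, rfl⟩ := exists_zpow_mul ha
    by_cases hij : Even i ∧ Even j
    · obtain ⟨⟨i, rfl⟩, ⟨j, rfl⟩⟩ := hij
      refine ⟨d ^ i * σ d ^ j, mul_mem (zpow_mem hd1 i) (zpow_mem hd2 j), ?_⟩
      rw [zpow_add, zpow_add, mul_mul_mul_comm]
    · refine (he1 (mem_bot.1 (om_mem hσ (M := ⊥) (fun x hx => ?_) (mem_bot.2 hee) ?_ hij))).elim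
      · rw [mem_bot.1 hx, map_one]; exact one_mem _
      · rw [← hpow, h]; exact one_mem _
  obtain ⟨W, ⟨hWi, hDW⟩, hmax⟩ := Set.Finite.exists_maximal
    (Set.toFinite {W : Subgroup A | (∀ x ∈ W, σ x ∈ W) ∧ D ⊓ W = ⊥})
    ⟨⊥, fun x hx => by rw [mem_bot.1 hx, map_one]; exact one_mem _, inf_bot_eq _⟩
  have hone : ∀ x ∈ D, x ∈ W → x = 1 := fun x h1 h2 => mem_bot.1 (hDW ▸ (⟨h1, h2⟩ : x ∈ D ⊓ W))
  have key : ∀ t, t * t ∈ D ⊔ W → t ∈ D ⊔ W := by
    intro t ht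
    obtain ⟨a, ha, w, hw, haw⟩ := Subgroup.mem_sup.1 ht
    have h1 : a ^ 2 ^ m * w ^ 2 ^ m = 1 := by
      rw [← mul_pow, haw, mul_pow, ← pow_add, ← mul_two, ← pow_succ, hall]
    obtain ⟨b, hb, rfl⟩ := hsq a ha (hone _ (pow_mem ha _)
      (by rw [eq_inv_of_mul_eq_one_left h1]; exact inv_mem (pow_mem hw _)))
    have hs : t * b⁻¹ * (t * b⁻¹) ∈ W := by
      rw [mul_mul_mul_comm, ← haw, ← mul_inv, mul_comm, inv_mul_cancel_left]
      exact hw
    suffices t * b⁻¹ ∈ D ⊔ W by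
      simpa using mul_mem this (mem_sup_left hb : b ∈ D ⊔ W)
    set s := t * b⁻¹
    by_cases hW' : D ⊓ (W ⊔ (zpowers s ⊔ zpowers (σ s))) = ⊥
    · have := hmax (y := W ⊔ (zpowers s ⊔ zpowers (σ s))) ⟨sup_inv hWi (om_inv hσ s), hW'⟩
        le_sup_left
      exact mem_sup_right (this (mem_sup_right (mem_sup_left (mem_zpowers s))))
    · obtain ⟨⟨c, hc1, hc2⟩, hc⟩ := ne_bot_iff_exists_ne_one.1 hW'
      obtain ⟨w', hw', y, hy, rfl⟩ := Subgroup.mem_sup.1 hc2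
      obtain ⟨i, j, rfl⟩ := exists_zpow_mul hy
      refine om_mem hσ (sup_inv hDi hWi) (mem_sup_right hs) (i := i) (j := j) ?_ ?_
      · exact ((D ⊔ W).mul_mem_cancel_left (mem_sup_right hw')).1 (mem_sup_left hc1)
      · rintro ⟨hi, hj⟩
        refine hc (Subtype.ext (hone _ hc1 (mul_mem hw' (mul_mem (zpow_mem_of_even hs hi)
          (zpow_mem_of_even ?_ hj)))))
        rw [← map_mul]; exact hWi _ hs
  have hff : σ (d ^ 2 ^ m) * σ (d ^ 2 ^ m) = 1 := by rw [← map_mul, hee, map_one]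
  refine ⟨D, W, ?_, hDW, fun h => he1 ?_, hDi, hWi, d ^ 2 ^ m, σ (d ^ 2 ^ m), hee, hff, ?_⟩
  · have : ∀ n (t : A), t ^ 2 ^ n ∈ D ⊔ W → t ∈ D ⊔ W := by
      intro n
      induction n with
      | zero => intro t ht; simpa using ht
      | succ n ih =>
        intro t ht
        refine ih t (key _ ?_)
        rwa [← pow_add, ← mul_two, ← pow_succ]
    exact eq_top_iff.2 fun t _ => this (m + 1) t (by rw [hall]; exact one_mem _)
  · have : d = 1 := mem_bot.1 (h ▸ hd1)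
    rw [this, one_pow]
  · intro x hx hxx
    have : ∀ n ≤ m, ∃ y ∈ D, x = y ^ 2 ^ n := by
      intro n
      induction n with
      | zero => exact fun _ => ⟨x, hx, by simp⟩
      | succ n ih =>
        intro hn
        obtain ⟨y, hy, rfl⟩ := ih (by omega)
        obtain ⟨r, rfl⟩ := Nat.exists_eq_add_of_le hn
        obtain ⟨b, hb, rfl⟩ := hsq y hy (by
          rw [pow_add, pow_mul, pow_succ, pow_mul, sq, hxx, one_pow])
        exact ⟨b, hb, by rw [← sq, ← pow_mul, ← pow_succ']⟩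
    obtain ⟨y, hy, rfl⟩ := this m le_rfl
    obtain ⟨i, j, rfl⟩ := exists_zpow_mul hy
    rw [hpow]
    refine (mem_klein (hz := hee) (hv := hff) (hc := mul_comm _ _)).1
      (mul_mem (zpow_mem ?_ i) (zpow_mem ?_ j))
    · exact mem_klein.2 (Or.inr (Or.inl rfl))
    · exact mem_klein.2 (Or.inr (Or.inr (Or.inl rfl)))

end Omega

section Four
variable {G : Type*} [Group G] [Finite G] {T R K : Subgroup G}

theorem five (h4 : R.relIndex T = 4) {a b x y : G} (ha : a ∈ T) (hb : b ∈ T) (hx : x ∈ T)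
    (hy : y ∈ T) (h1 : a ∉ R) (h2 : b ∉ R) (h3 : x ∉ R) (h5 : y ∉ R) (hab : a⁻¹ * b ∉ R)
    (hax : a⁻¹ * x ∉ R) (hay : a⁻¹ * y ∉ R) (hbx : b⁻¹ * x ∉ R) (hby : b⁻¹ * y ∉ R) :
    x⁻¹ * y ∈ R := by
  classical
  by_contra hxy
  have : Fintype (T ⧸ R.subgroupOf T) := Fintype.ofFinite _
  have hc := Finset.card_le_univ ({QuotientGroup.mk (1 : T), QuotientGroup.mk (⟨a, ha⟩ : T),
    QuotientGroup.mk (⟨b, hb⟩ : T), QuotientGroup.mk (⟨x, hx⟩ : T),
    QuotientGroup.mk (⟨y, hy⟩ : T)} : Finset (T ⧸ R.subgroupOf T))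
  rw [Finset.card_insert_of_notMem, Finset.card_insert_of_notMem, Finset.card_insert_of_notMem,
    Finset.card_pair, ← Nat.card_eq_fintype_card] at hc
  · have : Nat.card (T ⧸ R.subgroupOf T) = 4 := h4
    omega
  all_goals simp [QuotientGroup.eq, mem_subgroupOf, *]

/-- stabiliser of the coset `c R` -/
def St (R : Subgroup G) (c : G) : Subgroup G where
  carrier := {n | n ∈ 𝐍(R) ∧ c⁻¹ * (n * c * n⁻¹) ∈ R}
  one_mem' := ⟨one_mem _, by simp⟩
  mul_mem' := by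
    rintro m n ⟨hm, hm'⟩ ⟨hn, hn'⟩
    refine ⟨mul_mem hm hn, ?_⟩
    have := mul_mem hm' ((mem_normalizer_iff.1 hm _).1 hn')
    convert this using 1
    group
  inv_mem' := by
    rintro n ⟨hn, hn'⟩
    refine ⟨inv_mem hn, ?_⟩
    have := (mem_normalizer_iff.1 (inv_mem hn) _).1 (inv_mem hn')
    convert this using 1
    group

theorem mem_St {c n : G} : n ∈ St R c ↔ n ∈ 𝐍(R) ∧ c⁻¹ * (n * c * n⁻¹) ∈ R := Iff.rfl

/-- the elements of `K` acting trivially on `T / R` -/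
def K0 (K T R : Subgroup G) : Subgroup G := K ⊓ ⨅ c ∈ T, St R c

theorem mem_K0 {k : G} : k ∈ K0 K T R ↔ k ∈ K ∧ ∀ c ∈ T, k ∈ St R c := by
  simp [K0, mem_iInf]

theorem mem_of_sq_mem_of_odd (hK : ¬ 2 ∣ Nat.card K) {k : G} (hk : k ∈ K) {M : Subgroup G}
    (h : k * k ∈ M) : k ∈ M := by
  have ho : Odd (orderOf k) := by
    rw [← Nat.not_even_iff_odd, even_iff_two_dvd]
    exact fun h2 => hK (h2.trans (K.orderOf_dvd_natCard hk))
  obtain ⟨r, hr⟩ := ho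
  have : k = (k * k) ^ (r + 1) := by
    rw [← sq, ← pow_mul, show 2 * (r + 1) = 2 * r + 1 + 1 by ring, ← hr, pow_succ,
      pow_orderOf_eq_one, one_mul]
  rw [this]
  exact pow_mem h _

variable (h4 : R.relIndex T = 4) (hKT : K ≤ 𝐍(T)) (hKR : K ≤ 𝐍(R)) (hK : ¬ 2 ∣ Nat.card K)
include h4 hKT hKR hK

theorem mem_K0_of_mem_St {a k : G} (ha : a ∈ T) (haR : a ∉ R) (hk : k ∈ K) (h : k ∈ St R a) :
    k ∈ K0 K T R := by
  have cT : ∀ x ∈ T, k * x * k⁻¹ ∈ T := fun x hx => (mem_normalizer_iff.1 (hKT hk) x).1 hx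
  have cR : ∀ x, x ∈ R ↔ k * x * k⁻¹ ∈ R := mem_normalizer_iff.1 (hKR hk)
  have ca : ∀ x, a⁻¹ * x ∈ R ↔ a⁻¹ * (k * x * k⁻¹) ∈ R := fun x => by
    rw [cR, ← R.mul_mem_cancel_left h.2]
    congr! 1
    group
  refine mem_K0.2 ⟨hk, fun c hc => ?_⟩
  by_cases h1 : c ∈ R
  · exact ⟨hKR hk, mul_mem (inv_mem h1) ((cR c).1 h1)⟩
  by_cases h2 : a⁻¹ * c ∈ R
  · refine ⟨hKR hk, ?_⟩
    have := mul_mem (inv_mem h2) ((ca c).1 h2)
    convert this using 1
    group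
  by_cases h3 : c⁻¹ * (k * c * k⁻¹) ∈ R
  · exact ⟨hKR hk, h3⟩
  refine mem_of_sq_mem_of_odd hK hk ⟨hKR (mul_mem hk hk), ?_⟩
  have := five h4 ha (cT c hc) hc (cT _ (cT c hc)) haR (mt (cR c).2 h1) h1
    (mt (cR _).2 (mt (cR c).2 h1)) (mt (ca c).2 h2) h2 (mt (ca _).2 (mt (ca c).2 h2))
    (fun h => h3 (by simpa using inv_mem h)) (fun h => h3 ((cR _).2 (by
      convert h using 1
      group)))
  convert this using 1
  group

theorem exists_sigma (hne : ¬ K ≤ K0 K T R) :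
    ∃ σ ∈ K, σ * σ * σ ∈ K0 K T R ∧ ∀ k ∈ K, k ∈ K0 K T R ∨ σ⁻¹ * k ∈ K0 K T R ∨
      (σ * σ)⁻¹ * k ∈ K0 K T R := by
  obtain ⟨σ, hσ, hσ0⟩ := SetLike.not_le_iff_exists.1 hne
  obtain ⟨a, ha, haR⟩ : ∃ a ∈ T, a ∉ R := by
    by_contra! h
    rw [relIndex_eq_one.2 h] at h4
    omega
  have cT : ∀ k ∈ K, ∀ x ∈ T, k * x * k⁻¹ ∈ T :=
    fun k hk x hx => (mem_normalizer_iff.1 (hKT hk) x).1 hx
  have cR : ∀ k ∈ K, ∀ x, x ∈ R ↔ k * x * k⁻¹ ∈ R := fun k hk => mem_normalizer_iff.1 (hKR hk)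
  have hs2 : σ * σ ∉ K0 K T R := fun h => hσ0 (mem_of_sq_mem_of_odd hK hσ h)
  have st : ∀ k ∈ K, a⁻¹ * (k * a * k⁻¹) ∈ R → k ∈ K0 K T R := fun k hk h =>
    mem_K0_of_mem_St h4 hKT hKR hK ha haR hk ⟨hKR hk, h⟩
  have st' : ∀ l ∈ K, ∀ k ∈ K, (l * a * l⁻¹)⁻¹ * (k * a * k⁻¹) ∈ R → l⁻¹ * k ∈ K0 K T R := by
    intro l hl k hk h
    refine st _ (mul_mem (inv_mem hl) hk) ((cR l hl _).2 ?_)
    convert h using 1
    group
  have hσσ := mul_mem hσ hσ
  have key : ∀ k ∈ K, k ∈ K0 K T R ∨ σ⁻¹ * k ∈ K0 K T R ∨ (σ * σ)⁻¹ * k ∈ K0 K T R := by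
    intro k hk
    by_contra! h
    refine h.2.2 (st' _ hσσ k hk (five h4 ha (cT σ hσ a ha) (cT _ hσσ a ha) (cT k hk a ha) haR
      (mt (cR σ hσ a).2 haR) (mt (cR _ hσσ a).2 haR) (mt (cR k hk a).2 haR)
      (mt (st σ hσ) hσ0) (mt (st _ hσσ) hs2) (mt (st k hk) h.1) ?_ (mt (st' σ hσ k hk) h.2.1)))
    exact fun h => hσ0 (by simpa using st' σ hσ _ hσσ h)
  refine ⟨σ, hσ, ?_, key⟩
  rcases key _ (mul_mem hσσ hσ) with h | h | h
  · exact h
  · exact (hs2 (by simpa [mul_assoc] using h)).elim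
  · exact (hσ0 (by simpa [mul_assoc] using h)).elim

omit h4 hK in
theorem le_norm_K0 : K ≤ 𝐍(K0 K T R) := by
  intro k hk
  refine mem_normalizer_fintype fun l hl => ?_
  obtain ⟨hl, hl'⟩ := mem_K0.1 hl
  have hm := mul_mem (mul_mem hk hl) (inv_mem hk)
  refine mem_K0.2 ⟨hm, fun c hc => ⟨hKR hm, ?_⟩⟩
  have := (mem_normalizer_iff.1 (hKR hk) _).1
    (hl' _ ((mem_normalizer_iff.1 (hKT (inv_mem hk)) c).1 hc)).2
  convert this using 1
  group

end Four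

section Decomp
variable {G : Type*} [Group G] [Finite G] {T R : Subgroup G}

theorem card_klein_le {z v : G} (hz : z * z = 1) (hv : v * v = 1) (hc : v * z = z * v) :
    Nat.card (klein hz hv hc) ≤ 4 := by
  have : (klein hz hv hc : Set G) = {1, z, v, z * v} := by
    ext x
    simp only [SetLike.mem_coe, mem_klein, Set.mem_insert_iff, Set.mem_singleton_iff]
  rw [← SetLike.coe_sort_coe, this, Nat.card_coe_set_eq]
  refine (Set.ncard_insert_le _ _).trans (Nat.succ_le_succ ?_)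
  refine (Set.ncard_insert_le _ _).trans (Nat.succ_le_succ ?_)
  refine (Set.ncard_insert_le _ _).trans (Nat.succ_le_succ ?_)
  rw [Set.ncard_singleton]

theorem ab_decomp (hp : commutator G = ⊤) (hT : IsSylowIn 2 T ⊤) (hab : T ≤ 𝐂(T))
    (hN : 𝐍(T) ≤ 𝐍(R)) (h4 : R.relIndex T = 4) :
    ∃ D R' : Subgroup G, D ⊔ R' = T ∧ D ⊓ R' = ⊥ ∧ D ≠ ⊥ ∧ ¬ 8 ∣ Nat.card (omegaOne 2 D) ∧
      (∀ x ∈ D, ∀ g : G, g * x * g⁻¹ ∈ T → g * x * g⁻¹ ∈ D) ∧
      (∀ x ∈ R', ∀ g : G, g * x * g⁻¹ ∈ T → g * x * g⁻¹ ∈ R') := by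
  have : Fact (Nat.Prime 2) := ⟨Nat.prime_two⟩
  obtain ⟨K, hKT, hTK, hK⟩ := GAG.exists_compl_norm (hT.of_le le_normalizer le_top) le_rfl
  have hKR := hKT.trans hN
  have hfix : ∀ x ∈ T, x ∈ 𝐂(K) → x = 1 := by
    intro x hx hxK
    refine GAG.der_inf_eq_bot hT hab (by rw [← commutator_def, hp]; trivial) hx ?_
    rw [top_inf_eq, ← hTK]
    exact sup_le (le_cent1_iff.2 (hab hx)) (le_cent1_iff.2 hxK)
  have hK0 : K0 K T R ≤ K := inf_le_left
  have hca : CoprimeAct (K0 K T R) T := coprimeAct_of_isPGroup_right (hK0.trans hKT) hT.isPGroup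
    (fun h => hK (h.trans (card_dvd_of_le hK0)))
  have hsup := hca.inf_centralizer_sup_commutator
  have : IsMulCommutative T := comm_iff_le_cent.2 hab
  have hdis := hca.disjoint_commutator_centralizer
  have hUT := hca.commutator_le
  set U := ⁅T, K0 K T R⁆
  set D0 := T ⊓ 𝐂(K0 K T R) with hD0
  have hUR : U ≤ R := by
    refine commutator_le.2 fun t ht k hk => ?_
    have := ((mem_K0.1 hk).2 t⁻¹ (inv_mem ht)).2
    rw [commutatorElement_def]
    convert this using 1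
    group
  have hnt : D0 ≠ ⊥ := by
    intro h
    rw [h, bot_sup_eq] at hsup
    rw [relIndex_eq_one.2 (hsup ▸ hUR)] at h4
    omega
  have hne : ¬ K ≤ K0 K T R := fun h => hnt (eq_bot_iff.2 fun x hx =>
    mem_bot.2 (hfix x hx.1 (centralizer_le h hx.2)))
  obtain ⟨σ, hσ, hσ3, hcos⟩ := exists_sigma h4 hKT hKR hK hne
  have hKK0 := le_norm_K0 hKT hKR
  have hc0 : ∀ k ∈ K0 K T R, ∀ x ∈ D0, k * x * k⁻¹ = x := fun k hk x hx => by
    rw [hx.2 k hk, mul_inv_cancel_right]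
  have hσD : ∀ x ∈ D0, σ * x * σ⁻¹ ∈ D0 := by
    intro x hx
    refine ⟨(mem_normalizer_iff.1 (hKT hσ) x).1 hx.1, fun k hk => ?_⟩
    have := hx.2 _ ((mem_normalizer_iff.1 (hKK0 (inv_mem hσ)) k).1 hk)
    calc k * (σ * x * σ⁻¹) = σ * (σ⁻¹ * k * σ⁻¹⁻¹ * x) * σ⁻¹ := by group
      _ = σ * x * σ⁻¹ * k := by rw [this]; group
  have hnorm : ∀ M : Subgroup G, M ≤ D0 → (∀ x ∈ M, σ * x * σ⁻¹ ∈ M) → K ≤ 𝐍(M) := by
    intro M hM hs
    have h1 : σ ∈ 𝐍(M) := mem_normalizer_fintype hs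
    have h2 : K0 K T R ≤ 𝐍(M) := fun k hk =>
      mem_normalizer_fintype fun x hx => by rw [hc0 k hk x (hM hx)]; exact hx
    intro k hk
    rcases hcos k hk with h | h | h
    · exact h2 h
    · simpa using mul_mem h1 (h2 h)
    · simpa only [mul_inv_cancel_left] using mul_mem (mul_mem h1 h1) (h2 h)
  have hD0T : D0 ≤ T := inf_le_left
  have : IsMulCommutative D0 := comm_iff_le_cent.2 (hD0T.trans (hab.trans (centralizer_le hD0T)))
  have : Nontrivial D0 := (nontrivial_iff_ne_bot _).2 hnt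
  let s : D0 →* D0 := ((MulAut.conj σ).toMonoidHom.comp D0.subtype).codRestrict D0
    fun x => hσD x x.2
  have hs : ∀ x : D0, (s x : G) = σ * x * σ⁻¹ := fun x => rfl
  open scoped IsMulCommutative in
  have hom : ∀ t : D0, t * s t * s (s t) = 1 := by
    intro t
    have h3 : s (s (s t)) = t := Subtype.ext (by
      rw [hs, hs, hs]
      have := hc0 _ hσ3 t t.2
      convert this using 1
      group)
    have hu : s (t * s t * s (s t)) = t * s t * s (s t) := by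
      rw [map_mul, map_mul, h3, mul_comm, mul_assoc]
    set u := t * s t * s (s t)
    have h1 : σ ∈ 𝐂[(u : G)] := mem_cent1.2 (by
      have := congrArg Subtype.val hu
      rw [hs] at this
      exact mul_inv_eq_iff_eq_mul.1 this)
    have h2 : K0 K T R ≤ 𝐂[(u : G)] := le_cent1_iff.2 u.2.2
    refine Subtype.ext (hfix u u.2.1 (le_cent1_iff.1 fun k hk => ?_))
    rcases hcos k hk with h | h | h
    · exact h2 h
    · simpa using mul_mem h1 (h2 h)
    · simpa only [mul_inv_cancel_left] using mul_mem (mul_mem h1 h1) (h2 h)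
  open scoped IsMulCommutative in
  obtain ⟨D, W, hDW, hi, hD, hDi, hWi, e, f, he, hf, hΩ⟩ :=
    om_decomp (σ := s) hom (hT.isPGroup.to_le hD0T)
  have hinv : ∀ M : Subgroup D0, (∀ x ∈ M, s x ∈ M) → K ≤ 𝐍(M.map D0.subtype) := by
    intro M hM
    refine hnorm _ (map_subtype_le M) ?_
    rintro _ ⟨x, hx, rfl⟩
    exact ⟨s x, hM x hx, rfl⟩
  have hscl : ∀ M : Subgroup G, M ≤ T → K ≤ 𝐍(M) →
      ∀ x ∈ M, ∀ g : G, g * x * g⁻¹ ∈ T → g * x * g⁻¹ ∈ M := by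
    intro M hM hKM x hx g hg
    obtain ⟨n, hn, hx'⟩ := GAG.burnside_fusion hT hab (hM hx) (mem_top g) hg
    have : 𝐍(T) ≤ 𝐍(M) := by
      rw [← hTK]
      exact sup_le ((hab.trans (centralizer_le hM)).trans (cent_le_norm M)) hKM
    rw [← hx']
    exact (mem_normalizer_iff.1 (this hn.2) x).1 hx
  have hWT : W.map D0.subtype ≤ T := (map_subtype_le W).trans hD0T
  have hWU : W.map D0.subtype ≤ 𝐍(U) :=
    hWT.trans ((hab.trans (centralizer_le hUT)).trans (cent_le_norm U))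
  refine ⟨D.map D0.subtype, W.map D0.subtype ⊔ U, ?_, ?_, ?_, ?_,
    hscl _ ((map_subtype_le D).trans hD0T) (hinv D hDi), hscl _ (sup_le hWT hUT) ?_⟩
  · rw [← sup_assoc, ← Subgroup.map_sup, hDW, ← MonoidHom.range_eq_map, range_subtype, hsup]
  · have h1 : (W.map D0.subtype ⊔ U) ⊓ D0 = W.map D0.subtype := by
      rw [sup_inf_assoc_of_le_normalizer (map_subtype_le W) (Or.inl hWU),
        (hdis.mono_right (inf_le_right : D0 ≤ _)).eq_bot, sup_bot_eq]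
    rw [← inf_eq_left.2 (map_subtype_le D), inf_assoc, inf_comm D0, h1,
      ← map_inf _ _ _ D0.subtype_injective, hi, Subgroup.map_bot]
  · rwa [Ne, map_eq_bot_iff_of_injective _ D0.subtype_injective]
  · intro h8
    have he' : (e : G) * e = 1 := congrArg Subtype.val he
    have hf' : (f : G) * f = 1 := congrArg Subtype.val hf
    have hc : (f : G) * e = e * f := hab e.2.1 f f.2.1
    have hle : omegaOne 2 (D.map D0.subtype) ≤ klein he' hf' hc := by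
      refine omegaOne_le_iff.2 ?_
      rintro _ ⟨x, hx, rfl⟩ hxx
      rcases hΩ x hx (Subtype.ext (by simpa [sq] using hxx)) with rfl | rfl | rfl | rfl <;>
        simp [mem_klein]
    have := (Nat.le_of_dvd Nat.card_pos h8).trans
      ((card_le_of_le hle).trans (card_klein_le he' hf' hc))
    omega
  · exact (le_inf (hinv W hWi) (le_normalizer_commutator hKT hKK0)).trans
      (normalizer_inf_normalizer_le_normalizer_sup _ _)

end Decomp

end GW.Fu
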