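import Cfsg.Agent.Lib.GW.FusC
import Cfsg.Agent.Lib.GW.FusD
import Cfsg.Agent.Lib.Gag.W0c
import Cfsg.Agent.Lib.Block.BSuz
import Cfsg.Agent.Lib.Grp.CentCover
import Cfsg.Agent.Lib.Grp.CyclicExt

/-!
# Quasisimple groups whose Sylow `2`-subgroup has centre of index four

Reduction to the product theorem (`ProdStmt`) and to the dihedral case (`GWStmt`).
-/

set_option autoImplicit false
set_option linter.unusedSectionVars false
set_option linter.style.haveILetI false

namespace GW.Fu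
open Cfsg GT FT Subgroup GAG.E8
open scoped Pointwise commutatorElement
universe u

/-- the product theorem -/
def ProdStmt : Prop :=
  ∀ (G : Type u) [Group G] [Finite G] {S D R : Subgroup G}, IsSylowIn 2 S ⊤ → D ⊔ R = S →
    D ⊓ R = ⊥ → S ≤ 𝐂(R) →
    ((D ≤ 𝐂(D) ∧ ¬ 8 ∣ Nat.card (omegaOne 2 D)) ∨ Nonempty (D ≃* DihedralGroup 4)) →
    (∀ x ∈ D, ∀ g : G, g * x * g⁻¹ ∈ S → g * x * g⁻¹ ∈ D) →
    (∀ x ∈ R, ∀ g : G, g * x * g⁻¹ ∈ S → g * x * g⁻¹ ∈ R) →
    ⁅normalClosure (D : Set G), normalClosure (R : Set G)⁆ ≤ pPrimeCore 2 G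

/-- the product theorem for simple groups -/
def ProdSimple : Prop :=
  ∀ (G : Type u) [Group G] [Finite G] [IsSimpleGroup G], ¬ Group.IsSolvable G →
    ∀ {S D R : Subgroup G}, IsSylowIn 2 S ⊤ → D ⊔ R = S → D ⊓ R = ⊥ → S ≤ 𝐂(R) →
    ((D ≤ 𝐂(D) ∧ ¬ 8 ∣ Nat.card (omegaOne 2 D)) ∨ Nonempty (D ≃* DihedralGroup 4)) →
    (∀ x ∈ D, ∀ g : G, g * x * g⁻¹ ∈ S → g * x * g⁻¹ ∈ D) →
    (∀ x ∈ R, ∀ g : G, g * x * g⁻¹ ∈ S → g * x * g⁻¹ ∈ R) → D = ⊥ ∨ R = ⊥

/-- simple groups with a Sylow `2`-subgroup of order four or dihedral of order eight -/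
def GWStmt : Prop :=
  ∀ (G : Type u) [Group G] [Finite G] [IsSimpleGroup G], ¬ Group.IsSolvable G →
    ∀ {S : Subgroup G}, IsSylowIn 2 S ⊤ → (Nat.card S = 4 ∨ Nonempty (S ≃* DihedralGroup 4)) →
    Nonempty (G ≃* alternatingGroup (Fin 7)) ∨
      ∃ (F : Type) (_ : Field F) (_ : Fintype F), Odd (Fintype.card F) ∧
        Nonempty (G ≃* Matrix.ProjectiveSpecialLinearGroup (Fin 2) F)

section Simple
variable {G : Type u} [Group G] [Finite G] [IsSimpleGroup G] (hns : ¬ Group.IsSolvable G)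
include hns

theorem core_eq_bot : pPrimeCore 2 G = ⊥ := by
  have h2 : 2 ∣ Nat.card G := by
    by_contra h
    exact hns (feit_thompson G (Nat.not_even_iff_odd.1 fun e => h e.two_dvd))
  exact (Normal.eq_bot_or_eq_top inferInstance).resolve_right fun h =>
    not_dvd_card_pPrimeCore (p := 2) (G := G) (by rwa [h, card_top])

theorem center_eq_bot_of_simple : center G = ⊥ :=
  (Normal.eq_bot_or_eq_top inferInstance).resolve_right fun h =>
    hns (Group.isSolvable_of_comm fun a b => (mem_center_iff.1 (h ▸ mem_top b : b ∈ center G) a))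

/-- no involution central in a Sylow subgroup is isolated -/
theorem exists_conj_ne {S : Subgroup G} (hS : IsSylowIn 2 S ⊤) {z : G} (hz : z ∈ S ⊓ 𝐂(S))
    (hz2 : z * z = 1) (hz1 : z ≠ 1) : ∃ g, g * z * g⁻¹ ∈ S ∧ g * z * g⁻¹ ≠ z := by
  by_contra! h
  have hI : BT.Isol z := BT.isol_of_forall_commute hz2 fun g hg => by
    have hSC : IsSylowIn 2 S 𝐂[z] := hS.of_le (le_cent1_iff.2 hz.2) le_top
    obtain ⟨c, hc, hcy⟩ := hSC.exists_conj_mem (x := g * z * g⁻¹)
      ((isPElt_of_mem hS.isPGroup hz.1).conj g) (mem_cent1.2 hg.symm.eq)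
    have h1 := h (c * g) (by convert hcy using 1; group)
    calc g * z * g⁻¹ = c⁻¹ * (c * g * z * (c * g)⁻¹) * c := by group
      _ = z := by rw [h1, mul_assoc, ← mem_cent1.1 hc, inv_mul_cancel_left]
  refine hz1 (mem_bot.1 (center_eq_bot_of_simple hns ▸ mem_center_iff.2 fun g => ?_))
  have h1 := BT.zstar G hI g
  rw [core_eq_bot hns, mem_bot] at h1
  rw [← mul_inv_eq_iff_eq_mul, ← mul_left_cancel_iff (a := z), h1, hz2]

end Simple

theorem ProdStmt.simple (h : ProdStmt.{u}) : ProdSimple.{u} := by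
  intro G _ _ _ hns S D R hS hDR hi hR hD hcD hcR
  have := h G hS hDR hi hR hD hcD hcR
  by_contra! hne
  have top : ∀ X : Subgroup G, X ≠ ⊥ → normalClosure (X : Set G) = ⊤ := fun X hX =>
    (Normal.eq_bot_or_eq_top inferInstance).resolve_left fun e =>
      hX (eq_bot_iff.2 (e ▸ le_normalClosure))
  rw [core_eq_bot hns, top D hne.1, top R hne.2, ← commutator_def,
    GAG.commutator_eq_top_of_simple hns] at this
  exact top_ne_bot (le_bot_iff.1 this)

section F
variable (hP : ProdSimple.{u}) {G : Type u} [Group G] [Finite G] [IsSimpleGroup G]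
  (hns : ¬ Group.IsSolvable G)
include hP hns

theorem sylow_of_index_four {S : Subgroup G} (hS : IsSylowIn 2 S ⊤) (hna : ¬ S ≤ 𝐂(S))
    (h4 : (S ⊓ 𝐂(S)).relIndex S = 4) : Nonempty (S ≃* DihedralGroup 4) := by
  obtain ⟨z, hz, hz2, hz1, hc⟩ := exists_z h4 hna
  obtain ⟨D, R, hDR, hi, hR, hD, hcD, hcR⟩ := Q4.decomp ⟨hS, h4, hz, hz2, hz1, hc⟩
    (GAG.commutator_eq_top_of_simple hns) (exists_conj_ne hns hS hz hz2 hz1)
  rcases hP G hns hS hDR hi hR (Or.inr hD) hcD hcR with rfl | rfl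
  · obtain ⟨e⟩ := hD
    have := Nat.card_congr e.toEquiv
    rw [card_bot, DihedralGroup.nat_card] at this
    omega
  · rw [sup_bot_eq] at hDR
    exact hDR ▸ hD

theorem sylow_of_inv_four {T R : Subgroup G} (hT : IsSylowIn 2 T ⊤) (hab : T ≤ 𝐂(T))
    (hN : 𝐍(T) ≤ 𝐍(R)) (h4 : R.relIndex T = 4) : Nat.card T = 4 := by
  obtain ⟨D, R', hDR, hi, hD, h8, hcD, hcR⟩ :=
    ab_decomp (GAG.commutator_eq_top_of_simple hns) hT hab hN h4
  have h1 : D ≤ T := hDR ▸ le_sup_left
  have h2 : R' ≤ T := hDR ▸ le_sup_right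
  rcases hP G hns hT hDR hi (hab.trans (centralizer_le h2))
    (Or.inl ⟨h1.trans (hab.trans (centralizer_le h1)), h8⟩) hcD hcR with h | rfl
  · exact (hD h).elim
  · rw [sup_bot_eq] at hDR
    exact GAG.rank_two hns hT hab (hDR ▸ h8)

end F

section M

theorem card_commutator_dvd {Q : Type*} [Group Q] [Finite Q] {p : ℕ} [hp : Fact p.Prime]
    (hQ : IsPGroup p Q) {Y : Subgroup Q} (hY : Y ≤ center Q) (h : Y.index ∣ p ^ 2) :
    (Y.index = p ^ 2 ∧ Nat.card (commutator Q) ∣ p) ∨ commutator Q = ⊥ := by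
  by_cases hc : ∀ a b : Q, a * b = b * a
  · refine Or.inr (eq_bot_iff.2 (commutator_le.2 fun a _ b _ => ?_))
    exact mem_bot.2 (commutatorElement_eq_one_iff_mul_comm.2 (hc a b))
  left
  push Not at hc
  obtain ⟨a, b, hab⟩ := hc
  have h1 : Y ⊔ zpowers a ≤ 𝐂((Y ⊔ zpowers a : Subgroup Q)) := by
    refine sup_le (hY.trans (center_le_centralizer _)) (zpowers_le.2 (le_cent1_iff.1 ?_))
    exact sup_le (hY.trans (center_le_centralizer _)) (zpowers_le.2 (mem_cent1.2 rfl))
  have ha : a ∈ Y ⊔ zpowers a := mem_sup_right (mem_zpowers a)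
  have hb : b ∉ Y ⊔ zpowers a := fun e => hab (h1 e a ha)
  set A := Y ⊔ zpowers a
  have hYA : Y ≤ A := le_sup_left
  have h2 := relIndex_mul_index hYA
  have h3 : Y.relIndex A ≠ 1 := fun e =>
    hab (mem_center_iff.1 (hY (relIndex_eq_one.1 e ha)) b).symm
  have h4 : A.index ≠ 1 := fun e => hb (index_eq_one.1 e ▸ mem_top b)
  obtain ⟨i, hi, e1⟩ := (Nat.dvd_prime_pow hp.out).1 h
  obtain ⟨j, hj, e2⟩ := (Nat.dvd_prime_pow hp.out).1 ((Dvd.intro _ h2).trans h)
  obtain ⟨k, hk, e3⟩ := (Nat.dvd_prime_pow hp.out).1 ((Dvd.intro_left _ h2).trans h)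
  rw [e1, e2, e3, ← pow_add, Nat.pow_right_inj hp.out.one_lt] at h2
  have hj0 : j ≠ 0 := fun e => h3 (by rw [e2, e, pow_zero])
  have hk0 : k ≠ 0 := fun e => h4 (by rw [e3, e, pow_zero])
  obtain ⟨rfl, rfl, rfl⟩ : i = 2 ∧ j = 1 ∧ k = 1 := by omega
  rw [pow_one] at e2 e3
  obtain ⟨n, hn⟩ := IsPGroup.iff_card.1 hQ
  have hn0 : n ≠ 0 := by
    rintro rfl
    have := A.index_dvd_card
    rw [hn, e3, pow_zero, Nat.dvd_one] at this
    exact hp.out.ne_one this
  have : A.Normal := normal_of_index_eq_minFac_card (by rw [e3, hn, hp.out.pow_minFac hn0])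
  have h5 := card_eq_card_centralizer_mul_card_commutator A (fun x hx y hy => h1 hy x hx) b
    (sup_zpowers_eq_top_of_index_prime (e3 ▸ hp.out) hb)
  obtain ⟨c, hc⟩ := card_dvd_of_le (le_inf hYA (hY.trans (center_le_centralizer {b})))
  rw [← card_mul_relIndex hYA, hc, e2, mul_assoc, Nat.mul_right_inj Nat.card_pos.ne'] at h5
  exact ⟨e1, Dvd.intro_left _ h5.symm⟩

variable {G : Type u} [Group G] [Finite G]

theorem center_inf_le (hp : commutator G = ⊤) {p : ℕ} [Fact p.Prime] {Q : Subgroup G}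
    (hQ : IsSylowIn p Q ⊤) : center G ⊓ Q ≤ ⁅Q, Q⁆ := fun _ hz =>
  hQ.mem_commutator_of_mem_center hz.1 hz.2 (hp ▸ mem_top _)

theorem card_center_inf_dvd (hp : commutator G = ⊤) {p : ℕ} [hp' : Fact p.Prime] {Q : Subgroup G}
    (hQ : IsSylowIn p Q ⊤) (h : (center G).relIndex Q ∣ p ^ 2) :
    ((center G).relIndex Q = p ^ 2 ∧ Nat.card ↥(center G ⊓ Q) ∣ p) ∨ center G ⊓ Q = ⊥ := by
  have h1 := center_inf_le hp hQ
  rw [← map_subtype_commutator] at h1
  refine (card_commutator_dvd hQ.isPGroup (Y := (center G).subgroupOf Q)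
    (fun x hx => mem_center_iff.2 fun y => Subtype.ext (mem_center_iff.1 hx y)) h).imp
    (fun e => ⟨e.1, ((card_dvd_of_le h1).trans (card_map_subtype _).dvd).trans e.2⟩) fun e => ?_
  rw [e, Subgroup.map_bot] at h1
  exact le_bot_iff.1 h1

theorem card_center_of_A7 (hp : commutator G = ⊤) (ho : ¬ 2 ∣ Nat.card (center G))
    (h : (center G).index = 2520) : Nat.card (center G) = 1 ∨ Nat.card (center G) = 3 := by
  have key : ∀ p : ℕ, p.Prime → ∃ Q : Subgroup G,
      (Nat.card (center G)).factorization p = (Nat.card ↥(center G ⊓ Q)).factorization p ∧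
      (center G).relIndex Q = p ^ (2520 : ℕ).factorization p ∧
      ((center G).relIndex Q ∣ p ^ 2 →
        ((center G).relIndex Q = p ^ 2 ∧ Nat.card ↥(center G ⊓ Q) ∣ p) ∨ center G ⊓ Q = ⊥) := by
    intro p hp'
    have : Fact p.Prime := ⟨hp'⟩
    obtain ⟨Q, hQ⟩ := exists_isSylowIn (p := p) (⊤ : Subgroup G)
    refine ⟨Q, ?_, ?_, card_center_inf_dvd hp hQ⟩
    · have := hQ.inf_of_le_normalizer (N := center G) le_top (le_normalizer_of_normal)
      rw [inf_comm]
      exact this.factorization_card_eq.symm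
    · rw [← card_map_mk', (hQ.map_top_of_surjective (QuotientGroup.mk'_surjective _)).card_eq,
        card_top, ← h, index]
  refine (Nat.dvd_prime Nat.prime_three).1 ((Nat.factorization_prime_le_iff_dvd Nat.card_pos.ne'
    (by norm_num)).1 fun p hp' => ?_)
  by_cases h2 : p = 2
  · rw [h2, Nat.factorization_eq_zero_of_not_dvd ho]
    exact Nat.zero_le _
  obtain ⟨Q, e1, e2, e3⟩ := key p hp'
  rw [e1]
  have hf : (2520 : ℕ).factorization p ≤ 1 ∨ (p = 3 ∧ (2520 : ℕ).factorization p = 2) := by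
    by_cases h3 : p = 3
    · refine Or.inr ⟨h3, ?_⟩
      rw [h3]
      exact Nat.factorization_eq_of_coprime_left (a := 9) (b := 280) (by norm_num)
        (by simp [Nat.primeFactorsList_ofNat]) |>.trans (by
          rw [show 9 = 3 ^ 2 by norm_num, Nat.factorization_pow_self Nat.prime_three])
    · left
      by_contra hc
      have h4 : p ^ 2 ∣ 2520 := (hp'.pow_dvd_iff_le_factorization (by norm_num)).2 (by omega)
      have h5 : p ≤ 50 := by
        have := Nat.le_of_dvd (by norm_num) h4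
        nlinarith
      interval_cases p <;> first | omega | norm_num at hp'
  rcases e3 (e2 ▸ pow_dvd_pow p (by omega)) with e | e
  · rcases hf with hf | ⟨rfl, hf⟩
    · have := e.1
      rw [e2, Nat.pow_right_inj hp'.one_lt] at this
      omega
    · exact (Nat.factorization_le_iff_dvd Nat.card_pos.ne' (by norm_num)).2 e.2 3
  · rw [e, card_bot, Nat.factorization_one]
    exact Nat.zero_le _

theorem subgroupOf_eq_center (S : Subgroup G) : (S ⊓ 𝐂(S)).subgroupOf S = center S := by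
  ext x
  rw [mem_subgroupOf, mem_center_iff]
  exact ⟨fun h y => Subtype.ext (h.2 y y.2), fun h => ⟨x.2, fun y hy =>
    congrArg Subtype.val (h ⟨y, hy⟩)⟩⟩

theorem card_A7 : Nat.card (alternatingGroup (Fin 7)) = 2520 := by
  rw [nat_card_alternatingGroup, Nat.card_fin]
  rfl

theorem main (hP : ProdSimple.{u}) (hGW : GWStmt.{u}) (hq : IsQuasisimple G) (P : Sylow 2 G)
    (hna : ¬ IsMulCommutative (P : Subgroup G)) (hZ : (center (P : Subgroup G)).index = 4) :
    Nat.card (P : Subgroup G) = 8 ∧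
      (Nonempty (G ≃* alternatingGroup (Fin 7)) ∨
       (Nat.card (center G) = 3 ∧ Nonempty (G ⧸ center G ≃* alternatingGroup (Fin 7))) ∨
       ∃ (F : Type) (_ : Field F) (_ : Fintype F), Odd (Fintype.card F) ∧
        Nonempty (G ⧸ center G ≃* Matrix.ProjectiveSpecialLinearGroup (Fin 2) F)) := by
  have hS := isSylowIn_sylow P
  generalize (P : Subgroup G) = S at *
  obtain ⟨⟨hp⟩, hs⟩ := hq
  rw [comm_iff_le_cent] at hna
  have h4 : (S ⊓ 𝐂(S)).relIndex S = 4 := by rw [relIndex, subgroupOf_eq_center, hZ]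
  obtain ⟨z, hz, hz2, hz1, hc⟩ := exists_z h4 hna
  set π := QuotientGroup.mk' (center G) with hπ
  have hsurj : Function.Surjective π := QuotientGroup.mk'_surjective _
  have hker : π.ker = center G := QuotientGroup.ker_mk' _
  have hns : ¬ Group.IsSolvable (G ⧸ center G) := fun h => by
    have h1 : commutator (G ⧸ center G) = ⊤ := by
      rw [commutator_def, ← map_top_of_surjective π hsurj, ← map_commutator, ← commutator_def, hp]
    exact (Group.IsSolvable.commutator_lt_top_of_nontrivial (G ⧸ center G)).ne h1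
  have hT := hS.map_top_of_surjective hsurj
  have hZS : ∀ x ∈ center G ⊓ S, x = 1 ∨ x = z := by
    intro x hx
    have : ⁅S, S⁆ ≤ klein hz2 hz2 rfl := by
      refine commutator_le.2 fun a ha b hb => ?_
      rw [commutatorElement_def]
      rcases hc a ha b hb with e | e <;> rw [e] <;> simp [mem_klein]
    have := mem_klein.1 (this (center_inf_le hp hS hx))
    rw [hz2] at this
    tauto
  have hcard := card_map_mul_card_inf_ker π S
  rw [hker] at hcard
  by_cases hzZ : z ∈ center G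
  · have hab : S.map π ≤ 𝐂(S.map π) := by
      rintro _ ⟨x, hx, rfl⟩ _ ⟨y, hy, rfl⟩
      have h1 : π z = 1 := by rwa [← MonoidHom.mem_ker, hker]
      rw [← mul_inv_eq_iff_eq_mul, ← map_mul, ← map_inv, ← map_mul]
      rcases hc y hy x hx with e | e <;> simp [e, h1]
    have hN : 𝐍(S.map π) ≤ 𝐍((S ⊓ 𝐂(S)).map π) := by
      intro n hn
      obtain ⟨n, rfl⟩ := hsurj n
      have h1 : ∀ m, π m ∈ 𝐍(S.map π) → ∀ x ∈ S, ∃ y ∈ S, ∃ c ∈ center G, m * x * m⁻¹ = y * c := by
        intro m hm x hx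
        obtain ⟨y, hy, e⟩ := (mem_normalizer_iff.1 hm (π x)).1 ⟨x, hx, rfl⟩
        refine ⟨y, hy, y⁻¹ * (m * x * m⁻¹), ?_, by group⟩
        rw [← hker, MonoidHom.mem_ker, map_mul, map_inv, e, map_mul, map_mul, map_inv,
          inv_mul_cancel]
      refine mem_normalizer_fintype ?_
      rintro _ ⟨x, hx, rfl⟩
      obtain ⟨y, hy, c, hc', e⟩ := h1 n hn x hx.1
      refine ⟨y, ⟨hy, fun s hs => ?_⟩, ?_⟩
      · obtain ⟨s', hs', c', hc'', e'⟩ := h1 n⁻¹ (by rw [map_inv]; exact inv_mem hn) s hs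
        have e1 : s' * c' * x = x * (s' * c') := by
          rw [mul_assoc, ← mem_center_iff.1 hc'' x, ← mul_assoc, hx.2 s' hs', mul_assoc]
        have e2 : s * (y * c) = y * c * s := by
          rw [← e]
          calc s * (n * x * n⁻¹) = n * (n⁻¹ * s * n⁻¹⁻¹ * x) * n⁻¹ := by group
            _ = n * x * n⁻¹ * s := by rw [e', e1, ← e']; group
        rwa [mul_assoc, ← mem_center_iff.1 hc' s, ← mul_assoc, ← mul_assoc, mul_left_inj] at e2
      · have : π c = 1 := by rwa [← MonoidHom.mem_ker, hker]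
        rw [← map_inv, ← map_mul, ← map_mul, e, map_mul, this, mul_one]
    have hi : ((S ⊓ 𝐂(S)).map π).relIndex (S.map π) = 4 := by
      rw [← relIndex_comap, comap_map_eq, hker, ← inf_relIndex_right,
        sup_inf_assoc_of_le_normalizer inf_le_left (Or.inl le_normalizer_of_normal),
        sup_eq_left.2 (le_inf inf_le_right (inf_le_left.trans (center_le_centralizer _))), h4]
    have hT4 := sylow_of_inv_four hP hns hT hab hN hi
    have h2 : Nat.card ↥(center G ⊓ S) = 2 := by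
      have : center G ⊓ S = zpowers z := le_antisymm
        (fun x hx => by rcases hZS x hx with rfl | rfl <;> simp) (zpowers_le.2 ⟨hzZ, hz.1⟩)
      rw [this, Nat.card_zpowers]
      exact orderOf_eq_prime (by rw [sq, hz2]) hz1
    refine ⟨by rw [← hcard, hT4, h2], Or.inr (Or.inr ?_)⟩
    refine (hGW _ hns hT (Or.inl hT4)).resolve_left fun ⟨e⟩ => hT.not_dvd ?_
    have := card_mul_relIndex (le_top (a := S.map π))
    rw [card_top, Nat.card_congr e.toEquiv, card_A7, hT4] at this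
    omega
  · have hbot : center G ⊓ S = ⊥ := eq_bot_iff.2 fun x hx =>
      mem_bot.2 ((hZS x hx).resolve_right fun e => hzZ (e ▸ hx.1))
    have hinj : ∀ x ∈ S, ∀ y ∈ S, π x = π y → x = y := by
      intro x hx y hy e
      have : x⁻¹ * y ∈ center G ⊓ S := mem_inf.2
        ⟨by rw [← hker, MonoidHom.mem_ker, map_mul, map_inv, e, inv_mul_cancel],
          mul_mem (inv_mem hx) hy⟩
      rwa [hbot, mem_bot, inv_mul_eq_one] at this
    have hC : (S.map π ⊓ 𝐂(S.map π)).comap π ⊓ S = S ⊓ 𝐂(S) := by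
      ext x
      constructor
      · rintro ⟨⟨-, h1⟩, h2⟩
        refine ⟨h2, fun y hy => hinj _ (mul_mem hy h2) _ (mul_mem h2 hy) ?_⟩
        rw [map_mul, map_mul]
        exact h1 _ ⟨y, hy, rfl⟩
      · rintro ⟨h1, h2⟩
        refine ⟨⟨⟨x, h1, rfl⟩, ?_⟩, h1⟩
        rintro _ ⟨y, hy, rfl⟩
        rw [← map_mul, ← map_mul, h2 y hy]
    have hi : (S.map π ⊓ 𝐂(S.map π)).relIndex (S.map π) = 4 := by
      rw [← relIndex_comap, ← inf_relIndex_right, hC, h4]
    have hna' : ¬ S.map π ≤ 𝐂(S.map π) := fun h => by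
      rw [relIndex_eq_one.2 (le_inf le_rfl h)] at hi
      omega
    obtain ⟨e⟩ := sylow_of_index_four hP hns hT hna' hi
    refine ⟨by rw [← hcard, hbot, card_bot, Nat.card_congr e.toEquiv, DihedralGroup.nat_card], ?_⟩
    rcases hGW _ hns hT (Or.inr ⟨e⟩) with ⟨⟨f⟩⟩ | h
    · have ho : ¬ 2 ∣ Nat.card (center G) := by
        rw [← (hS.inf_of_le_normalizer (N := center G) le_top le_normalizer_of_normal).eq_bot_iff,
          inf_comm, hbot]
      rcases card_center_of_A7 hp ho (by rw [index, Nat.card_congr f.toEquiv, card_A7]) with h | h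
      · exact Or.inl ⟨((QuotientGroup.quotientBot.symm.trans
          (QuotientGroup.quotientMulEquivOfEq (eq_bot_of_card_eq _ h).symm))).trans f⟩
      · exact Or.inr (Or.inl ⟨h, ⟨f⟩⟩)
    · exact Or.inr (Or.inr h)

end M

end GW.Fu
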