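import Cfsg.Agent.Lib.GW.FusA

/-!
# Fusion in a Sylow `2`-subgroup whose centre has index `4`
-/

set_option autoImplicit false
set_option linter.unusedSectionVars false
set_option linter.style.haveILetI false

namespace GW.Fu
open Cfsg GT FT Subgroup GAG.E8
open scoped Pointwise commutatorElement

variable {G : Type*} [Group G] [Finite G] {S : Subgroup G} {z a b v : G}

theorem mem_C1 {x y : G} : x ∈ 𝐂[y] ↔ x * y = y * x := mem_centralizer_singleton_iff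

theorem Z_le_A (ha : a ∈ S) : S ⊓ 𝐂(S) ≤ S ⊓ 𝐂[a] := fun _ hx => ⟨hx.1, mem_C1.2 (hx.2 a ha).symm⟩

theorem self_mem_A (ha : a ∈ S) : a ∈ S ⊓ 𝐂[a] := ⟨ha, mem_C1.2 rfl⟩

section Idx
variable (h4 : (S ⊓ 𝐂(S)).relIndex S = 4) (ha : a ∈ S) (hn : a ∉ 𝐂(S))
include h4 ha hn

theorem idx_two : (S ⊓ 𝐂(S)).relIndex (S ⊓ 𝐂[a]) = 2 ∧ (S ⊓ 𝐂[a]).relIndex S = 2 := by
  have h1 := relIndex_mul_relIndex _ _ _ (Z_le_A ha) (inf_le_left : S ⊓ 𝐂[a] ≤ S)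
  have h2 : (S ⊓ 𝐂(S)).relIndex (S ⊓ 𝐂[a]) ≠ 1 := fun e =>
    hn (relIndex_eq_one.1 e (self_mem_A ha)).2
  have h3 : (S ⊓ 𝐂[a]).relIndex S ≠ 1 := fun e =>
    hn fun x hx => mem_C1.1 (relIndex_eq_one.1 e hx).2
  rw [h4] at h1
  have h5 := Nat.le_of_dvd (by omega) (Dvd.intro _ h1)
  generalize (S ⊓ 𝐂(S)).relIndex (S ⊓ 𝐂[a]) = m at *
  interval_cases m <;> omega

theorem A_cases {x : G} (hx : x ∈ S ⊓ 𝐂[a]) : x ∈ S ⊓ 𝐂(S) ∨ x * a ∈ S ⊓ 𝐂(S) := by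
  rw [mul_mem_of_relIndex_two (idx_two h4 ha hn).1 hx (self_mem_A ha)]
  have : a ∉ S ⊓ 𝐂(S) := fun e => hn e.2
  tauto

theorem A_eq (hb : b ∈ S ⊓ 𝐂[a]) (hb' : b ∉ 𝐂(S)) : S ⊓ 𝐂[b] = S ⊓ 𝐂[a] := by
  have h1 := (A_cases h4 ha hn hb).resolve_left fun e => hb' e.2
  ext x
  refine and_congr_right fun hx => ?_
  have h2 : b * a ∈ 𝐂[x] := mem_C1.2 (h1.2 x hx).symm
  change x ∈ 𝐂[b] ↔ x ∈ 𝐂[a]
  rw [mem_C1, mem_C1, eq_comm, eq_comm (a := x * a), ← mem_C1, ← mem_C1]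
  exact ⟨fun e => (mul_mem_cancel_left e).1 h2, fun e => (mul_mem_cancel_right e).1 h2⟩

theorem A_comm : S ⊓ 𝐂[a] ≤ 𝐂((S ⊓ 𝐂[a] : Subgroup G)) := fun x hx y hy => by
  by_cases h1 : x ∈ 𝐂(S)
  · exact h1 y hy.1
  · rw [← A_eq h4 ha hn hx h1] at hy
    exact mem_C1.1 hy.2

theorem le_norm_A : S ≤ 𝐍((S ⊓ 𝐂[a] : Subgroup G)) := fun x hx =>
  mem_normalizer_of_conj_mem fun y hy => by
    rw [mul_mem_of_relIndex_two (idx_two h4 ha hn).2 (mul_mem hx hy.1) (inv_mem hx),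
      mul_mem_cancel_right hy, inv_mem_iff]

end Idx

theorem exists_z (h4 : (S ⊓ 𝐂(S)).relIndex S = 4) (hna : ¬ S ≤ 𝐂(S)) :
    ∃ z ∈ S ⊓ 𝐂(S), z * z = 1 ∧ z ≠ 1 ∧
      ∀ x ∈ S, ∀ y ∈ S, x * y * x⁻¹ = y ∨ x * y * x⁻¹ = z * y := by
  have h1 : ∀ x ∈ S, x * x ∈ S ⊓ 𝐂(S) := fun x hx => by
    by_cases h : x ∈ 𝐂(S)
    · exact ⟨mul_mem hx hx, mul_mem h h⟩
    · exact (A_cases h4 hx h (self_mem_A hx)).resolve_left fun e => h e.2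
  have h2 : ∀ x ∈ S, ∀ y ∈ S, ⁅x, y⁆ ∈ S ⊓ 𝐂(S) := fun x hx y hy => by
    have e : ⁅x, y⁆ = x * y * (x * y) * (y⁻¹ * (x * x)⁻¹ * y) * (y * y)⁻¹ := by
      rw [commutatorElement_def]; group
    rw [e, (inv_mem (h1 x hx)).2 y⁻¹ (inv_mem hy), inv_mul_cancel_right]
    exact mul_mem (mul_mem (h1 _ (mul_mem hx hy)) (inv_mem (h1 x hx))) (inv_mem (h1 y hy))
  have h3 : ∀ y ∈ S, ∀ x ∈ S, ∀ x' ∈ S, ⁅x, y⁆ ≠ 1 → ⁅x', y⁆ ≠ 1 → ⁅x, y⁆ * ⁅x', y⁆ = 1 :=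
    fun y hy x hx x' hx' e e' => by
      have k : ∀ w ∈ S, ⁅w, y⁆ ≠ 1 → w ∉ S ⊓ 𝐂[y] := fun w _ e h =>
        e (commutatorElement_eq_one_iff_mul_comm.2 (mem_C1.1 h.2))
      have hy' : y ∉ 𝐂(S) := fun h => e (commutatorElement_eq_one_iff_mul_comm.2 (h x hx))
      have e1 := commutatorElement_eq_one_iff_mul_comm.2 (mem_C1.1
        ((mul_mem_of_relIndex_two (idx_two h4 hy hy').2 hx hx').2
          (iff_of_false (k x hx e) (k x' hx' e'))).2)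
      rw [show ⁅x * x', y⁆ = x * ⁅x', y⁆ * x⁻¹ * ⁅x, y⁆ by
        simp only [commutatorElement_def]; group, (h2 x' hx' y hy).2 x hx,
        mul_inv_cancel_right] at e1
      rw [(h2 x' hx' y hy).2 _ (h2 x hx y hy).1, e1]
  have h5 : ∀ y ∈ S, ∀ x ∈ S, ∀ x' ∈ S, ⁅x, y⁆ ≠ 1 → ⁅x', y⁆ ≠ 1 → ⁅x, y⁆ = ⁅x', y⁆ :=
    fun y hy x hx x' hx' e e' =>
      mul_right_cancel ((h3 y hy x hx x' hx' e e').trans (h3 y hy x' hx' x' hx' e' e').symm)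
  have h6 : ∀ x ∈ S, ∀ y ∈ S, ⁅x, y⁆ = ⁅y, x⁆ := fun x hx y hy => by
    by_cases e : ⁅x, y⁆ = 1
    · rw [← commutatorElement_inv x y, e, inv_one]
    · rw [← commutatorElement_inv x y]
      exact eq_inv_of_mul_eq_one_left (h3 y hy x hx x hx e e)
  obtain ⟨y, hy, hy'⟩ := SetLike.not_le_iff_exists.1 hna
  obtain ⟨x, hx, hxy⟩ : ∃ x ∈ S, ⁅x, y⁆ ≠ 1 := by
    by_contra h
    push Not at h
    exact hy' fun x hx => commutatorElement_eq_one_iff_mul_comm.1 (h x hx)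
  refine ⟨⁅x, y⁆, h2 x hx y hy, h3 y hy x hx x hx hxy hxy, hxy, fun x' hx' y' hy'' => ?_⟩
  by_cases e : ⁅x', y'⁆ = 1
  · exact Or.inl (by rw [commutatorElement_eq_one_iff_mul_comm.1 e, mul_inv_cancel_right])
  refine Or.inr ?_
  suffices ⁅x, y⁆ = ⁅x', y'⁆ by rw [this, commutatorElement_def, inv_mul_cancel_right]
  by_cases e1 : ⁅y', y⁆ = 1
  · have e2 : y' ∉ 𝐂(S) := fun h => e (commutatorElement_eq_one_iff_mul_comm.2 (h x' hx'))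
    have e3 := A_eq h4 hy hy' ⟨hy'', mem_C1.2 (commutatorElement_eq_one_iff_mul_comm.1 e1)⟩ e2
    have e4 : ⁅x', y⁆ ≠ 1 := fun h => e (commutatorElement_eq_one_iff_mul_comm.2 (mem_C1.1
      (e3.ge ⟨hx', mem_C1.2 (commutatorElement_eq_one_iff_mul_comm.1 h)⟩).2))
    rw [h5 y hy x hx x' hx' hxy e4, h6 x' hx' y hy, h6 x' hx' y' hy'']
    exact h5 x' hx' y hy y' hy'' (h6 x' hx' y hy ▸ e4) (h6 x' hx' y' hy'' ▸ e)
  · rw [h5 y hy x hx y' hy'' hxy e1, h6 y' hy'' y hy]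
    exact h5 y' hy'' y hy x' hx' (h6 y' hy'' y hy ▸ e1) e

/-- `S` is a Sylow `2`-subgroup with centre of index `4` and derived subgroup `⟨z⟩`. -/
structure Q4 (S : Subgroup G) (z : G) : Prop where
  syl : IsSylowIn 2 S ⊤
  idx : (S ⊓ 𝐂(S)).relIndex S = 4
  mem : z ∈ S ⊓ 𝐂(S)
  sq : z * z = 1
  ne : z ≠ 1
  cases : ∀ x ∈ S, ∀ y ∈ S, x * y * x⁻¹ = y ∨ x * y * x⁻¹ = z * y

/-- the subgroup `S ⊓ C(a)` is not essential -/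
def NE (S : Subgroup G) (a : G) : Prop :=
  ∀ n ∈ 𝐍((S ⊓ 𝐂[a] : Subgroup G)), ∀ x ∈ S ⊓ 𝐂[a], ∃ m ∈ 𝐍(S), m * x * m⁻¹ = n * x * n⁻¹

/-- the subgroup `S ⊓ C(v) = V × R` is essential -/
structure Es (S : Subgroup G) (z v : G) (V R : Subgroup G) : Prop where
  mem : v ∈ S
  nC : v ∉ 𝐂(S)
  sq : v * v = 1
  memV : ∀ x, x ∈ V ↔ x = 1 ∨ x = z ∨ x = v ∨ x = z * v
  le : R ≤ S ⊓ 𝐂(S)
  nR : z ∉ R
  dec : ∀ x ∈ S ⊓ 𝐂(S), x ∈ R ∨ z * x ∈ R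
  normV : 𝐍((S ⊓ 𝐂[v] : Subgroup G)) ≤ 𝐍(V)
  normR : 𝐍((S ⊓ 𝐂[v] : Subgroup G)) ≤ 𝐍(R)
  nsq : ∀ x ∈ S ⊓ 𝐂[v], x * x ≠ z

namespace Q4
variable (h : Q4 S z)
include h

theorem conj_eq {x y : G} (hx : x ∈ S) (hy : y ∈ S) (hn : x ∉ 𝐂[y]) : x * y * x⁻¹ = z * y :=
  (h.cases x hx y hy).resolve_left fun e => hn (mem_C1.2 (mul_inv_eq_iff_eq_mul.1 e))

theorem exists_not_mem (ha : a ∈ S) (hn : a ∉ 𝐂(S)) : ∃ s ∈ S, s ∉ 𝐂[a] := by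
  have _ := ha
  by_contra h1
  push Not at h1
  exact hn fun x hx => mem_C1.1 (h1 x hx)

theorem exists_nC : ∃ a ∈ S, a ∉ 𝐂(S) := by
  by_contra h1
  push Not at h1
  have := relIndex_eq_one.2 (show S ≤ S ⊓ 𝐂(S) from le_inf le_rfl h1)
  have := h.idx
  omega

theorem norm_z {m : G} (hm : m ∈ 𝐍(S)) : m * z * m⁻¹ = z := by
  obtain ⟨a, ha, hn⟩ := h.exists_nC
  obtain ⟨s, hs, hs'⟩ := h.exists_not_mem ha hn
  have h1 : m * s * m⁻¹ * (m * a * m⁻¹) * (m * s * m⁻¹)⁻¹ = m * z * m⁻¹ * (m * a * m⁻¹) := by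
    rw [show m * s * m⁻¹ * (m * a * m⁻¹) * (m * s * m⁻¹)⁻¹ = m * (s * a * s⁻¹) * m⁻¹ by group,
      h.conj_eq hs ha hs']
    group
  rcases h.cases _ (conj_mem_of_mem_normalizer hm hs) _ (conj_mem_of_mem_normalizer hm ha)
    with e | e <;> rw [h1] at e
  · exact absurd (conj_eq_one_iff.1 (mul_eq_right.1 e)) h.ne
  · exact mul_right_cancel e

theorem fus_Z {x g : G} (hx : x ∈ 𝐂(S)) (hy : g * x * g⁻¹ ∈ 𝐂(S)) :
    ∃ m ∈ 𝐍(S), m * x * m⁻¹ = g * x * g⁻¹ :=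
  exists_mem_normalizer_conj_eq_of_mem_centralizer h.syl.toSylowTop hx hy

theorem syl_N (ha : a ∈ S) (hn : a ∉ 𝐂(S)) : IsSylowIn 2 S 𝐍((S ⊓ 𝐂[a] : Subgroup G)) :=
  h.syl.of_le (le_norm_A h.idx ha hn) le_top

theorem exists_conj_Z (ha : a ∈ S) (hn : a ∉ 𝐂(S)) (hs : ¬ IsSylowIn 2 (S ⊓ 𝐂[a]) 𝐂[a]) :
    ∃ n ∈ 𝐍((S ⊓ 𝐂[a] : Subgroup G)), n * a * n⁻¹ ∈ S ⊓ 𝐂(S) := by
  obtain ⟨R, hR, hle⟩ := exists_isSylowIn_ge (h.syl.isPGroup.to_inf_left (K := 𝐂[a])) inf_le_right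
  have h1 := card_mul_relIndex (inf_le_left : S ⊓ 𝐂[a] ≤ S)
  have h2 := card_mul_relIndex hle
  have h3 := h.syl.card_le hR.isPGroup le_top
  rw [(idx_two h.idx ha hn).2] at h1
  have h4 : (S ⊓ 𝐂[a]).relIndex R ≠ 1 := fun e =>
    hs ((le_antisymm hle (relIndex_eq_one.1 e)) ▸ hR)
  have h5 := relIndex_pos (S ⊓ 𝐂[a]) R
  have h6 : (S ⊓ 𝐂[a]).relIndex R = 2 := by
    have := Nat.le_of_mul_le_mul_left (h2 ▸ h1 ▸ h3) Nat.card_pos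
    omega
  have h7 : R ≤ 𝐍((S ⊓ 𝐂[a] : Subgroup G)) := fun x hx =>
    mem_normalizer_of_conj_mem fun y hy => by
      rw [mul_mem_of_relIndex_two h6 (mul_mem hx (hle hy)) (inv_mem hx),
        mul_mem_cancel_right hy, inv_mem_iff]
  obtain ⟨n, hn', e⟩ := ((h.syl_N ha hn).of_card_ge hR.isPGroup h7 (by
    rw [← h1, ← h2, h6])).exists_conj_eq (h.syl_N ha hn)
  refine ⟨n, hn', e ▸ conj_mem_conj_smul.2 (hle (self_mem_A ha)), fun x hx => ?_⟩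
  rw [← e] at hx
  obtain ⟨y, hy, rfl⟩ := mem_conj_smul'.1 hx
  rw [show n * y * n⁻¹ * (n * a * n⁻¹) = n * (y * a) * n⁻¹ by group, mem_C1.1 (hR.le hy)]
  group

theorem not_syl (ha : a ∈ S) (hn : a ∉ 𝐂(S)) {g : G} (hg : g * a * g⁻¹ ∈ 𝐂(S)) :
    ¬ IsSylowIn 2 (S ⊓ 𝐂[a]) 𝐂[a] := fun hs => by
  have h1 := hs.card_le (isPGroup_conj_smul g⁻¹ h.syl.isPGroup) (conj_smul_le_iff.2 fun x hx => by
    rw [mem_C1, show g⁻¹ * x * g⁻¹⁻¹ * a = g⁻¹ * (x * (g * a * g⁻¹)) * g by group, hg x hx]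
    group)
  have h2 := card_mul_relIndex (inf_le_left : S ⊓ 𝐂[a] ≤ S)
  rw [(idx_two h.idx ha hn).2] at h2
  rw [card_conj_smul] at h1
  have := Nat.card_pos (α := S)
  omega

/-- fusion is generated by the normalizers of `S` and of its maximal abelian subgroups -/
theorem fusion {P : G → Prop} (h1 : ∀ m ∈ 𝐍(S), ∀ x ∈ S, P x → P (m * x * m⁻¹))
    (h2 : ∀ a ∈ S, a ∉ 𝐂(S) → ∀ n ∈ 𝐍((S ⊓ 𝐂[a] : Subgroup G)), ∀ x ∈ S ⊓ 𝐂[a],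
      P x → P (n * x * n⁻¹))
    {x g : G} (hx : x ∈ S) (hy : g * x * g⁻¹ ∈ S) (hP : P x) : P (g * x * g⁻¹) := by
  by_cases h3 : ∃ k, k * x * k⁻¹ ∈ 𝐂(S)
  · obtain ⟨k, hk⟩ := h3
    have key : ∀ y ∈ S, ∀ k, k * y * k⁻¹ ∈ 𝐂(S) →
        ∃ n, n * y * n⁻¹ ∈ S ⊓ 𝐂(S) ∧ (P y ↔ P (n * y * n⁻¹)) := fun y hy k hk => by
      by_cases h4 : y ∈ 𝐂(S)
      · exact ⟨1, by simpa using ⟨hy, h4⟩, by simp⟩
      · obtain ⟨n, hn, e⟩ := h.exists_conj_Z hy h4 (h.not_syl hy h4 hk)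
        refine ⟨n, e, h2 y hy h4 n hn y (self_mem_A hy), fun h5 => ?_⟩
        have := h2 y hy h4 n⁻¹ (inv_mem hn) _ (Z_le_A hy e) h5
        rwa [show n⁻¹ * (n * y * n⁻¹) * n⁻¹⁻¹ = y by group] at this
    obtain ⟨n, hn, e⟩ := key x hx k hk
    obtain ⟨n', hn', e'⟩ := key _ hy (k * g⁻¹) (by
      rwa [show k * g⁻¹ * (g * x * g⁻¹) * (k * g⁻¹)⁻¹ = k * x * k⁻¹ by group])
    have e1 : n' * g * n⁻¹ * (n * x * n⁻¹) * (n' * g * n⁻¹)⁻¹ = n' * (g * x * g⁻¹) * n'⁻¹ := by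
      group
    obtain ⟨m, hm, e2⟩ := h.fus_Z (g := n' * g * n⁻¹) hn.2 (by rw [e1]; exact hn'.2)
    rw [e', ← e1, ← e2]
    exact h1 m hm _ hn.1 (e.1 hP)
  · push Not at h3
    have hx' : x ∉ 𝐂(S) := by simpa using h3 1
    have s1 : IsSylowIn 2 (S ⊓ 𝐂[x]) 𝐂[x] := by_contra fun e =>
      let ⟨n, _, e'⟩ := h.exists_conj_Z hx hx' e
      h3 n e'.2
    have s2 : IsSylowIn 2 (S ⊓ 𝐂[g * x * g⁻¹]) 𝐂[g * x * g⁻¹] := by_contra fun e => by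
      obtain ⟨n, -, e'⟩ := h.exists_conj_Z hy (h3 g) e
      exact h3 (n * g) (by
        rw [show n * g * x * (n * g)⁻¹ = n * (g * x * g⁻¹) * n⁻¹ by group]; exact e'.2)
    have s3 := s1.conj g
    rw [conj_smul_centralizer_singleton] at s3
    obtain ⟨c, hc, e⟩ := s3.exists_conj_eq s2
    rw [conj_smul_conj_smul] at e
    have s4 := (h.syl_N hx hx').conj (c * g)
    rw [conj_smul_normalizer, e] at s4
    obtain ⟨n, hn, e'⟩ := s4.exists_conj_eq (h.syl_N hy (h3 g))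
    rw [conj_smul_conj_smul, conj_smul_eq_iff_mem_normalizer] at e'
    have e1 : n * (c * g) * x * (n * (c * g))⁻¹ = n * (g * x * g⁻¹) * n⁻¹ := by
      rw [show n * (c * g) * x * (n * (c * g))⁻¹ = n * (c * (g * x * g⁻¹) * c⁻¹) * n⁻¹ by group,
        mem_C1.1 hc, mul_inv_cancel_right]
    have := h2 _ hy (h3 g) n⁻¹ (inv_mem hn) _ (conj_mem_of_mem_normalizer hn (self_mem_A hy))
      (e1 ▸ h1 _ e' x hx hP)
    rwa [show n⁻¹ * (n * (g * x * g⁻¹) * n⁻¹) * n⁻¹⁻¹ = g * x * g⁻¹ by group] at this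

theorem tv (ha : a ∈ S) (hn : a ∉ 𝐂(S)) {s : G} (hs : s ∈ S) (hs' : s ∉ 𝐂[a]) :
    Tv (S ⊓ 𝐂[a]) s z (S ⊓ 𝐂(S)) where
  norm := le_norm_A h.idx ha hn hs
  le := Z_le_A ha
  mem := h.mem
  sq := h.sq
  ne := h.ne
  idx := (idx_two h.idx ha hn).1
  fix := fun x hx => by rw [hx.2 s hs, mul_inv_cancel_right]
  mov := fun x hx hx' => h.conj_eq hs hx.1 fun e => hs'
    ((A_eq h.idx ha hn hx fun e' => hx' ⟨hx.1, e'⟩).le ⟨hs, e⟩).2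

theorem idx_C (ha : a ∈ S) (hn : a ∉ 𝐂(S)) : 𝐂((S ⊓ 𝐂[a] : Subgroup G)).relIndex S = 2 := by
  rw [← inf_relIndex_left, ← (idx_two h.idx ha hn).2]
  congr 1
  exact le_antisymm (fun x hx => ⟨hx.1, mem_C1.2 (hx.2 a (self_mem_A ha)).symm⟩)
    (le_inf inf_le_left (A_comm h.idx ha hn))

theorem dichotomy (ha : a ∈ S) (hn : a ∉ 𝐂(S)) :
    NE S a ∨ ∃ v ∈ S ⊓ 𝐂[a], ∃ V R, Es S z v V R := by
  obtain ⟨s, hs, hs'⟩ := h.exists_not_mem ha hn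
  have T := h.tv ha hn hs hs'
  have hN := h.syl_N ha hn
  have hC := h.idx_C ha hn
  have hA := A_comm h.idx ha hn
  have hSN := le_norm_A h.idx ha hn
  have h2 := (idx_two h.idx ha hn).2
  by_cases h1 : ∀ n ∈ 𝐍((S ⊓ 𝐂[a] : Subgroup G)), n * z * n⁻¹ ∈ S ⊓ 𝐂(S)
  · refine Or.inl fun n hn' x hx => ?_
    have h3 : n * s * n⁻¹ * s⁻¹ ∈ 𝐂((S ⊓ 𝐂[a] : Subgroup G)) := fun y hy => by
      have := Tv.act_eq hN hC hA (T.conj hn') T (h1 n hn')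
        (inv_conj_mem_of_mem_normalizer T.norm hy)
      rw [show s * (s⁻¹ * y * s) * s⁻¹ = y by group] at this
      conv_lhs => rw [← this]
      group
    have h4 : MulAut.conj n • S ≤ S ⊔ 𝐂((S ⊓ 𝐂[a] : Subgroup G)) :=
      conj_smul_le_iff.2 fun y hy => by
        by_cases h5 : y ∈ S ⊓ 𝐂[a]
        · exact mem_sup_left (conj_mem_of_mem_normalizer hn' h5).1
        · have h6 := (mul_mem_of_relIndex_two h2 (inv_mem hs) hy).2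
            (iff_of_false (fun e => hs' (inv_mem_iff.1 e.2)) h5)
          rw [show n * y * n⁻¹ = n * s * n⁻¹ * s⁻¹ * s * (n * (s⁻¹ * y) * n⁻¹) by group]
          exact mul_mem (mul_mem (mem_sup_right h3) (mem_sup_left hs))
            (mem_sup_left (conj_mem_of_mem_normalizer hn' h6).1)
    have h5 := h.syl.of_le (le_sup_left : S ≤ S ⊔ 𝐂((S ⊓ 𝐂[a] : Subgroup G))) le_top
    obtain ⟨b, hb, e⟩ := (h5.of_card_ge (isPGroup_conj_smul n h.syl.isPGroup) h4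
      (card_conj_smul n S).ge).exists_conj_eq h5
    obtain ⟨t, ht, c, hc, rfl⟩ := (mem_sup_of_le_normalizer_right
      (hSN.trans (normalizer_le_normalizer_centralizer _))).1 hb
    rw [conj_smul_conj_smul, conj_smul_eq_iff_mem_normalizer, mul_assoc,
      mul_mem_cancel_left (le_normalizer ht)] at e
    refine ⟨c * n, e, ?_⟩
    rw [show c * n * x * (c * n)⁻¹ = c * (n * x * n⁻¹) * c⁻¹ by group,
      ← hc _ (conj_mem_of_mem_normalizer hn' hx), mul_inv_cancel_right]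
  right
  push Not at h1
  obtain ⟨n₀, hn₀, hv⟩ := h1
  have T' := T.conj hn₀
  generalize n₀ * z * n₀⁻¹ = v at hv T'
  generalize MulAut.conj n₀ • (S ⊓ 𝐂(S)) = Z' at T'
  generalize n₀ * s * n₀⁻¹ = s' at T'
  have vA := T'.le T'.mem
  have vC : v ∉ 𝐂(S) := fun e => hv ⟨vA.1, e⟩
  have hz : z ∉ Z' := fun e => hv ((Tv.eq hN hC hA T T' e).1 ▸ h.mem)
  have T'' := T'.conj T.norm
  rw [T.mov v vA hv] at T''
  have tri : ∀ {t c : G} {H : Subgroup G}, Tv (S ⊓ 𝐂[a]) t c H →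
      (c = z ∨ c = v ∨ c = z * v) ∧ S ⊓ 𝐂(S) ⊓ Z' ≤ H := fun {t c H} T₁ => by
    by_cases e1 : z ∈ H
    · obtain ⟨e, e'⟩ := Tv.eq hN hC hA T T₁ e1
      exact ⟨Or.inl e.symm, e' ▸ inf_le_left⟩
    by_cases e2 : v ∈ H
    · obtain ⟨e, e'⟩ := Tv.eq hN hC hA T' T₁ e2
      exact ⟨Or.inr (Or.inl e.symm), e' ▸ inf_le_right⟩
    · obtain ⟨e, e'⟩ := Tv.eq hN hC hA T'' T₁
        ((mul_mem_of_relIndex_two T₁.idx (T.le T.mem) vA).2 (iff_of_false e1 e2))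
      refine ⟨Or.inr (Or.inr e.symm), e' ▸ fun x hx => ?_⟩
      rw [← T.fix x hx.1]
      exact conj_mem_conj_smul.2 hx.2
  have eA := A_eq h.idx ha hn vA vC
  refine ⟨v, vA, klein h.sq T'.sq (h.mem.2 v vA.1), S ⊓ 𝐂(S) ⊓ Z', vA.1, vC, T'.sq,
    fun _ => mem_klein, inf_le_left, fun e => hz e.2, fun x hx => ?_, ?_, ?_, fun x hx e => ?_⟩
  · by_cases e : x ∈ Z'
    · exact Or.inl ⟨hx, e⟩
    · exact Or.inr ⟨mul_mem h.mem hx,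
        (mul_mem_of_relIndex_two T'.idx (T.le T.mem) (T.le hx)).2 (iff_of_false hz e)⟩
  · rw [eA]
    refine fun n hn' => mem_normalizer_of_conj_mem fun x hx => ?_
    rcases mem_klein.1 hx with rfl | rfl | rfl | rfl
    · simp
    · exact mem_klein.2 (Or.inr (tri (T.conj hn')).1)
    · exact mem_klein.2 (Or.inr (tri (T'.conj hn')).1)
    · exact mem_klein.2 (Or.inr (tri (T''.conj hn')).1)
  · rw [eA]
    refine fun n hn' => mem_normalizer_of_conj_mem fun x hx => ?_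
    have e1 := mem_conj_smul.1 ((tri (T.conj (inv_mem hn'))).2 hx)
    have e2 := mem_conj_smul.1 ((tri (T'.conj (inv_mem hn'))).2 hx)
    rw [inv_inv] at e1 e2
    exact ⟨e1, e2⟩
  · rw [eA] at hx
    exact hz (e ▸ (mul_mem_of_relIndex_two T'.idx hx hx).2 Iff.rfl)

end Q4

end GW.Fu
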