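import Cfsg.Agent.Lib.GW.FusB

/-!
# The decomposition `S = D₈ × R` with both factors strongly closed
-/

set_option autoImplicit false
set_option linter.unusedSectionVars false
set_option linter.style.haveILetI false

namespace GW.Fu
open Cfsg GT FT Subgroup GAG.E8
open scoped Pointwise commutatorElement

variable {G : Type*} [Group G] [Finite G] {S V R V' R' : Subgroup G} {z a v w : G}

namespace Q4
variable (h : Q4 S z)
include h

theorem mul_sq (hv : v ∈ S) (hw : w ∈ S) (h1 : v * v = 1) (h2 : w * w = 1) (hn : v ∉ 𝐂[w]) :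
    v * w * (v * w) = z := by
  rw [show v * w * (v * w) = v * w * v⁻¹ * (v * v) * w by group, h.conj_eq hv hw hn, h1, mul_one,
    mul_assoc, h2, mul_one]

theorem mul_nC (hw : w ∈ S) (hn : v ∉ 𝐂[w]) : v * w ∉ 𝐂(S) := fun e =>
  hn (mem_C1.2 (mul_right_cancel (b := w) (by rw [← e w hw, mul_assoc])))

theorem three (hv : v ∈ S) (hw : w ∈ S) (hn : v ∉ 𝐂[w]) {x : G} (hx : x ∈ S) :
    x ∈ 𝐂[v] ∨ x ∈ 𝐂[w] ∨ x ∈ 𝐂[v * w] := by
  rcases h.cases x hx v hv with e | e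
  · exact Or.inl (mem_C1.2 (mul_inv_eq_iff_eq_mul.1 e))
  rcases h.cases x hx w hw with e' | e'
  · exact Or.inr (Or.inl (mem_C1.2 (mul_inv_eq_iff_eq_mul.1 e')))
  have _ := hn
  refine Or.inr (Or.inr (mem_C1.2 (mul_inv_eq_iff_eq_mul.1 ?_)))
  rw [show x * (v * w) * x⁻¹ = x * v * x⁻¹ * (x * w * x⁻¹) by group, e, e', mul_assoc,
    ← mul_assoc v, h.mem.2 v hv, ← mul_assoc, ← mul_assoc, h.sq, one_mul]

theorem norm_A (E : Es S z v V R) : 𝐍(S) ≤ 𝐍((S ⊓ 𝐂[v] : Subgroup G)) := fun m hm => by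
  have h1 : pPart 2 m ∈ S := h.syl.mem_of_mem_normalizer (isPElt_pPart 2 m) trivial (pPart_mem 2 hm)
  rw [← pPart_mul_pRegPart 2 m]
  refine mul_mem (le_norm_A h.idx E.mem E.nC h1) ?_
  have h2 := pRegPart_mem 2 hm
  have h3 := isPRegular_pRegPart 2 m
  generalize pRegPart 2 m = k at h2 h3
  have cA : ∀ n ∈ 𝐍(S), MulAut.conj n • (S ⊓ 𝐂[v]) = S ⊓ 𝐂[n * v * n⁻¹] := fun n hn => by
    rw [smul_inf, conj_smul_centralizer_singleton, conj_smul_eq_of_mem_normalizer hn]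
  have cC : ∀ n ∈ 𝐍(S), n * v * n⁻¹ ∉ 𝐂(S) := fun n hn e => E.nC
    ((mem_normalizer_iff.1 (normalizer_le_normalizer_centralizer S hn) v).2 e)
  have key : ∀ n ∈ 𝐍(S), n * v * n⁻¹ ∈ 𝐂[v] → n ∈ 𝐍((S ⊓ 𝐂[v] : Subgroup G)) := fun n hn e => by
    rw [← conj_smul_eq_iff_mem_normalizer, cA n hn]
    exact A_eq h.idx E.mem E.nC ⟨conj_mem_of_mem_normalizer hn E.mem, e⟩ (cC n hn)
  by_contra h4
  have h5 : k * v * k⁻¹ ∉ 𝐂[v] := fun e => h4 (key k h2 e)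
  have h6 : v ∉ 𝐂[k * v * k⁻¹] := fun e => h5 (mem_C1.2 (mem_C1.1 e).symm)
  have v2 := conj_mem_of_mem_normalizer h2 E.mem
  have k2 := mul_mem h2 h2
  rcases h.three E.mem v2 h6 (conj_mem_of_mem_normalizer k2 E.mem) with e | e | e
  · refine h4 (zpowers_le.2 (key _ k2 e) ?_)
    rw [← pow_two]
    exact mem_zpowers_pow_iff.2 (isPRegular_iff_coprime.1 h3).symm
  · refine h5 ?_
    rw [← conj_smul_centralizer_singleton, mem_conj_smul] at e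
    rwa [show k⁻¹ * (k * k * v * (k * k)⁻¹) * k = k * v * k⁻¹ by group] at e
  · have e1 : v * (k * v * k⁻¹) ∈ MulAut.conj (k * k) • (S ⊓ 𝐂[v]) := by
      rw [cA _ k2]
      exact ⟨mul_mem E.mem v2, mem_C1.2 (mem_C1.1 e).symm⟩
    refine E.nsq _ (mem_conj_smul.1 e1) ?_
    have e2 := h.mul_sq E.mem v2 E.sq (by
      rw [show k * v * k⁻¹ * (k * v * k⁻¹) = k * (v * v) * k⁻¹ by group, E.sq]; group) h6
    have e3 := h.norm_z (inv_mem k2)
    rw [← e3, ← e2]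
    group

theorem exists_es (hz : ∃ g, g * z * g⁻¹ ∈ S ∧ g * z * g⁻¹ ≠ z) : ∃ v V R, Es S z v V R := by
  by_contra h1
  obtain ⟨g, hg, hg'⟩ := hz
  refine hg' (h.fusion (P := fun y => y = z) (fun m hm x _ e => e ▸ h.norm_z hm)
    (fun a ha hn n hn' x hx e => ?_) h.mem.1 hg rfl)
  rcases h.dichotomy ha hn with e' | ⟨v, -, V, R, E⟩
  · obtain ⟨m, hm, e'⟩ := e' n hn' x hx
    rw [← e', e, h.norm_z hm]
  · exact absurd ⟨v, V, R, E⟩ h1

theorem le_of_focal (hp : commutator G = ⊤) {F : Subgroup G}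
    (h1 : ∀ m ∈ 𝐍(S), ∀ x ∈ S, x * (m * x * m⁻¹)⁻¹ ∈ F)
    (h2 : ∀ a ∈ S, a ∉ 𝐂(S) → NE S a ∨ ∀ n ∈ 𝐍((S ⊓ 𝐂[a] : Subgroup G)), ∀ x ∈ S ⊓ 𝐂[a],
      x * (n * x * n⁻¹)⁻¹ ∈ F) : S ≤ F := by
  have h3 := h.syl.commutator_inf_le (R := F) fun x hx g _ hg =>
    h.fusion (P := fun y => x * y⁻¹ ∈ F) (fun m hm y hy e => by
      have := mul_mem e (h1 m hm y hy)
      rwa [mul_assoc, inv_mul_cancel_left] at this) (fun a ha hn n hn' y hy e => by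
      have e1 : y * (n * y * n⁻¹)⁻¹ ∈ F := by
        rcases h2 a ha hn with e' | e'
        · obtain ⟨m, hm, e'⟩ := e' n hn' y hy
          rw [← e']
          exact h1 m hm y hy.1
        · exact e' n hn' y hy
      have := mul_mem e e1
      rwa [mul_assoc, inv_mul_cancel_left] at this) hx hg (by simp)
  rw [← _root_.commutator_def, hp, top_inf_eq] at h3
  exact h3

theorem exists_es_two (hp : commutator G = ⊤) (E : Es S z v V R) :
    ∃ w V' R', Es S z w V' R' ∧ v ∉ 𝐂[w] := by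
  by_contra h1
  push Not at h1
  have h2 := (idx_two h.idx E.mem E.nC).2
  have h3 := h.le_of_focal hp (F := S ⊓ 𝐂[v]) (fun m hm x hx => by
    rw [mul_mem_of_relIndex_two h2 hx (inv_mem (conj_mem_of_mem_normalizer hm hx)), inv_mem_iff]
    exact mem_normalizer_iff.1 (h.norm_A E hm) x) fun a ha hn => by
      rcases h.dichotomy ha hn with e | ⟨w, hw, V', R', E'⟩
      · exact Or.inl e
      · right
        rw [← A_eq h.idx ha hn hw E'.nC, ← A_eq h.idx E'.mem E'.nC ⟨E.mem, h1 w V' R' E'⟩ E.nC]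
        exact fun n hn' x hx => mul_mem hx (inv_mem (conj_mem_of_mem_normalizer hn' hx))
  have := relIndex_eq_one.2 h3
  omega

end Q4

namespace Es
variable (h : Q4 S z) (E : Es S z v V R)
include h E

theorem z_mem : z ∈ V := (E.memV z).2 (Or.inr (Or.inl rfl))

theorem v_mem : v ∈ V := (E.memV v).2 (Or.inr (Or.inr (Or.inl rfl)))

theorem V_le : V ≤ S ⊓ 𝐂[v] := fun x hx => by
  rcases (E.memV x).1 hx with rfl | rfl | rfl | rfl
  exacts [one_mem _, Z_le_A E.mem h.mem, self_mem_A E.mem,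
    mul_mem (Z_le_A E.mem h.mem) (self_mem_A E.mem)]

theorem exists_mul {x : G} (hx : x ∈ S ⊓ 𝐂[v]) : ∃ y ∈ V, ∃ r ∈ R, x = y * r := by
  have key : ∀ x ∈ S ⊓ 𝐂(S), ∃ y ∈ V, ∃ r ∈ R, x = y * r := fun x hx => by
    rcases E.dec x hx with e | e
    · exact ⟨1, one_mem _, x, e, (one_mul x).symm⟩
    · exact ⟨z, E.z_mem h, _, e, by rw [← mul_assoc, h.sq, one_mul]⟩
  rcases A_cases h.idx E.mem E.nC hx with e | e
  · exact key x e
  · obtain ⟨y, hy, r, hr, e'⟩ := key _ e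
    refine ⟨v * y, mul_mem (E.v_mem h) hy, r, hr, ?_⟩
    rw [mul_assoc, ← e', mem_C1.1 hx.2, ← mul_assoc, E.sq, one_mul]

theorem mul_conj_mem {c m : G} (hc : c ∈ S ⊓ 𝐂(S)) (hm : m ∈ 𝐍(S)) : c * (m * c * m⁻¹)⁻¹ ∈ R := by
  have h1 := E.normR (h.norm_A E hm)
  rcases E.dec c hc with e | e
  · exact mul_mem e (inv_mem (conj_mem_of_mem_normalizer h1 e))
  · have := mul_mem e (inv_mem (conj_mem_of_mem_normalizer h1 e))
    rwa [show m * (z * c) * m⁻¹ = m * z * m⁻¹ * (m * c * m⁻¹) by group, h.norm_z hm,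
      ← h.mem.2 c hc.1, ← h.mem.2 _ (conj_mem_of_mem_normalizer hm hc.1), mul_inv_rev,
      mul_assoc, mul_inv_cancel_left] at this

theorem mem_V (E' : Es S z w V' R') (hn : w ∉ 𝐂[v]) {x : G} (hx : x ∈ V ⊔ V') (hx' : x ∈ 𝐂[v]) :
    x ∈ V := by
  obtain ⟨y, hy, y', hy', rfl⟩ := (mem_sup_of_le_normalizer_left
    (((E'.V_le h).trans inf_le_left).trans ((le_norm_A h.idx E.mem E.nC).trans E.normV))).1 hx
  rw [mul_mem_cancel_left (mem_inf.1 (E.V_le h hy)).2] at hx'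
  rcases (E'.memV y').1 hy' with rfl | rfl | rfl | rfl
  · rwa [mul_one]
  · exact mul_mem hy (E.z_mem h)
  · exact absurd hx' hn
  · exact absurd ((mul_mem_cancel_left (mem_inf.1 (Z_le_A E.mem h.mem)).2).1 hx') hn

end Es

theorem Q4.decomp (h : Q4 S z) (hp : commutator G = ⊤)
    (hz : ∃ g, g * z * g⁻¹ ∈ S ∧ g * z * g⁻¹ ≠ z) :
    ∃ D R : Subgroup G, D ⊔ R = S ∧ D ⊓ R = ⊥ ∧ S ≤ 𝐂(R) ∧ Nonempty (D ≃* DihedralGroup 4) ∧
      (∀ x ∈ D, ∀ g : G, g * x * g⁻¹ ∈ S → g * x * g⁻¹ ∈ D) ∧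
      (∀ x ∈ R, ∀ g : G, g * x * g⁻¹ ∈ S → g * x * g⁻¹ ∈ R) := by
  obtain ⟨v, V, R, E⟩ := h.exists_es hz
  obtain ⟨w, V', R', E', hn⟩ := h.exists_es_two hp E
  have hn' : w ∉ 𝐂[v] := fun e => hn (mem_C1.2 (mem_C1.1 e).symm)
  have hDS : V ⊔ V' ≤ S := sup_le ((E.V_le h).trans inf_le_left) ((E'.V_le h).trans inf_le_left)
  have hRZ : R ⊓ R' ≤ S ⊓ 𝐂(S) := inf_le_left.trans E.le
  have nD : 𝐍(S) ≤ 𝐍((V ⊔ V' : Subgroup G)) := fun m hm => by
    rw [← conj_smul_eq_iff_mem_normalizer, smul_sup,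
      conj_smul_eq_of_mem_normalizer (E.normV (h.norm_A E hm)),
      conj_smul_eq_of_mem_normalizer (E'.normV (h.norm_A E' hm))]
  have nR : ∀ m ∈ 𝐍(S), ∀ x ∈ R ⊓ R', m * x * m⁻¹ ∈ R ⊓ R' := fun m hm x hx =>
    ⟨conj_mem_of_mem_normalizer (E.normR (h.norm_A E hm)) hx.1,
      conj_mem_of_mem_normalizer (E'.normR (h.norm_A E' hm)) hx.2⟩
  have tri : ∀ a ∈ S, a ∉ 𝐂(S) → NE S a ∨ S ⊓ 𝐂[a] = S ⊓ 𝐂[v] ∨ S ⊓ 𝐂[a] = S ⊓ 𝐂[w] :=
    fun a ha ha' => by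
      rcases h.three E.mem E'.mem hn ha with e | e | e
      · exact Or.inr (Or.inl (A_eq h.idx E.mem E.nC ⟨ha, e⟩ ha'))
      · exact Or.inr (Or.inr (A_eq h.idx E'.mem E'.nC ⟨ha, e⟩ ha'))
      · rcases h.dichotomy ha ha' with e' | ⟨y, hy, _, _, E₃⟩
        · exact Or.inl e'
        · refine absurd (h.mul_sq E.mem E'.mem E.sq E'.sq hn) (E₃.nsq _ ?_)
          rw [A_eq h.idx ha ha' hy E₃.nC]
          exact ⟨mul_mem E.mem E'.mem, mem_C1.2 (mem_C1.1 e).symm⟩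
  have kZ : ∀ c ∈ S ⊓ 𝐂(S), ∀ n, n * c * n⁻¹ ∈ 𝐂(S) → c * (n * c * n⁻¹)⁻¹ ∈ R ⊓ R' :=
    fun c hc n hn => by
      obtain ⟨m, hm, e⟩ := h.fus_Z hc.2 hn
      rw [← e]
      exact ⟨E.mul_conj_mem h hc hm, E'.mul_conj_mem h hc hm⟩
  have kF : ∀ d ∈ V ⊔ V', ∀ c ∈ S ⊓ 𝐂(S), ∀ n, n * d * n⁻¹ ∈ V ⊔ V' → n * c * n⁻¹ ∈ 𝐂(S) →
      d * c * (n * (d * c) * n⁻¹)⁻¹ ∈ V ⊔ V' ⊔ R ⊓ R' := fun d hd c hc n h1 h2 => by
    rw [show d * c * (n * (d * c) * n⁻¹)⁻¹ = d * (c * (n * c * n⁻¹)⁻¹) * (n * d * n⁻¹)⁻¹ by group]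
    exact mul_mem (mul_mem (mem_sup_left hd) (mem_sup_right (kZ c hc n h2)))
      (inv_mem (mem_sup_left h1))
  have kA : ∀ {v V₁ R₁}, Es S z v V₁ R₁ → V₁ ≤ V ⊔ V' → ∀ n ∈ 𝐍((S ⊓ 𝐂[v] : Subgroup G)),
      ∀ x ∈ S ⊓ 𝐂[v], x * (n * x * n⁻¹)⁻¹ ∈ V ⊔ V' ⊔ R ⊓ R' := fun E₁ hle n hn x hx => by
    obtain ⟨y, hy, r, hr, rfl⟩ := E₁.exists_mul h hx
    exact kF y (hle hy) r (E₁.le hr) n (hle (conj_mem_of_mem_normalizer (E₁.normV hn) hy))
      (E₁.le (conj_mem_of_mem_normalizer (E₁.normR hn) hr)).2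
  have kR : ∀ {v V₁ R₁}, Es S z v V₁ R₁ → R ⊓ R' ≤ R₁ → ∀ n ∈ 𝐍((S ⊓ 𝐂[v] : Subgroup G)),
      ∀ x ∈ R ⊓ R', n * x * n⁻¹ ∈ R ⊓ R' := fun E₁ hle n hn x hx => by
    obtain ⟨m, hm, e⟩ := h.fus_Z (hRZ hx).2
      (E₁.le (conj_mem_of_mem_normalizer (E₁.normR hn) (hle hx))).2
    rw [← e]
    exact nR m hm x hx
  refine ⟨V ⊔ V', R ⊓ R', le_antisymm (sup_le hDS (hRZ.trans inf_le_left))
    (h.le_of_focal hp (fun m hm x hx => ?_) fun a ha ha' => ?_), eq_bot_iff.2 fun x hx => ?_,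
    le_centralizer_iff.1 (hRZ.trans inf_le_right), ?_, fun x hx g hg => ?_, fun x hx g hg => ?_⟩
  · obtain ⟨d, hd, c, hc, rfl⟩ : ∃ d ∈ V ⊔ V', ∃ c ∈ S ⊓ 𝐂(S), x = d * c := by
      by_cases h1 : x ∈ 𝐂[v]
      · obtain ⟨y, hy, r, hr, e⟩ := E.exists_mul h ⟨hx, h1⟩
        exact ⟨y, mem_sup_left hy, r, E.le hr, e⟩
      · obtain ⟨y, hy, r, hr, e⟩ := E.exists_mul h
          ((mul_mem_of_relIndex_two (idx_two h.idx E.mem E.nC).2 E'.mem hx).2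
            (iff_of_false (fun e => hn' e.2) fun e => h1 e.2))
        refine ⟨w * y, mul_mem (mem_sup_right (E'.v_mem h)) (mem_sup_left hy), r, E.le hr, ?_⟩
        rw [mul_assoc, ← e, ← mul_assoc, E'.sq, one_mul]
    exact kF d hd c hc m (conj_mem_of_mem_normalizer (nD hm) hd)
      (conj_mem_of_mem_normalizer (normalizer_le_normalizer_centralizer S hm) hc.2)
  · rcases tri a ha ha' with e | e | e
    · exact Or.inl e
    · exact Or.inr (e ▸ kA E le_sup_left)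
    · exact Or.inr (e ▸ kA E' le_sup_right)
  · have h1 := hRZ hx.2
    rcases (E.memV x).1 (E.mem_V h E' hn' hx.1 (Z_le_A E.mem h1).2) with e | e | e | e
    · exact e
    · exact absurd (e ▸ hx.2.1) E.nR
    · exact absurd (e ▸ h1.2) E.nC
    · exact absurd ((mul_mem_cancel_left (mem_inf.1 h.mem).2).1 (e ▸ h1.2)) E.nC
  · have h1 := h.mul_sq E.mem E'.mem E.sq E'.sq hn
    have h2 : orderOf (v * w) = 4 := orderOf_eq_four (h1 ▸ h.ne) (by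
      rw [show (v * w) ^ 4 = v * w * (v * w) * (v * w * (v * w)) by
        simp only [pow_succ, pow_zero, one_mul, mul_assoc], h1, h.sq])
    have h3 : zpowers (v * w) ⊔ zpowers v = V ⊔ V' := by
      have a1 : v ∈ zpowers (v * w) ⊔ zpowers v := mem_sup_right (mem_zpowers v)
      have a2 : v * w ∈ zpowers (v * w) ⊔ zpowers v := mem_sup_left (mem_zpowers _)
      have a3 : w ∈ zpowers (v * w) ⊔ zpowers v := (mul_mem_cancel_left a1).1 a2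
      have a4 : z ∈ zpowers (v * w) ⊔ zpowers v := h1 ▸ mul_mem a2 a2
      refine le_antisymm (sup_le (zpowers_le.2 (mul_mem (mem_sup_left (E.v_mem h))
        (mem_sup_right (E'.v_mem h)))) (zpowers_le.2 (mem_sup_left (E.v_mem h))))
        (sup_le (fun x hx => ?_) fun x hx => ?_)
      · rcases (E.memV x).1 hx with rfl | rfl | rfl | rfl
        exacts [one_mem _, a4, a1, mul_mem a4 a1]
      · rcases (E'.memV x).1 hx with rfl | rfl | rfl | rfl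
        exacts [one_mem _, a4, a3, mul_mem a4 a3]
    rw [← h3]
    refine dihedral_equiv h2 E.sq ?_ fun e => hn (mem_C1.2 (mul_left_cancel (a := v) ?_))
    · rw [← mul_assoc, E.sq, one_mul, mul_inv_rev, inv_eq_of_mul_eq_one_right E'.sq]
    · rw [(commute_of_mem_zpowers e (Commute.refl _)).eq, mul_assoc]
  · refine h.fusion (P := fun y => y ∈ V ⊔ V') (fun m hm y _ e =>
      conj_mem_of_mem_normalizer (nD hm) e) (fun a ha ha' n hn₁ y hy e => ?_) (hDS hx) hg hx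
    rcases tri a ha ha' with e' | e' | e'
    · obtain ⟨m, hm, e'⟩ := e' n hn₁ y hy
      rw [← e']
      exact conj_mem_of_mem_normalizer (nD hm) e
    · rw [e'] at hn₁ hy
      exact mem_sup_left (conj_mem_of_mem_normalizer (E.normV hn₁) (E.mem_V h E' hn' e hy.2))
    · rw [e'] at hn₁ hy
      exact mem_sup_right (conj_mem_of_mem_normalizer (E'.normV hn₁)
        (E'.mem_V h E hn (sup_comm V V' ▸ e) hy.2))
  · refine h.fusion (P := fun y => y ∈ R ⊓ R') (fun m hm y _ e => nR m hm y e)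
      (fun a ha ha' n hn₁ y hy e => ?_) (hRZ hx).1 hg hx
    rcases tri a ha ha' with e' | e' | e'
    · obtain ⟨m, hm, e'⟩ := e' n hn₁ y hy
      rw [← e']
      exact nR m hm y e
    · exact kR E inf_le_left n (e' ▸ hn₁) y e
    · exact kR E' inf_le_right n (e' ▸ hn₁) y e

end GW.Fu
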