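import Cfsg.Agent.Lib.GW.ClaimB
import Cfsg.Agent.Lib.FT.LibE
import Cfsg.Agent.Lib.FT.Lib15

/-!
# Inverted subgroups, swaps and fusing elements
-/

set_option autoImplicit false
set_option linter.unusedSectionVars false

namespace GW

open Cfsg GT FT Subgroup
open scoped Pointwise commutatorElement

variable {G : Type*} [Group G] [Finite G]

theorem eq_of_sup_der {H U : Subgroup G} (hs : Group.IsSolvable U) (hn : U ≤ 𝐍(H)) (h : H ⊔ ⁅U, U⁆ = U) : H = U := by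
  have key : ∀ (n : ℕ) (K : Subgroup G), Nat.card K = n → H ⊔ K = U → H = U := fun n => by
    induction n using Nat.strong_induction_on with | _ n ih => ?_
    intro K hK e
    by_cases h0 : K = ⊥
    · rwa [h0, sup_bot_eq] at e
    have hle : K ≤ U := e ▸ le_sup_right
    have := isSolvable_of_le hle
    refine ih _ (hK ▸ card_lt_of_lt (der_lt_of_solvable h0)) _ rfl
      (le_antisymm (sup_le (e ▸ le_sup_left) ((der_le K).trans hle)) ?_)
    rw [← h]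
    exact sup_le le_sup_left (e ▸ der_sup_le (hle.trans hn))
  exact key _ _ rfl h

theorem mem_of_sq_mem_odd {K M : Subgroup G} {x : G} (ho : Odd (Nat.card K)) (hx : x ∈ K) (h : x * x ∈ M) : x ∈ M :=
  zpowers_le.2 h (P4.mem_zpowers_sq (ho.of_dvd_nat (orderOf_dvd_natCard K hx)))

theorem InvBy.comm_le_cent {s : G} (hs : Inv s) {D U : Subgroup G} (h : InvBy s D) (hU : U ≤ 𝐍(D)) :
    ⁅U, zpowers s⁆ ≤ 𝐂(D) := by
  refine commutator_le.2 fun u hu y hy => ?_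
  rcases hs.mem_zpowers_iff.1 hy with rfl | rfl
  · simp
  refine mem_centralizer_iff.2 fun d hd => ?_
  have e1 := h _ (inv_conj_mem_of_mem_normalizer (hU hu) (inv_mem hd))
  have e2 := h _ hd
  rw [hs.inv] at e1 e2
  rw [commutatorElement_def, hs.inv]
  calc _ = u * (u⁻¹ * d⁻¹ * u)⁻¹ * y * u⁻¹ * y := by group
    _ = u * y * u⁻¹ * d⁻¹ * u * (y * y) * u⁻¹ * y := by rw [← e1]; group
    _ = u * y * u⁻¹ * (y * d * y) * y := by rw [hs.sq, e2]; group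
    _ = _ := by rw [mul_assoc, hs.mul_mul', ← mul_assoc]

theorem InvBy.eq_one {s x : G} {D : Subgroup G} (h : InvBy s D) (ho : Odd (Nat.card D)) (hx : x ∈ D) (hc : x ∈ 𝐂[s]) :
    x = 1 := by
  have e := h x hx
  rw [← mem_cent1.1 hc, mul_inv_cancel_right, eq_inv_iff_mul_eq_one] at e
  exact mem_bot.1 (mem_of_sq_mem_odd ho hx (M := ⊥) e)

theorem InvBy.inf_eq_bot {s : G} {D : Subgroup G} (h : InvBy s D) (ho : Odd (Nat.card D)) : D ⊓ 𝐂[s] = ⊥ :=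
  eq_bot_iff.2 fun _ hx => h.eq_one ho hx.1 hx.2

theorem InvBy.mono {s : G} {D E : Subgroup G} (h : InvBy s D) (e : E ≤ D) : InvBy s E := fun x hx => h x (e hx)

theorem InvBy.mem_norm {s : G} {D : Subgroup G} (h : InvBy s D) : s ∈ 𝐍(D) :=
  mem_normalizer_of_conj_mem fun x hx => h x hx ▸ inv_mem hx

theorem InvBy.le_cent {s : G} {D : Subgroup G} (h : InvBy s D) : D ≤ 𝐂(D) := fun x hx =>
  mem_centralizer_iff.2 fun y hy => by
    have e := h _ (mul_mem hx hy)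
    rw [← conj_mul, h x hx, h y hy, ← mul_inv_rev, inv_inj] at e
    exact e

theorem InvBy.conj {s : G} {D : Subgroup G} (h : InvBy s D) (g : G) : InvBy (g * s * g⁻¹) (MulAut.conj g • D) := by
  intro x hx
  obtain ⟨y, hy, rfl⟩ := mem_conj_smul'.1 hx
  rw [conj_inv, conj_mul, conj_mul, h y hy, conj_inv]

theorem InvBy.mul_cent {s t : G} {D : Subgroup G} (h : InvBy s D) (ht : t ∈ 𝐂(D)) : InvBy (t * s) D := fun x hx => by
  rw [mul_inv_rev, mul_assoc t, mul_assoc t, ← mul_assoc _ s⁻¹, h x hx,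
    ← mul_assoc, ← mem_centralizer_iff.1 ht _ (inv_mem hx), mul_inv_cancel_right]

theorem InvBy.mul {s t : G} {D : Subgroup G} (h : InvBy s D) (ht : InvBy t D) : s * t ∈ 𝐂(D) :=
  mem_centralizer_iff.2 fun x hx => by
    rw [eq_comm, ← mul_inv_eq_iff_eq_mul, mul_inv_rev, mul_assoc s, mul_assoc s, ← mul_assoc _ t⁻¹, ht x hx,
      ← mul_assoc, h _ (inv_mem hx), inv_inv]

theorem mem_comm_of_inv {s x : G} {U : Subgroup G} (ho : Odd (Nat.card U)) (hx : x ∈ U) (e : s * x * s⁻¹ = x⁻¹) :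
    x ∈ ⁅U, zpowers s⁆ := by
  refine mem_of_sq_mem_odd ho hx ?_
  have := commutator_mem_commutator (inv_mem hx) (mem_zpowers s)
  rw [commutatorElement_def, inv_inv, mul_assoc, mul_assoc, ← mul_assoc s, e, ← mul_inv_rev] at this
  exact inv_mem_iff.1 this

theorem inf_cent_mul {t s : G} {P : Subgroup G} (hP : P ≤ 𝐂[t]) : P ⊓ 𝐂[t * s] = P ⊓ 𝐂[s] :=
  le_antisymm (fun x hx => ⟨hx.1, mem_cent1_comm.1 ((mul_mem_cancel_left (mem_cent1_comm.1 (hP hx.1))).1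
    (mem_cent1_comm.1 hx.2))⟩) fun x hx => ⟨hx.1, mem_cent1_comm.1 (mul_mem (mem_cent1_comm.1 (hP hx.1))
    (mem_cent1_comm.1 hx.2))⟩

theorem swap_norm {t s y : G} {P : Subgroup G} (hP : P ≤ 𝐂[t]) (hy : y ∈ 𝐍(P)) (e : y * s * y⁻¹ = t * s) :
    y ∈ 𝐍((P ⊓ 𝐂[s] : Subgroup G)) := by
  rw [← conj_smul_eq_iff_mem_normalizer, conj_smul_inf, conj_cent1, e, conj_smul_eq_of_mem_normalizer hy,
    inf_cent_mul hP]

theorem exists_inf_Op_ne_bot {U Y : Subgroup G} (hY : Y ≤ fittingOf U) (h0 : Y ≠ ⊥) :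
    ∃ q : ℕ, ∃ _ : Fact q.Prime, Y ⊓ Op q U ≠ ⊥ := by
  obtain ⟨q, hq, hd⟩ := Nat.exists_prime_and_dvd (mt card_eq_one.1 h0)
  have := Fact.mk hq
  obtain ⟨P, hP⟩ := exists_isSylowIn (p := q) Y
  exact ⟨q, this, FT.ne_bot_of_le_ne_bot (hP.ne_bot hd) (le_inf hP.le (le_Op_of_le_fittingOf hP.isPGroup (hP.le.trans hY)))⟩

theorem conj_Op_Ut (p : ℕ) (g t : G) : MulAut.conj g • Op p (Ut t) = Op p (Ut (g * t * g⁻¹)) := by
  rw [← conj_Ut]; exact conj_piCoreOf _ _ _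

theorem fused_third {t s g : G} (hk : Kl t s) (e1 : g * t * g⁻¹ = s) (e2 : g * s * g⁻¹ = t * s) :
    g * (t * s) * g⁻¹ = t := by rw [← conj_mul, e1, e2, hk.comm, hk.r.mul_mul]

/-- a fusing element which is a product of two swaps -/
theorem Sd.exists_fuse (h : Sd G) {t s y : G} (hk : Kl t s) (hy : Kl t y) (e : y * s * y⁻¹ = t * s) :
    ∃ g, g * t * g⁻¹ = s ∧ g * s * g⁻¹ = t * s ∧ y * (g * y * g⁻¹) * t * (y * (g * y * g⁻¹))⁻¹ = s ∧
      y * (g * y * g⁻¹) * s * (y * (g * y * g⁻¹))⁻¹ = t * s := by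
  obtain ⟨g, -, e1, e2⟩ := h.fused hk
  refine ⟨g, e1, e2, fused_of_swap hk hy.mem_cent hy.r e ?_ ?_⟩
  · rw [← e1, ← conj_cent1]; exact conj_mem_conj_smul.2 hy.mem_cent
  · conv_lhs => rw [← fused_third hk e1 e2, ← e]
    rw [conj_inv, conj_mul, conj_mul, hy.r.conj_conj, e2, hk.comm]

theorem Sd.cent_fuse (h : Sd G) {t s y : G} (hk : Kl t s) (hy : Kl t y) (e : y * s * y⁻¹ = t * s)
    (hc : y ∈ 𝐂(Wt t s)) : ∃ g ∈ 𝐂(Wt t s), g * t * g⁻¹ = s ∧ g * s * g⁻¹ = t * s := by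
  obtain ⟨g, e1, e2, e3⟩ := h.exists_fuse hk hy e
  refine ⟨_, mul_mem hc ?_, e3⟩
  rw [← conj_Wt_of_fused h hk e1 e2, ← conj_smul_centralizer]
  exact conj_mem_conj_smul.2 hc

theorem Cp.mem_of_sylow {X : Subgroup G} (h : Cp X) {V : Subgroup G} (hV : IsSylowIn 2 V X) (hc : Nat.card V = 4) :
    V ≤ Ly X := by
  obtain ⟨u, hu, hi⟩ := h.ex_inv
  obtain ⟨v, hv, hk⟩ := h.ex u hu hi
  have hle := hk.Vk_le.2 ⟨hu, hv⟩
  obtain ⟨g, hg, e⟩ := hV.exists_conj_le hk.isPGroup (hle.trans (Ly_le X))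
  rw [← eq_of_le_of_card_ge e (by rw [card_conj_smul, hk.card, hc])]
  exact conj_le_of_mem_norm hle (le_norm_Ly X hg)

theorem Cp.mem_of_swap {X : Subgroup G} (h : Cp X) {t s y : G} (hk : Kl t s) (ht : t ∈ X) (hs : s ∈ X) (hy : y ∈ X)
    (e : y * s * y⁻¹ = t * s) : t ∈ Ly X := by
  rcases h.kl ht hs hk with h1 | h1 | h1
  · exact h1
  · exact (mul_mem_cancel_right h1).1 (e ▸ conj_mem_of_mem_normalizer (le_norm_Ly X hy) h1)
  · refine (mul_mem_cancel_right ?_).1 h1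
    have := inv_conj_mem_of_mem_normalizer (le_norm_Ly X hy) h1
    rwa [← e, mul_assoc, inv_mul_cancel_right, inv_mul_cancel_left] at this

end GW
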