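import Cfsg.Agent.Lib.FT.Pf.BG6
import Cfsg.Agent.Lib.Gag.W1
import Cfsg.Agent.Lib.Grp.BaerSuzuki
import Cfsg.Agent.Lib.Grp.DihSyl

/-!
# `p`-stability of groups with dihedral or cyclic Sylow `2`-subgroups
-/

set_option autoImplicit false
set_option linter.unusedSectionVars false
set_option linter.style.haveILetI false

namespace GW
open Cfsg GT FT Subgroup FT.P4 FT.P6
open scoped Pointwise commutatorElement

section DC
variable {X Y : Type*} [Group X] [Group Y] {H K S : Subgroup X}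

/-- every `2`-subgroup of `H` is cyclic or generated by two elements of square one -/
def DC (H : Subgroup X) : Prop := ∀ Q ≤ H, IsPGroup 2 Q →
  IsCyclic Q ∨ ∃ x ∈ Q, ∃ y ∈ Q, x * x = 1 ∧ y * y = 1 ∧ Q ≤ closure {x, y}

theorem DC.mono (h : DC H) (hK : K ≤ H) : DC K := fun Q hQ => h Q (hQ.trans hK)

theorem dc_map_aux {Q : Subgroup X} (f : X →* Y)
    (h : IsCyclic Q ∨ ∃ x ∈ Q, ∃ y ∈ Q, x * x = 1 ∧ y * y = 1 ∧ Q ≤ closure {x, y}) :
    IsCyclic (Q.map f) ∨ ∃ x ∈ Q.map f, ∃ y ∈ Q.map f, x * x = 1 ∧ y * y = 1 ∧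
      Q.map f ≤ closure {x, y} := by
  rcases h with h | ⟨x, hx, y, hy, h1, h2, h3⟩
  · exact Or.inl (isCyclic_of_surjective _ (f.subgroupMap_surjective Q))
  · refine Or.inr ⟨f x, ⟨x, hx, rfl⟩, f y, ⟨y, hy, rfl⟩, by rw [← map_mul, h1, map_one],
      by rw [← map_mul, h2, map_one], (map_mono h3).trans ?_⟩
    rw [MonoidHom.map_closure, Set.image_pair]

theorem DC.map [Finite X] (h : DC H) (f : X →* Y) : DC (H.map f) := by
  intro Q hQ hp
  obtain ⟨P, hP⟩ := exists_isSylowIn (p := 2) (Q.comap f ⊓ H)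
  have h1 : (Q.comap f ⊓ H).map f = Q := by
    refine le_antisymm ((map_mono inf_le_left).trans (map_comap_le _ _)) fun y hy => ?_
    obtain ⟨x, hx, rfl⟩ := hQ hy
    exact ⟨x, ⟨hy, hx⟩, rfl⟩
  have h2 := hP.map f
  rw [h1] at h2
  have : Finite Q := by
    rw [← h1]; exact Finite.of_surjective _ (f.subgroupMap_surjective _)
  have h3 : P.map f = Q := by
    refine le_antisymm h2.le (relIndex_eq_one.1 ?_)
    obtain ⟨k, hk⟩ := IsPGroup.iff_card.1 hp
    have h4 : (P.map f).relIndex Q ∣ 2 ^ k := hk ▸ relIndex_dvd_card _ _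
    obtain ⟨j, -, hj⟩ := (Nat.dvd_prime_pow Nat.prime_two).1 h4
    cases j with
    | zero => exact hj
    | succ j => exact (h2.not_dvd (hj ▸ dvd_pow_self 2 j.succ_ne_zero)).elim
  rw [← h3]
  exact dc_map_aux f (h P (hP.le.trans inf_le_right) hP.isPGroup)

theorem DC.subgroupOf (h : DC H) (M : Subgroup X) : DC (H.subgroupOf M) := by
  intro Q hQ hp
  rcases h (Q.map M.subtype) (map_le_iff_le_comap.2 hQ) (hp.map _) with
    h1 | ⟨_, ⟨x, hx, rfl⟩, _, ⟨y, hy, rfl⟩, h1, h2, h3⟩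
  · exact Or.inl (isCyclic_of_surjective _
      (Q.equivMapOfInjective _ M.subtype_injective).symm.surjective)
  · refine Or.inr ⟨x, hx, y, hy, Subtype.ext h1, Subtype.ext h2, ?_⟩
    rw [← Set.image_pair, ← MonoidHom.map_closure] at h3
    exact (map_le_map_iff_of_injective M.subtype_injective).1 h3

theorem DC.top (h : DC H) : DC (⊤ : Subgroup H) := subgroupOf_self H ▸ h.subgroupOf H

variable [Finite X]

theorem DC.qim (h : DC H) (M N : Subgroup X) [(N.subgroupOf M).Normal] : DC (qim M N H) :=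
  (h.subgroupOf M).map _

theorem DC.conj (h : DC H) (g : X) : DC (MulAut.conj g • H) := h.map _

theorem DC.of_sylow (h : DC S) (hS : IsSylowIn 2 S H) : DC H := by
  intro Q hQ hp
  obtain ⟨g, -, hg⟩ := hS.exists_le_conj hp hQ
  exact h.conj g Q hg hp

theorem DC.sup (h : DC H) (hn : H ≤ 𝐍(K)) (hK : ¬ 2 ∣ Nat.card K) : DC (H ⊔ K) := by
  obtain ⟨S, hS⟩ := exists_isSylowIn (p := 2) H
  refine (h.mono hS.le).of_sylow (hS.trans le_sup_left fun hd => hK (hd.trans ?_))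
  have h1 := card_sup_dvd_of_le_normalizer hn
  rw [← card_mul_relIndex (le_sup_left : H ≤ H ⊔ K)] at h1
  exact Nat.dvd_of_mul_dvd_mul_left Nat.card_pos h1

theorem dc_of_dihSyl {P : Subgroup X} {σ τ J : X} {k : ℕ} (D : DihSyl P σ τ J k)
    (H : Subgroup X) : DC H := by
  refine (DC.of_sylow (fun Q hQ _ => ?_) D.syl).mono le_top
  by_cases h : Q ≤ zpowers σ
  · exact Or.inl (Subgroup.isCyclic_of_le h)
  obtain ⟨y, hy, hy'⟩ := SetLike.not_le_iff_exists.1 h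
  have : IsCyclic ↥(Q ⊓ zpowers σ) := Subgroup.isCyclic_of_le inf_le_right
  obtain ⟨c, hc⟩ := (Subgroup.isCyclic_iff_exists_zpowers_eq_top (Q ⊓ zpowers σ)).1 this
  have hcm : c ∈ Q ⊓ zpowers σ := hc ▸ mem_zpowers c
  have h1 : c * y ∉ zpowers σ := fun e => hy' (((zpowers σ).mul_mem_cancel_left hcm.2).1 e)
  refine Or.inr ⟨y, hy, c * y, mul_mem hcm.1 hy, D.sq_of_not_mem (hQ hy) hy',
    D.sq_of_not_mem (hQ (mul_mem hcm.1 hy)) h1, fun x hx => ?_⟩
  have m1 : y ∈ closure {y, c * y} := subset_closure (by simp)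
  have m2 : c ∈ closure {y, c * y} :=
    (mul_mem_cancel_right m1).1 (subset_closure (by simp))
  have m3 : Q ⊓ zpowers σ ≤ closure {y, c * y} := hc ▸ zpowers_le.2 m2
  by_cases hx' : x ∈ zpowers σ
  · exact m3 ⟨hx, hx'⟩
  · exact (mul_mem_cancel_right m1).1
      (m3 ⟨mul_mem hx hy, D.mul_mem_of_not_mem (hQ hx) hx' (hQ hy) hy'⟩)

/-- if all involutions of `H` are central then `H` has a normal `2`-complement -/
theorem DC.nilp_of_central (h : DC H) (hc : ∀ t ∈ H, t * t = 1 → t ∈ 𝐂(H)) :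
    HasNormalPComplement 2 H := by
  obtain ⟨Q, hQ⟩ := exists_isSylowIn (p := 2) H
  rcases h Q hQ.le hQ.isPGroup with h1 | ⟨x, hx, y, hy, h1, h2, h3⟩
  · have : IsCyclic (hQ.toSylow : Subgroup H) :=
      isCyclic_of_surjective _ (subgroupOfEquivOfLe hQ.le).symm.surjective
    exact hasNormalPComplement_two_of_isCyclic hQ.toSylow
  · refine hQ.hasNormalPComplement_of_le_centralizer (inf_le_left.trans (le_cent_comm.1
      (h3.trans ((closure_le _).2 ?_))))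
    rintro _ (rfl | rfl)
    · exact hc _ (hQ.le hx) h1
    · exact hc _ (hQ.le hy) h2

end DC

section Stab

theorem odd_of_sq {R : Type*} [Ring R] {Γ : Type*} [Group Γ] [Finite Γ] {p : ℕ}
    [hp : Fact p.Prime] (hp2 : p ≠ 2) (hR : (p : R) = 0) {ρ : Γ →* R}
    (hρ : Function.Injective ρ) {a b : Γ} (ha : (ρ a - 1) ^ 2 = 0) (hb : (ρ b - 1) ^ 2 = 0)
    (hD : DC (closure {a, b})) : ¬ 2 ∣ Nat.card (closure {a, b}) := by
  have h1 := hD.nilp_of_central fun t ht h2 h hh => hρ (by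
    have h3 := trace_commute ρ ha hb ht hh
    rw [inv_eq_of_mul_eq_one_right h2] at h3
    obtain ⟨k, hk⟩ := hp.out.odd_of_ne_two hp2
    have e : (k + 1) • (ρ t + ρ t) = ρ t := by
      rw [← two_nsmul, ← mul_nsmul, show 2 * (k + 1) = p + 1 by omega, succ_nsmul, nsmul_eq_mul,
        hR, zero_mul, zero_add]
    have h4 := h3.smul_right (k + 1)
    rw [e] at h4
    rw [map_mul, map_mul, h4.eq])
  have h2 : ∀ x (hx : x ∈ closure {a, b}), (ρ x - 1) ^ 2 = 0 →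
      x ∈ (pPrimeCore 2 (closure {a, b})).map (closure {a, b}).subtype := fun x hx h =>
    ⟨⟨x, hx⟩, hasNormalPComplement_iff_forall_mem.1 h1 _ (isPRegular_of_pow_eq_one (n := p)
      (fun e => hp2 ((Nat.prime_dvd_prime_iff_eq Nat.prime_two hp.out).1 e).symm)
      (Subtype.ext (hρ (by
        rw [Subgroup.coe_pow, map_pow, pow_eq_one_of_sq hR h, Subgroup.coe_one, map_one])))), rfl⟩
  have h3 : closure {a, b} ≤ (pPrimeCore 2 (closure {a, b})).map (closure {a, b}).subtype := by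
    refine (closure_le _).2 ?_
    rintro _ (rfl | rfl)
    · exact h2 _ (subset_closure (by simp)) ha
    · exact h2 _ (subset_closure (by simp)) hb
  exact fun h => not_dvd_card_pPrimeCore 2 _
    (h.trans ((card_dvd_of_le h3).trans (card_map_subtype _).dvd))

variable {X : Type*} [Group X] [Finite X] {p : ℕ} [hp : Fact p.Prime]

theorem quad_sup_cent {W A : Subgroup X} (hA : A ≤ 𝐍(W)) (h : ⁅⁅W, A⁆, A⁆ = ⊥) {B : Subgroup X}
    (hB : B ≤ A ⊔ 𝐂(W)) : ⁅⁅W, B⁆, B⁆ = ⊥ := by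
  have h1 : ⁅W, A⁆ ≤ W := commutator_le_left_of_norm hA
  have h2 : A ≤ 𝐂(⁅W, A⁆) := le_cent_comm.1 (le_cent_of_commutator_le h.le)
  have h3 : 𝐂(W) ≤ 𝐂(⁅W, A⁆) := centralizer_le h1
  have h4 : ⁅W, A ⊔ 𝐂(W)⁆ ≤ ⁅W, A⁆ := commutator_sup_right_le le_rfl
    ((commutator_eq_bot_of_le_cent (le_cent_comm.1 le_rfl)).le.trans bot_le)
    (h2.trans (cent_le_norm _)) (h3.trans (cent_le_norm _))
  exact eq_bot_iff.2 ((commutator_mono ((commutator_mono le_rfl hB).trans h4) hB).trans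
    (commutator_eq_bot_of_le_cent (le_cent_comm.1 (sup_le h2 h3))).le)

theorem pair_isPGroup {G W : Subgroup X} (hn : G ≤ 𝐍(W)) (hp' : IsPGroup p W) {Γ : Type*}
    [Group Γ] [Finite Γ] {ψ : G →* Γ} (hk : ∀ g : G, ψ g = 1 ↔ (g : X) ∈ 𝐂(W)) {a' b' : G}
    (hodd : ¬ 2 ∣ Nat.card (closure {ψ a', ψ b'}))
    (qa : ⁅⁅W, zpowers (a' : X)⁆, zpowers (a' : X)⁆ = ⊥)
    (qb : ⁅⁅W, zpowers (b' : X)⁆, zpowers (b' : X)⁆ = ⊥) (pa : IsPElt p (ψ a'))
    (pb : IsPElt p (ψ b')) : IsPGroup p (closure {ψ a', ψ b'}) := by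
  set H := (closure {a', b'}).map G.subtype with hH
  have hHG : H ≤ G := map_subtype_le _
  have hm : ∀ x : G, (x : X) ∈ H → ψ x ∈ closure {ψ a', ψ b'} := by
    rintro x ⟨y, hy, e⟩
    rw [← Subtype.ext e, ← Set.image_pair, ← MonoidHom.map_closure]
    exact ⟨y, hy, rfl⟩
  have ha : (a' : X) ∈ H := ⟨a', subset_closure (by simp), rfl⟩
  have hb : (b' : X) ∈ H := ⟨b', subset_closure (by simp), rfl⟩
  clear_value H
  obtain ⟨T, hT⟩ := exists_isSylowIn (p := 2) H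
  have hTC : T ≤ 𝐂(W) := fun t ht => (hk ⟨t, hHG (hT.le ht)⟩).1
    (((isPElt_mk _).2 (isPElt_of_mem hT.isPGroup ht)).map ψ |>.eq_one_of_isPRegular
      (isPRegular_of_mem hodd (hm _ (hT.le ht))))
  have hCn : H ≤ 𝐍(H ⊓ 𝐂(W)) := le_norm_inf_cent le_normalizer (hHG.trans hn)
  have hF := (hT.of_le (le_inf hT.le hTC) inf_le_left).frattini_sup inf_le_left hCn
  obtain ⟨K, hK, hTK, hKo⟩ := GAG.exists_compl_norm
    (hT.of_le (le_inf le_normalizer hT.le) inf_le_right) inf_le_left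
  have hKH : K ≤ H := hK.trans inf_le_right
  rw [← hTK, ← sup_assoc, sup_eq_left.2 (le_inf hT.le hTC)] at hF
  obtain ⟨D, d1, -, d3, d4⟩ := exists_stable (Nat.not_even_iff_odd.1 fun e => hKo e.two_dvd)
    (GAG.odd_solv hKo) hp' (hKH.trans (hHG.trans hn))
  have hreg : ∀ d : G, IsPElt p (ψ d) → ψ (pPart p d) = ψ d := fun d hd => by
    have : ψ (pRegPart p d) = 1 := by
      obtain ⟨n, hn⟩ := exists_pRegPart_eq_pow p d
      exact (show IsPElt p (ψ (pRegPart p d)) by rw [hn, map_pow]; exact hd.pow n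
        ).eq_one_of_isPRegular ((isPRegular_pRegPart p d).map ψ)
    conv_rhs => rw [← pPart_mul_pRegPart p d, map_mul, this, mul_one]
  have hDp : IsPGroup p ((D.subgroupOf G).map ψ) := by
    rw [isPGroup_iff_forall_isPElt]
    rintro _ ⟨d, hd, rfl⟩
    have m1 : pRegPart p d ∈ D.subgroupOf G := pRegPart_mem p hd
    have m2 : IsPRegular p ((pRegPart p d : G) : X) := isPRegular_coe.2 (isPRegular_pRegPart p d)
    have : ψ (pRegPart p d) = 1 := (hk _).2 (d3 _ (mem_subgroupOf.1 m1) m2)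
    rw [← pPart_mul_pRegPart p d, map_mul, this, mul_one]
    exact (isPElt_pPart p d).map ψ
  have key : ∀ x : G, (x : X) ∈ H → ⁅⁅W, zpowers (x : X)⁆, zpowers (x : X)⁆ = ⊥ →
      IsPElt p (ψ x) → ψ x ∈ (D.subgroupOf G).map ψ := by
    intro x hx qx px
    rw [← hF] at hx
    obtain ⟨c, hc, k, hk', e⟩ := (mem_sup_of_le_normalizer_left (hKH.trans hCn)).1 hx
    obtain ⟨k', rfl⟩ : ∃ k' : G, (k' : X) = k := ⟨⟨k, hHG (hKH hk')⟩, rfl⟩
    have e1 : ψ k' = ψ x := by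
      have : x = ⟨c, hHG hc.1⟩ * k' := Subtype.ext e.symm
      rw [this, map_mul, (hk ⟨c, hHG hc.1⟩).2 hc.2, one_mul]
    refine ⟨pPart p k', ?_, (hreg k' (e1 ▸ px)).trans e1⟩
    have m1 : pPart p k' ∈ (zpowers (k' : X)).subgroupOf G :=
      pPart_mem p (mem_subgroupOf.2 (mem_zpowers _))
    have m2 : zpowers ((pPart p k' : G) : X) ≤ zpowers (k' : X) :=
      zpowers_le.2 (mem_subgroupOf.1 m1)
    have m3 : IsPElt p ((pPart p k' : G) : X) := isPElt_coe.2 (isPElt_pPart p k')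
    refine mem_subgroupOf.2 (d4 _ m3.isPGroup_zpowers (m2.trans (zpowers_le.2 hk'))
      (quad_sup_cent (zpowers_le.2 (hn x.2)) qx (m2.trans (zpowers_le.2 ?_))) (mem_zpowers _))
    rw [← inv_mul_eq_of_eq_mul e.symm]
    exact mul_mem (mem_sup_right (inv_mem hc.2)) (mem_sup_left (mem_zpowers _))
  refine hDp.to_le ((closure_le _).2 ?_)
  rintro _ (rfl | rfl)
  · exact key a' ha qa pa
  · exact key b' hb qb pb

theorem le_cent_of_minNorm_dc (hp2 : p ≠ 2) {G W A : Subgroup X} (hD : DC G)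
    (hW : MinNorm W G) (hp' : IsPGroup p W) (hA : A ≤ G)
    (h : ⁅⁅W, A⁆, A⁆ = ⊥) : A ≤ 𝐂(W) := by
  obtain ⟨R, _, _, ρ, hR, h1, h2⟩ := exists_ring_rep (hW.elem_of_isPGroup hp')
  let φ : G →* Rˣ := ρ.comp (inclusion hW.norm)
  let ψ := φ.rangeRestrict
  have hψ : Function.Surjective ψ := φ.rangeRestrict_surjective
  have hk : ∀ g : G, ψ g = 1 ↔ (g : X) ∈ 𝐂(W) := fun g =>
    Subtype.ext_iff.trans (h1 (inclusion hW.norm g))
  let ι : φ.range →* R := (Units.coeHom R).comp φ.range.subtype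
  have hι : Function.Injective ι := Units.val_injective.comp Subtype.val_injective
  have hq : ∀ x : G, ⁅⁅W, zpowers (x : X)⁆, zpowers (x : X)⁆ = ⊥ → (ι (ψ x) - 1) ^ 2 = 0 :=
    fun x hx => h2 (inclusion hW.norm x) fun w hw => by
      have h5 : ⁅⁅w, (x : X)⁆, (x : X)⁆ = 1 := hx.le (commutator_mem_commutator
        (commutator_mem_commutator hw (mem_zpowers _)) (mem_zpowers _))
      rw [commutatorElement_eq_one_iff_commute] at h5 ⊢
      rw [← commutatorElement_inv]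
      exact h5.symm.inv_right
  clear_value ι ψ
  generalize φ.range = Γ at *
  have h3 : pCore p Γ = ⊥ := by
    have h4 := le_norm_map_subtype ((pCore p Γ).comap ψ)
    have h5 : PActs p (((pCore p Γ).comap ψ).map G.subtype) W := by
      rintro _ ⟨g, hg, rfl⟩ hd
      exact (hk g).1 ((isPElt_of_mem (isPGroup_pCore p _) hg).eq_one_of_isPRegular
        fun h5 => hd (h5.trans ((orderOf_map_dvd ψ g).trans (Subgroup.orderOf_coe g).symm.dvd)))
    have h6 := (hW.min _ inf_le_left (le_norm_inf_cent hW.norm h4)).resolve_left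
      (inf_cent_ne_bot_of_pacts h5 ((map_subtype_le _).trans hW.norm) hp' hW.ne_bot)
    refine eq_bot_iff.2 fun y hy => ?_
    obtain ⟨g, rfl⟩ := hψ y
    exact (hk g).2 (le_cent_comm.1 (h6.ge.trans inf_le_right) ⟨g, hy, rfl⟩)
  have hpe : ∀ x : G, ⁅⁅W, zpowers (x : X)⁆, zpowers (x : X)⁆ = ⊥ → IsPElt p (ψ x) :=
    fun x qx => isPElt_of_pow_eq_one (k := 1) (hι (by
      rw [pow_one, map_pow, map_one, pow_eq_one_of_sq hR (hq x qx)]))
  intro a ha
  have hz : zpowers a ≤ A := zpowers_le.2 ha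
  obtain ⟨a', rfl⟩ : ∃ a' : G, (a' : X) = a := ⟨⟨a, hA ha⟩, rfl⟩
  have qa : ⁅⁅W, zpowers (a' : X)⁆, zpowers (a' : X)⁆ = ⊥ :=
    eq_bot_iff.2 ((commutator_mono (commutator_mono le_rfl hz) hz).trans h.le)
  refine (hk a').1 (mem_bot.1 (h3 ▸ mem_pCore_of_forall_isPGroup_closure fun y => ?_))
  obtain ⟨g, rfl⟩ := hψ y
  rw [← map_inv, ← map_mul, ← map_mul]
  have qb : ⁅⁅W, zpowers ((g * a' * g⁻¹ : G) : X)⁆, zpowers ((g * a' * g⁻¹ : G) : X)⁆ = ⊥ := by
    have e1 : zpowers ((g * a' * g⁻¹ : G) : X) =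
        (zpowers (a' : X)).map (MulAut.conj (g : X)).toMonoidHom := by
      rw [MonoidHom.map_zpowers]; rfl
    have e2 : W = W.map (MulAut.conj (g : X)).toMonoidHom :=
      (conj_smul_eq_of_mem_normalizer (hW.norm g.2)).symm
    rw [e1, e2, ← map_commutator, ← map_commutator, qa, Subgroup.map_bot]
  exact pair_isPGroup hW.norm hp' hk (odd_of_sq hp2 hR hι (hq _ qa) (hq _ qb)
    ((hD.top.map ψ).mono (by rw [map_top_of_surjective _ hψ]; exact le_top))) qa qb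
    (hpe _ qa) (hpe _ qb)

/-- `p`-stability, uniformly in `A` -/
theorem exists_stable_dc (hp2 : p ≠ 2) {G P : Subgroup X} (hD : DC G)
    (hP : IsPGroup p P) (hn : G ≤ 𝐍(P)) : ∃ D, D ≤ G ∧ G ≤ 𝐍(D) ∧ PActs p D P ∧
      ∀ A : Subgroup X, A ≤ G → ⁅⁅P, A⁆, A⁆ = ⊥ → A ≤ D := by
  have hM : DC (G ⊔ P) := hD.sup hn (not_dvd_card_of_ne hP hp2.symm)
  suffices key : ∀ W, W ≤ P → G ⊔ P ≤ 𝐍(W) → ∃ D, D ≤ G ∧ G ≤ 𝐍(D) ∧ PActs p D W ∧
      ∀ A : Subgroup X, A ≤ G → ⁅⁅P, A⁆, A⁆ = ⊥ → A ≤ D from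
    key P le_rfl (sup_le hn le_normalizer)
  intro W
  induction W using WellFoundedLT.induction with
  | ind W ih =>
  intro hW hWn
  by_cases h0 : W = ⊥
  · exact ⟨G, le_rfl, le_normalizer, fun x _ _ => le_cent1_iff.1 (h0.le.trans bot_le),
      fun A h _ => h⟩
  obtain ⟨V, -, hc⟩ := exists_chief_below (bot_lt_iff_ne_bot.2 h0) (hW.trans le_sup_right)
    (le_norm_bot _) hWn
  obtain ⟨D, h1, h2, h3, h4⟩ := ih V hc.lt (hc.lt.le.trans hW) hc.normV
  haveI := hc.sgNormal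
  haveI := qim_normal (N := V) hWn
  refine ⟨D ⊓ qpre (G ⊔ P) V 𝐂(qim (G ⊔ P) V W), inf_le_left.trans h1,
    le_normalizer_inf h2 (le_sup_left.trans le_norm_qpre_of_normal), fun x hx hd => ?_,
    fun A hAG h => le_inf (h4 A hAG h) ?_⟩
  · have h5 : zpowers x ≤ G ⊔ P := (zpowers_le).2 (qpre_le _ hx.2)
    have h6 := (qim_le_cent_iff h5 hc.le).1 ((qim_le_iff h5).2 ((zpowers_le).2 hx.2))
    refine le_cent_comm.1 ((coprimeAct_of_isPGroup_right (h5.trans hWn) (hP.to_le hW)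
      (by rwa [Nat.card_zpowers])).le_centralizer_of_commutator_le_of_le
      ((commutator_comm_le _ _).trans h6) ?_) (mem_zpowers x)
    exact le_cent_comm.1 ((zpowers_le).2 (h3 x hx.1 hd))
  · have h5 := hAG.trans (le_sup_left (b := P))
    refine (qim_le_iff h5).1 (le_cent_of_minNorm_dc hp2 (qim_top (M := G ⊔ P) (N := V) ▸ hM.qim _ V)
      hc.minNorm_qim (isPGroup_qim (hP.to_le hW)) le_top ?_)
    rw [← qim_commutator hc.le h5,
      ← qim_commutator ((commutator_le_der hc.le h5).trans (der_le _)) h5,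
      eq_bot_iff.2 ((commutator_mono (commutator_mono hW le_rfl) le_rfl).trans h.le), qim_bot]

/-- abelian subgroups normalized by a self-centralizing normal subgroup lie in `O_p` -/
theorem le_Op_of_stable_dc (hp2 : p ≠ 2) {G P A : Subgroup X} (hD : DC G)
    (h1 : G ⊓ 𝐂(Op p G) ≤ Op p G) (hP : P ≤ Op p G) (hn : G ≤ 𝐍(P)) (hc : Op p G ⊓ 𝐂(P) ≤ P)
    (hAG : A ≤ G) (hAc : IsMulCommutative A) (hPA : P ≤ 𝐍(A)) : A ≤ Op p G := by
  obtain ⟨D, h2, h3, h4, h5⟩ := exists_stable_dc hp2 hD ((isPGroup_Op p G).to_le hP) hn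
  refine (h5 A hAG (commutator_eq_bot_of_le_cent ((commutator_le_right_of_norm hPA).trans
    (comm_iff_le_cent.1 hAc)))).trans (le_Op h2 h3 (isPGroup_of_forall fun x hx hd => ?_))
  have h6 : x ∈ 𝐂(Op p G) := le_cent_comm.1 ((coprimeAct_of_isPGroup_right
    ((zpowers_le).2 (le_norm_piCoreOf _ G (h2 hx))) (isPGroup_Op p G) (by rwa [Nat.card_zpowers])
    ).le_centralizer_of_self_centralizing ((piCoreOf_le _ G).trans hn) hc
    (le_cent_comm.1 ((zpowers_le).2 (h4 x hx hd)))) (mem_zpowers x)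
  exact (isPElt_of_mem (isPGroup_Op p G) (h1 ⟨h2 hx, h6⟩)).eq_one_of_isPRegular hd

/-- the main step of Puig's theorem, for any `p`-subgroup above `O_p` -/
theorem puig_core (hp2 : p ≠ 2) {G S : Subgroup X} (hD : DC G)
    (h : G ⊓ 𝐂(Op p G) ≤ Op p G) (hS : IsPGroup p S) (hTS : Op p G ≤ S) (hSG : S ≤ G) :
    Zc (Puig S) ≤ Zc (Puig (Op p G)) ∧ ∃ D, D ≤ G ∧ G ≤ 𝐍(D) ∧ PActs p D (Zc (Puig (Op p G))) ∧
      Puig S ≤ D ∧ 𝐍(S ⊓ D) ≤ 𝐍(Zc (Puig S)) := by
  have hT := isPGroup_Op p G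
  have hGT := le_norm_piCoreOf {p} G
  have h1 : ∀ n, PuigAt S (2 * n) ≤ PuigAt (Op p G) (2 * n) := fun n => by
    induction n with
    | zero => exact bot_le
    | succ n ih =>
      refine PuigSucc_le_iff.2 fun A a b c => ?_
      have h2 := (PuigSucc_mono hTS ih).trans c
      exact le_PuigSucc (le_Op_of_stable_dc hp2 hD h (PuigAt_le _ (2 * n + 1))
        (hGT.trans (norm_le_norm_PuigAt _ _)) (cent_PuigSucc_le hT (PuigAt_le _ _))
        (a.trans hSG) b h2) b h2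
  have h2 : PuigInf S ≤ PuigInf (Op p G) := iSup_mono h1
  have h3 : Puig (Op p G) ≤ Puig S := iInf_mono fun n => PuigSucc_mono hTS (h1 n)
  have h4 : Zc (Puig S) ≤ Zc (Puig (Op p G)) := by
    refine le_inf (le_trans ?_ (h2.trans (PuigInf_le_Puig _)))
      (inf_le_right.trans (centralizer_anti h3))
    refine (inf_le_inf (Puig_le S) (centralizer_anti (PuigInf_le_Puig S))).trans ?_
    rw [← PuigInf_eq]
    exact cent_PuigSucc_le hS (Puig_le S)
  have hY := hGT.trans (center_Puig_char _)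
  have h5 : Zc (Puig (Op p G)) ≤ PuigInf S := le_trans (le_PuigSucc
    ((Zc_le _).trans (h3.trans (Puig_le S))) (isMulCommutative_Zc _)
    ((Puig_le S).trans (hSG.trans hY))) (PuigInf_eq S).le
  obtain ⟨D, h6, h7, h8, h9⟩ := exists_stable_dc hp2 hD
    (hT.to_le ((Zc_le _).trans (Puig_le _))) hY
  have h10 : Puig S ≤ D := (Puig_eq S).ge.trans (PuigSucc_le_iff.2 fun A a b c =>
    h9 A (a.trans hSG) (commutator_eq_bot_of_le_cent
      ((commutator_le_right_of_norm (h5.trans c)).trans (comm_iff_le_cent.1 b))))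
  refine ⟨h4, D, h6, h7, h8, h10, ?_⟩
  rw [← sub_Puig_eq inf_le_left (le_inf (Puig_le S) h10)]
  exact center_Puig_char _

/-- Puig's theorem when `S ⊓ D` is a Sylow subgroup of the normal subgroup `D` -/
theorem puig_of_sylow_inf (hp2 : p ≠ 2) {G S : Subgroup X} (hD : DC G)
    (h : G ⊓ 𝐂(Op p G) ≤ Op p G) (hS : IsPGroup p S) (hTS : Op p G ≤ S) (hSG : S ≤ G)
    (hs : ∀ D, D ≤ G → G ≤ 𝐍(D) → PActs p D (Zc (Puig (Op p G))) → IsSylowIn p (S ⊓ D) D) :
    G ≤ 𝐍(Zc (Puig S)) := by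
  obtain ⟨h4, D, h6, h7, h8, -, h12⟩ := puig_core hp2 hD h hS hTS hSG
  have h11 := hs D h6 h7 h8
  obtain ⟨k, hk⟩ := (pacts_iff (h6.trans ((le_norm_piCoreOf {p} G).trans
    (center_Puig_char _)))).1 h8
  rw [← inf_relIndex_right] at hk
  exact (h11.frattini_sup h6 h7).ge.trans (sup_le
    ((h11.sup_eq_of_relIndex_eq_pow inf_le_right hk).ge.trans (sup_le (inf_le_left.trans
      ((centralizer_anti h4).trans (cent_le_norm _))) (le_normalizer.trans h12)))
    (inf_le_left.trans h12))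

/-- Puig's theorem for groups with dihedral or cyclic Sylow `2`-subgroups -/
theorem puig_normal_dc (hp2 : p ≠ 2) {G S : Subgroup X} (hD : DC G)
    (h : G ⊓ 𝐂(Op p G) ≤ Op p G) (hS : IsSylowIn p S G) : G ≤ 𝐍(Zc (Puig S)) :=
  puig_of_sylow_inf hp2 hD h hS.isPGroup (Op_le_sylow hS) hS.le fun _ h6 h7 _ =>
    hS.inf_of_le_normalizer h6 h7

end Stab

end GW
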