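import Cfsg.Agent.Lib.GW.Defs
import Cfsg.Agent.Lib.GW.Stab
import Cfsg.Agent.Lib.GW.ProdA

/-!
# The layer `Ly X`; centralizers of involutions in groups with dihedral Sylow `2`-subgroups
-/

set_option autoImplicit false
set_option linter.unusedSectionVars false
set_option linter.style.haveILetI false

namespace GW
open Cfsg GT FT Subgroup
open scoped Pointwise commutatorElement

section Res
variable {G G' : Type*} [Group G] [Group G'] {X K : Subgroup G}

theorem Res_le (X : Subgroup G) : Res X ≤ X := sSup_le fun _ h => h.1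

theorem le_Res (h1 : K ≤ X) (h2 : ⁅K, K⁆ = K) : K ≤ Res X := le_sSup ⟨h1, h2⟩

theorem Res_perfect (X : Subgroup G) : ⁅Res X, Res X⁆ = Res X :=
  le_antisymm (der_le _) (sSup_le fun _ h =>
    h.2.ge.trans (commutator_mono (le_Res h.1 h.2) (le_Res h.1 h.2)))

theorem Res_mono (h : K ≤ X) : Res K ≤ Res X := le_Res ((Res_le K).trans h) (Res_perfect K)

theorem map_Res_le (f : G →* G') (X : Subgroup G) : (Res X).map f ≤ Res (X.map f) :=
  le_Res (map_mono (Res_le X)) (by rw [← map_commutator, Res_perfect])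

theorem conj_Res (g : G) (X : Subgroup G) : MulAut.conj g • Res X = Res (MulAut.conj g • X) := by
  refine le_antisymm (map_Res_le _ X) ?_
  have := map_Res_le (MulAut.conj g⁻¹).toMonoidHom (MulAut.conj g • X)
  change MulAut.conj g⁻¹ • _ ≤ Res (MulAut.conj g⁻¹ • _) at this
  rwa [conj_inv_smul_conj_smul, conj_smul_le_iff_le_inv, inv_inv] at this

theorem norm_Res (X : Subgroup G) : 𝐍(X) ≤ 𝐍(Res X) := norm_le_norm_of_conj conj_Res X

theorem eq_bot_of_perfect (h : ⁅K, K⁆ = K) (hs : Group.IsSolvable K) : K = ⊥ := by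
  by_contra h1
  exact (der_lt_of_solvable h1).ne h

theorem Res_eq_bot_iff [Finite G] : Res X = ⊥ ↔ Group.IsSolvable X := by
  refine ⟨fun h => Group.isSolvable_iff_commutator_lt.2 fun H hH => ?_,
    fun h => eq_bot_of_perfect (Res_perfect X) (isSolvable_of_le (Res_le X))⟩
  refine lt_of_le_of_ne (der_le H) fun e => hH ?_
  rw [← map_eq_bot_iff_of_injective _ X.subtype_injective, eq_bot_iff, ← h]
  exact le_Res (map_subtype_le H) (by rw [← map_commutator, e])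

end Res

section Ly
variable {G : Type*} [Group G] [Finite G] {X K : Subgroup G}

theorem Ly_le (X : Subgroup G) : Ly X ≤ X := (Res_le _).trans inf_le_left

theorem Ly_perfect (X : Subgroup G) : ⁅Ly X, Ly X⁆ = Ly X := Res_perfect _

theorem Ly_le_cent (X : Subgroup G) : Ly X ≤ 𝐂(Od X) := (Res_le _).trans inf_le_right

theorem le_Ly {X K : Subgroup G} (h1 : K ≤ X) (h2 : K ≤ 𝐂(Od X)) (h3 : ⁅K, K⁆ = K) : K ≤ Ly X :=
  le_Res (le_inf h1 h2) h3

theorem conj_Ly (g : G) (X : Subgroup G) : MulAut.conj g • Ly X = Ly (MulAut.conj g • X) := by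
  rw [Ly, Ly, conj_Res, conj_smul_inf, conj_smul_centralizer, conj_piCoreOf]

theorem norm_Ly (X : Subgroup G) : 𝐍(X) ≤ 𝐍(Ly X) := norm_le_norm_of_conj conj_Ly X

theorem le_norm_Ly (X : Subgroup G) : X ≤ 𝐍(Ly X) := le_normalizer.trans (norm_Ly X)

theorem Od_le (X : Subgroup G) : Od X ≤ X := piCoreOf_le _ _

theorem le_norm_Od (X : Subgroup G) : X ≤ 𝐍(Od X) := le_norm_piCoreOf _ _

theorem odd_Od (X : Subgroup G) : ¬ 2 ∣ Nat.card (Od X) := not_dvd_card_Op' 2 X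

theorem Od_le_cent_Ly (X : Subgroup G) : Od X ≤ 𝐂(Ly X) := le_cent_comm.1 (Ly_le_cent X)

theorem not_solvable_Ly (h : Ly X ≠ ⊥) : ¬ Group.IsSolvable (Ly X) :=
  fun hs => h (eq_bot_of_perfect (Ly_perfect X) hs)

theorem Ly_eq_bot_of_solvable (h : Group.IsSolvable X) : Ly X = ⊥ :=
  eq_bot_of_perfect (Ly_perfect X) (isSolvable_of_le (Ly_le X))

theorem not_solvable_of_Ly (h : Ly X ≠ ⊥) : ¬ Group.IsSolvable X :=
  fun hs => h (Ly_eq_bot_of_solvable hs)

/-- a perfect subgroup centralizing `F(O(X))` lies in the layer -/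
theorem le_Ly_of_cent_fitting (h1 : K ≤ X) (h2 : K ≤ 𝐂(fittingOf (Od X))) (h3 : ⁅K, K⁆ = K) :
    K ≤ Ly X := by
  refine le_Ly h1 ?_ h3
  have := GAG.odd_solv (odd_Od X)
  have hn : K ≤ 𝐍(Od X) := h1.trans (le_norm_Od X)
  have h4 : ⁅Od X, K⁆ ≤ fittingOf (Od X) := le_trans (le_inf (commutator_le_left_of_norm hn)
    ((commutator_mono le_rfl h2).trans (commutator_le_right_of_norm
      (le_normalizer_centralizer (le_norm_fittingOf _))))) cent_fittingOf_le
  have h5 : ⁅⁅Od X, K⁆, K⁆ = ⊥ := commutator_eq_bot_of_le_cent (h4.trans (le_cent_comm.1 h2))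
  rw [← h3]
  exact le_cent_of_commutator_le (commutator_commutator_eq_bot_of_rotate
    (by rwa [Subgroup.commutator_comm K]) h5).le

theorem cent_fitting_of_Ly (hE : Ly X = ⊥) : X ⊓ 𝐂(fittingOf X) ≤ fittingOf X := by
  have h1 : Res (X ⊓ 𝐂(fittingOf X)) = ⊥ := eq_bot_iff.2 (hE ▸ le_Ly_of_cent_fitting
    ((Res_le _).trans inf_le_left) ((Res_le _).trans (inf_le_right.trans
      (centralizer_le (fittingOf_le_of_normal (Od_le X) (le_norm_Od X))))) (Res_perfect _))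
  have := Res_eq_bot_iff.1 h1
  have h2 : fittingOf (X ⊓ 𝐂(fittingOf X)) ≤ fittingOf X := fittingOf_le_of_normal inf_le_left
    (le_norm_inf_cent le_normalizer (le_norm_fittingOf X))
  exact (le_inf le_rfl (inf_le_right.trans (centralizer_le h2))).trans (cent_fittingOf_le.trans h2)

theorem Min.cent_fitting {G : Type*} [Group G] [Finite G] (_h : Min G) {X : Subgroup G}
    (_hX : X ≠ ⊤) (hE : Ly X = ⊥) : X ⊓ 𝐂(fittingOf X) ≤ fittingOf X := cent_fitting_of_Ly hE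

/-- `2`-elements of `O(X) E` lie in `E` -/
theorem mem_Ly_of_two {x : G} (hx : IsPElt 2 x) (h : x ∈ Od X ⊔ Ly X) : x ∈ Ly X := by
  obtain ⟨a, ha, b, hb, rfl⟩ := (mem_sup_of_le_normalizer_left
    ((Ly_le X).trans (le_norm_Od X))).1 h
  have hc : Commute a b := (Ly_le_cent X hb a ha)
  obtain ⟨k, hk⟩ := hx.exists_pow_eq_one
  rw [hc.mul_pow] at hk
  have h1 : a ^ 2 ^ k ∈ Ly X := by
    rw [eq_inv_of_mul_eq_one_left hk]
    exact inv_mem (pow_mem hb _)
  have h2 : (2 ^ k).Coprime (orderOf a) := Nat.Coprime.pow_left k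
    ((Nat.Prime.coprime_iff_not_dvd Nat.prime_two).2 (isPRegular_of_mem (odd_Od X) ha))
  obtain ⟨m, hm⟩ := exists_pow_eq_self_of_coprime h2
  exact mul_mem (hm ▸ pow_mem h1 m) hb

theorem Inv.isPElt {u : G} (h : Inv u) : IsPElt 2 u := isPElt_of_sq h.sq

theorem Inv.inv_eq {u : G} (h : Inv u) : u⁻¹ = u := inv_eq_of_mul_eq_one_right h.sq

theorem Inv.orderOf {u : G} (h : Inv u) : orderOf u = 2 := orderOf_eq_prime (by rw [pow_two, h.sq]) h.ne

theorem Kl.mul {u v : G} (h : Kl u v) : Inv (u * v) :=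
  ⟨fun e => h.ne ((eq_inv_of_mul_eq_one_left e).trans h.r.inv_eq), by
    rw [mul_assoc, ← mul_assoc v, ← h.comm, mul_assoc u, h.r.sq, mul_one, h.l.sq]⟩

theorem Cp.kl {X : Subgroup G} (h : Cp X) {u v : G} (hu : u ∈ X) (hv : v ∈ X) (hk : Kl u v) :
    u ∈ Ly X ∨ v ∈ Ly X ∨ u * v ∈ Ly X := by
  by_contra! hn
  exact hn.2.2 (mem_Ly_of_two hk.mul.isPElt (h.two u hu v hv hk.l.isPElt hk.r.isPElt hn.1 hn.2.1))

theorem Cp.Zc_le (h : Cp X) : Zc (Ly X) ≤ Od X := h.cent ▸ inf_le_inf_right _ (Ly_le X)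

theorem Cp.Zc_eq (h : Cp X) : Zc (Ly X) = Ly X ⊓ Od X :=
  le_antisymm (le_inf inf_le_left h.Zc_le) (inf_le_inf_left _ (Od_le_cent_Ly X))

/-- solvable normal subgroups centralize the layer -/
theorem Cp.le_Od (h : Cp X) {N : Subgroup G} (h1 : N ≤ X) (hn : Ly X ≤ 𝐍(N))
    (hs : Group.IsSolvable N) : N ≤ Od X := by
  have h2 : ⁅N, Ly X⁆ ≤ N := commutator_le_left_of_norm hn
  have h3 : ⁅N, Ly X⁆ ≤ Ly X := commutator_le_right_of_norm (h1.trans (le_norm_Ly X))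
  rcases h.qs _ h3 (le_norm_commutator_right _ _) with h4 | h4
  · have h5 : ⁅⁅N, Ly X⁆, Ly X⁆ = ⊥ := commutator_eq_bot_of_le_cent (h4.trans inf_le_right)
    have h6 := commutator_commutator_eq_bot_of_rotate (H₁ := Ly X) (H₂ := Ly X) (H₃ := N)
      (by rwa [Subgroup.commutator_comm (Ly X)]) h5
    rw [Ly_perfect] at h6
    exact h.cent ▸ le_inf h1 (le_cent_comm.1 (le_cent_of_commutator_le h6.le))
  · exact (not_solvable_Ly h.ne (isSolvable_of_le (h4 ▸ h2))).elim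

theorem Cp.Op_two (h : Cp X) : Op 2 X = ⊥ :=
  (disjoint_of_coprime ((isPGroup_Op 2 X).coprime_card (odd_Od X))).eq_bot_of_le
    (h.le_Od (piCoreOf_le _ _) ((Ly_le X).trans (le_norm_piCoreOf _ _))
      (IsPGroup.isSolvable' (isPGroup_Op 2 X)))

end Ly

section Bar
variable {Γ : Type*} [Group Γ]

/-- facts on odd `p`-subgroups of an almost simple group with socle `L` -/
structure Bar (L : Subgroup Γ) : Prop where
  d1 : ∀ (p : ℕ) [Fact p.Prime], p ≠ 2 → ∀ u, Inv u → ∀ Y : Subgroup Γ, IsPGroup p Y →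
    𝐂[u] ≤ 𝐍(Y) → u ∈ 𝐂(Y)
  d2 : ∀ (p : ℕ) [Fact p.Prime], p ≠ 2 → ∀ u v, Kl u v → ∀ R : Subgroup Γ, IsPGroup p R →
    Vk u v ≤ 𝐍(R) → (∀ R2 : Subgroup Γ, IsPGroup p R2 → Vk u v ≤ 𝐍(R2) → R ≤ R2 → R2 = R) →
    𝐍(R) ⊔ L = ⊤

variable [Finite Γ] {L : Subgroup Γ} [L.Normal] [IsSimpleGroup L]

theorem le_of_normal_ne_bot (hC : 𝐂(L) = ⊥) {N : Subgroup Γ} (hN : N.Normal) (h : N ≠ ⊥) :
    L ≤ N := by
  rcases (hN.subgroupOf L).eq_bot_or_eq_top with h1 | h1
  · refine (h (eq_bot_iff.2 (hC ▸ le_cent_of_commutator_le ?_))).elim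
    exact (commutator_le_inf N L).trans (subgroupOf_eq_bot.1 h1).le_bot
  · exact subgroupOf_eq_top.1 h1

theorem Od_top_eq_bot (hns : ¬ Group.IsSolvable L) (hC : 𝐂(L) = ⊥) :
    Od (⊤ : Subgroup Γ) = ⊥ := by
  by_contra h
  have := GAG.odd_solv (odd_Od (⊤ : Subgroup Γ))
  exact hns (isSolvable_of_le (le_of_normal_ne_bot hC (top_le_norm_iff.1 (le_norm_Od ⊤)) h))

theorem perfect_of_simple (hns : ¬ Group.IsSolvable L) : ⁅L, L⁆ = L := by
  have : commutator L = ⊤ := (inferInstance : (commutator L).Normal).eq_bot_or_eq_top.resolve_left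
    fun h => hns ⟨1, by rw [derivedSeries_one, h]⟩
  rw [← map_subtype_commutator, this, ← MonoidHom.range_eq_map, range_subtype]

theorem Ly_top_eq (hns : ¬ Group.IsSolvable L) (hC : 𝐂(L) = ⊥) (hs : Group.IsSolvable (Γ ⧸ L)) :
    Ly (⊤ : Subgroup Γ) = L := by
  refine le_antisymm ?_ (le_Ly le_top (le_cent_comm.1 ((Od_top_eq_bot hns hC).le.trans bot_le))
    (perfect_of_simple hns))
  rw [← QuotientGroup.ker_mk' L, ← Subgroup.map_eq_bot_iff]
  exact eq_bot_of_perfect (by rw [← map_commutator, Ly_perfect]) inferInstance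

end Bar

end GW
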