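import Cfsg.Agent.Lib.GW.BSW3
import Cfsg.Agent.Lib.GW.Base
import Cfsg.Agent.Lib.Char.Invol

/-!
# Step C of the Gorenstein–Walter theorem
-/

set_option autoImplicit false
set_option linter.unusedSectionVars false

namespace GW

open Cfsg GT FT Subgroup
open scoped Pointwise commutatorElement

variable {G : Type*} [Group G] [Finite G]

theorem kl_of_not_mem {S : Subgroup G} {σ τ t y : G} {k : ℕ} (D : DihSyl S σ τ t k) (hy : y ∈ S)
    (h : y ∉ zpowers σ) : Kl t y :=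
  ⟨⟨D.J_ne_one, D.J_sq⟩, ⟨fun e => h (e ▸ one_mem _), D.sq_of_not_mem hy h⟩,
    fun e => h (e ▸ D.J_mem), (mem_cent1.1 (D.le_C hy)).symm⟩

theorem invBy_Ut_of_Wt {t s : G} (hk : Kl t s) (h : Wt t s = ⊥) : InvBy s (Ut t) :=
  conj_eq_inv_of_fixedPointFree hk.r.sq (le_norm_piCoreOf _ _ (mem_cent1.2 hk.comm.symm))
    fun _ hu e => mem_bot.1 (h ▸ ⟨hu, mem_cent1.2 (mul_inv_eq_iff_eq_mul.1 e).symm⟩)

theorem stepC_dih (h : Sd G) {S : Subgroup G} {σ τ t : G} {k : ℕ} (D : DihSyl S σ τ t k)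
    (hc : ∀ s, Inv s → IsConj t s) (hW : ∀ s, Kl t s → Wt t s = ⊥)
    (hC : Ut t = ⊥ ∨ IsCoatom 𝐂[t]) : Known G := by
  haveI := h.simple
  have k1 := kl_of_not_mem D D.τ_mem D.not_mem
  have k2 := kl_of_not_mem D (mul_mem D.σ_mem D.τ_mem) (D.mul_τ_not_mem (mem_zpowers σ))
  have i1 := invBy_Ut_of_Wt k1 (hW _ k1)
  have i2 := invBy_Ut_of_Wt k2 (hW _ k2)
  have hU : Ut t ⊔ S = 𝐂[t] := (sdp_Op'_of_hall (hall_Op'_iff.2 D.nilp) D.isSylowIn_C).sup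
  have hσ : σ ∈ 𝐂(Ut t) := fun u hu => by
    have h1 := i2 u hu
    rw [mul_inv_rev, show σ * τ * u * (τ⁻¹ * σ⁻¹) = σ * (τ * u * τ⁻¹) * σ⁻¹ by group, i1 u hu,
      ← conj_inv, inv_inj, mul_inv_eq_iff_eq_mul] at h1
    exact h1.symm
  refine Or.inr (bsw_dih h.ns D (hc _ k1.r) (hc _ k2.r) hU (not_dvd_card_Op' 2 _) i1 hσ
    fun y hy y1 => ?_)
  rcases hC with hC | hC
  · exact absurd (mem_bot.1 (hC ▸ hy)) y1
  have h0 : ∀ g : G, g * y * g⁻¹ = y ∨ g * y * g⁻¹ = y⁻¹ → g ∈ 𝐍(zpowers y) := fun g hg =>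
    mem_normalizer_of_conj_mem fun x hx => by
      obtain ⟨n, rfl⟩ := mem_zpowers_iff.1 hx
      rw [← conj_zpow]
      exact zpow_mem (hg.elim (fun e => e.symm ▸ mem_zpowers y)
        fun e => e.symm ▸ inv_mem (mem_zpowers y)) n
  have h1 : 𝐂[t] ≤ 𝐍(zpowers y) := by
    rw [← hU]
    refine sup_le (fun u hu => h0 u (Or.inl ?_)) fun x hx => h0 x ?_
    · rw [isMulCommutative_iff_forall.1 (isMulCommutative_of_conj_eq_inv i1) u hu y hy,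
        mul_inv_cancel_right]
    have h2 : ∀ a ∈ zpowers σ, a * y * a⁻¹ = y := fun a ha => by
      rw [← (zpowers_le.2 hσ ha : a ∈ 𝐂(Ut t)) y hy, mul_inv_cancel_right]
    by_cases hx' : x ∈ zpowers σ
    · exact Or.inl (h2 x hx')
    obtain ⟨a, ha, rfl⟩ := D.exists_eq_mul hx hx'
    refine Or.inr ?_
    rw [mul_inv_rev, show a * τ * y * (τ⁻¹ * a⁻¹) = a * (τ * y * τ⁻¹) * a⁻¹ by group, i1 y hy,
      ← conj_inv, h2 a ha]
  have h2 : 𝐍(zpowers y) ≠ ⊤ := fun e =>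
    (IsSimpleGroup.eq_bot_or_eq_top_of_normal _ (normalizer_eq_top_iff.1 e)).elim
      (fun e => y1 (zpowers_eq_bot.1 e)) fun e =>
        hC.1 (top_le_iff.1 (e ▸ zpowers_le.2 (piCoreOf_le _ _ hy)))
  rw [← (hC.le_iff.1 h1).resolve_left h2]
  exact fun g hg => h0 g (Or.inl (by rw [mem_cent1.1 hg, mul_inv_cancel_right]))

theorem stepC (h : Sd G) {t : G} (ht : Inv t) (hW : ∀ s, Kl t s → Wt t s = ⊥)
    (hC : Ut t = ⊥ ∨ IsCoatom 𝐂[t]) : Known G := by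
  obtain ⟨S, σ, τ, k, D, -⟩ := h.exists_dih ht (T := ⊥) IsPGroup.of_bot bot_le
  exact stepC_dih h D (fun _ => h.isConj ht) hW hC

end GW
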