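import Cfsg.Agent.Lib.GW.CaseII
import Cfsg.Agent.Lib.GW.A2L
import Cfsg.Agent.Lib.GW.A3
import Cfsg.Agent.Lib.GW.Final
import Cfsg.Agent.Lib.GW.CaseI
import Cfsg.Agent.Lib.GW.StepC
import Cfsg.Agent.Lib.GW.A2Sb
import Cfsg.Agent.Lib.GW.ChB4

/-!
# The Gorenstein–Walter theorem
-/

set_option autoImplicit false
set_option linter.unusedSectionVars false

namespace GW

open Cfsg GT FT Subgroup
open scoped Pointwise commutatorElement

universe u

theorem Min.known {G : Type u} [Group G] [Finite G] (h : Min G) : Known G := by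
  obtain ⟨S, σ, τ, t, k, D⟩ := h.dih
  have ht := D.inv_J
  by_cases hU : Ut t = ⊥
  · exact stepC h.toSd ht (fun s _ => eq_bot_iff.2 (inf_le_left.trans hU.le)) (.inl hU)
  obtain ⟨H, hH, hC⟩ := (eq_top_or_exists_le_coatom 𝐂[t]).resolve_left (h.cent1_ne_top ht.ne)
  obtain rfl | hlt := hC.eq_or_lt
  · exact stepC h.toSd ht (fun s hk => caseII h hH (fun s hk => caseI h hk hH) hk) (.inr hH)
  by_cases h1 : ∀ s, Kl t s → ConjIn H t s
  · exact (hU (stepA1 h.toSd ht hH.1 hC h1).1).elim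
  push Not at h1
  obtain ⟨s, hk, hn⟩ := h1
  have h2 := stepA3 h hk hH hC hn
  by_cases hs : Group.IsSolvable H
  · exact .inl (stepA2S_of h ht hH hlt hs h2 hU (fun D _ => h.toSd.no_stable D)
      fun D => h.toSd.card_eq_three D)
  · exact (hU (stepA2L h ht hH hC (h.ly_ne_bot hH.1 hs ht (hC (mem_cent1.2 rfl)) h2))).elim

theorem ih (n : ℕ) : IH.{u} n := by
  induction n with
  | zero => exact fun _ _ _ _ _ _ h => (Nat.not_lt_zero _ h).elim
  | succ n ih =>
    intro L _ _ _ hs hd hc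
    exact Min.known ⟨⟨inferInstance, hs, hd⟩, fun K _ _ _ h1 h2 h3 => ih K h1 h2 (by omega)⟩

/-- The Gorenstein–Walter theorem for simple groups. -/
theorem gorenstein_walter {G : Type u} [Group G] [Finite G] (h : Sd G) : Known G :=
  Min.known ⟨h, ih _⟩

theorem gwStmt : Fu.GWStmt.{u} := by
  intro G _ _ _ hns S hS h
  refine gorenstein_walter ⟨inferInstance, hns, ?_⟩
  rcases h with h | ⟨⟨e⟩⟩
  · have hn : ¬ IsCyclic S := GAG.not_isCyclic_of_four h (GAG.klein_of_four hS h fun e =>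
      hns (have := DX.solvable_of_nilp e; isSolvable_of_mulEquiv topEquiv)).1
    obtain ⟨J, hJ, hi⟩ := DX.exists_inv (H := S) (by rw [h]; norm_num)
    obtain ⟨τ, D⟩ := exists_dihSyl_of_card_eq_four hS h hn hJ hi.orderOf
    exact ⟨_, _, _, _, _, D⟩
  · obtain ⟨τ, D⟩ := exists_dihSyl_of_mulEquiv hS (k := 1) le_rfl e (e.symm (.r 1)).2 (by
      rw [orderOf_coe, MulEquiv.orderOf_eq, DihedralGroup.orderOf_r_one]; rfl)
    exact ⟨_, _, _, _, _, D⟩

end GW
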